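import Groth.Agent.RG.Projective
import Groth.Agent.GrpSchLib.SmoothReduced

/-!
# Smooth algebras with geometrically irreducible fibres
-/

set_option autoImplicit false
set_option linter.style.haveILetI false

universe u

open TensorProduct AlgebraicGeometry CategoryTheory CategoryTheory.Limits

namespace Groth.Agent.RG

/-- Smooth algebras with geometrically irreducible fibres have domain fibres. -/
theorem domFib_of_smooth_geomIrred {R S : Type u} [CommRing R] [CommRing S] [Algebra R S] [Algebra.Smooth R S]
    (h : FlatCA.GeomIrredFibres R S) : DomFib R S := by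
  intro K _ _
  haveI : Algebra.Smooth K (K ⊗[R] S) := inferInstance
  let fK : Spec (.of (K ⊗[R] S)) ⟶ Spec (.of K) := Spec.map (CommRingCat.ofHom (algebraMap K (K ⊗[R] S)))
  haveI : Smooth fK :=
    (HasRingHomProperty.Spec_iff (P := @Smooth)).mpr (RingHom.smooth_algebraMap.mpr inferInstance)
  haveI : AlgebraicGeometry.IsReduced (Spec (.of (K ⊗[R] S))) := GrpSchLib.isReduced_of_smooth_field fK
  have hsq : IsPullback (Spec.map (CommRingCat.ofHom (Algebra.TensorProduct.includeRight (R := R) (A := K) (B := S)).toRingHom))
      fK (Spec.map (CommRingCat.ofHom (algebraMap R S))) (Spec.map (CommRingCat.ofHom (algebraMap R K))) :=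
    (isPullback_SpecMap_of_isPushout _ _ _ _ (CommRingCat.isPushout_tensorProduct R K S)).flip
  haveI : IrreducibleSpace (Spec (CommRingCat.of (K ⊗[R] S))) := h.geometrically_irreducibleSpace _ _ _ hsq
  haveI : IsIntegral (Spec (CommRingCat.of (K ⊗[R] S))) := (isIntegral_iff_irreducibleSpace_and_isReduced _).2 ⟨inferInstance, inferInstance⟩
  exact (affine_isIntegral_iff (CommRingCat.of (K ⊗[R] S))).1 inferInstance

end Groth.Agent.RG
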