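import Groth.Agent.RG.ElemFP

/-!
# Neighbourhoods of a point over a local base
-/

set_option autoImplicit false
set_option linter.style.haveILetI false
set_option linter.unusedSectionVars false
set_option backward.isDefEq.respectTransparency false
set_option maxHeartbeats 1000000

universe u

open TensorProduct

namespace Groth.Agent.RG

/-- The multiplicative set cutting out `D(g)` over the local ring at `p`. -/
def nb {R : Type u} [CommRing R] (p : Ideal R) [p.IsPrime] (A : Type u) [CommRing A] [Algebra R A] (g : A) :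
    Submonoid A :=
  Algebra.algebraMapSubmonoid A p.primeCompl ⊔ Submonoid.powers g

section

variable {R : Type u} [CommRing R] (p : Ideal R) [p.IsPrime] {A B : Type u} [CommRing A] [Algebra R A]
  [CommRing B] [Algebra R B]

theorem mem_nb {g v : A} : v ∈ nb p A g ↔ ∃ a : R, a ∉ p ∧ ∃ k : ℕ, algebraMap R A a * g ^ k = v := by
  rw [nb, Submonoid.mem_sup]
  constructor
  · rintro ⟨_, ⟨a, ha, rfl⟩, _, ⟨k, rfl⟩, rfl⟩
    exact ⟨a, ha, k, rfl⟩
  · rintro ⟨a, ha, k, rfl⟩
    exact ⟨_, ⟨a, ha, rfl⟩, _, ⟨k, rfl⟩, rfl⟩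

theorem nb_le_primeCompl {g : A} (q : Ideal A) [q.IsPrime] [q.LiesOver p] (hg : g ∉ q) : nb p A g ≤ q.primeCompl := by
  refine sup_le ?_ (Submonoid.powers_le.2 hg)
  rintro _ ⟨a, ha, rfl⟩ h
  exact ha ((SetLike.ext_iff.1 (Ideal.LiesOver.over (P := q) (p := p)) a).2 h)

theorem self_mem_nb (g : A) : g ∈ nb p A g := (le_sup_right : Submonoid.powers g ≤ _) (Submonoid.mem_powers g)

theorem algebraMap_mem_nb (g : A) {a : R} (ha : a ∉ p) : algebraMap R A a ∈ nb p A g :=
  (le_sup_left : Algebra.algebraMapSubmonoid A p.primeCompl ≤ _) ⟨a, ha, rfl⟩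

theorem map_mem_nb [Algebra A B] [IsScalarTower R A B] {g : A} {c : B} (hc : ∃ j, c ^ j = algebraMap A B g) {v : A}
    (hv : v ∈ nb p A g) : algebraMap A B v ∈ nb p B c := by
  obtain ⟨a, ha, k, rfl⟩ := (mem_nb p).1 hv
  obtain ⟨j, hj⟩ := hc
  exact (mem_nb p).2 ⟨a, ha, j * k, by rw [map_mul, map_pow, ← hj, ← pow_mul, ← IsScalarTower.algebraMap_apply]⟩

theorem exists_dvd_map_nb [Algebra A B] [IsScalarTower R A B] {g : A} {c : B} (hd : c ∣ algebraMap A B g) {v : B}
    (hv : v ∈ nb p B c) : ∃ w ∈ nb p A g, v ∣ algebraMap A B w := by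
  obtain ⟨a, ha, k, rfl⟩ := (mem_nb p).1 hv
  refine ⟨algebraMap R A a * g ^ k, (mem_nb p).2 ⟨a, ha, k, rfl⟩, ?_⟩
  rw [map_mul, map_pow, ← IsScalarTower.algebraMap_apply]
  exact mul_dvd_mul_left _ (pow_dvd_pow_of_dvd hd k)

theorem exists_dvd_nb {g h : A} (hd : g ∣ h) {v : A} (hv : v ∈ nb p A g) : ∃ w ∈ nb p A h, v ∣ w := by
  obtain ⟨a, ha, k, rfl⟩ := (mem_nb p).1 hv
  exact ⟨algebraMap R A a * h ^ k, (mem_nb p).2 ⟨a, ha, k, rfl⟩, mul_dvd_mul_left _ (pow_dvd_pow_of_dvd hd k)⟩

end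

section

variable {R : Type u} [CommRing R] {S : Type u} [CommRing S] [Algebra R S] {N : Type u} [AddCommGroup N] [Module S N]
  [Module R N] [IsScalarTower R S N]

/-- Flatness at every prime missing a submonoid gives flatness of the localisation. -/
theorem flat_localized_of_forall (W : Submonoid S)
    (h : ∀ (Q : Ideal S) [Q.IsPrime], Disjoint (W : Set S) Q → FlatCA.FlatAt R Q N) :
    Module.Flat R (LocalizedModule W N) := by
  rw [FlatModel.flat_localized_iff W (LocalizedModule.mkLinearMap W N)]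
  intro J y hy
  by_contra hne
  push Not at hne
  obtain ⟨Q, hQ, hle, hd⟩ := Ideal.exists_le_prime_disjoint (I := LinearMap.ker (LinearMap.toSpanSingleton S (N ⊗[R] J) y)) W
    (Set.disjoint_left.2 fun a ha ha' => hne a ha' ha)
  obtain ⟨s, hs, hsy⟩ :=
    (FlatModel.flat_localized_iff Q.primeCompl (LocalizedModule.mkLinearMap Q.primeCompl N)).1 (h Q hd.symm) J y hy
  exact hs (hle hsy)

/-- Localising further, up to divisibility, keeps flatness. -/
theorem flat_localized_of_dvd {W V : Submonoid S} (hWV : ∀ w ∈ W, ∃ v ∈ V, w ∣ v)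
    (h : Module.Flat R (LocalizedModule W N)) : Module.Flat R (LocalizedModule V N) := by
  rw [FlatModel.flat_localized_iff V (LocalizedModule.mkLinearMap V N)]
  intro J y hy
  obtain ⟨w, hw, hwy⟩ := (FlatModel.flat_localized_iff W (LocalizedModule.mkLinearMap W N)).1 h J y hy
  obtain ⟨v, hv, b, rfl⟩ := hWV w hw
  exact ⟨_, hv, by rw [mul_comm, mul_smul, hwy, smul_zero]⟩

variable {C : Type u} [CommRing C] [Algebra S C] [Algebra R C] [IsScalarTower R S C] {G : Type u} [AddCommGroup G]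
  [Module C G] [Module S G] [IsScalarTower S C G] [Module R G] [IsScalarTower R S G] [IsScalarTower R C G]

/-- Flatness can be tested on either side of an algebra. -/
theorem flat_localized_restrict_iff (W : Submonoid S) (V : Submonoid C) (h₁ : ∀ w ∈ W, algebraMap S C w ∈ V)
    (h₂ : ∀ v ∈ V, ∃ w ∈ W, v ∣ algebraMap S C w) :
    Module.Flat R (LocalizedModule V G) ↔ Module.Flat R (LocalizedModule W G) := by
  rw [FlatModel.flat_localized_iff V (LocalizedModule.mkLinearMap V G),
    FlatModel.flat_localized_iff W (LocalizedModule.mkLinearMap W G)]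
  refine forall₃_congr fun J y _ => ⟨?_, ?_⟩
  · rintro ⟨v, hv, hvy⟩
    obtain ⟨w, hw, b, hb⟩ := h₂ v hv
    exact ⟨w, hw, by rw [← algebraMap_smul_tensor (A := C), hb, mul_comm, mul_smul, hvy, smul_zero]⟩
  · rintro ⟨w, hw, hwy⟩
    exact ⟨_, h₁ w hw, by rwa [algebraMap_smul_tensor]⟩

end

/-- Flatness descends along a flat algebra covering the localisation. -/
theorem flat_localized_descend {R S S' : Type u} [CommRing R] [CommRing S] [Algebra R S] [CommRing S'] [Algebra S S']
    [Algebra R S'] [IsScalarTower R S S'] [Module.Flat S S'] {W : Submonoid S} {V : Submonoid S'} {N : Type u}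
    [AddCommGroup N] [Module S N] [Module R N] [IsScalarTower R S N]
    (hcov : ∀ (Q : Ideal S) [Q.IsPrime], Disjoint (W : Set S) Q →
      ∃ Q' : Ideal S', Q'.IsPrime ∧ Disjoint (V : Set S') Q' ∧ Q'.comap (algebraMap S S') = Q)
    (h : Module.Flat R (LocalizedModule V (S' ⊗[S] N))) : Module.Flat R (LocalizedModule W N) := by
  refine flat_localized_of_forall W fun Q _ hQ => ?_
  obtain ⟨Q', hQ', hd, hc⟩ := hcov Q hQ
  exact flatAt_of_baseChange Q' Q ⟨hc.symm⟩
    (flat_localized_mono (fun v hv hv' => Set.disjoint_left.1 hd hv hv') h)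

/-- A basic open around a point over the local base, inside the image of a basic open of an étale algebra. -/
theorem exists_nb_cover {R S S' : Type u} [CommRing R] [CommRing S] [Algebra R S] [CommRing S'] [Algebra S S']
    [Algebra R S'] [IsScalarTower R S S'] [Module.Flat S S'] [Algebra.FinitePresentation S S'] (p : Ideal R) [p.IsPrime]
    (q : Ideal S) [q.IsPrime] (q' : Ideal S') [q'.IsPrime] (hq : q = q'.comap (algebraMap S S')) {s : S'} (hs : s ∉ q') :
    ∃ g, g ∉ q ∧ ∀ (Q : Ideal S) [Q.IsPrime], Disjoint (nb p S g : Set S) Q →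
      ∃ Q' : Ideal S', Q'.IsPrime ∧ Disjoint (nb p S' (algebraMap S S' g * s) : Set S') Q' ∧
        Q'.comap (algebraMap S S') = Q := by
  have hopen := PrimeSpectrum.isOpenMap_comap_of_hasGoingDown_of_finitePresentation (R := S) (S := S') _
    (PrimeSpectrum.isOpen_basicOpen (a := s))
  have hmem : (⟨q, inferInstance⟩ : PrimeSpectrum S) ∈
      PrimeSpectrum.comap (algebraMap S S') '' (PrimeSpectrum.basicOpen s : Set (PrimeSpectrum S')) :=
    ⟨⟨q', inferInstance⟩, hs, PrimeSpectrum.ext hq.symm⟩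
  obtain ⟨_, ⟨g, rfl⟩, hg, hsub⟩ := PrimeSpectrum.isTopologicalBasis_basic_opens.exists_subset_of_mem_open hmem hopen
  refine ⟨g, hg, fun Q _ hQ => ?_⟩
  have hgQ : g ∉ Q := fun hh => Set.disjoint_left.1 hQ (self_mem_nb p g) hh
  obtain ⟨⟨Q', hQ'⟩, hsQ', hQ'c⟩ := hsub (show (⟨Q, inferInstance⟩ : PrimeSpectrum S) ∈ _ from hgQ)
  have hQc : Q'.comap (algebraMap S S') = Q := congrArg PrimeSpectrum.asIdeal hQ'c
  refine ⟨Q', hQ', Set.disjoint_left.2 fun v hv hv' => ?_, hQc⟩
  obtain ⟨a, ha, k, rfl⟩ := (mem_nb p).1 hv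
  rcases hQ'.mem_or_mem hv' with h1 | h1
  · rw [IsScalarTower.algebraMap_apply R S S'] at h1
    exact Set.disjoint_left.1 hQ (algebraMap_mem_nb p g ha) (hQc ▸ h1 : algebraMap R S a ∈ Q)
  · rcases hQ'.mem_or_mem (hQ'.mem_of_pow_mem k h1) with h2 | h2
    · exact hgQ (hQc ▸ h2 : g ∈ Q)
    · exact hsQ' h2

section

variable {R S S' C D N G : Type u} [CommRing R] [CommRing S] [CommRing S'] [CommRing C] [CommRing D] [Algebra R S]
  [Algebra S S'] [Algebra R S'] [IsScalarTower R S S'] [Algebra S' C] [Algebra R C] [IsScalarTower R S' C]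
  [Algebra R D] [Algebra D C] [IsScalarTower R D C] [Algebra.Etale S S'] [AddCommGroup N] [Module S N] [Module R N]
  [IsScalarTower R S N] [AddCommGroup G] [Module C G] [Module S' G] [IsScalarTower S' C G] [Module D G]
  [IsScalarTower D C G] [Module R G] [IsScalarTower R C G] [IsScalarTower R S' G] [IsScalarTower R D G]
  [Module.Finite D C] [Module.Finite C G]

/-- Transferring flatness and finite presentation near a point along a dévissage. -/
theorem exists_nb_transfer (p : Ideal R) [p.IsPrime] (q : Ideal S) [q.IsPrime] (q' : Ideal S') [q'.IsPrime]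
    (z : Ideal C) [z.IsPrime] (y : Ideal D) [y.IsPrime] (hq : q = q'.comap (algebraMap S S'))
    (hz : z.comap (algebraMap S' C) = q') (hzy : z.comap (algebraMap D C) = y)
    (huniq : ∀ (Q : Ideal C) [Q.IsPrime], Q.LiesOver y → Q = z) (hsurj : Function.Surjective (algebraMap S' C))
    [Algebra.FinitePresentation S' C] [Algebra.FinitePresentation D C]
    (e : (S' ⊗[S] N) ≃ₗ[S'] G) {h : D} (hh : h ∉ y)
    (hflat : Module.Flat R (LocalizedModule (nb p D h) G)) (hfp : FPAt (nb p D h) G) :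
    ∃ g, g ∉ q ∧ Module.Flat R (LocalizedModule (nb p S g) N) ∧ FPAt (nb p S g) N := by
  haveI : Module.Finite S' C := Module.Finite.of_surjective (Algebra.linearMap S' C) hsurj
  obtain ⟨s, hs⟩ := hsurj (algebraMap D C h)
  have hsq : s ∉ q' := fun hh' => hh (by
    rw [← hzy, Ideal.mem_comap, ← hs]
    exact (hz.symm ▸ hh' : s ∈ z.comap (algebraMap S' C)))
  have hD₁ : ∀ w ∈ nb p D h, algebraMap D C w ∈ nb p C (algebraMap D C h) := fun w hw =>
    map_mem_nb p ⟨1, pow_one _⟩ hw
  have hD₂ : ∀ v ∈ nb p C (algebraMap D C h), ∃ w ∈ nb p D h, v ∣ algebraMap D C w := fun v hv =>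
    exists_dvd_map_nb p dvd_rfl hv
  have hS₁ : ∀ w ∈ nb p S' s, algebraMap S' C w ∈ nb p C (algebraMap D C h) := fun w hw =>
    map_mem_nb p ⟨1, by rw [pow_one, hs]⟩ hw
  have hS₂ : ∀ v ∈ nb p C (algebraMap D C h), ∃ w ∈ nb p S' s, v ∣ algebraMap S' C w := fun v hv =>
    exists_dvd_map_nb p (dvd_of_eq hs.symm) hv
  obtain ⟨g, hg, hcov⟩ := exists_nb_cover p q q' hq hsq
  have hWV : ∀ w ∈ nb p S g, IsUnit (algebraMap S (Localization (nb p S' (algebraMap S S' g * s))) w) := fun w hw => by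
    rw [IsScalarTower.algebraMap_apply S S' (Localization (nb p S' (algebraMap S S' g * s)))]
    obtain ⟨a, ha, k, rfl⟩ := (mem_nb p).1 hw
    obtain ⟨v, hv, hd⟩ := exists_dvd_nb p (h := algebraMap S S' g * s) (dvd_mul_right _ s)
      ((mem_nb p).2 ⟨a, ha, k, rfl⟩ : algebraMap R S' a * algebraMap S S' g ^ k ∈ nb p S' (algebraMap S S' g))
    rw [map_mul, map_pow, ← IsScalarTower.algebraMap_apply]
    exact isUnit_of_dvd_unit (map_dvd _ hd) (IsLocalization.map_units _ (⟨v, hv⟩ : nb p S' _))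
  refine ⟨g, hg, ?_, ?_⟩
  · have h1 := (flat_localized_restrict_iff (nb p S' s) (nb p C (algebraMap D C h)) hS₁ hS₂).1
      ((flat_localized_restrict_iff (nb p D h) (nb p C (algebraMap D C h)) hD₁ hD₂).2 hflat)
    have h2 : Module.Flat R (LocalizedModule (nb p S' (algebraMap S S' g * s)) G) :=
      flat_localized_of_dvd (fun w hw => exists_dvd_nb p (dvd_mul_left s _) hw) h1
    exact flat_localized_descend hcov (flat_localized_of_forall _ fun Q _ hQ =>
      flatAt_congr Q e.symm (flat_localized_mono (fun v hv hv' => Set.disjoint_left.1 hQ hv hv') h2))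
  · have h1 : FPAt (nb p S' s) G :=
      (fpAt_finite_iff (nb p S' s) (nb p C (algebraMap D C h)) hS₁ hS₂).2
        ((fpAt_finite_iff (nb p D h) (nb p C (algebraMap D C h)) hD₁ hD₂).1 hfp)
    exact FPAt.descend hWV (fun Q _ hQ => hcov Q hQ)
      ((h1.mono fun w hw => exists_dvd_nb p (dvd_mul_left s (algebraMap S S' g)) hw).congr e.symm)

end

end Groth.Agent.RG
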