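import Groth.Agent.RG.FPInduction
import Groth.Agent.RG.NbMonoid

/-!
# One step of the neighbourhood statement after a base change
-/

set_option autoImplicit false
set_option linter.style.haveILetI false
set_option linter.unusedSectionVars false
set_option backward.isDefEq.respectTransparency false
set_option maxHeartbeats 1000000

universe u

open TensorProduct

namespace Groth.Agent.RG

attribute [local instance] Algebra.TensorProduct.rightAlgebra

variable {R₁ D : Type u} [CommRing R₁] [CommRing D] [Algebra R₁ D] (R₂ : Type u) [CommRing R₂] [Algebra R₁ R₂]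

/-- `X ⊗ R₂` as a base change to `R₂ ⊗ D`. -/
noncomputable def swapBC (X : Type u) [AddCommGroup X] [Module D X] [Module R₁ X] [IsScalarTower R₁ D X] :
    (X ⊗[R₁] R₂) ≃ₗ[R₁] (R₂ ⊗[R₁] D) ⊗[D] X :=
  TensorProduct.comm R₁ X R₂ ≪≫ₗ
    ((Algebra.IsPushout.cancelBaseChange R₁ R₂ D (R₂ ⊗[R₁] D) X).symm.restrictScalars R₁)

theorem swapBC_tmul (X : Type u) [AddCommGroup X] [Module D X] [Module R₁ X] [IsScalarTower R₁ D X] (x : X) (r : R₂) :
    swapBC (D := D) R₂ X (x ⊗ₜ r) = algebraMap R₂ (R₂ ⊗[R₁] D) r ⊗ₜ[D] x := by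
  simp [swapBC]

theorem swapBC_smul (X : Type u) [AddCommGroup X] [Module D X] [Module R₁ X] [IsScalarTower R₁ D X] (w : D)
    (z : X ⊗[R₁] R₂) : swapBC (D := D) R₂ X (w • z) = algebraMap D (R₂ ⊗[R₁] D) w • swapBC (D := D) R₂ X z := by
  induction z using TensorProduct.induction_on with
  | zero => simp
  | add a b ha hb => simp only [smul_add, map_add, ha, hb]
  | tmul x r =>
    rw [TensorProduct.smul_tmul', swapBC_tmul, swapBC_tmul, algebraMap_smul, TensorProduct.tmul_smul]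

theorem swapBC_natural {X Y : Type u} [AddCommGroup X] [Module D X] [Module R₁ X] [IsScalarTower R₁ D X]
    [AddCommGroup Y] [Module D Y] [Module R₁ Y] [IsScalarTower R₁ D Y] (f : X →ₗ[D] Y) (z : X ⊗[R₁] R₂) :
    swapBC (D := D) R₂ Y ((f.restrictScalars R₁).rTensor R₂ z) = f.baseChange (R₂ ⊗[R₁] D) (swapBC (D := D) R₂ X z) := by
  induction z using TensorProduct.induction_on with
  | zero => simp
  | add a b ha hb => simp only [map_add, ha, hb]
  | tmul x r =>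
    rw [LinearMap.rTensor_tmul, swapBC_tmul, swapBC_tmul, LinearMap.baseChange_tmul, LinearMap.restrictScalars_apply]

/-- Flatness and finite presentation near a point pass from the cokernel to the module. -/
theorem nb_of_coker_baseChange [Module.Flat R₁ D] (p₁ : Ideal R₁) [p₁.IsPrime] (p₂ : Ideal R₂) [p₂.IsPrime]
    [p₂.LiesOver p₁] {G : Type u} [AddCommGroup G] [Module D G] [Module R₁ G] [IsScalarTower R₁ D G]
    [Module.Finite D G] {r : ℕ} (α : (Fin r → D) →ₗ[D] G)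
    (hu : UnivInjUpTo R₁ (Algebra.algebraMapSubmonoid D p₁.primeCompl) α) {h : R₂ ⊗[R₁] D}
    (hflat : Module.Flat R₂ (LocalizedModule (nb p₂ (R₂ ⊗[R₁] D) h) ((R₂ ⊗[R₁] D) ⊗[D] (G ⧸ LinearMap.range α))))
    (hfp : FPAt (nb p₂ (R₂ ⊗[R₁] D) h) ((R₂ ⊗[R₁] D) ⊗[D] (G ⧸ LinearMap.range α))) :
    Module.Flat R₂ (LocalizedModule (nb p₂ (R₂ ⊗[R₁] D) h) ((R₂ ⊗[R₁] D) ⊗[D] G)) ∧
      FPAt (nb p₂ (R₂ ⊗[R₁] D) h) ((R₂ ⊗[R₁] D) ⊗[D] G) := by
  classical
  let D₂ := R₂ ⊗[R₁] D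
  let α₂ := α.baseChange D₂
  let π₂ := (LinearMap.range α).mkQ.baseChange D₂
  have hπ : Function.Surjective π₂ := LinearMap.lTensor_surjective D₂ (Submodule.mkQ_surjective _)
  have hex : Function.Exact α₂ π₂ :=
    lTensor_exact D₂ (LinearMap.exact_map_mkQ_range α) (Submodule.mkQ_surjective _)
  let e : (D₂ ⊗[D] G ⧸ LinearMap.range α₂) ≃ₗ[D₂] D₂ ⊗[D] (G ⧸ LinearMap.range α) :=
    hex.linearEquivOfSurjective hπ
  have hinj : ∀ x, α₂ x = 0 → ∃ v ∈ nb p₂ D₂ h, v • x = 0 := by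
    intro x hx
    obtain ⟨z, rfl⟩ := (swapBC (D := D) R₂ (Fin r → D)).surjective x
    have hz : (α.restrictScalars R₁).rTensor R₂ z = 0 := by
      apply (swapBC (D := D) R₂ G).injective
      rw [map_zero, swapBC_natural]
      exact hx
    obtain ⟨_, ⟨a, ha, rfl⟩, hwz⟩ := hu R₂ z hz
    refine ⟨algebraMap R₂ D₂ (algebraMap R₁ R₂ a), algebraMap_mem_nb p₂ h fun hh =>
      ha ((SetLike.ext_iff.1 (Ideal.LiesOver.over (P := p₂) (p := p₁)) a).2 hh), ?_⟩
    rw [← IsScalarTower.algebraMap_apply, IsScalarTower.algebraMap_apply R₁ D D₂, ← swapBC_smul, hwz, map_zero]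
  haveI : Module.Flat D₂ (D₂ ⊗[D] (Fin r → D)) := inferInstance
  haveI : Module.Flat R₂ (D₂ ⊗[D] (Fin r → D)) := Module.Flat.trans R₂ D₂ _
  refine ⟨flat_of_coker hinj (flat_localized_of_forall _ fun Q _ hQ =>
    flatAt_congr Q e.symm (flat_localized_mono (fun v hv hv' => Set.disjoint_left.1 hQ hv hv') hflat)), ?_⟩
  let e₁ : (D₂ ⊗[D] (Fin r → D)) ≃ₗ[D₂] (Fin r → D₂) := TensorProduct.piScalarRight D D₂ D₂ (Fin r)
  refine fpAt_of_coker _ (α₂ ∘ₗ e₁.symm.toLinearMap) ((injective_localizedMap_iff _ _).2 fun x hx => ?_)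
    ((hfp.congr e.symm).congr (Submodule.quotEquivOfEq _ _ (LinearEquiv.range_comp e₁.symm α₂).symm))
  obtain ⟨v, hv, hvx⟩ := hinj (e₁.symm x) hx
  exact ⟨v, hv, e₁.symm.injective (by rw [map_smul, hvx, map_zero])⟩

end Groth.Agent.RG
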