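import Groth.Agent.RG.WeakAssFinite
import Groth.Agent.RG.NearStep

/-!
# Weakly associated points of a tensor product with a module flat at a point
-/

set_option autoImplicit false
set_option linter.style.haveILetI false
set_option linter.unusedSectionVars false
set_option backward.isDefEq.respectTransparency false
set_option maxHeartbeats 1600000

universe u

open TensorProduct

namespace Groth.Agent.RG

theorem annEl_restrict' {S T X : Type u} [CommRing S] [CommRing T] [Algebra S T] [AddCommGroup X] [Module S X]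
    [Module T X] [IsScalarTower S T X] (x : X) :
    WeakAss.annEl S x = (WeakAss.annEl T x).comap (algebraMap S T) := by
  ext s
  rw [Ideal.mem_comap, WeakAss.mem_annEl, WeakAss.mem_annEl, algebraMap_smul]

/-- Weakly associated primes along a localisation of a quotient. -/
theorem mem_weakAss_restrict_iff {S T X : Type u} [CommRing S] [CommRing T] [Algebra S T] [AddCommGroup X] [Module S X]
    [Module T X] [IsScalarTower S T X] (hA : ∀ t : T, ∃ u : T, IsUnit u ∧ ∃ s : S, u * t = algebraMap S T s)
    (Q : Ideal T) [Q.IsPrime] (q : Ideal S) (hq : Q.comap (algebraMap S T) = q)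
    (hB : ∀ q' : Ideal S, q'.IsPrime → q' ≤ q → RingHom.ker (algebraMap S T) ≤ q' →
      ∃ Q' : Ideal T, Q'.IsPrime ∧ Q'.comap (algebraMap S T) = q') :
    q ∈ FlatCA.weakAss S X ↔ Q ∈ FlatCA.weakAss T X := by
  have hmono : ∀ I J : Ideal T, I.comap (algebraMap S T) ≤ J.comap (algebraMap S T) → I ≤ J := by
    intro I J h t ht
    obtain ⟨u, hu, s, hs⟩ := hA t
    have h1 : s ∈ J.comap (algebraMap S T) := h (Ideal.mem_comap.2 (hs ▸ I.mul_mem_left u ht))
    rw [Ideal.mem_comap, ← hs] at h1
    obtain ⟨v, hv⟩ := hu.exists_left_inv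
    have h2 := J.mul_mem_left v h1
    rwa [← mul_assoc, hv, one_mul] at h2
  subst hq
  constructor
  · rintro ⟨x, hx⟩
    have hx' : Q.comap (algebraMap S T) ∈ ((WeakAss.annEl T x).comap (algebraMap S T)).minimalPrimes :=
      annEl_restrict' (S := S) (T := T) x ▸ hx
    refine ⟨x, ⟨inferInstance, hmono _ _ hx'.1.2⟩, fun Q' hQ' hle => hmono _ _ ?_⟩
    haveI := hQ'.1
    exact hx'.2 ⟨inferInstance, Ideal.comap_mono hQ'.2⟩ (Ideal.comap_mono hle)
  · rintro ⟨x, hx⟩
    refine ⟨x, ⟨inferInstance, (annEl_restrict' (S := S) (T := T) x).le.trans (Ideal.comap_mono hx.1.2)⟩, fun q' hq' hle => ?_⟩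
    have h1 : (WeakAss.annEl T x).comap (algebraMap S T) ≤ q' := (annEl_restrict' (S := S) (T := T) x).ge.trans hq'.2
    obtain ⟨Q', hQ', rfl⟩ := hB q' hq'.1 hle (fun s hs => h1 (by rw [Ideal.mem_comap, hs]; exact zero_mem _))
    exact Ideal.comap_mono (hx.2 ⟨hQ', hmono _ _ h1⟩ (hmono _ _ hle))

/-- A prime is weakly associated to its residue field. -/
theorem mem_weakAss_residueField {R : Type u} [CommRing R] (p : Ideal R) [p.IsPrime] :
    p ∈ FlatCA.weakAss R p.ResidueField := by
  have h : WeakAss.annEl R (1 : p.ResidueField) = p := by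
    ext r
    rw [WeakAss.mem_annEl, Algebra.smul_def, mul_one, Ideal.algebraMap_residueField_eq_zero]
  exact ⟨1, ⟨inferInstance, h.le⟩, fun q hq _ => h.ge.trans hq.2⟩

attribute [local instance] Algebra.TensorProduct.rightAlgebra in
/-- The associated points of a fibre. -/
theorem mem_assoc_fibre_iff {R S : Type u} [CommRing R] [CommRing S] [Algebra R S] [Algebra.FiniteType R S]
    (N : Type u) [AddCommGroup N] [Module S N] [Module R N] [IsScalarTower R S N]
    (p : Ideal R) [p.IsPrime] (q : Ideal S) [q.IsPrime] [q.LiesOver p] :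
    FlatCA.fiberIdeal p q ∈ associatedPrimes (p.Fiber S) (FlatCA.fiberMod p S N) ↔
      q ∈ FlatCA.weakAss S (N ⊗[R] p.ResidueField) := by
  haveI : IsNoetherianRing (p.Fiber S) := Algebra.FiniteType.isNoetherianRing p.ResidueField _
  let x := PrimeSpectrum.primesOverOrderIsoFiber R S p ⟨q, ‹_›, ‹_›⟩
  have hx : x.asIdeal.comap (Algebra.TensorProduct.includeRight : S →ₐ[R] p.Fiber S) = q :=
    congr($((PrimeSpectrum.primesOverOrderIsoFiber R S p).symm_apply_apply ⟨q, ‹_›, ‹_›⟩).1)
  have hxq : x.asIdeal = FlatCA.fiberIdeal p q := ZClosLib.FibAssIdeal.eq_fiberIdeal p hx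
  rw [← hxq]
  have h1 : x.asIdeal ∈ associatedPrimes (p.Fiber S) (FlatCA.fiberMod p S N) ↔
      x.asIdeal ∈ FlatCA.weakAss (p.Fiber S) ((p.Fiber S) ⊗[S] N) :=
    ⟨fun h => WeakAss.ass_subset_weakAss (ZClosLib.FibAssIdeal.mem_ass_of_mem_associatedPrimes h),
      fun h => ZClosLib.FibAssIdeal.mem_associatedPrimes_of_mem_ass
        (WeakAss.mem_ass_of_mem_weakAss_of_fg (IsNoetherian.noetherian _) h)⟩
  rw [h1, ← mem_weakAss_restrict_iff (S := S) (fun t => ?_) x.asIdeal q hx (fun q' hq' hle hker => ?_)]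
  · let e : (N ⊗[R] p.ResidueField) ≃ₗ[S] (p.Fiber S) ⊗[S] N :=
      { swapBC (R₁ := R) (D := S) p.ResidueField N with
        map_smul' := fun s z => by
          show swapBC (R₁ := R) (D := S) p.ResidueField N (s • z) = s • swapBC (R₁ := R) (D := S) p.ResidueField N z
          rw [swapBC_smul, algebraMap_smul] }
    exact ⟨fun h => WeakAss.weakAss_subset_of_injective e.symm.toLinearMap e.symm.injective h,
      fun h => WeakAss.weakAss_subset_of_injective e.toLinearMap e.injective h⟩
  · obtain ⟨r, hr, s, hs⟩ := AssFiber.exists_smul_eq_includeRight p t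
    refine ⟨(1 : p.ResidueField) ⊗ₜ[R] algebraMap R S r, ?_, s, hs⟩
    rw [Algebra.algebraMap_eq_smul_one, ← TensorProduct.smul_tmul, ← Algebra.algebraMap_eq_smul_one]
    exact (isUnit_iff_ne_zero.2 fun h0 => hr (Ideal.algebraMap_residueField_eq_zero.1 h0)).map
      (Algebra.TensorProduct.includeLeftRingHom : p.ResidueField →+* p.Fiber S)
  · haveI := hq'
    have hover : q'.LiesOver p := ⟨le_antisymm (fun a ha => hker (by
        rw [RingHom.mem_ker, ← IsScalarTower.algebraMap_apply,
          IsScalarTower.algebraMap_apply R p.ResidueField (p.Fiber S),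
          Ideal.algebraMap_residueField_eq_zero.2 ha, map_zero]))
      fun a ha => (SetLike.ext_iff.1 (Ideal.LiesOver.over (P := q) (p := p)) a).2 (hle ha)⟩
    let x' := PrimeSpectrum.primesOverOrderIsoFiber R S p ⟨q', hq', hover⟩
    exact ⟨x'.asIdeal, inferInstance,
      congr($((PrimeSpectrum.primesOverOrderIsoFiber R S p).symm_apply_apply ⟨q', hq', hover⟩).1)⟩

/-- Tensoring keeps a map locally bijective. -/
theorem mem_weakAss_rTensor_iff {R S : Type u} [CommRing R] [CommRing S] [Algebra R S] {X Y : Type u}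
    [AddCommGroup X] [Module S X] [Module R X] [IsScalarTower R S X] [AddCommGroup Y] [Module S Y] [Module R Y]
    [IsScalarTower R S Y] (f : X →ₗ[S] Y) (M : Type u) [AddCommGroup M] [Module R M] (q : Ideal S) [q.IsPrime]
    (hk : ∀ x, f x = 0 → ∃ s ∉ q, s • x = 0) (hc : ∀ y, ∃ s ∉ q, s • y ∈ LinearMap.range f) :
    q ∈ FlatCA.weakAss S (X ⊗[R] M) ↔ q ∈ FlatCA.weakAss S (Y ⊗[R] M) := by
  have hb : Function.Bijective (LocalizedModule.map q.primeCompl f) := by
    refine ⟨(injective_localizedMap_iff _ f).2 fun x hx => ?_, fun y => ?_⟩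
    · obtain ⟨s, hs, h⟩ := hk x hx
      exact ⟨s, hs, h⟩
    · induction y using LocalizedModule.induction_on with
      | h y t =>
        obtain ⟨s, hs, x, hx⟩ := hc y
        refine ⟨LocalizedModule.mk x ((⟨s, hs⟩ : q.primeCompl) * t), ?_⟩
        rw [LocalizedModule.map_mk, hx]
        exact LocalizedModule.mk_cancel_common_left (⟨s, hs⟩ : q.primeCompl) t y
  refine mem_weakAss_iff_of_locally_bijective (AlgebraTensorModule.rTensor R M f) q (fun z hz => ?_) fun w => ?_
  · let lX := AlgebraTensorModule.rTensor R M (LocalizedModule.mkLinearMap q.primeCompl X)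
    let e := LinearEquiv.ofBijective _ hb
    let ψ : Y →ₗ[S] LocalizedModule q.primeCompl X :=
      (e.symm.toLinearMap.restrictScalars S).comp (LocalizedModule.mkLinearMap q.primeCompl Y)
    have hψ : ψ ∘ₗ f = LocalizedModule.mkLinearMap q.primeCompl X := LinearMap.ext fun x => by
      show e.symm (LocalizedModule.mk (f x) 1) = LocalizedModule.mk x 1
      rw [LinearEquiv.symm_apply_eq]
      exact (LocalizedModule.map_mk _ _ _ _).symm
    have h0 : lX z = 0 := by
      have := congrArg (AlgebraTensorModule.rTensor R M ψ) hz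
      rw [map_zero, ← LinearMap.comp_apply, ← AlgebraTensorModule.rTensor_comp, hψ] at this
      exact this
    obtain ⟨s, hs⟩ := (IsLocalizedModule.eq_zero_iff q.primeCompl lX).1 h0
    exact ⟨s, s.2, hs⟩
  · induction w using TensorProduct.induction_on with
    | zero => exact ⟨1, fun h => ‹q.IsPrime›.ne_top (q.eq_top_iff_one.2 h), by rw [smul_zero]; exact zero_mem _⟩
    | tmul y m =>
      obtain ⟨s, hs, x, hx⟩ := hc y
      exact ⟨s, hs, x ⊗ₜ m, by rw [AlgebraTensorModule.rTensor_tmul, hx, TensorProduct.smul_tmul']⟩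
    | add a b ha hb' =>
      obtain ⟨s, hs, hsa⟩ := ha
      obtain ⟨t, ht, htb⟩ := hb'
      refine ⟨s * t, fun h => (‹q.IsPrime›.mem_or_mem h).elim hs ht, ?_⟩
      rw [smul_add]
      exact add_mem (by rw [mul_comm, mul_smul]; exact Submodule.smul_mem _ _ hsa)
        (by rw [mul_smul]; exact Submodule.smul_mem _ _ htb)

/-- The criterion for finitely presented algebras. -/
theorem mem_weakAss_tensor_iff_fp {R S : Type u} [CommRing R] [CommRing S] [Algebra R S] [Algebra.FinitePresentation R S]
    (N : Type u) [AddCommGroup N] [Module S N] [Module R N] [IsScalarTower R S N] [Module.Finite S N]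
    (M : Type u) [AddCommGroup M] [Module R M]
    (p : Ideal R) [p.IsPrime] (q : Ideal S) [q.IsPrime] [q.LiesOver p] (hflat : FlatCA.FlatAt R q N) :
    q ∈ FlatCA.weakAss S (N ⊗[R] M) ↔ (p ∈ FlatCA.weakAss R M ∧ q ∈ FlatCA.weakAss S (N ⊗[R] p.ResidueField)) := by
  classical
  obtain ⟨N₀, _, _, _, π, hπ, hker⟩ := exists_fp_model_at N q.primeCompl (fpAt_of_flatAt N q hflat)
  letI : Module R N₀ := Module.compHom N₀ (algebraMap R S)
  haveI : IsScalarTower R S N₀ := IsScalarTower.of_algebraMap_smul fun _ _ => rfl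
  have hN₀ : FlatCA.FlatAt R q N₀ := by
    have hb : Function.Bijective (LocalizedModule.map q.primeCompl π) :=
      ⟨(injective_localizedMap_iff _ π).2 hker, LocalizedModule.map_surjective _ _ hπ⟩
    haveI : IsScalarTower R (Localization.AtPrime q) (LocalizedModule q.primeCompl N) :=
      IsScalarTower.of_algebraMap_smul fun r x => by
        rw [IsScalarTower.algebraMap_apply R S (Localization.AtPrime q), algebraMap_smul, algebraMap_smul]
    haveI : IsScalarTower R (Localization.AtPrime q) (LocalizedModule q.primeCompl N₀) :=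
      IsScalarTower.of_algebraMap_smul fun r x => by
        rw [IsScalarTower.algebraMap_apply R S (Localization.AtPrime q), algebraMap_smul, algebraMap_smul]
    haveI : Module.Flat R (LocalizedModule q.primeCompl N) := hflat
    exact Module.Flat.of_linearEquiv ((LinearEquiv.ofBijective _ hb).restrictScalars R)
  obtain ⟨g, hg, hflat₀⟩ := FlatModel.exists_flat_nhd N₀ q hN₀
  let S' := Localization.Away g
  let M₀ := LocalizedModule (Submonoid.powers g) N₀
  haveI : Algebra.FinitePresentation S S' := IsLocalization.Away.finitePresentation g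
  haveI : Algebra.FinitePresentation R S' := Algebra.FinitePresentation.trans R S S'
  haveI : Module.FinitePresentation S' M₀ :=
    Module.FinitePresentation.of_equiv (LocalizedModule.equivTensorProduct (Submonoid.powers g) N₀).symm
  haveI : IsScalarTower R S' M₀ := IsScalarTower.of_algebraMap_smul fun r x => by
    rw [IsScalarTower.algebraMap_apply R S S', algebraMap_smul, algebraMap_smul]
  haveI : Module.Flat R M₀ := hflat₀ _ (Submonoid.mem_powers g)
  have hd : Disjoint (Submonoid.powers g : Set S) (q : Set S) :=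
    (Ideal.disjoint_powers_iff_notMem g ‹q.IsPrime›.isRadical).2 hg
  let q' : Ideal S' := q.map (algebraMap S S')
  haveI : q'.IsPrime := IsLocalization.isPrime_of_isPrime_disjoint (Submonoid.powers g) S' q ‹_› hd
  have hq' : q'.comap (algebraMap S S') = q := IsLocalization.comap_map_of_isPrime_disjoint (Submonoid.powers g) S' ‹_› hd
  haveI : q'.LiesOver p := ⟨by
    rw [Ideal.under_def, IsScalarTower.algebraMap_eq R S S', ← Ideal.comap_comap, hq', ← Ideal.under_def]
    exact Ideal.LiesOver.over⟩
  have key : ∀ (L : Type u) [AddCommGroup L] [Module R L],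
      q ∈ FlatCA.weakAss S (N ⊗[R] L) ↔ (p ∈ FlatCA.weakAss R L ∧
        FlatCA.fiberIdeal p q' ∈ associatedPrimes (p.Fiber S') (FlatCA.fiberMod p S' M₀)) := by
    intro L _ _
    rw [← mem_weakAss_rTensor_iff (R := R) π L q hker fun y => ⟨1, fun h => ‹q.IsPrime›.ne_top (q.eq_top_iff_one.2 h),
        by rw [one_smul]; exact hπ y⟩,
      mem_weakAss_rTensor_iff (R := R) (LocalizedModule.mkLinearMap (Submonoid.powers g) N₀) L q (fun x hx => ?_) (fun y => ?_),
      WeakAss.weakAss_isLocalization (R := S) (Submonoid.powers g) (R' := S') (N := M₀ ⊗[R] L),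
      ← Groth.Agent.S1192.result (S := S') M₀ L p q']
    · constructor
      · rintro ⟨Q, hQ, hQq⟩
        rwa [show q' = Q by
          show q.map (algebraMap S S') = Q
          rw [← hQq]; exact IsLocalization.map_comap (Submonoid.powers g) S' Q]
      · exact fun h => ⟨q', h, hq'⟩
    · obtain ⟨⟨_, k, rfl⟩, hk⟩ := (IsLocalizedModule.eq_zero_iff (Submonoid.powers g)
        (LocalizedModule.mkLinearMap (Submonoid.powers g) N₀)).1 hx
      exact ⟨g ^ k, Submonoid.pow_mem q.primeCompl hg k, hk⟩
    · obtain ⟨⟨x, ⟨_, k, rfl⟩⟩, hk⟩ := IsLocalizedModule.surj (Submonoid.powers g)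
        (LocalizedModule.mkLinearMap (Submonoid.powers g) N₀) y
      exact ⟨g ^ k, Submonoid.pow_mem q.primeCompl hg k, x, hk.symm⟩
  rw [key M, key p.ResidueField]
  exact ⟨fun h => ⟨h.1, mem_weakAss_residueField p, h.2⟩, fun h => ⟨h.1, h.2.2⟩⟩

/-- The criterion for algebras of finite type. -/
theorem mem_weakAss_tensor_iff {R S : Type u} [CommRing R] [CommRing S] [Algebra R S] [Algebra.FiniteType R S]
    (N : Type u) [AddCommGroup N] [Module S N] [Module R N] [IsScalarTower R S N] [Module.Finite S N]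
    (M : Type u) [AddCommGroup M] [Module R M]
    (p : Ideal R) [p.IsPrime] (q : Ideal S) [q.IsPrime] [q.LiesOver p] (hflat : FlatCA.FlatAt R q N) :
    q ∈ FlatCA.weakAss S (N ⊗[R] M) ↔
      (p ∈ FlatCA.weakAss R M ∧ FlatCA.fiberIdeal p q ∈ associatedPrimes (p.Fiber S) (FlatCA.fiberMod p S N)) := by
  rw [mem_assoc_fibre_iff N p q]
  obtain ⟨n, φ, hφ⟩ := Algebra.FiniteType.iff_quotient_mvPolynomial''.1 ‹Algebra.FiniteType R S›
  let P := MvPolynomial (Fin n) R
  letI : Algebra P S := φ.toRingHom.toAlgebra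
  haveI : IsScalarTower R P S := IsScalarTower.of_algebraMap_eq' φ.comp_algebraMap.symm
  haveI : Module.Finite P S := Module.Finite.of_surjective (Algebra.linearMap P S) hφ
  letI : Module P N := Module.compHom N (algebraMap P S)
  haveI : IsScalarTower P S N := IsScalarTower.of_algebraMap_smul fun _ _ => rfl
  haveI : IsScalarTower R P N := IsScalarTower.of_algebraMap_smul fun r x => by
    show algebraMap P S (algebraMap R P r) • x = r • x
    rw [← IsScalarTower.algebraMap_apply, algebraMap_smul]
  haveI : Module.Finite P N := Module.Finite.trans S N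
  let q₀ : Ideal P := q.comap (algebraMap P S)
  haveI : q₀.LiesOver p := ⟨by
    rw [Ideal.under_def, Ideal.comap_comap, ← IsScalarTower.algebraMap_eq, ← Ideal.under_def]
    exact Ideal.LiesOver.over⟩
  have hr : ∀ (L : Type u) [AddCommGroup L] [Module R L],
      q₀ ∈ FlatCA.weakAss P (N ⊗[R] L) ↔ q ∈ FlatCA.weakAss S (N ⊗[R] L) := fun L _ _ =>
    mem_weakAss_restrict_iff (fun t => ⟨1, isUnit_one, (hφ t).elim fun s hs => ⟨s, by rw [one_mul]; exact hs.symm⟩⟩)
      q q₀ rfl fun q' hq' _ hker => ⟨q'.map (algebraMap P S),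
        Ideal.map_isPrime_of_surjective hφ hker, (Ideal.comap_map_of_surjective' (algebraMap P S) hφ q').trans (sup_eq_left.2 hker)⟩
  rw [← hr M, ← hr p.ResidueField]
  exact mem_weakAss_tensor_iff_fp (S := P) N M p q₀ ((flatAt_comap_iff hφ q q₀ rfl).1 hflat)

end Groth.Agent.RG
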