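import Groth.Agent.RG.AssocFlatPoint
import Groth.Agent.RG.WeakAssTensorFlat
import Groth.Agent.ZClosLib.NzdLocal

/-!
# Flatness is detected at the associated points of the fibre
-/

set_option autoImplicit false
set_option linter.style.haveILetI false
set_option linter.unusedSectionVars false
set_option backward.isDefEq.respectTransparency false
set_option maxHeartbeats 1000000
set_option synthInstance.maxHeartbeats 200000

universe u

namespace Groth.Agent.RG

open MvPolynomial TensorProduct Groth.Agent.FlatModel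

attribute [local instance] Algebra.TensorProduct.rightAlgebra

section generic

variable {R S : Type u} [CommRing R] [CommRing S] [Algebra R S]

/-- A morphism which is bijective near a point does not change flatness there. -/
theorem flatAt_iff_of_killed {M N : Type u} [AddCommGroup M] [Module S M] [Module R M] [IsScalarTower R S M]
    [AddCommGroup N] [Module S N] [Module R N] [IsScalarTower R S N] (q : Ideal S) [q.IsPrime] (f : M →ₗ[S] N)
    (hf : Function.Surjective f) (hk : ∀ x, f x = 0 → ∃ s ∈ q.primeCompl, s • x = 0) :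
    FlatCA.FlatAt R q M ↔ FlatCA.FlatAt R q N := by
  have hb : Function.Bijective (LocalizedModule.map q.primeCompl f) :=
    ⟨(injective_localizedMap_iff _ f).2 hk, LocalizedModule.map_surjective _ _ hf⟩
  haveI : IsScalarTower R (Localization.AtPrime q) (LocalizedModule q.primeCompl N) :=
    IsScalarTower.of_algebraMap_smul fun r x => by
      rw [IsScalarTower.algebraMap_apply R S (Localization.AtPrime q), algebraMap_smul, algebraMap_smul]
  haveI : IsScalarTower R (Localization.AtPrime q) (LocalizedModule q.primeCompl M) :=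
    IsScalarTower.of_algebraMap_smul fun r x => by
      rw [IsScalarTower.algebraMap_apply R S (Localization.AtPrime q), algebraMap_smul, algebraMap_smul]
  exact ⟨fun h => haveI : Module.Flat R (LocalizedModule q.primeCompl M) := h
      Module.Flat.of_linearEquiv ((LinearEquiv.ofBijective _ hb).symm.restrictScalars R),
    fun h => haveI : Module.Flat R (LocalizedModule q.primeCompl N) := h
      Module.Flat.of_linearEquiv ((LinearEquiv.ofBijective _ hb).restrictScalars R)⟩

/-- Finite presentation at a point gives finitely many relations there. -/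
theorem exists_fg_ker_at {N : Type u} [AddCommGroup N] [Module S N] {a : ℕ} (π₀ : (Fin a → S) →ₗ[S] N)
    (hπ₀ : Function.Surjective π₀) (W : Submonoid S) (h : FPAt W N) :
    ∃ G : Finset (Fin a → S), (∀ x ∈ G, π₀ x = 0) ∧
      ∀ x, π₀ x = 0 → ∃ s ∈ W, s • x ∈ Submodule.span S (G : Set (Fin a → S)) := by
  classical
  rw [← fpAt_iff_localizedModule] at h
  let g := LocalizedModule.map W π₀
  have hker : (LinearMap.ker g).FG :=
    haveI := h
    haveI : Module.Finite (Localization W) (LocalizedModule W (Fin a → S)) :=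
      Module.Finite.of_isLocalizedModule W (LocalizedModule.mkLinearMap W (Fin a → S))
    Module.FinitePresentation.fg_ker g (LocalizedModule.map_surjective W _ hπ₀)
  obtain ⟨T, hT⟩ := hker
  have hT' : ∀ k ∈ T, ∃ b : Fin a → S, ∃ s : W, k = LocalizedModule.mk b s ∧ π₀ b = 0 := by
    intro k hk
    have h0 : g k = 0 := LinearMap.mem_ker.1 (hT ▸ Submodule.subset_span hk)
    induction k using LocalizedModule.induction_on with
    | h b s =>
      rw [LocalizedModule.map_mk, ← LocalizedModule.zero_mk (1 : W), LocalizedModule.mk_eq] at h0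
      obtain ⟨t, ht⟩ := h0
      simp only [one_smul, smul_zero] at ht
      exact ⟨t • b, t * s, (LocalizedModule.mk_cancel_common_left t s b).symm, by rw [Submonoid.smul_def, map_smul]; exact ht⟩
  choose b s has ha using hT'
  refine ⟨T.attach.image fun k => b k.1 k.2, fun x hx => ?_, fun x hx => ?_⟩
  · obtain ⟨k, -, rfl⟩ := Finset.mem_image.1 hx
    exact ha k.1 k.2
  · let L₀ := Submodule.span S ((T.attach.image fun k => b k.1 k.2 : Finset (Fin a → S)) : Set (Fin a → S))
    have hle' : LinearMap.ker g ≤ Submodule.localized W L₀ := by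
      rw [← hT, Submodule.span_le]
      intro k hk
      refine ⟨b k hk, Submodule.subset_span (Finset.mem_coe.2 (Finset.mem_image.2 ⟨⟨k, hk⟩, Finset.mem_attach _ _, rfl⟩)), s k hk, ?_⟩
      rw [← IsLocalizedModule.mk_eq_mk', ← has k hk]
    have hb : LocalizedModule.mk x (1 : W) ∈ LinearMap.ker g := by
      rw [LinearMap.mem_ker, LocalizedModule.map_mk, hx, LocalizedModule.zero_mk]
    obtain ⟨m, hm, t, hmt⟩ := hle' hb
    rw [← IsLocalizedModule.mk_eq_mk', LocalizedModule.mk_eq] at hmt
    obtain ⟨v, hv⟩ := hmt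
    refine ⟨(v : S) * t, (v * t).2, ?_⟩
    simp only [one_smul, Submonoid.smul_def] at hv
    rw [mul_smul, ← hv]
    exact L₀.smul_mem _ hm

/-- Elements outside the relative assassin are regular near a point of flatness. -/
theorem exists_smul_eq_zero_of_regular [Algebra.FinitePresentation R S]
    {N : Type u} [AddCommGroup N] [Module S N] [Module R N] [IsScalarTower R S N] [Module.FinitePresentation S N]
    (p : Ideal R) [p.IsPrime] (q : Ideal S) [q.IsPrime] [hq : q.LiesOver p] (hflat : FlatCA.FlatAt R q N) {s : S}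
    (hs : ∀ r ∈ associatedPrimes (p.Fiber S) (FlatCA.fiberMod p S N),
      r ≤ FlatCA.fiberIdeal p q → algebraMap S (p.Fiber S) s ∉ r)
    (x : N) (hx : s • x = 0) : ∃ c ∉ q, c • x = 0 := by
  haveI : IsNoetherianRing (p.Fiber S) := Algebra.FiniteType.isNoetherianRing p.ResidueField _
  let φ := Localization.localRingHom p q (algebraMap R S) hq.over
  letI : Algebra (Localization.AtPrime p) (Localization.AtPrime q) := φ.toAlgebra
  haveI : IsScalarTower R (Localization.AtPrime p) (Localization.AtPrime q) :=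
    IsScalarTower.of_algebraMap_eq fun x => by
      rw [IsScalarTower.algebraMap_apply R S (Localization.AtPrime q)]
      exact (Localization.localRingHom_to_map p q _ hq.over x).symm
  haveI : IsLocalHom (algebraMap (Localization.AtPrime p) (Localization.AtPrime q)) :=
    Localization.isLocalHom_localRingHom p q _ hq.over
  letI : Module (Localization.AtPrime p) (LocalizedModule q.primeCompl N) :=
    Module.compHom _ (algebraMap (Localization.AtPrime p) (Localization.AtPrime q))
  haveI : IsScalarTower (Localization.AtPrime p) (Localization.AtPrime q) (LocalizedModule q.primeCompl N) :=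
    IsScalarTower.of_algebraMap_smul fun _ _ => rfl
  haveI : IsScalarTower R (Localization.AtPrime q) (LocalizedModule q.primeCompl N) :=
    IsScalarTower.to₁₃₄ R S (Localization.AtPrime q) _
  haveI : IsScalarTower R (Localization.AtPrime p) (LocalizedModule q.primeCompl N) :=
    IsScalarTower.to₁₂₄ R (Localization.AtPrime p) (Localization.AtPrime q) _
  haveI : Module.FinitePresentation (Localization.AtPrime q) (LocalizedModule q.primeCompl N) :=
    inferInstanceAs (Module.FinitePresentation (Localization q.primeCompl) (LocalizedModule q.primeCompl N))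
  haveI : Module.Flat R (LocalizedModule q.primeCompl N) := hflat
  haveI : Module.Flat (Localization.AtPrime p) (LocalizedModule q.primeCompl N) :=
    (Module.flat_iff_of_isLocalization (Localization.AtPrime p) p.primeCompl (LocalizedModule q.primeCompl N)).2 inferInstance
  obtain ⟨c, hc, hcx⟩ := ZClosLib.NzdUnivInj.local_injective (Rp := Localization.AtPrime p) (Sq := Localization.AtPrime q) p q
    (FlatModel.isEssFinitePresentation_localization (R := R) q p (Localization.AtPrime p) (Localization.AtPrime q))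
    (by rw [← Localization.AtPrime.map_eq_maximalIdeal, Ideal.map_map, ← IsScalarTower.algebraMap_eq])
    (LocalizedModule.mkLinearMap q.primeCompl N) hs R (x ⊗ₜ[R] (1 : R)) (by rw [smul_tmul', hx, zero_tmul])
  rw [smul_tmul'] at hcx
  exact ⟨c, hc, by simpa using congrArg (TensorProduct.rid R N) hcx⟩

end generic

section vectors

variable {a n : ℕ} {R : Type u} [CommRing R] (p : Ideal R) [p.IsPrime]

theorem exists_isUnit_residueField (c : p.ResidueField) :
    ∃ r : R, IsUnit (algebraMap R p.ResidueField r) ∧ ∃ r', algebraMap R p.ResidueField r * c = algebraMap R p.ResidueField r' := by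
  obtain ⟨⟨x, y⟩, h⟩ := IsLocalization.surj (nonZeroDivisors (R ⧸ p)) c
  obtain ⟨r', rfl⟩ := Ideal.Quotient.mk_surjective x
  obtain ⟨r, hr⟩ := Ideal.Quotient.mk_surjective (y : R ⧸ p)
  have h1 : algebraMap R p.ResidueField r = algebraMap (R ⧸ p) p.ResidueField (y : R ⧸ p) := by
    rw [IsScalarTower.algebraMap_apply R (R ⧸ p) p.ResidueField, Ideal.Quotient.algebraMap_eq, hr]
  refine ⟨r, h1 ▸ IsLocalization.map_units p.ResidueField y, r', ?_⟩
  rw [h1, IsScalarTower.algebraMap_apply R (R ⧸ p) p.ResidueField, mul_comm, h]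
  rfl

variable {M : Type u} [AddCommGroup M] [Module R M] [Module (MvPolynomial (Fin n) R) M]
  [IsScalarTower R (MvPolynomial (Fin n) R) M]

theorem exists_unit_smul_eq_tmul (z : M ⊗[R] p.ResidueField) :
    ∃ r : R, IsUnit (algebraMap R p.ResidueField r) ∧ ∃ m, r • z = m ⊗ₜ[R] (1 : p.ResidueField) := by
  induction z using TensorProduct.induction_on with
  | zero => exact ⟨1, by simp, 0, by simp⟩
  | tmul m c =>
    obtain ⟨r, hr, r', h⟩ := exists_isUnit_residueField p c
    refine ⟨r, hr, r' • m, ?_⟩
    rw [← tmul_smul, Algebra.smul_def, h, Algebra.algebraMap_eq_smul_one, ← smul_tmul]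
  | add x y hx hy =>
    obtain ⟨r, hr, m, hm⟩ := hx
    obtain ⟨r', hr', m', hm'⟩ := hy
    refine ⟨r * r', by rw [map_mul]; exact hr.mul hr', r' • m + r • m', ?_⟩
    rw [smul_add, add_tmul, ← smul_tmul', ← smul_tmul', ← hm, ← hm', smul_smul, smul_smul, mul_comm r' r]

theorem eq_zero_of_unit_smul {z : M ⊗[R] p.ResidueField} {r : R} (hr : IsUnit (algebraMap R p.ResidueField r))
    (h : r • z = 0) : z = 0 := by
  obtain ⟨u, hu⟩ := hr.exists_left_inv
  have h1 := congrArg (LinearMap.lTensor M ((LinearMap.mulLeft R u))) h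
  rw [map_zero, map_smul] at h1
  have : ∀ w : M ⊗[R] p.ResidueField, r • LinearMap.lTensor M (LinearMap.mulLeft R u) w = w := by
    intro w
    induction w using TensorProduct.induction_on with
    | zero => simp
    | tmul m c =>
      rw [LinearMap.lTensor_tmul, LinearMap.mulLeft_apply, ← tmul_smul, Algebra.smul_def, ← mul_assoc,
        mul_comm _ u, hu, one_mul]
    | add x y hx hy => rw [map_add, smul_add, hx, hy]
  rwa [this] at h1

end vectors

/-- Polynomial algebra case. -/
theorem flatAt_of_assoc_poly {n : ℕ} {R : Type u} [CommRing R] {N : Type u} [AddCommGroup N]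
    [Module (MvPolynomial (Fin n) R) N] [Module R N] [IsScalarTower R (MvPolynomial (Fin n) R) N]
    [Module.Finite (MvPolynomial (Fin n) R) N]
    (p : Ideal R) [p.IsPrime] (q : Ideal (MvPolynomial (Fin n) R)) [q.IsPrime] [q.LiesOver p]
    (h : ∀ (q' : Ideal (MvPolynomial (Fin n) R)) [q'.IsPrime], q' ≤ q → q'.LiesOver p →
      q' ∈ FlatCA.weakAss (MvPolynomial (Fin n) R) (N ⊗[R] p.ResidueField) → FlatCA.FlatAt R q' N) :
    FlatCA.FlatAt R q N := by
  classical
  let P := MvPolynomial (Fin n) R
  let k := p.ResidueField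
  let res : P →+* MvPolynomial (Fin n) k := MvPolynomial.map (algebraMap R k)
  let incl : P →+* p.Fiber P := (Algebra.TensorProduct.includeRight (R := R) (A := k) (B := P)).toRingHom
  obtain ⟨a, π, hπ⟩ := Module.Finite.exists_fin' P N
  haveI : IsNoetherianRing (p.Fiber P) := Algebra.FiniteType.isNoetherianRing k _
  -- the associated points below `q`
  let A : Set (Ideal P) := {q' | q'.IsPrime ∧ q' ≤ q ∧ q'.LiesOver p ∧ q' ∈ FlatCA.weakAss P (N ⊗[R] k)}
  have hAfin : A.Finite := by
    haveI : Module.Finite (p.Fiber P) (FlatCA.fiberMod p P N) :=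
      inferInstanceAs (Module.Finite (p.Fiber P) ((p.Fiber P) ⊗[P] N))
    refine ((associatedPrimes.finite (p.Fiber P) (FlatCA.fiberMod p P N)).image (Ideal.comap incl)).subset ?_
    rintro q' ⟨hq'p, -, hover, hass⟩
    haveI := hq'p
    haveI := hover
    refine ⟨FlatCA.fiberIdeal p q', (mem_assoc_fibre_iff N p q').2 hass, ?_⟩
    let x := PrimeSpectrum.primesOverOrderIsoFiber R P p ⟨q', hq'p, hover⟩
    have hx : x.asIdeal.comap incl = q' :=
      congr($((PrimeSpectrum.primesOverOrderIsoFiber R P p).symm_apply_apply ⟨q', hq'p, hover⟩).1)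
    rw [← ZClosLib.FibAssIdeal.eq_fiberIdeal p hx, hx]
  -- finitely many relations
  choose G hGker hG using fun q' : {q' // q' ∈ A} =>
    haveI := q'.2.1
    exists_fg_ker_at π hπ q'.1.primeCompl (fpAt_of_flatAt N q'.1 (h q'.1 q'.2.2.1 q'.2.2.2.1 q'.2.2.2.2))
  obtain ⟨Gk, hGk, hGkspan⟩ : ∃ Gk : Finset (V a n R), (∀ x ∈ Gk, π x = 0) ∧
      KK (R₀ := R) (LinearMap.ker π) k = Submodule.span (MvPolynomial (Fin n) k) (mapV (algebraMap R k) '' (Gk : Set (V a n R))) := by
    obtain ⟨Y, hYsub, hY⟩ := (Submodule.fg_span_iff_fg_span_finset_subset _).1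
      (IsNoetherian.noetherian (KK (R₀ := R) (LinearMap.ker π) k))
    obtain ⟨Gk, hGksub, rfl⟩ := Finset.subset_set_image_iff.1 hYsub
    exact ⟨Gk, fun x hx => hGksub hx, by rw [KK, hY, Finset.coe_image]⟩
  haveI : Fintype {q' // q' ∈ A} := hAfin.fintype
  let Gall : Finset (V a n R) := Gk ∪ Finset.univ.biUnion G
  have hGall : ∀ x ∈ Gall, π x = 0 := fun x hx => (Finset.mem_union.1 hx).elim (hGk x) fun hx' =>
    let ⟨q', _, hq'⟩ := Finset.mem_biUnion.1 hx'; hGker q' x hq'
  -- a model over a Noetherian ring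
  let c : Finset R := Gall.biUnion fun v => Finset.univ.biUnion fun i => (v i).coeffs
  let R₀ : Subalgebra ℤ R := Algebra.adjoin ℤ (c : Set R)
  haveI : Algebra.FiniteType ℤ R₀ := (Subalgebra.fg_iff_finiteType R₀).1 (Subalgebra.fg_adjoin_finset c)
  haveI : IsNoetherianRing R₀ := Algebra.FiniteType.isNoetherianRing ℤ R₀
  have hdesc : ∀ v ∈ Gall, ∃ w : V a n R₀, mapV (algebraMap R₀ R) w = v := by
    intro v hv
    have : ∀ i, ∃ f : MvPolynomial (Fin n) R₀, MvPolynomial.map (algebraMap R₀ R) f = v i := fun i =>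
      MvPolynomial.mem_range_map_iff_coeffs_subset.2 fun x hx =>
        ⟨⟨x, Algebra.subset_adjoin (Finset.mem_biUnion.2 ⟨v, hv, Finset.mem_biUnion.2 ⟨i, Finset.mem_univ _, hx⟩⟩)⟩, rfl⟩
    choose w hw using this
    exact ⟨w, funext hw⟩
  choose! lv hlv using hdesc
  let K₀ : Submodule (MvPolynomial (Fin n) R₀) (V a n R₀) := Submodule.span _ (lv '' Gall)
  have hKK : KK K₀ R = Submodule.span P (Gall : Set (V a n R)) := by
    apply le_antisymm
    · rw [KK, Submodule.span_le]
      rintro _ ⟨w, hw, rfl⟩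
      refine Submodule.span_le.2 ?_ (mapV_mem_span (algebraMap R₀ R) hw)
      rintro _ ⟨w, ⟨v, hv, rfl⟩, rfl⟩
      rw [hlv v hv]
      exact Submodule.subset_span hv
    · rw [Submodule.span_le]
      intro v hv
      exact Submodule.subset_span ⟨lv v, Submodule.subset_span ⟨v, hv, rfl⟩, hlv v hv⟩
  have hle : KK K₀ R ≤ LinearMap.ker π := by
    rw [hKK, Submodule.span_le]; exact hGall
  have hKKk : KK K₀ k = KK (R₀ := R) (LinearMap.ker π) k := by
    rw [← KK_KK K₀ R k]
    refine le_antisymm (Submodule.span_mono (Set.image_mono fun x hx => hle hx)) ?_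
    rw [hGkspan, KK]
    exact Submodule.span_mono (Set.image_mono fun x hx => hKK.ge (Submodule.subset_span (Finset.mem_union_left _ hx)))
  have hfib : ∀ v, π v ⊗ₜ[R] (1 : k) = 0 ↔ mapV (algebraMap R k) v ∈ KK K₀ k := fun v => by
    rw [hKKk, mem_KK_ker_iff π hπ k v]
  let f : (V a n R ⧸ KK K₀ R) →ₗ[P] N := (KK K₀ R).liftQ π hle
  have hfs : Function.Surjective f := fun y => let ⟨v, hv⟩ := hπ y; ⟨Submodule.Quotient.mk v, hv⟩
  have hfk : ∀ q' ∈ A, ∀ x, f x = 0 → ∃ s, s ∉ q' ∧ s • x = 0 := by
    intro q' hq' x hx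
    obtain ⟨v, rfl⟩ := Submodule.mkQ_surjective _ x
    obtain ⟨s, hs, hsv⟩ := hG ⟨q', hq'⟩ v hx
    refine ⟨s, hs, ?_⟩
    rw [← map_smul, Submodule.mkQ_apply, Submodule.Quotient.mk_eq_zero, hKK]
    exact Submodule.span_mono (Finset.coe_subset.2 ((Finset.subset_biUnion_of_mem G (Finset.mem_univ _)).trans
      Finset.subset_union_right)) hsv
  -- the model is flat at `q`
  have hover : ∀ r, C r ∈ q ↔ r ∈ p := fun r => ((SetLike.ext_iff.1 (Ideal.LiesOver.over (P := q) (p := p))) r).symm
  have hMq : FlatCA.FlatAt R q (V a n R ⧸ KK K₀ R) := by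
    refine (ptFlat_iff_localized (K₀ := K₀) q.primeCompl).1 (ptFlat_of_assoc p q (Ideal.ext hover) ?_)
    intro Q _ hQ hQle
    obtain ⟨-, x, hx⟩ := isAssociatedPrime_iff.1 hQ
    obtain ⟨w, rfl⟩ := Submodule.Quotient.mk_surjective _ x
    obtain ⟨r, hr, v, hv⟩ := exists_smul_eq_mapV k (exists_isUnit_residueField p) w
    have hru : IsUnit (C (algebraMap R k r) : MvPolynomial (Fin n) k) := hr.map C
    have hann : WeakAss.annEl P (π v ⊗ₜ[R] (1 : k)) = Q.comap res := by
      ext s
      rw [WeakAss.mem_annEl, smul_tmul', ← map_smul, hfib, mapV_smul, ← hv, ← C_smul, smul_comm,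
        Submodule.smul_mem_iff_of_isUnit _ hru, Ideal.mem_comap, hx, mem_colon_mk_iff]
      exact Iff.rfl
    have hprime : (Q.comap res).IsPrime := Ideal.IsPrime.comap _
    have hQp : (Q.comap res).LiesOver p := by
      constructor
      ext r'
      show r' ∈ p ↔ res (C r') ∈ Q
      rw [MvPolynomial.map_C, ← Ideal.algebraMap_residueField_eq_zero]
      refine ⟨fun h0 => by rw [h0, map_zero]; exact zero_mem _, fun h0 => by_contra fun hne =>
        ‹Q.IsPrime›.ne_top (Ideal.eq_top_of_isUnit_mem _ h0 ((isUnit_iff_ne_zero.2 hne).map C))⟩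
    have hA : Q.comap res ∈ A :=
      ⟨hprime, hQle, hQp, π v ⊗ₜ[R] (1 : k), ⟨hprime, hann.le⟩, fun q₁ hq₁ _ => hann.ge.trans hq₁.2⟩
    exact (ptFlat_iff_localized (K₀ := K₀) _).2
      ((flatAt_iff_of_killed _ f hfs (hfk _ hA)).2 (h _ hQle hQp hA.2.2.2))
  -- the extra relations die at `q`
  haveI : Module.FinitePresentation P (V a n R ⧸ KK K₀ R) :=
    Module.finitePresentation_of_surjective (KK K₀ R).mkQ (Submodule.mkQ_surjective _) (by
      rw [Submodule.ker_mkQ, hKK]; exact Submodule.fg_span Gall.finite_toSet)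
  refine (flatAt_iff_of_killed q f hfs fun x hx => ?_).1 hMq
  let cx : Ideal P := WeakAss.annEl P x
  obtain ⟨s, hsx, hsA⟩ : ∃ s, s • x = 0 ∧ ∀ q' ∈ A, s ∉ q' := by
    by_contra hne
    push Not at hne
    have hsub : (cx : Set P) ⊆ ⋃ q' ∈ (↑hAfin.toFinset : Set (Ideal P)), ((id q' : Ideal P) : Set P) := by
      intro s hs
      obtain ⟨q', hq', hsq'⟩ := hne s (WeakAss.mem_annEl.1 hs)
      exact Set.mem_iUnion₂.2 ⟨q', hAfin.mem_toFinset.2 hq', hsq'⟩
    obtain ⟨q', hq', hle'⟩ := (Ideal.subset_union_prime (f := id) ⊥ ⊥ fun q' hq' _ _ => (hAfin.mem_toFinset.1 hq').1).1 hsub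
    obtain ⟨s, hs, hsx⟩ := hfk q' (hAfin.mem_toFinset.1 hq') x hx
    exact hs (hle' (WeakAss.mem_annEl.2 hsx))
  refine exists_smul_eq_zero_of_regular p q hMq (fun r hr hrle hsr => ?_) x hsx
  haveI : r.IsPrime := hr.isPrime
  haveI : (r.comap incl).IsPrime := Ideal.IsPrime.comap _
  let xq := PrimeSpectrum.primesOverOrderIsoFiber R P p ⟨q, ‹_›, ‹_›⟩
  have hxq : xq.asIdeal.comap incl = q :=
    congr($((PrimeSpectrum.primesOverOrderIsoFiber R P p).symm_apply_apply ⟨q, ‹_›, ‹_›⟩).1)
  have hle' : r.comap incl ≤ q := by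
    rw [← hxq, ZClosLib.FibAssIdeal.eq_fiberIdeal p hxq]
    exact Ideal.comap_mono hrle
  haveI hover' : (r.comap incl).LiesOver p :=
    ((PrimeSpectrum.primesOverOrderIsoFiber R P p).symm ⟨r, inferInstance⟩).2.2
  have heq : r = FlatCA.fiberIdeal p (r.comap incl) := ZClosLib.FibAssIdeal.eq_fiberIdeal p rfl
  rw [heq] at hr
  have hw := (mem_assoc_fibre_iff (V a n R ⧸ KK K₀ R) p (r.comap incl)).1 hr
  have hinj : Function.Injective (AlgebraTensorModule.rTensor R k f) := by
    rw [injective_iff_map_eq_zero]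
    intro z hz
    obtain ⟨u, hu, m, hm⟩ := exists_unit_smul_eq_tmul p z
    refine eq_zero_of_unit_smul p hu ?_
    obtain ⟨v, rfl⟩ := Submodule.mkQ_surjective _ m
    have h1 := congrArg (AlgebraTensorModule.rTensor R k f) hm
    rw [LinearMap.map_smul_of_tower, hz, smul_zero, AlgebraTensorModule.rTensor_tmul] at h1
    rw [hm, ← mem_KK_ker_iff (KK K₀ R).mkQ (Submodule.mkQ_surjective _) k v, Submodule.ker_mkQ, KK_KK K₀ R k, ← hfib]
    exact h1.symm
  exact hsA _ ⟨inferInstance, hle', hover', WeakAss.weakAss_subset_of_injective _ hinj hw⟩ hsr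

/-- The general case. -/
theorem flatAt_of_assoc {R S : Type u} [CommRing R] [CommRing S] [Algebra R S] [Algebra.FiniteType R S]
    (N : Type u) [AddCommGroup N] [Module S N] [Module R N] [IsScalarTower R S N] [Module.Finite S N]
    (p : Ideal R) [p.IsPrime] (q : Ideal S) [q.IsPrime] [q.LiesOver p]
    (h : ∀ (q' : Ideal S) [q'.IsPrime], q' ≤ q → q'.LiesOver p →
      FlatCA.fiberIdeal p q' ∈ associatedPrimes (p.Fiber S) (FlatCA.fiberMod p S N) → FlatCA.FlatAt R q' N) :
    FlatCA.FlatAt R q N := by
  obtain ⟨n, φ, hφ⟩ := Algebra.FiniteType.iff_quotient_mvPolynomial''.1 ‹Algebra.FiniteType R S›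
  let P := MvPolynomial (Fin n) R
  letI : Algebra P S := φ.toRingHom.toAlgebra
  haveI : IsScalarTower R P S := IsScalarTower.of_algebraMap_eq fun r => (φ.commutes r).symm
  letI : Module P N := Module.compHom N (algebraMap P S)
  haveI : IsScalarTower P S N := IsScalarTower.of_algebraMap_smul fun _ _ => rfl
  haveI : IsScalarTower R P N := IsScalarTower.of_algebraMap_smul fun r x => by
    show algebraMap P S (algebraMap R P r) • x = r • x
    rw [← IsScalarTower.algebraMap_apply, algebraMap_smul]
  haveI : Module.Finite P S := Module.Finite.of_surjective (Algebra.linearMap P S) hφ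
  haveI : Module.Finite P N := Module.Finite.trans S N
  have key : ∀ (Q : Ideal S) [Q.IsPrime],
      FlatCA.FlatAt R Q N ↔ FlatCA.FlatAt R (Q.comap (algebraMap P S)) N := by
    intro Q _
    exact flat_localized_restrict_iff (C := S) (G := N) (Q.comap (algebraMap P S)).primeCompl Q.primeCompl
      (fun w hw => hw) fun v hv => by
        obtain ⟨w, rfl⟩ := hφ v
        exact ⟨w, hv, dvd_rfl⟩
  haveI : (q.comap (algebraMap P S)).IsPrime := Ideal.IsPrime.comap _
  haveI : (q.comap (algebraMap P S)).LiesOver p := ⟨by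
    rw [Ideal.under, Ideal.comap_comap, ← IsScalarTower.algebraMap_eq]
    exact Ideal.LiesOver.over⟩
  refine (key q).2 (flatAt_of_assoc_poly p _ fun q'' _ hle hover hass => ?_)
  have hker : RingHom.ker (algebraMap P S) ≤ q'' := by
    obtain ⟨m, hm⟩ := hass
    intro s hs
    refine hm.1.2 (Submodule.mem_annihilator_span_singleton _ _ |>.2 ?_)
    clear hm
    induction m using TensorProduct.induction_on with
    | zero => exact smul_zero _
    | tmul x c =>
      rw [smul_tmul', ← algebraMap_smul S s x, RingHom.mem_ker.1 hs, zero_smul, zero_tmul]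
    | add x y hx hy => rw [smul_add, hx, hy, add_zero]
  haveI : (q''.map (algebraMap P S)).IsPrime := Ideal.map_isPrime_of_surjective hφ hker
  have hback : (q''.map (algebraMap P S)).comap (algebraMap P S) = q'' := by
    rw [Ideal.comap_map_of_surjective (algebraMap P S) hφ, sup_eq_left]; exact hker
  haveI : (q''.map (algebraMap P S)).LiesOver p := ⟨by
    have h1 : (q''.map (algebraMap P S)).under R = ((q''.map (algebraMap P S)).comap (algebraMap P S)).under R := by
      rw [Ideal.under, Ideal.under, Ideal.comap_comap, ← IsScalarTower.algebraMap_eq]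
    rw [h1, hback]
    exact hover.over⟩
  have hflat := h (q''.map (algebraMap P S)) (Ideal.map_le_of_le_comap hle) inferInstance
    ((mem_assoc_fibre_iff N p _).2 ((mem_weakAss_restrict_iff (S := P) (T := S)
      (fun t => ⟨1, isUnit_one, by obtain ⟨w, rfl⟩ := hφ t; exact ⟨w, one_mul _⟩⟩) _ q'' hback
      (fun q₁ hq₁ _ hker₁ => ⟨q₁.map (algebraMap P S), Ideal.map_isPrime_of_surjective hφ hker₁, by
        rw [Ideal.comap_map_of_surjective (algebraMap P S) hφ, sup_eq_left]; exact hker₁⟩)).1 hass))
  have := (key _).1 hflat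
  simp only [hback] at this
  exact this

end Groth.Agent.RG
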