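import Groth.Agent.RG.Criterion
import Groth.Agent.RG.SmoothDom
import Groth.Agent.S0582

/-!
# Going along a dévissage
-/

set_option autoImplicit false
set_option linter.style.haveILetI false
set_option linter.unusedSectionVars false
set_option backward.isDefEq.respectTransparency false
set_option maxHeartbeats 1000000

universe u

open TensorProduct IsLocalRing

namespace Groth.Agent.RG

variable {R S A M : Type u} [CommRing R] [CommRing S] [Algebra R S] [CommRing A] [Algebra S A] [Algebra R A]
  [IsScalarTower R S A] [AddCommGroup M] [Module A M] [Module S M] [IsScalarTower S A M] [Module R M]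
  [IsScalarTower R S M] [IsScalarTower R A M]

theorem algebraMap_smul_tensor (J : Ideal R) (s : S) (y : M ⊗[R] J) : algebraMap S A s • y = s • y := by
  induction y using TensorProduct.induction_on with
  | zero => rw [smul_zero, smul_zero]
  | add a b ha hb => rw [smul_add, smul_add, ha, hb]
  | tmul m j => rw [smul_tmul', smul_tmul', algebraMap_smul]

/-- Along a surjection, flatness at a prime and at its contraction agree. -/
theorem flatAt_comap_iff (hsurj : Function.Surjective (algebraMap S A)) (Q : Ideal A) [Q.IsPrime] (q : Ideal S) [q.IsPrime]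
    (hq : Q.comap (algebraMap S A) = q) : FlatCA.FlatAt R Q M ↔ FlatCA.FlatAt R q M := by
  subst hq
  rw [FlatCA.FlatAt, FlatCA.FlatAt, FlatModel.flat_localized_iff Q.primeCompl (LocalizedModule.mkLinearMap Q.primeCompl M),
    FlatModel.flat_localized_iff (Q.comap (algebraMap S A)).primeCompl (LocalizedModule.mkLinearMap (Q.comap (algebraMap S A)).primeCompl M)]
  refine forall₃_congr fun J y _ => ⟨?_, ?_⟩
  · rintro ⟨a, ha, hay⟩
    obtain ⟨s, rfl⟩ := hsurj a
    exact ⟨s, ha, by rwa [algebraMap_smul_tensor] at hay⟩
  · rintro ⟨s, hs, hsy⟩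
    exact ⟨algebraMap S A s, hs, by rwa [algebraMap_smul_tensor]⟩

/-- For a finite algebra with one prime over `q`, flatness at that prime is flatness at `q`. -/
theorem flatAt_of_unique [Module.Finite S A] (Q : Ideal A) [Q.IsPrime] (q : Ideal S) [q.IsPrime]
    (huniq : ∀ (Q' : Ideal A) [Q'.IsPrime], Q'.LiesOver q → Q' = Q) (h : FlatCA.FlatAt R Q M) :
    FlatCA.FlatAt R q M := by
  rw [FlatCA.FlatAt, FlatModel.flat_localized_iff q.primeCompl (LocalizedModule.mkLinearMap q.primeCompl M)]
  intro J y hy
  obtain ⟨a, ha, hay⟩ :=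
    (FlatModel.flat_localized_iff Q.primeCompl (LocalizedModule.mkLinearMap Q.primeCompl M)).1 h J y hy
  by_contra hne
  push Not at hne
  let K : Ideal A :=
    { carrier := {b | b • y = 0}
      add_mem' := fun {b c} (hb : b • y = 0) (hc : c • y = 0) => by
        show (b + c) • y = 0
        rw [add_smul, hb, hc, add_zero]
      zero_mem' := zero_smul A y
      smul_mem' := fun c b (hb : b • y = 0) => by
        show (c * b) • y = 0
        rw [mul_smul, hb, smul_zero] }
  have hle : K.comap (algebraMap S A) ≤ q := by
    intro s hs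
    by_contra hsq
    exact hne s hsq ((algebraMap_smul_tensor (A := A) J s y).symm.trans hs)
  haveI : Algebra.IsIntegral S A := Algebra.IsIntegral.of_finite S A
  obtain ⟨Q', hQ'le, hQ', hQ'c⟩ := Ideal.exists_ideal_over_prime_of_isIntegral q K hle
  have := huniq Q' ⟨hQ'c.symm⟩
  exact ha (this ▸ hQ'le hay)

omit [Algebra S A] [IsScalarTower R S A] [IsScalarTower S A M] in
/-- One step at a local base. -/
theorem step_local [IsLocalRing R] [Algebra.FinitePresentation R S] [Module.Flat R S] (hd : DomFib R S)
    (P : Ideal S) [P.IsPrime] (hP : P = (maximalIdeal R).map (algebraMap R S)) (q : Ideal S) [q.IsPrime]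
    (hq : q.LiesOver (maximalIdeal R)) [Module.Finite S M] (hflat : FlatCA.FlatAt R q M) {r : ℕ}
    (α : (Fin r → S) →ₗ[S] M) (hfib : Function.Bijective (α.baseChange P.ResidueField)) :
    FlatCA.UnivInj R (α.restrictScalars R) ∧ FlatCA.FlatAt R q (M ⧸ LinearMap.range α) := by
  subst hP
  have hPq : (maximalIdeal R).map (algebraMap R S) ≤ q := Ideal.map_le_iff_le_comap.2 hq.over.le
  have hPr : ((maximalIdeal R).map (algebraMap R S)).LiesOver (maximalIdeal R) := ⟨le_antisymm
    (fun a ha => Ideal.mem_map_of_mem _ ha)
    (le_maximalIdeal (Ideal.comap_ne_top _ (Ideal.IsPrime.ne_top ‹((maximalIdeal R).map (algebraMap R S)).IsPrime›)))⟩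
  have hunit : ∀ w ∈ Algebra.algebraMapSubmonoid S (maximalIdeal R).primeCompl, IsUnit w := by
    rintro _ ⟨a, ha, rfl⟩
    exact (IsLocalRing.notMem_maximalIdeal.1 ha).map (algebraMap R S)
  have hle : Algebra.algebraMapSubmonoid S (maximalIdeal R).primeCompl ≤ q.primeCompl :=
    fun w hw h => ‹q.IsPrime›.ne_top (q.eq_top_of_isUnit_mem h (hunit w hw))
  obtain ⟨β, hβ⟩ := exists_retractions hd (maximalIdeal R) _ rfl hPr
    (flat_localized_mono (W := q.primeCompl) (W' := ((maximalIdeal R).map (algebraMap R S)).primeCompl) (fun x hx h => hx (hPq h)) hflat) α hfib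
  have h1 := univInjUpTo_of_retractions (Algebra.algebraMapSubmonoid S (maximalIdeal R).primeCompl) _
    (exists_smul_tmul_eq_zero_atPrime hd (maximalIdeal R) _ hPr) α β hβ
  refine ⟨fun Q _ _ => ?_, flat_coker hle h1 hflat⟩
  rw [injective_iff_map_eq_zero]
  intro z hz
  apply (TensorProduct.comm R Q (Fin r → S)).injective
  obtain ⟨w, hw, hwz⟩ := h1 Q (TensorProduct.comm R Q (Fin r → S) z)
    (by rw [LinearMap.rTensor_comm, hz, map_zero])
  rw [map_zero]
  exact (hunit w hw).smul_eq_zero.1 hwz

omit [Algebra R A] [IsScalarTower R S A] [IsScalarTower R A M] in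
/-- A finitely presented module over a finitely presented quotient is finitely presented. -/
theorem fp_of_quotient (hsurj : Function.Surjective (algebraMap S A)) [Algebra.FinitePresentation S A]
    [Module.FinitePresentation A M] : Module.FinitePresentation S M := by
  have hk : (LinearMap.ker (Algebra.linearMap S A)).FG :=
    Algebra.FinitePresentation.ker_fG_of_surjective (Algebra.ofId S A) hsurj
  haveI : Module.FinitePresentation S A :=
    Module.finitePresentation_of_surjective (Algebra.linearMap S A) hsurj hk
  exact Module.FinitePresentation.trans S M A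

omit [Algebra R A] [IsScalarTower R S A] [IsScalarTower R A M] in
/-- Finitely presented over the base of a finite algebra gives finitely presented over the algebra. -/
theorem fp_of_restrict [Module.Finite S A] [Module.Finite A M] [Module.FinitePresentation S M] :
    Module.FinitePresentation A M := by
  obtain ⟨k, π, hπ⟩ := Module.Finite.exists_fin' A M
  refine Module.finitePresentation_of_surjective π hπ ?_
  have h : (LinearMap.ker (π.restrictScalars S)).FG := Module.FinitePresentation.fg_ker (π.restrictScalars S) hπ
  rw [LinearMap.ker_restrictScalars] at h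
  exact Submodule.FG.of_restrictScalars S h

omit [Algebra S A] [Algebra R A] [IsScalarTower R S A] [Module A M] [IsScalarTower S A M] [IsScalarTower R A M] in
/-- A finitely presented cokernel of an injection of a free module gives finite presentation. -/
theorem fp_of_coker {r : ℕ} (α : (Fin r → S) →ₗ[S] M) (hinj : Function.Injective α)
    [Module.FinitePresentation S (M ⧸ LinearMap.range α)] : Module.FinitePresentation S M := by
  haveI : Module.FinitePresentation S (LinearMap.ker (LinearMap.range α).mkQ) :=
    Module.FinitePresentation.of_equiv ((LinearEquiv.ofInjective α hinj).trans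
      (LinearEquiv.ofEq _ _ (Submodule.ker_mkQ _).symm))
  exact Module.finitePresentation_of_ker (LinearMap.range α).mkQ (Submodule.mkQ_surjective _)

omit [Algebra S A] [Algebra R A] [IsScalarTower R S A] [Module A M] [IsScalarTower S A M] [IsScalarTower R A M] in
/-- A free cokernel over the base splits off. -/
theorem nonempty_prod_equiv {r : ℕ} (α : (Fin r → S) →ₗ[S] M) (hinj : Function.Injective α)
    {Q : Type u} [AddCommGroup Q] [Module R Q] [Module.Projective R Q]
    (e : (M ⧸ LinearMap.range α) ≃ₗ[R] Q) : Nonempty (M ≃ₗ[R] (Fin r → S) × Q) := by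
  let g : M →ₗ[R] Q := e.toLinearMap ∘ₗ ((LinearMap.range α).mkQ.restrictScalars R)
  have hg : Function.Surjective g := e.surjective.comp (Submodule.mkQ_surjective _)
  obtain ⟨s, hs⟩ := Module.projective_lifting_property g LinearMap.id hg
  have hex : Function.Exact (α.restrictScalars R) g := by
    intro m
    show e ((LinearMap.range α).mkQ m) = 0 ↔ _
    rw [e.map_eq_zero_iff, Submodule.mkQ_apply, Submodule.Quotient.mk_eq_zero]
    rfl
  exact ⟨(hex.splitSurjectiveEquiv hinj ⟨s, hs⟩).1⟩

end Groth.Agent.RG

namespace Groth.Agent.RG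

/-- Transport of flatness at a prime along a linear equivalence. -/
theorem flatAt_congr {R S M M' : Type u} [CommRing R] [CommRing S] [Algebra R S] (q : Ideal S) [q.IsPrime]
    [AddCommGroup M] [Module S M] [Module R M] [IsScalarTower R S M] [AddCommGroup M'] [Module S M'] [Module R M']
    [IsScalarTower R S M'] (e : M ≃ₗ[S] M') (h : FlatCA.FlatAt R q M) : FlatCA.FlatAt R q M' := by
  rw [FlatCA.FlatAt, FlatModel.flat_localized_iff q.primeCompl (LocalizedModule.mkLinearMap q.primeCompl M')]
  intro J y hy
  obtain ⟨x, rfl⟩ := (e.toLinearMap.restrictScalars R).rTensor_surjective J e.surjective y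
  have hx : J.subtype.lTensor M x = 0 := by
    apply (LinearEquiv.rTensor R (e.restrictScalars R)).injective
    rw [map_zero, ← hy]
    exact DFunLike.congr_fun ((LinearMap.rTensor_comp_lTensor (f := (e.toLinearMap.restrictScalars R)) (g := J.subtype)).trans
      (LinearMap.lTensor_comp_rTensor (f := (e.toLinearMap.restrictScalars R)) (g := J.subtype)).symm) x
  obtain ⟨s, hs, hsx⟩ :=
    (FlatModel.flat_localized_iff q.primeCompl (LocalizedModule.mkLinearMap q.primeCompl M)).1 h J x hx
  refine ⟨s, hs, ?_⟩
  rw [show s • (e.toLinearMap.restrictScalars R).rTensor J x = (e.toLinearMap.restrictScalars R).rTensor J (s • x) from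
    ((AlgebraTensorModule.rTensor R J e.toLinearMap).map_smul s x).symm, hsx, map_zero]

/-- Split off the first index. -/
def piSubtypeSplit (R : Type u) [CommRing R] {n : ℕ} (X : Fin n → Type u) [∀ j, AddCommGroup (X j)] [∀ j, Module R (X j)]
    (i : Fin n) : (∀ j : {j : Fin n // i.1 ≤ j.1}, X j.1) ≃ₗ[R] X i × (∀ j : {j : Fin n // i.1 + 1 ≤ j.1}, X j.1) where
  toFun g := (g ⟨i, le_rfl⟩, fun j => g ⟨j.1, Nat.le_of_succ_le j.2⟩)
  invFun g j := if h : i = j.1 then h ▸ g.1 else g.2 ⟨j.1, lt_of_le_of_ne j.2 fun h' => h (Fin.ext h')⟩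
  map_add' _ _ := rfl
  map_smul' _ _ := rfl
  left_inv g := by
    funext ⟨j, hj⟩
    by_cases h : i = j
    · subst h
      simp
    · simp [h]
  right_inv g := by
    refine Prod.ext (by simp) (funext fun ⟨j, hj⟩ => ?_)
    have h : ¬ i = j := fun h => absurd hj (h ▸ Nat.not_succ_le_self _)
    simp [h]

end Groth.Agent.RG
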