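import Groth.Agent.RG.Devissage
import Groth.Agent.S1231
import Mathlib.RingTheory.Spectrum.Prime.Chevalley

/-!
# Flatness under an étale neighbourhood and a finite map
-/

set_option autoImplicit false
set_option linter.style.haveILetI false
set_option linter.unusedSectionVars false
set_option backward.isDefEq.respectTransparency false
set_option maxHeartbeats 1000000

universe u

open TensorProduct

namespace Groth.Agent.RG

section

variable {R S : Type u} [CommRing R] [CommRing S] [Algebra R S] {N : Type u} [AddCommGroup N] [Module S N]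
  [Module R N] [IsScalarTower R S N]

/-- Flatness at every prime of a basic open gives flatness on it. -/
theorem flat_powers_of_forall (g : S) (h : ∀ (Q : Ideal S) [Q.IsPrime], g ∉ Q → FlatCA.FlatAt R Q N) :
    Module.Flat R (LocalizedModule (Submonoid.powers g) N) := by
  rw [FlatModel.flat_localized_iff (Submonoid.powers g) (LocalizedModule.mkLinearMap (Submonoid.powers g) N)]
  intro J y hy
  have h1 : g ∈ Ideal.radical (LinearMap.ker (LinearMap.toSpanSingleton S (N ⊗[R] J) y)) := by
    rw [Ideal.radical_eq_sInf, Submodule.mem_sInf]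
    intro Q hQ
    haveI := hQ.2
    by_contra hg
    obtain ⟨s, hs, hsy⟩ := (FlatModel.flat_localized_iff (Ideal.primeCompl Q) (LocalizedModule.mkLinearMap (Ideal.primeCompl Q) N)).1 (h Q hg) J y hy
    exact hs (hQ.1 hsy)
  obtain ⟨k, hk⟩ := h1
  exact ⟨g ^ k, ⟨k, rfl⟩, hk⟩

theorem flatAt_of_powers {g : S} (h : Module.Flat R (LocalizedModule (Submonoid.powers g) N)) (Q : Ideal S) [Q.IsPrime]
    (hg : g ∉ Q) : FlatCA.FlatAt R Q N :=
  flat_localized_mono (Submonoid.powers_le.2 hg) h

variable {S' : Type u} [CommRing S'] [Algebra S S'] [Algebra R S'] [IsScalarTower R S S'] [Module.Flat S S']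

theorem assoc_natural (J : Ideal R) (z : (S' ⊗[S] N) ⊗[R] J) :
    J.subtype.lTensor (S' ⊗[S] N) z =
      (AlgebraTensorModule.assoc R S S' S' N R).symm
        (LinearMap.baseChange S' (AlgebraTensorModule.lTensor S N J.subtype) (AlgebraTensorModule.assoc R S S' S' N J z)) := by
  induction z using TensorProduct.induction_on with
  | zero => simp only [map_zero]
  | add a b ha hb => simp only [map_add, ha, hb]
  | tmul x j =>
    induction x using TensorProduct.induction_on with
    | zero => simp only [zero_tmul, map_zero]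
    | add a b ha hb => simp only [add_tmul, map_add, ha, hb]
    | tmul a n => simp

/-- Base change along a flat algebra: flatness descends at a prime. -/
theorem flatAt_of_baseChange (q' : Ideal S') [q'.IsPrime] (q : Ideal S) [q.IsPrime] (hq : q'.LiesOver q)
    (h : FlatCA.FlatAt R q' (S' ⊗[S] N)) : FlatCA.FlatAt R q N := by
  rw [FlatCA.FlatAt, FlatModel.flat_localized_iff q.primeCompl (LocalizedModule.mkLinearMap q.primeCompl N)]
  intro J y hy
  by_contra hne
  push Not at hne
  let z := (AlgebraTensorModule.assoc R S S' S' N J).symm ((1 : S') ⊗ₜ[S] y)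
  have hz : J.subtype.lTensor (S' ⊗[S] N) z = 0 := by
    rw [assoc_natural, LinearEquiv.apply_symm_apply, LinearMap.baseChange_tmul]
    show (AlgebraTensorModule.assoc R S S' S' N R).symm ((1 : S') ⊗ₜ[S] J.subtype.lTensor N y) = 0
    rw [hy, tmul_zero, map_zero]
  obtain ⟨s', hs', hsz⟩ :=
    (FlatModel.flat_localized_iff q'.primeCompl (LocalizedModule.mkLinearMap q'.primeCompl (S' ⊗[S] N))).1 h J z hz
  have h1 : s' ⊗ₜ[S] y = 0 := by
    have := congrArg (AlgebraTensorModule.assoc R S S' S' N J) hsz
    rwa [map_smul, LinearEquiv.apply_symm_apply, map_zero, smul_tmul', smul_eq_mul, mul_one] at this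
  let K : Ideal S := LinearMap.ker (LinearMap.toSpanSingleton S (N ⊗[R] J) y)
  have hK : K ≤ q := fun a ha => by
    by_contra haq
    exact hne a haq ha
  let θ : (S ⧸ K) →ₗ[S] N ⊗[R] J := Submodule.liftQ K (LinearMap.toSpanSingleton S _ y) le_rfl
  have hθ : Function.Injective θ := by
    rw [← LinearMap.ker_eq_bot]
    exact Submodule.ker_liftQ_eq_bot _ _ _ le_rfl
  have h2 : (Ideal.Quotient.mk K 1) ⊗ₜ[S] s' = (0 : (S ⧸ K) ⊗[S] S') := by
    apply (TensorProduct.comm S (S ⧸ K) S').injective
    apply Module.Flat.lTensor_preserves_injective_linearMap (M := S') θ hθ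
    rw [map_zero, map_zero, TensorProduct.comm_tmul, LinearMap.lTensor_tmul]
    show s' ⊗ₜ[S] θ (Submodule.Quotient.mk 1) = 0
    rw [Submodule.liftQ_apply, LinearMap.toSpanSingleton_apply, one_smul]
    exact h1
  rw [← mem_map_iff_tmul_eq_zero] at h2
  exact hs' (Ideal.map_le_iff_le_comap.2 (hK.trans hq.over.le) h2)

/-- Base change along a flat algebra preserves flatness of localisations. -/
theorem flat_localized_baseChange {W : Submonoid S} {V : Submonoid S'} (hWV : ∀ w ∈ W, algebraMap S S' w ∈ V)
    (h : Module.Flat R (LocalizedModule W N)) : Module.Flat R (LocalizedModule V (S' ⊗[S] N)) := by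
  refine (FlatModel.flat_localized_iff (R := R) (M := S' ⊗[S] N) (N := LocalizedModule V (S' ⊗[S] N)) V
    (LocalizedModule.mkLinearMap V (S' ⊗[S] N))).2 ?_
  intro J z hz
  let evJ' : N ⊗[R] J →ₗ[S] N ⊗[R] R := AlgebraTensorModule.lTensor S N J.subtype
  have hz' : evJ'.baseChange S' (AlgebraTensorModule.assoc R S S' S' N J z) = 0 := by
    rw [assoc_natural] at hz
    exact (LinearEquiv.map_eq_zero_iff _).1 hz
  obtain ⟨x, hx⟩ : AlgebraTensorModule.assoc R S S' S' N J z ∈ LinearMap.range ((LinearMap.ker evJ').subtype.baseChange S') := by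
    have hex : Function.Exact ((LinearMap.ker evJ').subtype.lTensor S') (evJ'.lTensor S') :=
      Module.Flat.lTensor_exact S' (LinearMap.exact_subtype_ker_map evJ')
    exact (hex _).1 hz'
  have hker : ∀ k : LinearMap.ker evJ', ∃ w ∈ W, w • (k : N ⊗[R] J) = 0 := fun k =>
    (FlatModel.flat_localized_iff W (LocalizedModule.mkLinearMap W N)).1 h J k k.2
  have : ∃ w ∈ W, algebraMap S S' w • (LinearMap.ker evJ').subtype.baseChange S' x = 0 := by
    clear hx
    induction x using TensorProduct.induction_on with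
    | zero => exact ⟨1, one_mem _, by rw [map_zero, smul_zero]⟩
    | add a b ha hb =>
      obtain ⟨w₁, hw₁, h₁⟩ := ha
      obtain ⟨w₂, hw₂, h₂⟩ := hb
      refine ⟨w₁ * w₂, mul_mem hw₁ hw₂, ?_⟩
      rw [map_add, map_mul, smul_add, mul_smul, mul_smul, h₂, smul_zero, add_zero, smul_comm, h₁, smul_zero]
    | tmul a k =>
      obtain ⟨w, hw, hwk⟩ := hker k
      refine ⟨w, hw, ?_⟩
      rw [LinearMap.baseChange_tmul, algebraMap_smul, ← tmul_smul]
      show a ⊗ₜ[S] (w • (k : N ⊗[R] J)) = 0
      rw [hwk, tmul_zero]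
  obtain ⟨w, hw, hwx⟩ := this
  refine ⟨algebraMap S S' w, hWV w hw, ?_⟩
  apply (AlgebraTensorModule.assoc R S S' S' N J).injective
  rw [map_smul, map_zero, ← hx]
  exact hwx

end

/-- Avoiding the other primes over `y` from downstairs. -/
theorem exists_mul_eq_algebraMap {D C : Type u} [CommRing D] [CommRing C] [Algebra D C] [Module.Finite D C]
    (y : Ideal D) [y.IsPrime] (z : Ideal C) [z.IsPrime] (huniq : ∀ (Q : Ideal C) [Q.IsPrime], Q.LiesOver y → Q = z)
    {c : C} (hc : c ∉ z) : ∃ e, e ∉ y ∧ ∃ b, algebraMap D C e = b * c := by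
  by_contra hne
  push Not at hne
  have hle : (Ideal.span {c}).comap (algebraMap D C) ≤ y := fun e he => by
    by_contra hey
    obtain ⟨b, hb⟩ := Ideal.mem_span_singleton'.1 (Ideal.mem_comap.1 he)
    exact hne e hey b hb.symm
  haveI : Algebra.IsIntegral D C := Algebra.IsIntegral.of_finite D C
  obtain ⟨Q, hQle, hQ, hQc⟩ := Ideal.exists_ideal_over_prime_of_isIntegral y _ hle
  have := huniq Q ⟨hQc.symm⟩
  exact hc (this ▸ hQle (Ideal.mem_span_singleton_self c))

end Groth.Agent.RG
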