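import Groth.Agent.ZClosLib.PurityBC
import Groth.Agent.ZClosLib.PurityQF
import Groth.Agent.S8999
import Groth.Agent.S1212

/-!
# Projective modules are universally pure
-/

set_option autoImplicit false
set_option linter.style.haveILetI false
set_option linter.unusedSectionVars false
set_option backward.isDefEq.respectTransparency false
set_option backward.isDefEq.respectTransparency.types false
set_option maxHeartbeats 1000000

universe u

open TensorProduct IsLocalRing Groth.Agent.ZClosLib

namespace Groth.Agent.RG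

attribute [local instance] Algebra.TensorProduct.rightAlgebra

/-- Over a local ring, an associated point of any fibre of a projective module specialises into the closed fibre. -/
theorem exists_specialization_of_projective {R S : Type u} [CommRing R] [IsLocalRing R] [CommRing S] [Algebra R S]
    [Algebra.FiniteType R S] (N : Type u) [AddCommGroup N] [Module S N] [Module R N] [IsScalarTower R S N]
    [Module.Finite S N] [Module.Projective R N] (p : Ideal R) [p.IsPrime] (P : Ideal S) [P.IsPrime] [P.LiesOver p]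
    (hass : FlatCA.fiberIdeal p P ∈ associatedPrimes (p.Fiber S) (FlatCA.fiberMod p S N)) :
    ∃ P' : Ideal S, P'.IsPrime ∧ P ≤ P' ∧ P'.LiesOver (maximalIdeal R) := by
  haveI : IsNoetherianRing ((maximalIdeal R).Fiber S) :=
    Algebra.FiniteType.isNoetherianRing (maximalIdeal R).ResidueField _
  haveI : Module.Finite ((maximalIdeal R).Fiber S) (FlatCA.fiberMod (maximalIdeal R) S N) :=
    NzdUnivInj.finite_fiberMod (maximalIdeal R) N
  obtain ⟨Q, hPQ, hQ⟩ := S8999.exists_ass_of_assoc p N hass
  haveI := (S8999.assoc_of_ass p N hQ).1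
  obtain ⟨hQp, n, hn⟩ := (S8999.mem_ass_iff p N Q).1 hQ
  haveI := hQp
  have hQ' : Q ∈ FlatCA.ass S (N ⊗[R] p.ResidueField) := by
    refine ⟨hQp, n ⊗ₜ 1, ?_⟩
    ext b
    rw [hn, Submodule.mem_annihilator_span_singleton, TensorProduct.smul_tmul',
      ← PurityBC.toFiberMod_eq_zero_iff (S := S) p N (b • n), ← PurityQF.one_tmul_eq_zero_iff (S := S) p N (b • n),
      ← (TensorProduct.comm R p.ResidueField N).map_eq_zero_iff, TensorProduct.comm_tmul]
  obtain ⟨P', hP', hle⟩ := Ideal.exists_le_maximal _ (S1212.result N p Q hQ')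
  refine ⟨P', hP'.isPrime, hPQ.trans (le_sup_left.trans hle), ⟨?_⟩⟩
  exact ((IsLocalRing.maximalIdeal.isMaximal R).eq_of_le
    (fun h => hP'.ne_top ((Ideal.eq_top_iff_one _).2 ((map_one (algebraMap R S)) ▸
      (show (1 : R) ∈ P'.under R from h ▸ Submodule.mem_top))))
    (Ideal.map_le_iff_le_comap.1 (le_sup_right.trans hle)))

/-- No impurity with a local base over which the module is projective. -/
theorem not_impurity_of_projective {A B : Type u} [CommRing A] [CommRing B] [Algebra A B] [Algebra.FiniteType A B]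
    {N : Type u} [AddCommGroup N] [Module B N] [Module A N] [IsScalarTower A B N] [Module.Finite B N]
    {p : Ideal A} [p.IsPrime] (A₂ : Type u) [CommRing A₂] [IsLocalRing A₂] [Algebra A A₂]
    [Module.Projective A₂ (A₂ ⊗[A] N)] (B₂ : Type u) [CommRing B₂] [Algebra A B₂] [Algebra B B₂] [Algebra A₂ B₂]
    [IsScalarTower A B B₂] [IsScalarTower A A₂ B₂] (N₂ : Type u) [AddCommGroup N₂] [Module B₂ N₂] [Module B N₂]
    [IsScalarTower B B₂ N₂] [Module A₂ N₂] [IsScalarTower A₂ B₂ N₂] (f₂ : N →ₗ[B] N₂)
    (t' : Ideal A₂) [t'.IsPrime] (P : Ideal B₂) [P.IsPrime] :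
    ¬ FlatCA.IsImpurity A B N p A₂ B₂ N₂ f₂ t' (maximalIdeal A₂) P := by
  rintro ⟨hpo, hf, -, -, hPt, hass, hno⟩
  haveI := hpo
  haveI := hPt
  haveI : Algebra.FiniteType A₂ B₂ := PurityBC.finiteType_of_isPushout A B A₂ B₂
  haveI : Algebra.IsPushout A A₂ B B₂ := Algebra.IsPushout.symm inferInstance
  haveI : Module.Finite B₂ N₂ := Module.Finite.equiv hf.equiv
  haveI : SMulCommClass B A₂ B₂ :=
    ⟨fun s a c => by rw [← algebraMap_smul B₂ a c, ← algebraMap_smul B₂ a (s • c), smul_comm]⟩
  haveI : Module.Projective A₂ N₂ := Module.Projective.of_equiv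
    (((Algebra.IsPushout.cancelBaseChange A A₂ B B₂ N).restrictScalars A₂).symm ≪≫ₗ hf.equiv.restrictScalars A₂)
  obtain ⟨P', hP', hle', hP'm⟩ := exists_specialization_of_projective (R := A₂) N₂ t' P hass
  exact hno P' hle' hP'm

/-- An impurity moves to the local ring at its point. -/
theorem not_impurity_of_projective' {A B : Type u} [CommRing A] [CommRing B] [Algebra A B] [Algebra.FiniteType A B]
    {N : Type u} [AddCommGroup N] [Module B N] [Module A N] [IsScalarTower A B N] [Module.Finite B N]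
    {p : Ideal A} [p.IsPrime] {A' B' N' : Type u} [CommRing A'] [CommRing B'] [Algebra A A'] [Algebra B B']
    [Algebra A' B'] [Algebra A B'] [IsScalarTower A B B'] [IsScalarTower A A' B'] [AddCommGroup N'] [Module B' N']
    [Module B N'] [IsScalarTower B B' N'] [Module A' N'] [IsScalarTower A' B' N'] {f : N →ₗ[B] N'}
    {t' t : Ideal A'} [t'.IsPrime] [t.IsPrime] {P : Ideal B'} [P.IsPrime]
    (A₂ : Type u) [CommRing A₂] [IsLocalRing A₂] [Algebra A A₂] [Algebra A' A₂] [IsScalarTower A A' A₂]
    [Module.Projective A₂ (A₂ ⊗[A] N)] [(maximalIdeal A₂).LiesOver t] (t₂' : Ideal A₂) [t₂'.IsPrime]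
    [t₂'.LiesOver t'] : ¬ FlatCA.IsImpurity A B N p A' B' N' f t' t P := by
  intro himp
  let B₂ := B ⊗[A] A₂
  let N₂ := B₂ ⊗[B] N
  haveI : Algebra.IsPushout A B A₂ B₂ := inferInstance
  letI : Module A₂ N₂ := Module.compHom N₂ (algebraMap A₂ B₂)
  haveI : IsScalarTower A₂ B₂ N₂ := IsScalarTower.of_algebraMap_smul fun _ _ => rfl
  obtain ⟨P₂, hP₂, h⟩ := PurityBC.IsImpurity.propagate himp A₂ B₂ N₂ (TensorProduct.mk B B₂ N 1)
    (TensorProduct.isBaseChange B N B₂) t₂' (maximalIdeal A₂) (IsLocalRing.le_maximalIdeal Ideal.IsPrime.ne_top')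
  haveI := hP₂
  exact not_impurity_of_projective A₂ B₂ N₂ _ t₂' P₂ h

/-- A module whose localisation at `p` is projective is universally pure along `p`. -/
theorem isUnivPureAlong_of_projective {A B : Type u} [CommRing A] [CommRing B] [Algebra A B] [Algebra.FiniteType A B]
    (N : Type u) [AddCommGroup N] [Module B N] [Module A N] [IsScalarTower A B N] [Module.Finite B N]
    (p : Ideal A) [p.IsPrime] (Ap : Type u) [CommRing Ap] [Algebra A Ap] [IsLocalization p.primeCompl Ap]
    [Module.Projective Ap (Ap ⊗[A] N)] : FlatCA.IsUnivPureAlong A B N p := by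
  intro A' B' N' _ _ _ _ _ _ _ _ _ _ _ _ _ _ f t' t _ _ P _ himp
  obtain ⟨-, -, hle, ht, -⟩ := id himp
  haveI := ht
  let A₂ := Localization.AtPrime t
  have hd : Disjoint (t.primeCompl : Set A') (t' : Set A') := Set.disjoint_left.2 fun x hx hx' => hx (hle hx')
  haveI : (t'.map (algebraMap A' A₂)).IsPrime := IsLocalization.isPrime_of_isPrime_disjoint t.primeCompl A₂ t' ‹_› hd
  haveI : (t'.map (algebraMap A' A₂)).LiesOver t' :=
    ⟨(IsLocalization.under_map_of_isPrime_disjoint t.primeCompl A₂ ‹_› hd).symm⟩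
  haveI : (maximalIdeal A₂).LiesOver t := ⟨(Localization.AtPrime.under_maximalIdeal (I := t)).symm⟩
  have hu : ∀ y : p.primeCompl, IsUnit (algebraMap A A₂ y) := fun y => by
    rw [IsScalarTower.algebraMap_apply A A' A₂]
    exact IsLocalization.map_units A₂ (⟨algebraMap A A' y, fun h => y.2 ((SetLike.ext_iff.1 ht.over (y : A)).2 h)⟩ : t.primeCompl)
  letI : Algebra Ap A₂ := (IsLocalization.lift hu).toAlgebra
  haveI : IsScalarTower A Ap A₂ := IsScalarTower.of_algebraMap_eq fun a => (IsLocalization.lift_eq hu a).symm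
  haveI : Module.Projective A₂ (A₂ ⊗[A] N) :=
    Module.Projective.of_equiv (AlgebraTensorModule.cancelBaseChange A Ap A₂ A₂ N)
  exact not_impurity_of_projective' A₂ (t'.map (algebraMap A' A₂)) himp

end Groth.Agent.RG
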