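import Groth.Agent.RG.PureKey
import Groth.Agent.RG.PureProj

/-!
# Purity and projectivity near a point
-/

set_option autoImplicit false
set_option linter.style.haveILetI false
set_option linter.unusedSectionVars false
set_option backward.isDefEq.respectTransparency false
set_option backward.isDefEq.respectTransparency.types false
set_option maxHeartbeats 1000000

universe u

open TensorProduct

namespace Groth.Agent.RG

/-- Projective over a standard open implies universally pure along each of its points. -/
theorem isUnivPureAlong_of_projective_away {A B : Type u} [CommRing A] [CommRing B] [Algebra A B] [Algebra.FiniteType A B]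
    (N : Type u) [AddCommGroup N] [Module B N] [Module A N] [IsScalarTower A B N] [Module.Finite B N]
    (g : A) [Module.Projective (Localization.Away g) (Localization.Away g ⊗[A] N)] (q : Ideal A) [q.IsPrime]
    (hg : g ∉ q) : FlatCA.IsUnivPureAlong A B N q := by
  have hu : IsUnit (algebraMap A (Localization.AtPrime q) g) :=
    IsLocalization.map_units (Localization.AtPrime q) (⟨g, hg⟩ : q.primeCompl)
  letI : Algebra (Localization.Away g) (Localization.AtPrime q) := (IsLocalization.Away.lift g hu).toAlgebra
  haveI : IsScalarTower A (Localization.Away g) (Localization.AtPrime q) :=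
    IsScalarTower.of_algebraMap_eq fun x => (IsLocalization.Away.lift_eq g hu x).symm
  haveI : Module.Projective (Localization.AtPrime q) (Localization.AtPrime q ⊗[A] N) :=
    Module.Projective.of_equiv (AlgebraTensorModule.cancelBaseChange A (Localization.Away g) (Localization.AtPrime q)
      (Localization.AtPrime q) N)
  exact isUnivPureAlong_of_projective N q (Localization.AtPrime q)

/-- Universal purity implies purity. -/
theorem isPureAlong_of_isUnivPureAlong {A B : Type u} [CommRing A] [CommRing B] [Algebra A B] {N : Type u} [AddCommGroup N]
    [Module B N] {p : Ideal A} [p.IsPrime] (h : FlatCA.IsUnivPureAlong A B N p) : FlatCA.IsPureAlong A B N p := by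
  intro A' B' N' _ _ _ _ _ _ _ _ _ _ _ _ _ _ f t' t _ _ P _ _
  exact h A' B' N' f t' t P

end Groth.Agent.RG
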