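import Groth.Agent.RG.StepFibre

/-!
# Pieces of base changed dévissages
-/

set_option autoImplicit false
set_option linter.style.haveILetI false
set_option linter.unusedSectionVars false
set_option backward.isDefEq.respectTransparency false
set_option backward.isDefEq.respectTransparency.types false
set_option maxHeartbeats 1000000

universe u

open TensorProduct

namespace Groth.Agent.RG

attribute [local instance] Algebra.TensorProduct.rightAlgebra

/-- A base change along the bigger algebra is a base change along the smaller one. -/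
theorem isBaseChange_restrict {B B' A A' M M' : Type u} [CommRing B] [CommRing B'] [CommRing A] [CommRing A']
    [Algebra B B'] [Algebra B A] [Algebra B' A'] [Algebra B A'] [Algebra A A'] [IsScalarTower B B' A']
    [IsScalarTower B A A'] [Algebra.IsPushout B A B' A'] [AddCommGroup M] [Module A M] [Module B M]
    [IsScalarTower B A M] [AddCommGroup M'] [Module A' M'] [Module B' M'] [IsScalarTower B' A' M'] [Module A M']
    [IsScalarTower A A' M'] [Module B M'] [IsScalarTower B B' M'] [IsScalarTower B A M'] (g : M →ₗ[A] M')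
    (hg : IsBaseChange A' g) : IsBaseChange B' (g.restrictScalars B) := by
  haveI : Algebra.IsPushout B B' A A' := Algebra.IsPushout.symm inferInstance
  let e : (B' ⊗[B] M) ≃ₗ[B'] M' :=
    (Algebra.IsPushout.cancelBaseChange B B' A A' M).symm ≪≫ₗ hg.equiv.restrictScalars B'
  refine IsBaseChange.of_equiv e fun m => ?_
  show hg.equiv ((Algebra.IsPushout.cancelBaseChange B B' A A' M).symm ((1 : B') ⊗ₜ[B] m)) = g m
  rw [← Algebra.IsPushout.cancelBaseChange_tmul B B' A A' M m, LinearEquiv.symm_apply_apply, hg.equiv_tmul, one_smul]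

variable {R S R' S' : Type u} [CommRing R] [CommRing S] [CommRing R'] [CommRing S'] [Algebra R S] [Algebra R R']
  [Algebra R' S'] [Algebra R S'] [Algebra S S'] [IsScalarTower R R' S'] [IsScalarTower R S S']
  [Algebra.IsPushout R R' S S'] (p : Ideal R) [p.IsPrime] (p' : Ideal R') [p'.IsPrime] [hp' : p'.LiesOver p]

/-- A prime over the point lifts. -/
theorem exists_prime_over (hκ : Function.Bijective (Ideal.ResidueField.mapₐ p p' (Algebra.ofId R R') hp'.over))
    (x : Ideal S) [x.IsPrime] [x.LiesOver p] :
    ∃ (Q : Ideal S') (_ : Q.IsPrime), Q.LiesOver x ∧ Q.LiesOver p' := by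
  let ξ := PrimeSpectrum.primesOverOrderIsoFiber R S p ⟨x, ‹_›, ‹_›⟩
  have hξ : ξ.asIdeal.comap (Algebra.TensorProduct.includeRight : S →ₐ[R] p.Fiber S) = x :=
    congr($((PrimeSpectrum.primesOverOrderIsoFiber R S p).symm_apply_apply ⟨x, ‹_›, ‹_›⟩).1)
  let η := (fiberHomeo S S' p p' hκ).symm ξ
  let Q := (PrimeSpectrum.primesOverOrderIsoFiber R' S' p').symm η
  have hQ : Q.1 = η.asIdeal.comap (Algebra.TensorProduct.includeRight : S' →ₐ[R'] p'.Fiber S') := rfl
  refine ⟨Q.1, Q.2.1, ⟨?_⟩, Q.2.2⟩
  rw [Ideal.under_def, hQ, ← fiberHomeo_comap p p' hκ η, Homeomorph.apply_symm_apply, hξ]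

end Groth.Agent.RG
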