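import Groth.Prelude.Def_FlatCA
import Mathlib.RingTheory.Nakayama
import Mathlib.RingTheory.Flat.EquationalCriterion
import Mathlib.LinearAlgebra.TensorProduct.Prod
import Mathlib.LinearAlgebra.TensorProduct.Quotient

/-!
# Maps from projective modules which are injective modulo all maximal ideals
-/

set_option autoImplicit false
set_option linter.style.haveILetI false
set_option maxHeartbeats 1000000

universe u

open TensorProduct

namespace Groth.Agent.RG

/-- A matrix whose rows are independent modulo every maximal ideal has surjective column map. -/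
theorem exists_combination_of_independent_mod {A : Type u} [CommRing A] {ι κ : Type*} [Fintype ι] [Fintype κ]
    [DecidableEq ι] (a : ι → κ → A)
    (h : ∀ (m : Ideal A), m.IsMaximal → ∀ lam : ι → A, (∀ k, ∑ i, lam i * a i k ∈ m) → ∀ i, lam i ∈ m) (i : ι) :
    ∃ μ : κ → A, ∀ j, ∑ k, a j k * μ k = if j = i then 1 else 0 := by
  classical
  let φ : (κ → A) →ₗ[A] (ι → A) := LinearMap.pi fun j => ∑ k, a j k • LinearMap.proj k
  have hφ : ∀ μ j, φ μ j = ∑ k, a j k * μ k := fun μ j => by simp [φ]
  suffices hs : LinearMap.range φ = ⊤ by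
    obtain ⟨μ, hμ⟩ := LinearMap.range_eq_top.1 hs (fun j => if j = i then 1 else 0)
    exact ⟨μ, fun j => by rw [← hφ, hμ]⟩
  by_contra hne
  obtain ⟨m, hm, hle⟩ : ∃ m : Ideal A, m.IsMaximal ∧ ∀ c : A, (∀ x, c • x ∈ LinearMap.range φ) → c ∈ m := by
    obtain ⟨m, hm, hle⟩ := Ideal.exists_le_maximal ((LinearMap.range φ).colon Set.univ) fun ht => hne <|
      Submodule.eq_top_iff'.2 fun x => by
        have := Submodule.mem_colon.1 ((Ideal.eq_top_iff_one _).1 ht) x trivial
        rwa [one_smul] at this
    exact ⟨m, hm, fun c hc => hle (Submodule.mem_colon.2 fun x _ => hc x)⟩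
  have htop : LinearMap.range φ ⊔ m • (⊤ : Submodule A (ι → A)) = ⊤ := by
    let _ := Ideal.Quotient.field m
    let π : (ι → A) →ₗ[A] (ι → A ⧸ m) := LinearMap.pi fun j => (Algebra.linearMap A (A ⧸ m)).comp (LinearMap.proj j)
    let R' : Submodule (A ⧸ m) (ι → A ⧸ m) := Submodule.span (A ⧸ m) (π '' (LinearMap.range φ : Set (ι → A)))
    have hR : R' = ⊤ := by
      by_contra hR
      obtain ⟨f, hf0, hf⟩ := Submodule.exists_le_ker_of_lt_top R' (lt_top_iff_ne_top.2 hR)
      choose lam hlam using fun j => Ideal.Quotient.mk_surjective (f (Pi.single j 1))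
      have hlamk : ∀ k, ∑ j, lam j * a j k ∈ m := fun k => by
        have h1 : f (π (φ (Pi.single k 1))) = 0 := hf (Submodule.subset_span ⟨_, ⟨_, rfl⟩, rfl⟩)
        rw [← Ideal.Quotient.eq_zero_iff_mem, map_sum]
        rw [show π (φ (Pi.single k 1)) = ∑ j, Ideal.Quotient.mk m (a j k) • Pi.single j (1 : A ⧸ m) from ?_,
          map_sum] at h1
        · rw [← h1]
          refine Finset.sum_congr rfl fun j _ => ?_
          rw [map_smul, smul_eq_mul, ← hlam, map_mul, mul_comm]
        · funext j
          simp [π, hφ, Pi.single_apply, Finset.sum_apply]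
      refine hf0 ((Pi.basisFun (A ⧸ m) ι).ext fun j => ?_)
      rw [Pi.basisFun_apply, LinearMap.zero_apply, ← hlam, Ideal.Quotient.eq_zero_iff_mem]
      exact h m hm lam hlamk j
    refine Submodule.eq_top_iff'.2 fun x => ?_
    have hx : π x ∈ R' := hR ▸ Submodule.mem_top
    obtain ⟨y, hy, hyx⟩ : ∃ y ∈ LinearMap.range φ, π y = π x := by
      have h1 : ∀ z ∈ R', ∃ y ∈ LinearMap.range φ, π y = z := fun z hz => by
        induction hz using Submodule.span_induction with
        | mem z hz => obtain ⟨y, hy, rfl⟩ := hz; exact ⟨y, hy, rfl⟩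
        | zero => exact ⟨0, zero_mem _, map_zero _⟩
        | add z w _ _ hz hw =>
          obtain ⟨y, hy, rfl⟩ := hz
          obtain ⟨y', hy', rfl⟩ := hw
          exact ⟨y + y', add_mem hy hy', map_add _ _ _⟩
        | smul c z _ hz =>
          obtain ⟨y, hy, rfl⟩ := hz
          obtain ⟨c, rfl⟩ := Ideal.Quotient.mk_surjective c
          exact ⟨c • y, Submodule.smul_mem _ _ hy, by rw [map_smul]; rfl⟩
      exact h1 _ hx
    refine Submodule.mem_sup.2 ⟨y, hy, x - y, ?_, add_sub_cancel _ _⟩
    have hz : ∀ j, (x - y) j ∈ m := fun j => by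
      have := congrFun hyx j
      simp only [π, LinearMap.pi_apply, LinearMap.comp_apply, LinearMap.proj_apply, Algebra.linearMap_apply] at this
      rw [Pi.sub_apply, ← Ideal.Quotient.eq_zero_iff_mem, map_sub]
      exact sub_eq_zero.2 this.symm
    rw [show x - y = ∑ j, (x - y) j • Pi.single j (1 : A) from by
      funext l; simp [Pi.single_apply, Finset.sum_apply]]
    exact Submodule.sum_mem _ fun j _ => Submodule.smul_mem_smul (hz j) trivial
  obtain ⟨r, hr, hr0⟩ := Submodule.exists_sub_one_mem_and_smul_eq_zero_of_fg_of_le_smul m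
    (⊤ : Submodule A ((ι → A) ⧸ LinearMap.range φ)) Module.Finite.fg_top (fun z _ => by
      obtain ⟨x, rfl⟩ := Submodule.Quotient.mk_surjective _ z
      obtain ⟨y, hy, w, hw, rfl⟩ := Submodule.mem_sup.1 (htop.ge (Submodule.mem_top (x := x)))
      rw [Submodule.Quotient.mk_add, (Submodule.Quotient.mk_eq_zero _).2 hy, zero_add]
      have := Submodule.mem_map_of_mem (f := (LinearMap.range φ).mkQ) hw
      rw [Submodule.map_smul''] at this
      exact Submodule.smul_mono le_rfl le_top this)
  have hrm : r ∈ m := hle r fun x => by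
    rw [← Submodule.Quotient.mk_eq_zero, Submodule.Quotient.mk_smul]
    exact hr0 _ trivial
  exact hm.ne_top ((Ideal.eq_top_iff_one _).2 (by simpa using m.sub_mem hrm hr))

/-- From a free module into a flat module: injective modulo all maximal ideals implies universally injective. -/
theorem univInj_of_free_of_mod_maximal {A F M : Type u} [CommRing A] [AddCommGroup F] [Module A F] [Module.Free A F]
    [AddCommGroup M] [Module A M] [Module.Flat A M] (u : F →ₗ[A] M)
    (h : ∀ (m : Ideal A), m.IsMaximal → ∀ x, u x ∈ m • (⊤ : Submodule A M) → x ∈ m • (⊤ : Submodule A F)) :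
    FlatCA.UnivInj A u := by
  classical
  intro X _ _
  rw [injective_iff_map_eq_zero]
  intro z hz
  let b := Module.Free.chooseBasis A F
  let e : X ⊗[A] F ≃ₗ[A] _ := (LinearEquiv.lTensor X b.repr).trans (TensorProduct.finsuppScalarRight A A X _)
  let c := e z
  have hzc : z = ∑ i ∈ c.support, c i ⊗ₜ[A] b i := by
    apply e.injective
    rw [map_sum]
    conv_lhs => rw [show e z = c from rfl, ← c.sum_single, Finsupp.sum]
    exact Finset.sum_congr rfl fun i _ => by simp [e, TensorProduct.finsuppScalarRight_apply_tmul]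
  rw [hzc, map_sum] at hz
  simp only [LinearMap.lTensor_tmul] at hz
  rw [← Finset.sum_coe_sort] at hz
  let K : Submodule A X := Submodule.span A (Set.range fun i : c.support => c i)
  have hz'' : ∑ i : c.support, (⟨c i, Submodule.subset_span ⟨i, rfl⟩⟩ : K) ⊗ₜ[A] u (b i) = 0 := by
    apply Module.Flat.rTensor_preserves_injective_linearMap (M := M) K.subtype K.injective_subtype
    rw [map_sum, map_zero]
    exact hz
  have htop : Submodule.span A (Set.range fun i : c.support => (⟨c i, Submodule.subset_span ⟨i, rfl⟩⟩ : K)) = ⊤ := by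
    apply Submodule.map_injective_of_injective K.injective_subtype
    rw [Submodule.map_span, Submodule.map_top, Submodule.range_subtype, ← Set.range_comp]
    rfl
  obtain ⟨k, a, y, hy, ha⟩ := TensorProduct.vanishesTrivially_of_sum_tmul_eq_zero A
    (m := fun i : c.support => (⟨c i, Submodule.subset_span ⟨i, rfl⟩⟩ : K)) (n := fun i : c.support => u (b i)) htop hz''
  have hindep : ∀ (m : Ideal A), m.IsMaximal → ∀ lam : c.support → A,
      (∀ l, ∑ i, lam i * a i l ∈ m) → ∀ i, lam i ∈ m := by
    intro m hm lam hlam i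
    have hu : u (∑ i : c.support, lam i • b i) ∈ m • (⊤ : Submodule A M) := by
      rw [map_sum, show (∑ j : c.support, u (lam j • b j)) = ∑ l, (∑ j, lam j * a j l) • y l from ?_]
      · exact Submodule.sum_mem _ fun l _ => Submodule.smul_mem_smul (hlam l) trivial
      · simp only [map_smul, Finset.sum_smul, hy, Finset.smul_sum, smul_smul]
        exact Finset.sum_comm
    have hx := h m hm _ hu
    have h1 : b.repr (∑ j : c.support, lam j • b j) i.1 ∈ m := by
      refine Submodule.smul_induction_on hx (fun a ha w _ => ?_) (fun v w hv hw => ?_)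
      · rw [map_smul, Finsupp.smul_apply, smul_eq_mul]; exact m.mul_mem_right _ ha
      · rw [map_add, Finsupp.add_apply]; exact add_mem hv hw
    rw [map_sum, Finsupp.finsetSum_apply, Finset.sum_eq_single i (fun j _ hj => ?_) (fun hh => absurd (Finset.mem_univ i) hh)] at h1
    · simpa using h1
    · rw [map_smul, Finsupp.smul_apply, b.repr_self, Finsupp.single_eq_of_ne (fun h => hj (Subtype.ext h).symm), smul_zero]
  rw [hzc]
  refine Finset.sum_eq_zero fun i hi => ?_
  suffices hci : c i = 0 by rw [hci, TensorProduct.zero_tmul]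
  obtain ⟨μ, hμ⟩ := exists_combination_of_independent_mod a hindep ⟨i, hi⟩
  have h0 : ∑ j : c.support, (∑ l, a j l * μ l) • c j = 0 := by
    simp only [Finset.sum_smul]
    rw [Finset.sum_comm]
    refine Finset.sum_eq_zero fun l _ => ?_
    have := congrArg (K.subtype) (ha l)
    rw [map_sum, map_zero] at this
    rw [show (∑ j : c.support, (a j l * μ l) • c j) = μ l • ∑ j : c.support, a j l • c j from by
      rw [Finset.smul_sum]; exact Finset.sum_congr rfl fun j _ => by rw [smul_smul, mul_comm]]
    rw [show (∑ j : c.support, a j l • c j) = 0 from this, smul_zero]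
  simp only [hμ, ite_smul, one_smul, zero_smul, Finset.sum_ite_eq', Finset.mem_univ, if_true] at h0
  exact h0

end Groth.Agent.RG

namespace Groth.Agent.RG

theorem flat_prod_of_flat {S X Y : Type u} [CommRing S] [AddCommGroup X] [Module S X] [AddCommGroup Y]
    [Module S Y] [Module.Flat S X] [Module.Flat S Y] : Module.Flat S (X × Y) := by
  rw [Module.Flat.iff_lTensor_preserves_injective_linearMap]
  intro N N' _ _ _ _ g hg
  have h1 := Module.Flat.lTensor_preserves_injective_linearMap (M := X) g hg
  have h2 := Module.Flat.lTensor_preserves_injective_linearMap (M := Y) g hg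
  have key : (TensorProduct.prodLeft S S X Y N').toLinearMap ∘ₗ g.lTensor (X × Y) =
      (g.lTensor X).prodMap (g.lTensor Y) ∘ₗ (TensorProduct.prodLeft S S X Y N).toLinearMap := by
    refine TensorProduct.ext' fun p n => ?_
    obtain ⟨p₁, p₂⟩ := p
    simp
  intro a b hab
  have ha := LinearMap.congr_fun key a
  have hb := LinearMap.congr_fun key b
  simp only [LinearMap.comp_apply, LinearEquiv.coe_coe, hab] at ha hb
  have := ha.symm.trans hb
  rw [LinearMap.prodMap_apply, LinearMap.prodMap_apply, Prod.mk.injEq] at this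
  exact (TensorProduct.prodLeft S S X Y N).injective (Prod.ext (h1 this.1) (h2 this.2))

/-- From a projective module into a flat module. -/
theorem univInj_of_projective_of_mod_maximal {A P M : Type u} [CommRing A] [AddCommGroup P] [Module A P]
    [Module.Projective A P] [AddCommGroup M] [Module A M] [Module.Flat A M] (u : P →ₗ[A] M)
    (h : ∀ (m : Ideal A), m.IsMaximal → ∀ x, u x ∈ m • (⊤ : Submodule A M) → x ∈ m • (⊤ : Submodule A P)) :
    FlatCA.UnivInj A u := by
  obtain ⟨s, hs⟩ := Module.projective_def'.mp ‹Module.Projective A P›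
  let π : (P →₀ A) →ₗ[A] P := Finsupp.linearCombination A id
  have hπs : ∀ x, π (s x) = x := fun x => LinearMap.congr_fun hs x
  let v : (P →₀ A) →ₗ[A] M × (P →₀ A) := LinearMap.prod (u ∘ₗ π) (LinearMap.id - s ∘ₗ π)
  have hmap : ∀ (m : Ideal A) {Y Z : Type u} [AddCommGroup Y] [Module A Y] [AddCommGroup Z] [Module A Z]
      (f : Y →ₗ[A] Z) (y : Y), y ∈ m • (⊤ : Submodule A Y) → f y ∈ m • (⊤ : Submodule A Z) := by
    intro m Y Z _ _ _ _ f y hy
    have := Submodule.mem_map_of_mem (f := f) hy
    rw [Submodule.map_smul''] at this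
    exact Submodule.smul_mono le_rfl le_top this
  have : Module.Flat A (M × (P →₀ A)) := flat_prod_of_flat
  have hv : FlatCA.UnivInj A v := univInj_of_free_of_mod_maximal v fun m hm x hx => by
    have h1 : π x ∈ m • (⊤ : Submodule A P) := h m hm _ (hmap m (LinearMap.fst A M (P →₀ A)) _ hx)
    have h2 : x - s (π x) ∈ m • (⊤ : Submodule A (P →₀ A)) := hmap m (LinearMap.snd A M (P →₀ A)) _ hx
    have h3 : x - s (π x) + s (π x) ∈ m • (⊤ : Submodule A (P →₀ A)) := add_mem h2 (hmap m s _ h1)
    rwa [sub_add_cancel] at h3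
  intro X _ _
  rw [injective_iff_map_eq_zero]
  intro z hz
  have hcomp : v ∘ₗ s = (LinearMap.inl A M (P →₀ A)) ∘ₗ u := LinearMap.ext fun x => by
    simp [v, hπs]
  have h1 : s.lTensor X z = 0 := hv X (by
    rw [map_zero, ← LinearMap.comp_apply, ← LinearMap.lTensor_comp, hcomp, LinearMap.lTensor_comp,
      LinearMap.comp_apply, hz, map_zero])
  have h2 := congrArg (π.lTensor X) h1
  rwa [map_zero, ← LinearMap.comp_apply, ← LinearMap.lTensor_comp, hs, LinearMap.lTensor_id, LinearMap.id_apply] at h2

/-- Injectivity modulo an ideal, elementwise. -/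
theorem mem_smul_top_of_lTensor_injective {A N M : Type u} [CommRing A] [AddCommGroup N] [Module A N]
    [AddCommGroup M] [Module A M] (J : Ideal A) (u : N →ₗ[A] M) (h : Function.Injective (u.lTensor (A ⧸ J)))
    {x : N} (hx : u x ∈ J • (⊤ : Submodule A M)) : x ∈ J • (⊤ : Submodule A N) := by
  have h1 : (Ideal.Quotient.mk J 1) ⊗ₜ[A] u x = 0 := by
    apply (TensorProduct.quotTensorEquivQuotSMul M J).injective
    rw [TensorProduct.quotTensorEquivQuotSMul_mk_tmul, one_smul, map_zero]
    exact (Submodule.Quotient.mk_eq_zero _).2 hx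
  have h2 : (Ideal.Quotient.mk J 1) ⊗ₜ[A] x = 0 := h (by rw [LinearMap.lTensor_tmul, map_zero]; exact h1)
  have h3 := congrArg (TensorProduct.quotTensorEquivQuotSMul N J) h2
  rw [TensorProduct.quotTensorEquivQuotSMul_mk_tmul, one_smul, map_zero] at h3
  exact (Submodule.Quotient.mk_eq_zero _).1 h3

end Groth.Agent.RG
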