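import Groth.Agent.RelAssGen.ConstrFp
import Groth.Agent.ZClosLib.NzdAssoc
import Groth.Agent.S8999

/-!
# The points over which the relative assassin lies in an open
-/

set_option autoImplicit false
set_option linter.style.haveILetI false
set_option linter.unusedSectionVars false
set_option backward.isDefEq.respectTransparency false
set_option backward.isDefEq.respectTransparency.types false
set_option maxHeartbeats 1000000

universe u

open TensorProduct Groth.Agent.ZClosLib PrimeSpectrum

namespace Groth.Agent.RG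

attribute [local instance] Algebra.TensorProduct.rightAlgebra

/-- A constructible set missing all generalisations of a point misses a standard neighbourhood of it. -/
theorem exists_notMem_of_isConstructible {R : Type u} [CommRing R] {s : Set (PrimeSpectrum R)}
    (hs : Topology.IsConstructible s) (p : Ideal R) [p.IsPrime]
    (h : ∀ x : PrimeSpectrum R, x.asIdeal ≤ p → x ∉ s) :
    ∃ g : R, g ∉ p ∧ ∀ x : PrimeSpectrum R, g ∉ x.asIdeal → x ∉ s := by
  obtain ⟨S, _, f, rfl⟩ := exists_range_eq_of_isConstructible hs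
  by_contra hne
  push Not at hne
  let W : Submonoid S := p.primeCompl.map f
  have h0 : Disjoint ((⊥ : Ideal S) : Set S) (W : Set S) := Set.disjoint_left.2 fun a ha hw => by
    obtain ⟨g, hg, rfl⟩ := hw
    obtain ⟨x, hgx, y, rfl⟩ := hne g hg
    exact hgx (show f g ∈ y.asIdeal by rw [show f g = 0 from ha]; exact zero_mem _)
  obtain ⟨Q, hQ, -, hQW⟩ := Ideal.exists_le_prime_disjoint ⊥ W h0
  exact h (PrimeSpectrum.comap f ⟨Q, hQ⟩) (fun a ha => by_contra fun hap => Set.disjoint_left.1 hQW ha ⟨a, hap, rfl⟩)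
    ⟨_, rfl⟩

/-- Fibrewise injectivity of a family of multiplications means that the relative assassin avoids their zero locus. -/
theorem injP_mulMap_iff_assoc {A B : Type u} [CommRing A] [CommRing B] [Algebra A B] [Algebra.FiniteType A B]
    (M : Type u) [AddCommGroup M] [Module A M] [Module B M] [IsScalarTower A B M] {r : ℕ} (g : Fin r → B)
    (p : Ideal A) [p.IsPrime] :
    RelAssGen.InjP ((RelAssGen.mulMap g M).restrictScalars A) p ↔
      ∀ Q ∈ associatedPrimes (p.Fiber B) (FlatCA.fiberMod p B M), ∃ i, g i ∉ Q.comap (algebraMap B (p.Fiber B)) := by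
  haveI : IsNoetherianRing (p.Fiber B) := Algebra.FiniteType.isNoetherianRing p.ResidueField _
  have hsat : ∀ x : M, RelAssGen.Sat p x ↔ FlatCA.toFiberMod p (S := B) M x = 0 := fun x =>
    (PurityBC.toFiberMod_eq_zero_iff (S := B) p M x).symm
  rw [RelAssGen.injP_mulMap]
  constructor
  · intro h Q hQ
    by_contra hne
    push Not at hne
    have hQ' : Q.comap (algebraMap B (p.Fiber B)) ∈ FlatCA.ass B (FlatCA.fiberMod p B M) := by
      rw [AssFiber.ass_fiberMod_eq]
      exact ⟨Q, FibAssIdeal.mem_ass_of_mem_associatedPrimes hQ, rfl⟩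
    obtain ⟨hp, n, hn⟩ := (S8999.mem_ass_iff p M _).1 hQ'
    have h1 : RelAssGen.Sat p n := h n fun i => (hn (g i)).1 (hne i)
    refine hp.ne_top ((Ideal.eq_top_iff_one _).2 ((hn 1).2 ?_))
    rw [one_smul]
    exact h1
  · intro h m hm
    rw [hsat]
    by_contra hm0
    let x := FlatCA.toFiberMod p (S := B) M m
    let I := WeakAss.annEl (p.Fiber B) x
    have hI : I ≠ ⊤ := fun ht => hm0 (by
      have h1 := WeakAss.mem_annEl.1 ((Ideal.eq_top_iff_one _).1 ht)
      rwa [one_smul] at h1)
    obtain ⟨Q₀, hQ₀, hle⟩ := Ideal.exists_le_maximal I hI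
    haveI := hQ₀.isPrime
    obtain ⟨Q, hQ, -⟩ := Ideal.exists_minimalPrimes_le (I := I) (J := Q₀) hle
    have hQa := FibAssIdeal.mem_associatedPrimes_of_mem_ass (WeakAss.mem_ass_of_mem_weakAss_of_fg
      (IsNoetherian.noetherian Q) (WeakAss.mem_weakAss_iff.2 ⟨x, hQ⟩))
    obtain ⟨i, hi⟩ := h Q hQa
    refine hi (hQ.1.2 ?_)
    rw [WeakAss.mem_annEl, AssFiber.algebraMap_smul_fiberMod, ← map_smul]
    exact (hsat _).1 (hm i)

/-- If the relative assassin over all generalisations of `p` lies in an open, then so it does near `p`. -/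
theorem exists_relAss_avoid {A B : Type u} [CommRing A] [CommRing B] [Algebra A B] [Algebra.FinitePresentation A B]
    (M : Type u) [AddCommGroup M] [Module A M] [Module B M] [IsScalarTower A B M] [Module.FinitePresentation B M]
    {r : ℕ} (g : Fin r → B) (p : Ideal A) [p.IsPrime]
    (h : ∀ (t : Ideal A) [t.IsPrime], t ≤ p → ∀ (q : Ideal B) [q.IsPrime], q.LiesOver t →
      FlatCA.fiberIdeal t q ∈ associatedPrimes (t.Fiber B) (FlatCA.fiberMod t B M) → ∃ i, g i ∉ q) :
    ∃ f : A, f ∉ p ∧ ∀ (t : Ideal A) [t.IsPrime], f ∉ t → ∀ (q : Ideal B) [q.IsPrime], q.LiesOver t →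
      FlatCA.fiberIdeal t q ∈ associatedPrimes (t.Fiber B) (FlatCA.fiberMod t B M) → ∃ i, g i ∉ q := by
  obtain ⟨f, hf, hfE⟩ := exists_notMem_of_isConstructible
    (RelAssGen.isConstructible_injP_fp (A := A) (M := M) g).compl p fun x hx hxE => by
      haveI := x.isPrime
      refine hxE ((injP_mulMap_iff_assoc M g x.asIdeal).2 fun Q hQ => ?_)
      haveI : IsNoetherianRing (x.asIdeal.Fiber B) := Algebra.FiniteType.isNoetherianRing x.asIdeal.ResidueField _
      obtain ⟨hp', hl, he, -⟩ := NzdUnivInj.comap_spec x.asIdeal M hQ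
      haveI := hp'
      exact h x.asIdeal hx _ hl (by rw [he]; exact hQ)
  refine ⟨f, hf, fun t _ hft q _ hq hass => ?_⟩
  haveI := hq
  obtain ⟨i, hi⟩ := (injP_mulMap_iff_assoc M g t).1 (not_not.1 (hfE ⟨t, inferInstance⟩ hft)) _ hass
  exact ⟨i, fun h => hi (Ideal.mem_map_of_mem _ h)⟩

end Groth.Agent.RG
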