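import Mathlib.RingTheory.Flat.Basic
import Mathlib.RingTheory.Filtration
import Mathlib.RingTheory.TensorProduct.Maps
import Mathlib.LinearAlgebra.TensorProduct.Quotient
import Mathlib.LinearAlgebra.TensorProduct.Prod
import Groth.Agent.ArtFunLib.Hull.Ring

/-!
# Content ideals for local algebras over a complete Noetherian local ring
-/

set_option autoImplicit false

universe u

open TensorProduct IsLocalRing

namespace Groth.Agent.RG

variable {R : Type u} [CommRing R] {A : Type u} [CommRing A] [Algebra R A]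

/-- Membership in an extended ideal, read in `(R ⧸ I) ⊗ A`. -/
theorem mem_map_iff_tmul_eq_zero (I : Ideal R) (x : A) :
    x ∈ I.map (algebraMap R A) ↔ (Ideal.Quotient.mk I 1) ⊗ₜ[R] x = (0 : (R ⧸ I) ⊗[R] A) := by
  rw [← (TensorProduct.quotTensorEquivQuotSMul A I).map_eq_zero_iff,
    TensorProduct.quotTensorEquivQuotSMul_mk_tmul, one_smul, Submodule.Quotient.mk_eq_zero,
    Ideal.smul_top_eq_map, Submodule.restrictScalars_mem]

/-- A flat algebra commutes with intersections of ideals. -/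
theorem mem_map_inf [Module.Flat R A] {I₁ I₂ : Ideal R} {x : A} (h₁ : x ∈ I₁.map (algebraMap R A))
    (h₂ : x ∈ I₂.map (algebraMap R A)) : x ∈ (I₁ ⊓ I₂).map (algebraMap R A) := by
  rw [mem_map_iff_tmul_eq_zero] at h₁ h₂ ⊢
  let f : (R ⧸ (I₁ ⊓ I₂)) →ₗ[R] (R ⧸ I₁) × (R ⧸ I₂) :=
    Submodule.liftQ _ (LinearMap.prod I₁.mkQ I₂.mkQ) (by rw [LinearMap.ker_prod, Submodule.ker_mkQ, Submodule.ker_mkQ])
  have hf : Function.Injective f := by
    rw [← LinearMap.ker_eq_bot]
    exact Submodule.ker_liftQ_eq_bot _ _ _ (by rw [LinearMap.ker_prod, Submodule.ker_mkQ, Submodule.ker_mkQ])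
  apply Module.Flat.rTensor_preserves_injective_linearMap (M := A) f hf
  apply (TensorProduct.prodLeft R R (R ⧸ I₁) (R ⧸ I₂) A).injective
  rw [LinearMap.rTensor_tmul, map_zero, map_zero]
  exact Prod.ext h₁ h₂

/-- An element of a flat local algebra over a complete Noetherian local ring has a content ideal. -/
theorem exists_content [IsNoetherianRing R] [IsLocalRing R] [IsAdicComplete (maximalIdeal R) R]
    [IsNoetherianRing A] [IsLocalRing A] [Module.Flat R A]
    (hmA : (maximalIdeal R).map (algebraMap R A) ≠ ⊤) (x : A) :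
    ∃ J : Ideal R, x ∈ J.map (algebraMap R A) ∧ ∀ I : Ideal R, x ∈ I.map (algebraMap R A) → J ≤ I := by
  classical
  let m := maximalIdeal R
  let S : Set (Ideal R) := {I | x ∈ I.map (algebraMap R A)}
  have htop : (⊤ : Ideal R) ∈ S := by simp [S, Ideal.map_top]
  have hmin : ∀ n : ℕ, ∃ I ∈ S, ∀ I' ∈ S, I ≤ I' ⊔ m ^ n := by
    intro n
    haveI := Groth.Agent.ArtFunLib.Hull.isArtinianRing_quotient_pow m n
    let T : Set (Ideal (R ⧸ m ^ n)) := Ideal.map (Ideal.Quotient.mk (m ^ n)) '' S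
    obtain ⟨K, ⟨I, hI, rfl⟩, hK⟩ := IsArtinian.set_has_minimal T ⟨_, ⟨⊤, htop, rfl⟩⟩
    refine ⟨I, hI, fun I' hI' => ?_⟩
    have h1 : Ideal.map (Ideal.Quotient.mk (m ^ n)) (I ⊓ I') = Ideal.map (Ideal.Quotient.mk (m ^ n)) I :=
      eq_of_le_of_not_lt (Ideal.map_mono inf_le_left) (hK _ ⟨_, mem_map_inf hI hI', rfl⟩)
    have h2 : Ideal.map (Ideal.Quotient.mk (m ^ n)) I ≤ Ideal.map (Ideal.Quotient.mk (m ^ n)) I' :=
      h1 ▸ Ideal.map_mono inf_le_right
    rw [Ideal.map_le_iff_le_comap, Ideal.comap_map_of_surjective _ Ideal.Quotient.mk_surjective,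
      ← RingHom.ker_eq_comap_bot, Ideal.mk_ker] at h2
    exact h2
  choose I hIS hI using hmin
  let Jq : ℕ → Ideal R := fun q => (Finset.range (q + 1)).inf I
  have hJS : ∀ q, Jq q ∈ S := fun q =>
    Finset.inf_induction (p := fun K : Ideal R => K ∈ S) htop (fun a ha b hb => mem_map_inf ha hb) fun i _ => hIS i
  let K : ℕ → Ideal R := fun q => Jq q ⊔ m ^ q
  have hanti : ∀ {p q}, p ≤ q → K q ≤ K p := fun {p q} hpq =>
    sup_le_sup (Finset.inf_mono (Finset.range_subset_range.2 (Nat.succ_le_succ hpq))) (Ideal.pow_le_pow_right hpq)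
  have hKI : ∀ I' ∈ S, ∀ q, K q ≤ I' ⊔ m ^ q := fun I' hI' q =>
    sup_le ((Finset.inf_le (Finset.self_mem_range_succ q)).trans (hI q I' hI')) le_sup_right
  refine ⟨⨅ q, K q, ?_, fun I' hI' => ?_⟩
  · let J := ⨅ q, K q
    have hN : ∀ N, x ∈ (J ⊔ m ^ N).map (algebraMap R A) := fun N => by
      obtain ⟨q, hq⟩ := Groth.Agent.ArtFunLib.Hull.chevalley m K hanti (fun q => ⟨q, le_sup_right⟩) N
      exact Ideal.map_mono ((le_sup_left (b := m ^ q)).trans hq) (hJS q)
    let JA := J.map (algebraMap R A)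
    have hb : Submodule.Quotient.mk (p := JA) x ∈
        (⨅ N : ℕ, (m.map (algebraMap R A)) ^ N • (⊤ : Submodule A (A ⧸ JA))) := by
      refine (Submodule.mem_iInf _).2 fun N => ?_
      have h := hN N
      rw [Ideal.map_sup, Ideal.map_pow, Submodule.mem_sup] at h
      obtain ⟨a, ha, b, hb, hab⟩ := h
      rw [← hab, Submodule.Quotient.mk_add, (Submodule.Quotient.mk_eq_zero _).2 ha, zero_add,
        show Submodule.Quotient.mk (p := JA) b = b • Submodule.Quotient.mk (p := JA) (1 : A) by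
          rw [← Submodule.Quotient.mk_smul, smul_eq_mul, mul_one]]
      exact Submodule.smul_mem_smul hb Submodule.mem_top
    rw [Ideal.iInf_pow_smul_eq_bot_of_isLocalRing _ hmA, Submodule.mem_bot, Submodule.Quotient.mk_eq_zero] at hb
    exact hb
  · intro r hr
    have h : r ∈ ⨅ q : ℕ, (m ^ q • ⊤ : Submodule R R) ⊔ I' := by
      refine (Submodule.mem_iInf _).2 fun q => ?_
      rw [Ideal.smul_eq_mul, Ideal.mul_top, sup_comm]
      exact hKI I' hI' q ((Submodule.mem_iInf _).1 hr q)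
    have h2 : Submodule.Quotient.mk (p := I') r ∈ (⨅ q : ℕ, m ^ q • (⊤ : Submodule R (R ⧸ I'))) := by
      refine (Submodule.mem_iInf _).2 fun q => ?_
      obtain ⟨a, ha, b, hb, hab⟩ := Submodule.mem_sup.1 ((Submodule.mem_iInf _).1 h q)
      rw [← hab, Submodule.Quotient.mk_add, (Submodule.Quotient.mk_eq_zero _).2 hb, add_zero]
      have := Submodule.mem_map_of_mem (f := I'.mkQ) ha
      rw [Submodule.map_smul'', Submodule.map_top, Submodule.range_mkQ] at this
      exact this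
    rwa [Ideal.iInf_pow_smul_eq_bot_of_isLocalRing _ (maximalIdeal.isMaximal R).ne_top, Submodule.mem_bot,
      Submodule.Quotient.mk_eq_zero] at h2

/-- An element in an extended ideal after an arbitrary base change. -/
theorem mem_map_comap_of_flat [Module.Flat R A] (R' : Type u) [CommRing R'] [Algebra R R']
    (I' : Ideal R') {x : A} (hx : (1 : R') ⊗ₜ[R] x ∈ I'.map (algebraMap R' (R' ⊗[R] A))) :
    x ∈ (I'.comap (algebraMap R R')).map (algebraMap R A) := by
  rw [mem_map_iff_tmul_eq_zero]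
  let q : R' →ₐ[R] R' ⧸ I' := Ideal.Quotient.mkₐ R I'
  let π : R' ⊗[R] A →ₐ[R] (R' ⧸ I') ⊗[R] A := Algebra.TensorProduct.map q (AlgHom.id R A)
  have hker : I'.map (algebraMap R' (R' ⊗[R] A)) ≤ RingHom.ker π.toRingHom := by
    rw [Ideal.map_le_iff_le_comap]
    intro a ha
    show π (a ⊗ₜ[R] (1 : A)) = 0
    rw [Algebra.TensorProduct.map_tmul, show q a = 0 from Ideal.Quotient.eq_zero_iff_mem.2 ha, zero_tmul]
  have h0 : π ((1 : R') ⊗ₜ[R] x) = 0 := hker hx
  let g : (R ⧸ I'.comap (algebraMap R R')) →ₗ[R] R' ⧸ I' :=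
    Submodule.liftQ _ (q.toLinearMap ∘ₗ Algebra.linearMap R R') (fun a ha => Ideal.Quotient.eq_zero_iff_mem.2 ha)
  have hg : Function.Injective g := by
    rw [← LinearMap.ker_eq_bot]
    exact Submodule.ker_liftQ_eq_bot _ _ _ fun a ha => (Ideal.Quotient.eq_zero_iff_mem (I := I')).1 ha
  apply Module.Flat.rTensor_preserves_injective_linearMap (M := A) g hg
  rw [LinearMap.rTensor_tmul, map_zero, ← h0, Algebra.TensorProduct.map_tmul]
  congr 1
  show q (algebraMap R R' 1) = q 1
  rw [map_one]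

/-- A content ideal stays minimal after any base change. -/
theorem content_le_baseChange [Module.Flat R A] {x : A} {J : Ideal R}
    (hJ : ∀ I : Ideal R, x ∈ I.map (algebraMap R A) → J ≤ I) (R' : Type u) [CommRing R'] [Algebra R R']
    (I' : Ideal R') (hx : (1 : R') ⊗ₜ[R] x ∈ I'.map (algebraMap R' (R' ⊗[R] A))) :
    J.map (algebraMap R R') ≤ I' := by
  rw [Ideal.map_le_iff_le_comap]
  exact hJ _ (mem_map_comap_of_flat R' I' hx)

end Groth.Agent.RG
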