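import Groth.Agent.RG.DevRegular
import Groth.Agent.CAlgUI.Projective
import Groth.Agent.S0582
import Groth.Agent.RG.Content
import Mathlib.RingTheory.Localization.BaseChange

/-!
# Freeness on an open piece inside an étale image
-/

set_option autoImplicit false
set_option linter.style.haveILetI false
set_option linter.unusedSectionVars false
set_option backward.isDefEq.respectTransparency false
set_option backward.isDefEq.respectTransparency.types false
set_option maxHeartbeats 1000000

universe u

open TensorProduct

namespace Groth.Agent.RG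

/-- Localised finite modules over algebras of finite type are countably generated over the base. -/
theorem countablyGenerated_localized {A T : Type u} [CommRing A] [CommRing T] [Algebra A T] [Algebra.FiniteType A T]
    (Y : Type u) [AddCommGroup Y] [Module T Y] [Module A Y] [IsScalarTower A T Y] [Module.Finite T Y] (h : T) :
    CAlg.IsCountablyGenerated A (LocalizedModule (Submonoid.powers h) Y) := by
  classical
  obtain ⟨s, hs⟩ := (inferInstance : Algebra.FiniteType A T).out
  obtain ⟨G, hG⟩ := Module.finite_def.1 (inferInstance : Module.Finite T Y)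
  let mon : Set T := Submonoid.closure (s : Set T)
  have hmon : mon.Countable := by
    refine (Set.countable_range fun l : List s => (l.map Subtype.val).prod).mono ?_
    intro x hx
    obtain ⟨l, hl, rfl⟩ := Submonoid.exists_list_of_mem_closure hx
    refine ⟨l.attach.map fun y => ⟨y.1, hl y.1 y.2⟩, ?_⟩
    simp [List.map_map]
  let gen : Set (LocalizedModule (Submonoid.powers h) Y) :=
    (fun x : T × Y × ℕ => LocalizedModule.mk (x.1 • x.2.1) ⟨h ^ x.2.2, x.2.2, rfl⟩) '' (mon ×ˢ ((G : Set Y) ×ˢ Set.univ))
  refine ⟨gen, ((hmon.prod (G.countable_toSet.prod Set.countable_univ)).image _), Submodule.eq_top_iff'.2 fun m => ?_⟩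
  induction m using LocalizedModule.induction_on with
  | h y w =>
    obtain ⟨_, k, rfl⟩ := w
    let ψ : Y →ₗ[A] LocalizedModule (Submonoid.powers h) Y :=
      { toFun := fun y => LocalizedModule.mk y ⟨h ^ k, k, rfl⟩
        map_add' := fun a b => by
          rw [LocalizedModule.mk_add_mk, LocalizedModule.mk_eq]
          exact ⟨1, by simp [Submonoid.smul_def, smul_add, smul_smul]⟩
        map_smul' := fun a b => (LocalizedModule.smul'_mk a b (⟨h ^ k, k, rfl⟩ : Submonoid.powers h)).symm }
    have hy : y ∈ Submodule.span T (G : Set Y) := hG ▸ Submodule.mem_top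
    show ψ y ∈ Submodule.span A gen
    induction hy using Submodule.span_induction with
    | mem g hg =>
      refine Submodule.subset_span ⟨(1, g, k), ⟨one_mem (Submonoid.closure (s : Set T)), hg, trivial⟩, ?_⟩
      simp [ψ]
    | zero => rw [map_zero]; exact zero_mem _
    | add a b _ _ ha hb => rw [map_add]; exact add_mem ha hb
    | smul t a ha _ =>
      have ht : t ∈ Submodule.span A mon := by
        have : t ∈ Subalgebra.toSubmodule (Algebra.adjoin A (s : Set T)) := by rw [hs]; trivial
        rwa [Algebra.adjoin_eq_span] at this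
      induction ht using Submodule.span_induction with
      | zero => rw [zero_smul, map_zero]; exact zero_mem _
      | add t₁ t₂ _ _ h₁ h₂ => rw [add_smul, map_add]; exact add_mem h₁ h₂
      | smul r t₁ _ h₁ => rw [smul_assoc, map_smul]; exact Submodule.smul_mem _ r h₁
      | mem t ht =>
        clear * - ha ht hs
        induction ha using Submodule.span_induction generalizing t with
        | mem g hg => exact Submodule.subset_span ⟨(t, g, k), ⟨ht, hg, trivial⟩, rfl⟩
        | zero => rw [smul_zero, map_zero]; exact zero_mem _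
        | add a b _ _ ha hb => rw [smul_add, map_add]; exact add_mem (ha t ht) (hb t ht)
        | smul t' a _ ha' =>
          rw [smul_smul]
          have ht' : t * t' ∈ Submodule.span A mon := by
            have hm : t' ∈ Subalgebra.toSubmodule (Algebra.adjoin A (s : Set T)) := by rw [hs]; trivial
            rw [Algebra.adjoin_eq_span] at hm
            induction hm using Submodule.span_induction with
            | mem u hu => exact Submodule.subset_span (mul_mem ht hu)
            | zero => rw [mul_zero]; exact zero_mem _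
            | add u v _ _ hu hv => rw [mul_add]; exact add_mem hu hv
            | smul r u _ hu => rw [mul_smul_comm]; exact Submodule.smul_mem _ r hu
          generalize t * t' = w at ht' ⊢
          induction ht' using Submodule.span_induction with
          | mem u hu => exact ha' u hu
          | zero => rw [zero_smul, map_zero]; exact zero_mem _
          | add u v _ _ hu hv => rw [add_smul, map_add]; exact add_mem hu hv
          | smul r u _ hu => rw [smul_assoc, map_smul]; exact Submodule.smul_mem _ r hu

/-- A standard open of the image of a flat algebra inherits freeness. -/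
theorem free_localized_of_regular {A T C : Type u} [CommRing A] [IsLocalRing A] [CommRing T] [CommRing C] [Algebra A T]
    [Algebra A C] [Algebra T C] [IsScalarTower A T C] [Algebra.FiniteType A T] [Module.Flat T C]
    (Y : Type u) [AddCommGroup Y] [Module T Y] [Module A Y] [IsScalarTower A T Y] [Module.Finite T Y] (h : T)
    (hsub : (PrimeSpectrum.basicOpen h : Set (PrimeSpectrum T)) ⊆ Set.range (PrimeSpectrum.comap (algebraMap T C)))
    (v : C) (hdvd : algebraMap T C h ∣ v) (hreg : ∀ k : ℕ, UnivReg A (C ⊗[T] Y) (v ^ k))
    {F₁ : Type u} [AddCommGroup F₁] [Module C F₁] [Module T F₁] [IsScalarTower T C F₁] [Module A F₁]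
    [IsScalarTower A C F₁] [IsScalarTower A T F₁] (g : C ⊗[T] Y →ₗ[C] F₁) [IsLocalizedModule (Submonoid.powers v) g]
    [Module.Free A F₁] : Module.Free A (LocalizedModule (Submonoid.powers h) Y) := by
  let M := LocalizedModule (Submonoid.powers h) Y
  let f : Y →ₗ[T] M := LocalizedModule.mkLinearMap (Submonoid.powers h) Y
  let j : Y →ₗ[T] F₁ := g.restrictScalars T ∘ₗ TensorProduct.mk T C Y 1
  have hunit : ∀ x : Submonoid.powers h, IsUnit (algebraMap T (Module.End T F₁) x) := by
    rintro ⟨_, k, rfl⟩
    obtain ⟨c, hc⟩ := pow_dvd_pow_of_dvd hdvd k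
    have hv := IsLocalizedModule.map_units g (⟨v ^ k, k, rfl⟩ : Submonoid.powers v)
    rw [Module.End.isUnit_iff] at hv ⊢
    have key : ∀ x : F₁, v ^ k • x = c • (h ^ k • x) := fun x => by
      rw [← algebraMap_smul C (h ^ k) x, map_pow, smul_smul, hc, mul_comm]
    refine ⟨fun a b hab => hv.1 ?_, fun a => ?_⟩
    · show v ^ k • a = v ^ k • b
      rw [key, key]
      exact congrArg (c • ·) hab
    · obtain ⟨b, hb⟩ := hv.2 a
      refine ⟨c • b, ?_⟩
      show h ^ k • c • b = a
      rw [smul_comm, ← key]
      exact hb
  let φ : M →ₗ[T] F₁ := IsLocalizedModule.lift (Submonoid.powers h) f j hunit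
  have hφ : φ ∘ₗ f = j := IsLocalizedModule.lift_comp (Submonoid.powers h) f j hunit
  have hui : ∀ (X : Type u) [AddCommGroup X] [Module A X], Function.Injective ((φ.restrictScalars A).rTensor X) := by
    intro X _ _
    haveI := IsLocalizedModule.rTensor (R := A) (A := T) (N := X) (S := Submonoid.powers h) (g := f)
    haveI := IsLocalizedModule.rTensor (R := A) (A := C) (N := X) (S := Submonoid.powers v) (g := g)
    let φX : M ⊗[A] X →ₗ[T] F₁ ⊗[A] X := AlgebraTensorModule.rTensor A X φ
    let fX : Y ⊗[A] X →ₗ[T] M ⊗[A] X := AlgebraTensorModule.rTensor A X f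
    let gX : (C ⊗[T] Y) ⊗[A] X →ₗ[C] F₁ ⊗[A] X := AlgebraTensorModule.rTensor A X g
    suffices H : ∀ z, φX z = 0 → z = 0 from (injective_iff_map_eq_zero _).2 H
    intro z hz
    obtain ⟨⟨z₀, w⟩, hzw⟩ := IsLocalizedModule.surj (Submonoid.powers h) fX z
    have h1 : φX (fX z₀) = 0 := by
      rw [← show (w : T) • z = fX z₀ from hzw, map_smul, hz, smul_zero]
    let α : C ⊗[T] (Y ⊗[A] X) ≃ₗ[C] (C ⊗[T] Y) ⊗[A] X := (AlgebraTensorModule.assoc A T C C Y X).symm
    have h2 : ∀ y : Y ⊗[A] X, gX (α ((1 : C) ⊗ₜ[T] y)) = φX (fX y) := fun y => by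
      induction y using TensorProduct.induction_on with
      | zero => simp
      | add a b ha hb => simp only [TensorProduct.tmul_add, map_add, ha, hb]
      | tmul y x =>
        show g ((1 : C) ⊗ₜ[T] y) ⊗ₜ[A] x = φ (f y) ⊗ₜ[A] x
        rw [show φ (f y) = j y from LinearMap.congr_fun hφ y]
        rfl
    obtain ⟨⟨_, k, rfl⟩, hk⟩ := (IsLocalizedModule.eq_zero_iff (Submonoid.powers v) gX).1 ((h2 z₀).trans h1)
    have h3 : α ((1 : C) ⊗ₜ[T] z₀) = 0 := hreg k X _ hk
    rw [LinearEquiv.map_eq_zero_iff] at h3
    let K : Ideal T := LinearMap.ker (LinearMap.toSpanSingleton T (Y ⊗[A] X) z₀)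
    let θ : (T ⧸ K) →ₗ[T] Y ⊗[A] X := Submodule.liftQ K (LinearMap.toSpanSingleton T _ z₀) le_rfl
    have hθ : Function.Injective θ := by
      rw [← LinearMap.ker_eq_bot]
      exact Submodule.ker_liftQ_eq_bot _ _ _ le_rfl
    have h13 : (Ideal.Quotient.mk K 1) ⊗ₜ[T] (1 : C) = (0 : (T ⧸ K) ⊗[T] C) := by
      apply (TensorProduct.comm T (T ⧸ K) C).injective
      apply Module.Flat.lTensor_preserves_injective_linearMap (M := C) θ hθ
      rw [map_zero, map_zero, TensorProduct.comm_tmul, LinearMap.lTensor_tmul]
      show (1 : C) ⊗ₜ[T] θ (Submodule.Quotient.mk 1) = 0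
      rw [Submodule.liftQ_apply, LinearMap.toSpanSingleton_apply, one_smul]
      exact h3
    rw [← mem_map_iff_tmul_eq_zero] at h13
    obtain ⟨n, hn⟩ : h ∈ K.radical := by
      rw [Ideal.radical_eq_sInf, Submodule.mem_sInf]
      intro P hP
      haveI := hP.2
      by_contra hhP
      obtain ⟨P', hP'⟩ := hsub (show (⟨P, hP.2⟩ : PrimeSpectrum T) ∈ _ from hhP)
      refine P'.2.ne_top ((Ideal.eq_top_iff_one _).2 (Ideal.map_le_iff_le_comap.2 ?_ h13))
      exact hP.1.trans (congrArg PrimeSpectrum.asIdeal hP').ge
    have h4 : fX z₀ = 0 := by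
      have h5 : h ^ n • z₀ = 0 := hn
      have h6 := congrArg fX h5
      rw [map_smul, map_zero] at h6
      have hu := IsLocalizedModule.map_units fX (⟨h ^ n, n, rfl⟩ : Submonoid.powers h)
      rw [Module.End.isUnit_iff] at hu
      exact hu.1 (by rw [map_zero]; exact h6)
    have hu := IsLocalizedModule.map_units fX w
    rw [Module.End.isUnit_iff] at hu
    exact hu.1 (by rw [map_zero]; exact (show (w : T) • z = fX z₀ from hzw).trans h4)
  haveI : Module.Flat A M := by
    rw [Module.Flat.iff_lTensor_injective']
    intro J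
    rw [injective_iff_map_eq_zero]
    intro z hz
    apply hui J
    rw [map_zero]
    apply Module.Flat.iff_lTensor_injective'.1 (inferInstance : Module.Flat A F₁) J
    rw [map_zero, ← LinearMap.comp_apply, LinearMap.lTensor_comp_rTensor, ← LinearMap.rTensor_comp_lTensor,
      LinearMap.comp_apply, hz, map_zero]
  have hu : CAlgX.UniversallyInjective A (φ.restrictScalars A) := fun X _ _ => hui X
  haveI : Module.Projective A M := CAlgUI.projective_of_flat_ml_countablyGenerated
    (CAlgUI.ml_of_ui _ hu CAlgUI.ml_of_projective) (countablyGenerated_localized Y h)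
  exact Groth.Agent.S0582.result A M

end Groth.Agent.RG
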