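import Groth.Agent.S1195
import Groth.Agent.RG.OpenFree

/-!
# Universal injectivity over a standard open of the base, and projectivity
-/

set_option autoImplicit false
set_option linter.style.haveILetI false
set_option linter.unusedSectionVars false
set_option backward.isDefEq.respectTransparency false
set_option backward.isDefEq.respectTransparency.types false
set_option maxHeartbeats 1000000

universe u

open TensorProduct Groth.Agent.ZClosLib

namespace Groth.Agent.RG

attribute [local instance] Algebra.TensorProduct.rightAlgebra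

/-- The covering criterion, localised over `D(f)`. -/
theorem injective_of_covering_away {R S S' : Type u} [CommRing R] [CommRing S] [CommRing S'] [Algebra R S] [Algebra S S'] [Algebra R S'] [IsScalarTower R S S']
    [Algebra.FinitePresentation R S] [Module.Flat S S']
    (N : Type u) [AddCommGroup N] [Module S N] [Module R N] [IsScalarTower R S N] [Module.FinitePresentation S N] [Module.Flat R N]
    (f : R) (h : ∀ (p : Ideal R) (q : Ideal S) [p.IsPrime] [q.IsPrime] [q.LiesOver p], f ∉ p →
      FlatCA.fiberIdeal p q ∈ associatedPrimes (p.Fiber S) (FlatCA.fiberMod p S N) →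
      ∃ q' : Ideal S', q'.IsPrime ∧ q'.comap (algebraMap S S') = q)
    (X : Type u) [AddCommGroup X] [Module R X] (hX : ∀ x : X, f • x = 0 → x = 0) (hX' : ∀ x : X, ∃ y, f • y = x) :
    Function.Injective (((TensorProduct.mk S S' N 1).restrictScalars R).lTensor X) := by
  rw [injective_iff_map_eq_zero]
  intro z hz
  by_contra hz0
  let w := TensorProduct.comm R X N z
  have htop := NzdUnivInj.map_annihilator_eq_top (S1195.tmul_one_eq_zero hz)
  have hw0 : w ≠ 0 := fun h0 => hz0 <| (TensorProduct.comm R X N).injective <| by rw [map_zero]; exact h0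
  let e : X ≃ₗ[R] X := LinearEquiv.ofBijective (LinearMap.lsmul R X f)
    ⟨(injective_iff_map_eq_zero _).2 hX, hX'⟩
  have hinj : Function.Injective (LinearMap.lsmul R (N ⊗[R] X) f) := by
    have : LinearMap.lsmul R (N ⊗[R] X) f = ((LinearEquiv.lTensor N e).toLinearMap) :=
      TensorProduct.ext' fun n x => by simp [e]
    rw [this]
    exact (LinearEquiv.lTensor N e).injective
  have hdisj : Disjoint ((WeakAss.annEl S w : Ideal S) : Set S) (Submonoid.powers (algebraMap R S f) : Set S) := by
    rw [Set.disjoint_left]
    rintro _ ha ⟨k, rfl⟩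
    have h1 : (algebraMap R S f) ^ k • w = 0 := WeakAss.mem_annEl.1 ha
    rw [← map_pow, algebraMap_smul] at h1
    refine hw0 ?_
    clear ha
    induction k with
    | zero => rwa [pow_zero, one_smul] at h1
    | succ k ih =>
      rw [pow_succ', mul_smul] at h1
      exact ih (hinj (h1.trans (map_zero (LinearMap.lsmul R (N ⊗[R] X) f)).symm))
  obtain ⟨q, hq, hJq, hqf⟩ := Ideal.exists_le_prime_disjoint _ _ hdisj
  let p : Ideal R := q.under R
  have hfp : f ∉ p := fun hm => Set.disjoint_left.1 hqf hm ⟨1, pow_one _⟩
  haveI : q.LiesOver p := ⟨rfl⟩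
  haveI : IsNoetherianRing (p.Fiber S) := Algebra.FiniteType.isNoetherianRing p.ResidueField _
  obtain ⟨s, hsJ, hs⟩ := NzdUnivInj.exists_avoid p N (fun r => r ≤ FlatCA.fiberIdeal p q) (WeakAss.annEl S w)
    fun r hr _ hle => by
      obtain ⟨hrp, hrl, hre, -⟩ := NzdUnivInj.comap_spec p N hr
      obtain ⟨q', hq', hqq'⟩ := h p _ hfp (by rw [hre]; exact hr)
      refine hq'.ne_top (top_le_iff.1 ?_)
      rw [← htop, Ideal.map_le_iff_le_comap, hqq']
      exact hle
  obtain ⟨c, hc, hcw⟩ := S1195.key p q hs w (WeakAss.mem_annEl.1 hsJ)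
  exact hc (hJq (WeakAss.mem_annEl.2 hcw))

/-- A base change of a countably generated piece is countably generated. -/
theorem countablyGenerated_baseChange {A B L : Type u} [CommRing A] [CommRing B] [CommRing L] [Algebra A B] [Algebra A L]
    [Algebra.FiniteType A B] (N : Type u) [AddCommGroup N] [Module B N] [Module A N] [IsScalarTower A B N]
    [Module.Finite B N] : CAlg.IsCountablyGenerated L (L ⊗[A] N) := by
  obtain ⟨s, hs, hspan⟩ := countablyGenerated_localized (A := A) N (1 : B)
  let f : N →ₗ[B] LocalizedModule (Submonoid.powers (1 : B)) N := LocalizedModule.mkLinearMap _ N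
  have hb : Function.Bijective f := by
    refine ⟨fun a b hab => ?_, fun x => ?_⟩
    · obtain ⟨⟨_, k, rfl⟩, hc⟩ := (IsLocalizedModule.eq_iff_exists (Submonoid.powers (1 : B)) f).1 hab
      simpa [Submonoid.smul_def] using hc
    · obtain ⟨⟨a, ⟨_, k, rfl⟩⟩, ha⟩ := IsLocalizedModule.surj (Submonoid.powers (1 : B)) f x
      exact ⟨a, by simpa [Submonoid.smul_def] using ha.symm⟩
  let e : LocalizedModule (Submonoid.powers (1 : B)) N ≃ₗ[A] N :=
    ((LinearEquiv.ofBijective f hb).restrictScalars A).symm
  have htop : Submodule.span A (e '' s) = ⊤ := by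
    rw [show (e '' s) = (e.toLinearMap '' s) from rfl, Submodule.span_image, hspan, Submodule.map_top,
      LinearEquiv.range]
  refine ⟨(TensorProduct.mk A L N 1) '' (e '' s), (hs.image _).image _, Submodule.eq_top_iff'.2 fun x => ?_⟩
  induction x using TensorProduct.induction_on with
  | zero => exact zero_mem _
  | add a b ha hb => exact add_mem ha hb
  | tmul l n =>
    rw [show l ⊗ₜ[A] n = l • ((1 : L) ⊗ₜ[A] n) by rw [TensorProduct.smul_tmul', smul_eq_mul, mul_one]]
    refine Submodule.smul_mem _ _ ?_
    have h1 : TensorProduct.mk A L N 1 n ∈ Submodule.map (TensorProduct.mk A L N 1) (Submodule.span A (e '' s)) :=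
      ⟨n, by rw [htop]; trivial, rfl⟩
    rw [← Submodule.span_image] at h1
    exact Submodule.span_le_restrictScalars A L _ h1

/-- A flat module covered over `D(f)` by a projective one is projective over `A_f`. -/
theorem projective_away_of_covering {A B C : Type u} [CommRing A] [CommRing B] [CommRing C] [Algebra A B] [Algebra B C]
    [Algebra A C] [IsScalarTower A B C] [Algebra.FinitePresentation A B] [Module.Flat B C]
    (N : Type u) [AddCommGroup N] [Module B N] [Module A N] [IsScalarTower A B N] [Module.FinitePresentation B N]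
    [Module.Flat A N] (f : A) (L : Type u) [CommRing L] [Algebra A L] [IsLocalization.Away f L]
    [Module.Projective L (L ⊗[A] (C ⊗[B] N))]
    (h : ∀ (p : Ideal A) (q : Ideal B) [p.IsPrime] [q.IsPrime] [q.LiesOver p], f ∉ p →
      FlatCA.fiberIdeal p q ∈ associatedPrimes (p.Fiber B) (FlatCA.fiberMod p B N) →
      ∃ q' : Ideal C, q'.IsPrime ∧ q'.comap (algebraMap B C) = q) :
    Module.Projective L (L ⊗[A] N) := by
  let u : N →ₗ[A] C ⊗[B] N := (TensorProduct.mk B C N 1).restrictScalars A
  have hu : CAlgX.UniversallyInjective L (u.baseChange L) := by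
    intro X _ _
    letI : Module A X := Module.compHom X (algebraMap A L)
    haveI : IsScalarTower A L X := IsScalarTower.of_algebraMap_smul fun _ _ => rfl
    have hunit : IsUnit (algebraMap A L f) := IsLocalization.Away.algebraMap_isUnit f
    have hinj := injective_of_covering_away N f h X
      (fun x hx => hunit.smul_eq_zero.1 (by rwa [algebraMap_smul]))
      (fun x => ⟨(hunit.unit⁻¹ : Lˣ).val • x, by rw [← algebraMap_smul L f, smul_smul, hunit.mul_val_inv, one_smul]⟩)
    let eN := TensorProduct.comm L (L ⊗[A] N) X ≪≫ₗ AlgebraTensorModule.cancelBaseChange A L L X N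
    let eP := TensorProduct.comm L (L ⊗[A] (C ⊗[B] N)) X ≪≫ₗ AlgebraTensorModule.cancelBaseChange A L L X (C ⊗[B] N)
    have hc : ∀ z, eP ((u.baseChange L).rTensor X z) = u.lTensor X (eN z) := fun z => by
      induction z using TensorProduct.induction_on with
      | zero => simp
      | add a b ha hb => simp only [map_add, ha, hb]
      | tmul a x =>
        induction a using TensorProduct.induction_on with
        | zero => simp
        | add a b ha hb => simp only [TensorProduct.add_tmul, map_add, ha, hb]
        | tmul l n => simp [eN, eP]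
    intro a b hab
    refine eN.injective (hinj ?_)
    rw [← hc, ← hc, hab]
  exact CAlgUI.projective_of_flat_ml_countablyGenerated (CAlgUI.ml_of_ui _ hu CAlgUI.ml_of_projective)
    (countablyGenerated_baseChange (B := B) N)

end Groth.Agent.RG
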