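import Groth.Agent.RG.LocStrRing
import Groth.Agent.QCoh.AnnIdeal
import Groth.Agent.S9436
import Groth.Agent.FibDim.RingLoc

/-!
# Existence of elementary dévissages
-/

set_option autoImplicit false
set_option linter.style.haveILetI false

universe u

open TensorProduct

namespace Groth.Agent.RG

attribute [local instance] Algebra.TensorProduct.rightAlgebra

variable {R S : Type u} [CommRing R] [CommRing S] [Algebra R S] [Algebra.FiniteType R S]

/-- The ideal cutting out the support near the fibre. -/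
theorem exists_fg_le_annihilator (p : Ideal R) [p.IsPrime] (N : Type u) [AddCommGroup N] [Module S N] :
    ∃ I : Ideal S, I.FG ∧ I ≤ Module.annihilator S N ∧
      I.map (Algebra.TensorProduct.includeRight : S →ₐ[R] p.Fiber S).toRingHom =
        (Module.annihilator S N).map (Algebra.TensorProduct.includeRight : S →ₐ[R] p.Fiber S).toRingHom := by
  classical
  let ι := (Algebra.TensorProduct.includeRight : S →ₐ[R] p.Fiber S).toRingHom
  haveI : IsNoetherianRing (p.Fiber S) := Algebra.FiniteType.isNoetherianRing p.ResidueField _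
  have hfg : (Submodule.span (p.Fiber S) (ι '' (Module.annihilator S N : Set S))).FG := IsNoetherian.noetherian _
  obtain ⟨t, ht, hspan⟩ := (Submodule.fg_span_iff_fg_span_finset_subset _).mp hfg
  obtain ⟨t', ht', rfl⟩ := Finset.subset_set_image_iff.mp ht
  refine ⟨Ideal.span (t' : Set S), ⟨t', rfl⟩, Ideal.span_le.2 ht', ?_⟩
  rw [Ideal.map_span]
  show Submodule.span _ (ι '' (t' : Set S)) = Submodule.span _ (ι '' (Module.annihilator S N : Set S))
  rw [hspan, Finset.coe_image]

/-- The point of the fibre of the closed subscheme. -/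
theorem exists_point_quotient (p : Ideal R) [p.IsPrime] (q : Ideal S) [q.IsPrime] [q.LiesOver p]
    (N : Type u) [AddCommGroup N] [Module S N] [Module R N] [IsScalarTower R S N] [Module.Finite S N]
    (x : PrimeSpectrum (p.Fiber S)) (hxq : x.asIdeal = FlatCA.fiberIdeal p q)
    (hx : x ∈ Module.support (p.Fiber S) (FlatCA.fiberMod p S N)) (I : Ideal S)
    (hI : I.map (Algebra.TensorProduct.includeRight : S →ₐ[R] p.Fiber S).toRingHom =
      (Module.annihilator S N).map (Algebra.TensorProduct.includeRight : S →ₐ[R] p.Fiber S).toRingHom) :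
    ∃ (x' : PrimeSpectrum (p.Fiber (S ⧸ I))),
      (x'.asIdeal.comap (Algebra.TensorProduct.includeRight : (S ⧸ I) →ₐ[R] p.Fiber (S ⧸ I))).comap
        (Ideal.Quotient.mk I) = q ∧
      FlatMor.localDim (PrimeSpectrum (p.Fiber (S ⧸ I))) x' =
        FlatMor.localDim (Module.support (p.Fiber S) (FlatCA.fiberMod p S N)) ⟨x, hx⟩ := by
  let ι := (Algebra.TensorProduct.includeRight : S →ₐ[R] p.Fiber S)
  let m := Algebra.TensorProduct.map (AlgHom.id R p.ResidueField) (Ideal.Quotient.mkₐ R I)
  have hm : Function.Surjective m :=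
    TensorProduct.map_surjective Function.surjective_id Ideal.Quotient.mk_surjective
  have hker : RingHom.ker m = I.map ι.toRingHom := by
    rw [Algebra.TensorProduct.lTensor_ker _ (Ideal.Quotient.mkₐ_surjective R I)]
    congr 1
    exact Ideal.Quotient.mkₐ_ker R I
  have hemb : Topology.IsClosedEmbedding (PrimeSpectrum.comap m.toRingHom) :=
    PrimeSpectrum.isClosedEmbedding_comap_of_surjective _ _ hm
  have hrange : Set.range (PrimeSpectrum.comap m.toRingHom) = Module.support (p.Fiber S) (FlatCA.fiberMod p S N) := by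
    rw [range_comap_of_surjective _ _ hm, show RingHom.ker m.toRingHom = RingHom.ker m from rfl, hker,
      hI]
    ext P
    show _ ↔ P ∈ Module.support (p.Fiber S) ((p.Fiber S) ⊗[S] N)
    rw [QCoh.mem_support_baseChange (TensorProduct.isBaseChange S N (p.Fiber S)) P, Module.support_eq_zeroLocus,
      PrimeSpectrum.mem_zeroLocus,
      PrimeSpectrum.mem_zeroLocus]
    show (_ : Set _) ⊆ _ ↔ _
    rw [SetLike.coe_subset_coe, SetLike.coe_subset_coe, Ideal.map_le_iff_le_comap]
    rfl
  obtain ⟨x', hx'⟩ : x ∈ Set.range (PrimeSpectrum.comap m.toRingHom) := hrange ▸ hx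
  have hxover : x.asIdeal.comap ι = q := by
    refine le_antisymm ?_ ?_
    · let x₀ := PrimeSpectrum.primesOverOrderIsoFiber R S p ⟨q, ‹_›, ‹_›⟩
      have hx₀ : x₀.asIdeal.comap ι = q :=
        congr($((PrimeSpectrum.primesOverOrderIsoFiber R S p).symm_apply_apply ⟨q, ‹_›, ‹_›⟩).1)
      refine le_trans (Ideal.comap_mono ?_) hx₀.le
      rw [hxq]
      exact Ideal.map_le_iff_le_comap.2 hx₀.ge
    · rw [hxq]
      exact Ideal.le_comap_map
  refine ⟨x', ?_, ?_⟩
  · rw [← hxover, ← hx']
    ext a
    simp only [Ideal.mem_comap, PrimeSpectrum.comap_asIdeal]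
    show _ ↔ m ((1 : p.ResidueField) ⊗ₜ[R] a) ∈ x'.asIdeal
    rw [Algebra.TensorProduct.map_tmul]
    rfl
  · let e : PrimeSpectrum (p.Fiber (S ⧸ I)) ≃ₜ ↥(Module.support (p.Fiber S) (FlatCA.fiberMod p S N)) :=
      hemb.toIsEmbedding.toHomeomorph.trans (Homeomorph.setCongr hrange)
    have : e x' = ⟨x, hx⟩ := Subtype.ext hx'
    rw [← this, FibDim.localDim_homeomorph]

omit [Algebra.FiniteType R S] in
/-- Lifting an étale neighbourhood of the closed subscheme. -/
theorem exists_lift (I : Ideal S) {C' R' : Type u} [CommRing C'] [CommRing R'] [Algebra R R'] [Algebra.Etale R R']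
    [Algebra (S ⧸ I) C'] [Algebra.Etale (S ⧸ I) C'] (ρ : R' →+* C')
    (hρ : ∀ r, ρ (algebraMap R R' r) = algebraMap (S ⧸ I) C' (Ideal.Quotient.mk I (algebraMap R S r))) :
    ∃ (S' : Type u) (_ : CommRing S') (_ : Algebra S S') (σ : R' →+* S') (π : S' →+* C'),
      Algebra.Etale S S' ∧ Function.Surjective π ∧
      (∀ s, π (algebraMap S S' s) = algebraMap (S ⧸ I) C' (Ideal.Quotient.mk I s)) ∧ π.comp σ = ρ ∧
      (∀ r, σ (algebraMap R R' r) = algebraMap S S' (algebraMap R S r)) ∧
      RingHom.ker π = I.map (algebraMap S S') := by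
  classical
  letI : Algebra S C' := ((algebraMap (S ⧸ I) C').comp (Ideal.Quotient.mk I)).toAlgebra
  haveI : IsScalarTower S (S ⧸ I) C' := .of_algebraMap_eq' rfl
  letI : Algebra R C' := ((algebraMap S C').comp (algebraMap R S)).toAlgebra
  haveI : IsScalarTower R S C' := .of_algebraMap_eq' rfl
  let SR := S ⊗[R] R'
  let ρ' : R' →ₐ[R] C' := { ρ with commutes' := hρ }
  let ι' : SR →ₐ[S] C' := Algebra.TensorProduct.lift (Algebra.ofId S C') ρ' fun _ _ => Commute.all _ _
  let J : Ideal SR := I.map (algebraMap S SR)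
  have hJ : J ≤ RingHom.ker ι' := Ideal.map_le_iff_le_comap.2 fun i hi => by
    show ι' (algebraMap S SR i) = 0
    rw [AlgHom.commutes]
    show algebraMap (S ⧸ I) C' (Ideal.Quotient.mk I i) = 0
    rw [Ideal.Quotient.eq_zero_iff_mem.2 hi, map_zero]
  letI : Algebra (SR ⧸ J) C' := (Ideal.Quotient.lift J ι'.toRingHom hJ).toAlgebra
  letI : Algebra (S ⧸ I) (SR ⧸ J) := (Ideal.quotientMap J (algebraMap S SR) Ideal.le_comap_map).toAlgebra
  haveI : IsScalarTower S (S ⧸ I) (SR ⧸ J) := .of_algebraMap_eq fun s => rfl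
  haveI : IsScalarTower (S ⧸ I) (SR ⧸ J) C' := .of_algebraMap_eq' (Ideal.Quotient.ringHom_ext (RingHom.ext fun s => by
    show algebraMap S C' s = ι' (algebraMap S SR s)
    rw [AlgHom.commutes]))
  haveI : Algebra.FormallyUnramified S SR := inferInstance
  haveI : Algebra.FormallyUnramified SR (SR ⧸ J) :=
    .of_surjective (Algebra.ofId SR (SR ⧸ J)) Ideal.Quotient.mk_surjective
  haveI : Algebra.FormallyUnramified S (SR ⧸ J) := .comp S SR _
  haveI : Algebra.FormallyUnramified (S ⧸ I) (SR ⧸ J) := .of_restrictScalars S (S ⧸ I) _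
  haveI : Algebra.FormallyEtale (SR ⧸ J) C' := Algebra.FormallyEtale.of_restrictScalars (R := S ⧸ I)
  haveI : Algebra.FiniteType (S ⧸ I) (SR ⧸ J) := by
    haveI : Algebra.FiniteType S (SR ⧸ J) :=
      Algebra.FiniteType.trans (R := S) (S := SR) inferInstance inferInstance
    exact Algebra.FiniteType.of_restrictScalars_finiteType S _ _
  haveI : Algebra.FinitePresentation (SR ⧸ J) C' :=
    Algebra.FinitePresentation.of_restrict_scalars_finitePresentation (S ⧸ I) _ _
  haveI : Algebra.Etale (SR ⧸ J) C' := ⟨inferInstance, inferInstance⟩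
  obtain ⟨S', _, _, hS'et, ⟨ε⟩⟩ := Groth.Agent.S9436.result SR J C'
  haveI := hS'et
  let π : S' →+* C' := ε.toRingHom.comp (Algebra.TensorProduct.includeRight : S' →ₐ[SR] (SR ⧸ J) ⊗[SR] S').toRingHom
  have hπ : ∀ s : SR, π (algebraMap SR S' s) = ι' s := fun s => by
    show ε ((1 : SR ⧸ J) ⊗ₜ[SR] algebraMap SR S' s) = _
    rw [← Algebra.TensorProduct.tmul_one_eq_one_tmul]
    exact ε.commutes (Ideal.Quotient.mk J s)
  have hπsurj : Function.Surjective π := by
    intro c
    obtain ⟨t, rfl⟩ := ε.surjective c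
    suffices ∃ s' : S', (1 : SR ⧸ J) ⊗ₜ[SR] s' = t by
      obtain ⟨s', hs'⟩ := this
      exact ⟨s', congrArg ε hs'⟩
    induction t using TensorProduct.induction_on with
    | zero => exact ⟨0, TensorProduct.tmul_zero _ _⟩
    | add a b ha hb =>
      obtain ⟨a', rfl⟩ := ha
      obtain ⟨b', rfl⟩ := hb
      exact ⟨a' + b', TensorProduct.tmul_add _ _ _⟩
    | tmul a b =>
      obtain ⟨a', rfl⟩ := Ideal.Quotient.mk_surjective a
      refine ⟨a' • b, ?_⟩
      rw [TensorProduct.tmul_smul, TensorProduct.smul_tmul']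
      congr 1
      exact (Algebra.algebraMap_eq_smul_one a').symm
  letI : Algebra S S' := ((algebraMap SR S').comp (algebraMap S SR)).toAlgebra
  haveI : IsScalarTower S SR S' := .of_algebraMap_eq' rfl
  let σ : R' →+* S' := (algebraMap SR S').comp (Algebra.TensorProduct.includeRight : R' →ₐ[R] SR).toRingHom
  refine ⟨S', inferInstance, inferInstance, σ, π, Algebra.Etale.comp S SR S', hπsurj, fun s => ?_, ?_, fun r => ?_, ?_⟩
  · rw [IsScalarTower.algebraMap_apply S SR S', hπ, AlgHom.commutes]
    rfl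
  · refine RingHom.ext fun r => ?_
    show π (algebraMap SR S' ((1 : S) ⊗ₜ[R] r)) = ρ r
    rw [hπ, Algebra.TensorProduct.lift_tmul, map_one, one_mul]
    rfl
  · show algebraMap SR S' ((Algebra.TensorProduct.includeRight : R' →ₐ[R] SR) (algebraMap R R' r)) =
      algebraMap SR S' (algebraMap S SR (algebraMap R S r))
    rw [AlgHom.commutes, ← IsScalarTower.algebraMap_apply R S SR]
  · have h1 : RingHom.ker π = J.map (algebraMap SR S') := by
      ext s
      rw [RingHom.mem_ker]
      show ε ((1 : SR ⧸ J) ⊗ₜ[SR] s) = 0 ↔ _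
      rw [map_eq_zero_iff ε ε.injective]
      have hcomm : ((1 : SR ⧸ J) ⊗ₜ[SR] s) = 0 ↔ (s ⊗ₜ[SR] (1 : SR ⧸ J)) = 0 :=
        ((TensorProduct.comm SR (SR ⧸ J) S').map_eq_zero_iff).symm
      rw [hcomm, ← Algebra.TensorProduct.quotIdealMapEquivTensorQuot_mk, map_eq_zero_iff _
        (Algebra.TensorProduct.quotIdealMapEquivTensorQuot S' J).injective, Ideal.Quotient.eq_zero_iff_mem]
    rw [h1, Ideal.map_map]
    rfl

theorem bijective_residueField_lift {A B C C' : Type u} [CommRing A] [CommRing B] [CommRing C] [CommRing C']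
    (a : A →+* B) (b : B →+* C') (c : A →+* C) (d : C →+* C') (hsq : b.comp a = d.comp c)
    (hb : Function.Surjective b) (hc : Function.Surjective c) (q : Ideal A) (q' : Ideal B) (u : Ideal C)
    (z : Ideal C') [q.IsPrime] [q'.IsPrime] [u.IsPrime] [z.IsPrime] (h1 : q = q'.comap a) (h2 : q' = z.comap b)
    (h3 : q = u.comap c) (h4 : u = z.comap d) (hd : Function.Bijective (Ideal.ResidueField.map u z d h4)) :
    Function.Bijective (Ideal.ResidueField.map q q' a h1) := by
  have hcomp : (Ideal.ResidueField.map q' z b h2).comp (Ideal.ResidueField.map q q' a h1) =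
      (Ideal.ResidueField.map u z d h4).comp (Ideal.ResidueField.map q u c h3) := by
    refine Ideal.ResidueField.ringHom_ext (RingHom.ext fun s => ?_)
    simp only [RingHom.comp_apply, Ideal.ResidueField.map_algebraMap]
    exact congrArg (algebraMap C' z.ResidueField) (RingHom.congr_fun hsq s)
  have hbb : Function.Bijective (Ideal.ResidueField.map q' z b h2) :=
    (RingHom.surjectiveOnStalks_of_surjective hb).residueFieldMap_bijective q' z h2
  have hcb : Function.Bijective (Ideal.ResidueField.map q u c h3) :=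
    (RingHom.surjectiveOnStalks_of_surjective hc).residueFieldMap_bijective q u h3
  have : Function.Bijective ((Ideal.ResidueField.map q' z b h2).comp (Ideal.ResidueField.map q q' a h1)) := by
    rw [hcomp]; exact hd.comp hcb
  exact (Function.Bijective.of_comp_iff' hbb _).mp this

theorem smul_eq_zero_of_mem_ker {S' : Type u} [CommRing S'] [Algebra S S'] (N : Type u) [AddCommGroup N]
    [Module S N] (I : Ideal S) (hI : I ≤ Module.annihilator S N) (c : S') (hc : c ∈ I.map (algebraMap S S'))
    (g : S' ⊗[S] N) : c • g = 0 := by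
  induction hc using Submodule.span_induction with
  | mem _ h =>
    obtain ⟨i, hi, rfl⟩ := h
    induction g using TensorProduct.induction_on with
    | zero => rw [smul_zero]
    | add a b ha hb => rw [smul_add, ha, hb, add_zero]
    | tmul a n =>
      rw [algebraMap_smul, ← TensorProduct.tmul_smul, Module.mem_annihilator.1 (hI hi) n, TensorProduct.tmul_zero]
  | zero => rw [zero_smul]
  | add a b _ _ ha hb => rw [add_smul, ha, hb, add_zero]
  | smul r a _ ha => rw [smul_eq_mul, mul_smul, ha, smul_zero]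

/-- Existence of elementary dévissages. -/
theorem exists_elemDevissage (N : Type u) [AddCommGroup N] [Module S N] [Module R N] [IsScalarTower R S N]
    [Module.Finite S N] (p : Ideal R) [p.IsPrime] (q : Ideal S) [q.IsPrime] [q.LiesOver p] (n : ℕ)
    (x : PrimeSpectrum (p.Fiber S)) (hxq : x.asIdeal = FlatCA.fiberIdeal p q)
    (hx : x ∈ Module.support (p.Fiber S) (FlatCA.fiberMod p S N))
    (hn : FlatMor.localDim (Module.support (p.Fiber S) (FlatCA.fiberMod p S N)) ⟨x, hx⟩ = n) :
    Nonempty (FlatCA.ElemDevissage R S N p q n) := by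
  classical
  obtain ⟨I, hIfg, hIann, hI⟩ := exists_fg_le_annihilator (S := S) p N
  obtain ⟨x', hx'q, hx'dim⟩ := exists_point_quotient p q N x hxq hx I hI
  let u : Ideal (S ⧸ I) := x'.asIdeal.comap (Algebra.TensorProduct.includeRight : (S ⧸ I) →ₐ[R] p.Fiber (S ⧸ I))
  haveI : u.IsPrime := inferInstance
  obtain ⟨R', C', D, _, _, _, _, _, _, _, p', z, y, _, _, _, hcompat, hR', hC', hfin, hzy, huniq, ⟨hpy, hpt⟩, hsm, hgi⟩ :=
    locStr_ring p u x' rfl n (hx'dim.trans hn)
  haveI := hR'.1
  haveI := hC'.1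
  obtain ⟨hzu, hbijC⟩ := hC'.2
  obtain ⟨S', _, _, σ, π, hS'et, hπsurj, hπS, hπσ, hσR, hker⟩ :=
    exists_lift (R := R) (S := S) I ((algebraMap D C').comp (algebraMap R' D)) fun r => hcompat r
  letI : Algebra R' C' := ((algebraMap D C').comp (algebraMap R' D)).toAlgebra
  haveI : IsScalarTower R' D C' := .of_algebraMap_eq' rfl
  letI : Algebra R' S' := σ.toAlgebra
  letI : Algebra R S' := ((algebraMap S S').comp (algebraMap R S)).toAlgebra
  haveI : IsScalarTower R S S' := .of_algebraMap_eq' rfl
  haveI : IsScalarTower R R' S' := .of_algebraMap_eq fun r => (hσR r).symm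
  letI : Algebra S' C' := π.toAlgebra
  haveI : IsScalarTower R' S' C' := .of_algebraMap_eq' hπσ.symm
  let q' : Ideal S' := z.comap π
  haveI : q'.IsPrime := inferInstance
  haveI : q'.LiesOver p' := ⟨by
    rw [Ideal.under_def, Ideal.comap_comap, show π.comp (algebraMap R' S') = _ from hπσ, ← Ideal.comap_comap, hzy]
    exact hpy⟩
  have hq'q : q = q'.comap (algebraMap S S') := by
    rw [Ideal.comap_comap, show π.comp (algebraMap S S') = (algebraMap (S ⧸ I) C').comp (Ideal.Quotient.mk I) from
      RingHom.ext hπS, ← Ideal.comap_comap, ← Ideal.under_def, ← hzu.over]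
    exact hx'q.symm
  have hbijS : Function.Bijective (Ideal.ResidueField.mapₐ q q' (Algebra.ofId S S') hq'q) :=
    bijective_residueField_lift (algebraMap S S') π (Ideal.Quotient.mk I) (algebraMap (S ⧸ I) C')
      (RingHom.ext hπS) hπsurj Ideal.Quotient.mk_surjective q q' u z hq'q rfl hx'q.symm hzu.over hbijC
  haveI : z.LiesOver q' := ⟨rfl⟩
  let N' := S' ⊗[S] N
  letI : Module (S' ⧸ RingHom.ker π) N' :=
    Module.IsTorsionBySet.module (fun g c => smul_eq_zero_of_mem_ker N I hIann c.1 (hker ▸ c.2) g)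
  let θ : C' →+* S' ⧸ RingHom.ker π := (RingHom.quotientKerEquivOfSurjective hπsurj).symm.toRingHom
  letI : Module C' N' := Module.compHom N' θ
  haveI : IsScalarTower S' C' N' := IsScalarTower.of_algebraMap_smul fun c g => by
    show θ (π c) • g = c • g
    rw [show θ (π c) = Ideal.Quotient.mk _ c from (RingEquiv.symm_apply_eq _).2 rfl]
    rfl
  letI : Module D N' := Module.compHom N' (algebraMap D C')
  haveI : IsScalarTower D C' N' := IsScalarTower.of_algebraMap_smul fun _ _ => rfl
  haveI : IsScalarTower R' C' N' := IsScalarTower.of_algebraMap_smul fun r g => by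
    rw [IsScalarTower.algebraMap_apply R' S' C' r, algebraMap_smul, algebraMap_smul]
  haveI : IsScalarTower R' D N' := IsScalarTower.of_algebraMap_smul fun r g => by
    show algebraMap D C' (algebraMap R' D r) • g = r • g
    rw [← IsScalarTower.algebraMap_apply R' D C', algebraMap_smul]
  haveI : z.LiesOver y := ⟨hzy.symm⟩
  haveI : y.LiesOver p' := ⟨hpy⟩
  exact ⟨{
    R' := R', S' := S', C := C', D := D, N' := N', G := N'
    p' := p', q' := q', z := z, y := y
    etaleR := hR'
    etaleS := ⟨hS'et, ⟨hq'q⟩, hbijS⟩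
    f := TensorProduct.mk S S' N 1
    isBaseChange := TensorProduct.isBaseChange S N S'
    surjC := hπsurj
    fpC := Algebra.FinitePresentation.of_surjective (f := Algebra.ofId S' C') hπsurj
      (by show (RingHom.ker π).FG; rw [hker]; exact hIfg.map _)
    iso := LinearEquiv.refl S' N'
    finiteDC := hfin
    finiteG := Module.Finite.of_restrictScalars_finite S' C' N'
    uniq := fun z₁ _ hz₁ => huniq z₁ hz₁.over.symm
    pureTrans := PT.purelyTranscendental p' y hpt
    smooth := hsm
    geomInt := hgi }⟩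

end Groth.Agent.RG
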