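import Groth.Agent.RG.FPInduction
import Groth.Agent.RG.ElemExists
import Groth.Agent.AlgSpDec.FibreDimEtale
import Groth.Agent.DescLib.LocalDim
import Groth.Agent.FibDim.RingLoc

/-!
# The dimension of the support along an étale localisation
-/

set_option autoImplicit false
set_option linter.style.haveILetI false
set_option linter.unusedSectionVars false
set_option backward.isDefEq.respectTransparency false
set_option maxHeartbeats 1000000

universe u

open TensorProduct AlgebraicGeometry CategoryTheory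

namespace Groth.Agent.RG

attribute [local instance] Algebra.TensorProduct.rightAlgebra

theorem localDim_fiber_eq {A B : Type u} [CommRing A] [CommRing B] [Algebra A B] (p : Ideal A) [p.IsPrime]
    (q : PrimeSpectrum B) (hq : q.asIdeal.under A = p) (Q : PrimeSpectrum (p.Fiber B))
    (hQ : Q.asIdeal.comap (Algebra.TensorProduct.includeRight : B →ₐ[A] p.Fiber B) = q.asIdeal) :
    FlatMor.localDim (PrimeSpectrum (p.Fiber B)) Q =
      FlatMor.fibreDimAt (Spec.map (CommRingCat.ofHom (algebraMap A B))) q := by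
  subst hq
  exact FibDim.localDim_fiber_eq_fibreDimAt q Q hQ

theorem etale_SpecMap (A B : Type u) [CommRing A] [CommRing B] [Algebra A B] [Algebra.Etale A B] :
    Etale (Spec.map (CommRingCat.ofHom (algebraMap A B))) := by
  rw [HasRingHomProperty.Spec_iff (P := @Etale)]
  exact RingHom.etale_algebraMap.2 inferInstance

variable {R S R' S' : Type u} [CommRing R] [CommRing S] [CommRing R'] [CommRing S'] [Algebra R S] [Algebra R R']
  [Algebra S S'] [Algebra R' S'] [Algebra R S'] [IsScalarTower R R' S'] [IsScalarTower R S S']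

/-- The local dimension of the support is at most the dimension of the support after étale localisation. -/
theorem le_supportDim_of_etale [Algebra.FiniteType R S] [Algebra.Etale R R'] [Algebra.Etale S S']
    (N : Type u) [AddCommGroup N] [Module S N] [Module R N] [IsScalarTower R S N] [Module.Finite S N]
    (p : Ideal R) [p.IsPrime] (q : Ideal S) [q.IsPrime] [q.LiesOver p]
    (p' : Ideal R') [p'.IsPrime] (q' : Ideal S') [q'.IsPrime] [q'.LiesOver q] [q'.LiesOver p']
    (G : Type u) [AddCommGroup G] [Module S' G] [Module.Finite S' G] (e : (S' ⊗[S] N) ≃ₗ[S'] G) {n : ℕ}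
    (x : PrimeSpectrum (p.Fiber S)) (hxq : x.asIdeal = FlatCA.fiberIdeal p q)
    (hx : x ∈ Module.support (p.Fiber S) (FlatCA.fiberMod p S N))
    (hn : FlatMor.localDim (Module.support (p.Fiber S) (FlatCA.fiberMod p S N)) ⟨x, hx⟩ = n) :
    (n : WithBot ℕ∞) ≤ Module.supportDim (p'.Fiber S') (FlatCA.fiberMod p' S' G) := by
  let I := Module.annihilator S N
  obtain ⟨x', hx'q, hx'dim⟩ := exists_point_quotient p q N x hxq hx I rfl
  let qb : PrimeSpectrum (S ⧸ I) :=
    ⟨x'.asIdeal.comap (Algebra.TensorProduct.includeRight : (S ⧸ I) →ₐ[R] p.Fiber (S ⧸ I)), inferInstance⟩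
  have hqbq : qb.asIdeal.comap (Ideal.Quotient.mk I) = q := hx'q
  have hqbp : qb.asIdeal.under R = p := by
    rw [Ideal.under_def, show algebraMap R (S ⧸ I) = (Ideal.Quotient.mk I).comp (algebraMap R S) from rfl,
      ← Ideal.comap_comap, hqbq, ← Ideal.under_def]
    exact (Ideal.LiesOver.over (P := q) (p := p)).symm
  let J : Ideal S' := I.map (algebraMap S S')
  let T := S' ⧸ J
  letI : Algebra (S ⧸ I) T := (Ideal.quotientMap J (algebraMap S S') Ideal.le_comap_map).toAlgebra
  haveI : IsScalarTower S (S ⧸ I) T := .of_algebraMap_eq fun _ => rfl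
  haveI : IsScalarTower R (S ⧸ I) T := .of_algebraMap_eq fun r => by
    show Ideal.Quotient.mk J (algebraMap R S' r) = Ideal.Quotient.mk J (algebraMap S S' (algebraMap R S r))
    rw [← IsScalarTower.algebraMap_apply R S S']
  haveI : Algebra.Etale (S ⧸ I) T := by
    haveI : Algebra.Etale (S ⧸ I) ((S ⧸ I) ⊗[S] S') := inferInstance
    let ε : ((S ⧸ I) ⊗[S] S') ≃ₐ[S] T :=
      (Algebra.TensorProduct.comm S (S ⧸ I) S').trans
        ((Algebra.TensorProduct.quotIdealMapEquivTensorQuot S' I).symm.restrictScalars S)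
    let ε' : ((S ⧸ I) ⊗[S] S') ≃ₐ[S ⧸ I] T :=
      { ε with
        commutes' := fun a => by
          obtain ⟨a, rfl⟩ := Ideal.Quotient.mk_surjective a
          show ε (algebraMap (S ⧸ I) ((S ⧸ I) ⊗[S] S') (Ideal.Quotient.mk I a)) = algebraMap (S ⧸ I) T (Ideal.Quotient.mk I a)
          rw [← Ideal.Quotient.algebraMap_eq, ← IsScalarTower.algebraMap_apply, ← IsScalarTower.algebraMap_apply,
            AlgEquiv.commutes] }
    exact Algebra.Etale.of_equiv ε'
  have hJq : J ≤ q' := Ideal.map_le_iff_le_comap.2 (by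
    rw [← Ideal.under_def, ← Ideal.LiesOver.over (P := q') (p := q), ← hqbq]
    exact (Ideal.mk_ker (I := I)).ge.trans (Ideal.comap_mono bot_le))
  let qT : PrimeSpectrum T := ⟨q'.map (Ideal.Quotient.mk J),
    Ideal.map_isPrime_of_surjective Ideal.Quotient.mk_surjective (by rwa [Ideal.mk_ker])⟩
  have hqT : qT.asIdeal.comap (Ideal.Quotient.mk J) = q' := by
    rw [Ideal.comap_map_of_surjective _ Ideal.Quotient.mk_surjective, ← RingHom.ker_eq_comap_bot, Ideal.mk_ker, sup_eq_left]
    exact hJq
  have hqTb : PrimeSpectrum.comap (algebraMap (S ⧸ I) T) qT = qb := by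
    refine PrimeSpectrum.ext (Ideal.comap_injective_of_surjective _ Ideal.Quotient.mk_surjective ?_)
    rw [PrimeSpectrum.comap_asIdeal, Ideal.comap_comap,
      show (algebraMap (S ⧸ I) T).comp (Ideal.Quotient.mk I) = (Ideal.Quotient.mk J).comp (algebraMap S S') from rfl,
      ← Ideal.comap_comap, hqT, hqbq]
    exact (Ideal.LiesOver.over (P := q') (p := q)).symm
  have hqTp : qT.asIdeal.under R' = p' := by
    rw [Ideal.under_def, show algebraMap R' T = (Ideal.Quotient.mk J).comp (algebraMap R' S') from rfl,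
      ← Ideal.comap_comap, hqT]
    exact (Ideal.LiesOver.over (P := q') (p := p')).symm
  haveI := etale_SpecMap (S ⧸ I) T
  haveI := etale_SpecMap R R'
  have hd : FlatMor.fibreDimAt (Spec.map (CommRingCat.ofHom (algebraMap R (S ⧸ I)))) qb =
      FlatMor.fibreDimAt (Spec.map (CommRingCat.ofHom (algebraMap R' T))) qT := by
    refine Eq.trans ?_ (DescLib.fibreDimAt_eq_of_etale (Spec.map (CommRingCat.ofHom (algebraMap R (S ⧸ I))))
      (Spec.map (CommRingCat.ofHom (algebraMap R' T))) (Spec.map (CommRingCat.ofHom (algebraMap (S ⧸ I) T)))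
      (Spec.map (CommRingCat.ofHom (algebraMap R R'))) ?_ qT)
    · rw [← hqTb]; rfl
    · rw [← Spec.map_comp, ← Spec.map_comp, ← CommRingCat.ofHom_comp, ← CommRingCat.ofHom_comp,
        show (algebraMap R' T).comp (algebraMap R R') = algebraMap R T from
          RingHom.ext fun r => congrArg (Ideal.Quotient.mk J) (IsScalarTower.algebraMap_apply R R' S' r).symm,
        ← IsScalarTower.algebraMap_eq R (S ⧸ I) T]
  let ξ := PrimeSpectrum.primesOverOrderIsoFiber R' T p' ⟨qT.asIdeal, qT.2, ⟨hqTp.symm⟩⟩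
  have hξ : ξ.asIdeal.comap (Algebra.TensorProduct.includeRight : T →ₐ[R'] p'.Fiber T) = qT.asIdeal :=
    congr($((PrimeSpectrum.primesOverOrderIsoFiber R' T p').symm_apply_apply ⟨qT.asIdeal, qT.2, ⟨hqTp.symm⟩⟩).1)
  have h1 : (n : WithBot ℕ∞) = FlatMor.localDim (PrimeSpectrum (p'.Fiber T)) ξ := by
    rw [localDim_fiber_eq p' qT hqTp ξ hξ, ← hd, ← localDim_fiber_eq p qb hqbp x' rfl, hx'dim, hn]
  rw [h1]
  refine (H23.TopDim.localDim_le_dim ξ).trans ?_
  haveI : Module.Finite (p'.Fiber S') (FlatCA.fiberMod p' S' G) :=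
    inferInstanceAs (Module.Finite (p'.Fiber S') ((p'.Fiber S') ⊗[S'] G))
  rw [← topologicalKrullDim_support]
  let m := Algebra.TensorProduct.map (AlgHom.id R' p'.ResidueField) (Ideal.Quotient.mkₐ R' J)
  have hm : Function.Surjective m :=
    TensorProduct.map_surjective Function.surjective_id Ideal.Quotient.mk_surjective
  have hemb := PrimeSpectrum.isClosedEmbedding_comap_of_surjective _ m.toRingHom hm
  have hrange : Set.range (PrimeSpectrum.comap m.toRingHom) ⊆
      Module.support (p'.Fiber S') (FlatCA.fiberMod p' S' G) := by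
    rintro _ ⟨P, rfl⟩
    show _ ∈ Module.support (p'.Fiber S') ((p'.Fiber S') ⊗[S'] G)
    rw [QCoh.mem_support_baseChange (TensorProduct.isBaseChange S' G (p'.Fiber S')) _, ← e.support_eq,
      QCoh.mem_support_baseChange (TensorProduct.isBaseChange S N S') _, Module.support_eq_zeroLocus,
      PrimeSpectrum.mem_zeroLocus]
    intro i hi
    show algebraMap S' (p'.Fiber S') (algebraMap S S' i) ∈ (PrimeSpectrum.comap m.toRingHom P).asIdeal
    rw [PrimeSpectrum.comap_asIdeal, Ideal.mem_comap]
    show m ((1 : p'.ResidueField) ⊗ₜ[R'] algebraMap S S' i) ∈ P.asIdeal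
    rw [Algebra.TensorProduct.map_tmul, show Ideal.Quotient.mkₐ R' J (algebraMap S S' i) = 0 from
      Ideal.Quotient.eq_zero_iff_mem.2 (Ideal.mem_map_of_mem _ hi), TensorProduct.tmul_zero]
    exact P.asIdeal.zero_mem
  exact ((Topology.IsEmbedding.inclusion hrange).comp
    hemb.toIsEmbedding.toHomeomorph.isEmbedding).isInducing.topologicalKrullDim_le

end Groth.Agent.RG
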