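import Groth.Agent.RG.StepShrink

/-!
# Shrinkings inside standard opens
-/

set_option autoImplicit false
set_option linter.style.haveILetI false
set_option linter.unusedSectionVars false
set_option backward.isDefEq.respectTransparency false
set_option backward.isDefEq.respectTransparency.types false
set_option maxHeartbeats 1000000

universe u

open TensorProduct
open FlatMor

namespace Groth.Agent.RG

theorem liesOver_map_away {R R₁ A A₁ : Type u} [CommRing R] [CommRing R₁] [CommRing A] [CommRing A₁] [Algebra R R₁]
    [Algebra A A₁] [Algebra R A] [Algebra R₁ A₁] [Algebra R A₁] [IsScalarTower R R₁ A₁] [IsScalarTower R A A₁]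
    (g : R) [IsLocalization.Away g R₁] (a : A) [IsLocalization.Away a A₁] (p : Ideal R) [p.IsPrime] (P : Ideal A)
    [P.IsPrime] [P.LiesOver p] (hg : g ∉ p) (ha : a ∉ P) :
    (P.map (algebraMap A A₁)).LiesOver (p.map (algebraMap R R₁)) := by
  haveI := (map_away_isPrime (A₁ := R₁) g p hg).1
  haveI := (map_away_isPrime (A₁ := A₁) a P ha).1
  refine ⟨congrArg PrimeSpectrum.asIdeal (PrimeSpectrum.localization_comap_injective R₁ (Submonoid.powers g)
    (a₁ := (⟨p.map (algebraMap R R₁), inferInstance⟩ : PrimeSpectrum R₁))
    (a₂ := PrimeSpectrum.comap (algebraMap R₁ A₁) ⟨P.map (algebraMap A A₁), inferInstance⟩) (PrimeSpectrum.ext ?_))⟩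
  simp only [PrimeSpectrum.comap_asIdeal]
  rw [(map_away_isPrime (A₁ := R₁) g p hg).2, Ideal.comap_comap, ← IsScalarTower.algebraMap_eq R R₁ A₁,
    IsScalarTower.algebraMap_eq R A A₁, ← Ideal.comap_comap, (map_away_isPrime (A₁ := A₁) a P ha).2]
  exact Ideal.LiesOver.over (P := P) (p := p)

/-- The shrinking to standard opens with compatible images. -/
theorem oneStep_shrink_away
    (R S : Type u) [CommRing R] [CommRing S] [Algebra R S] [Algebra.FiniteType R S]
    (N : Type u) [AddCommGroup N] [Module S N] [Module R N] [IsScalarTower R S N] [Module.Finite S N]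
    (p : Ideal R) [p.IsPrime] (q : Ideal S) [q.IsPrime] [q.LiesOver p]
    (C D G : Type u) [CommRing C] [CommRing D] [Algebra S C] [Algebra R C] [IsScalarTower R S C]
    [Algebra R D] [Algebra D C] [IsScalarTower R D C] [AddCommGroup G] [Module C G] [Module S G]
    [IsScalarTower S C G] (n : ℕ)
    (h : FlatCA.IsOneStepDevissage R S N p C D G n)
    (z : Ideal C) [z.IsPrime] (y : Ideal D) [y.IsPrime] [z.LiesOver q] [z.LiesOver y] [y.LiesOver p]
    (h1 : ∃ (ξ : PrimeSpectrum (p.Fiber S)) (hξ : ξ ∈ Module.support (p.Fiber S) (FlatCA.fiberMod p S N)),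
      ξ.asIdeal = FlatCA.fiberIdeal p q ∧
      FlatMor.localDim (Module.support (p.Fiber S) (FlatCA.fiberMod p S N)) ⟨ξ, hξ⟩ = n)
    (h3 : ∀ (z₁ : Ideal C) [z₁.IsPrime], z₁.LiesOver y → z₁ = z)
    (h4 : FlatCA.PurelyTranscendental p y)
    (g : R) (hX : S) (hY : D) (hZ : C) (hgp : g ∉ p) (hqX : hX ∉ q) (hzZ : hZ ∉ z) (hyY : hY ∉ y)
    (hgX : algebraMap R S g ∣ hX) (hgY : algebraMap R D g ∣ hY)
    (hXZ : algebraMap S C hX = hZ) (hYZ : algebraMap D C hY = hZ)
    (hne : ∀ t : PrimeSpectrum R, g ∉ t.asIdeal →
      ∃ Q : PrimeSpectrum D, hY ∉ Q.asIdeal ∧ PrimeSpectrum.comap (algebraMap R D) Q = t) :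
      ∃ (_ : Algebra (Localization.Away g) (Localization.Away hX)) (_ : IsScalarTower R (Localization.Away g) (Localization.Away hX))
        (_ : Algebra (Localization.Away g) (Localization.Away hZ)) (_ : IsScalarTower R (Localization.Away g) (Localization.Away hZ))
        (_ : Algebra (Localization.Away g) (Localization.Away hY)) (_ : IsScalarTower R (Localization.Away g) (Localization.Away hY))
        (_ : Algebra (Localization.Away hX) (Localization.Away hZ)) (_ : IsScalarTower S (Localization.Away hX) (Localization.Away hZ))
        (_ : IsScalarTower (Localization.Away g) (Localization.Away hX) (Localization.Away hZ))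
        (_ : Algebra (Localization.Away hY) (Localization.Away hZ)) (_ : IsScalarTower D (Localization.Away hY) (Localization.Away hZ))
        (_ : IsScalarTower (Localization.Away g) (Localization.Away hY) (Localization.Away hZ))
        (_ : Module (Localization.Away g) (LocalizedModule (Submonoid.powers hX) N)) (_ : IsScalarTower (Localization.Away g) (Localization.Away hX) (LocalizedModule (Submonoid.powers hX) N))
        (_ : Module (Localization.Away hX) (LocalizedModule (Submonoid.powers hZ) G)) (_ : IsScalarTower (Localization.Away hX) (Localization.Away hZ) (LocalizedModule (Submonoid.powers hZ) G))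
        (_ : (Ideal.map (algebraMap R (Localization.Away g)) p).IsPrime) (_ : (Ideal.map (algebraMap D (Localization.Away hY)) y).IsPrime) (_ : (Ideal.map (algebraMap D (Localization.Away hY)) y).LiesOver (Ideal.map (algebraMap R (Localization.Away g)) p)),
        FlatCA.IsOneStepDevissage (Localization.Away g) (Localization.Away hX) (LocalizedModule (Submonoid.powers hX) N) (Ideal.map (algebraMap R (Localization.Away g)) p) (Localization.Away hZ) (Localization.Away hY) (LocalizedModule (Submonoid.powers hZ) G) n ∧
        (∃ (ξ : PrimeSpectrum ((Ideal.map (algebraMap R (Localization.Away g)) p).Fiber (Localization.Away hX)))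
            (hξ : ξ ∈ Module.support ((Ideal.map (algebraMap R (Localization.Away g)) p).Fiber (Localization.Away hX)) (FlatCA.fiberMod (Ideal.map (algebraMap R (Localization.Away g)) p) (Localization.Away hX) (LocalizedModule (Submonoid.powers hX) N))),
          ξ.asIdeal = FlatCA.fiberIdeal (Ideal.map (algebraMap R (Localization.Away g)) p) (Ideal.map (algebraMap S (Localization.Away hX)) q) ∧
          FlatMor.localDim (Module.support ((Ideal.map (algebraMap R (Localization.Away g)) p).Fiber (Localization.Away hX)) (FlatCA.fiberMod (Ideal.map (algebraMap R (Localization.Away g)) p) (Localization.Away hX) (LocalizedModule (Submonoid.powers hX) N))) ⟨ξ, hξ⟩ = n) ∧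
        (Ideal.map (algebraMap C (Localization.Away hZ)) z).LiesOver (Ideal.map (algebraMap S (Localization.Away hX)) q) ∧ (Ideal.map (algebraMap C (Localization.Away hZ)) z).LiesOver (Ideal.map (algebraMap D (Localization.Away hY)) y) ∧
        (∀ (z₂ : Ideal (Localization.Away hZ)) [z₂.IsPrime], z₂.LiesOver (Ideal.map (algebraMap D (Localization.Away hY)) y) → z₂ = Ideal.map (algebraMap C (Localization.Away hZ)) z) ∧
        FlatCA.PurelyTranscendental (Ideal.map (algebraMap R (Localization.Away g)) p) (Ideal.map (algebraMap D (Localization.Away hY)) y) := by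
  have hgX' : IsUnit (algebraMap R (Localization.Away hX) g) := by
    rw [IsScalarTower.algebraMap_apply R S (Localization.Away hX)]
    exact isUnit_of_dvd_unit (map_dvd _ hgX) (IsLocalization.Away.algebraMap_isUnit hX)
  have hgY' : IsUnit (algebraMap R (Localization.Away hY) g) := by
    rw [IsScalarTower.algebraMap_apply R D (Localization.Away hY)]
    exact isUnit_of_dvd_unit (map_dvd _ hgY) (IsLocalization.Away.algebraMap_isUnit hY)
  have hgZ' : IsUnit (algebraMap R (Localization.Away hZ) g) := by
    rw [IsScalarTower.algebraMap_apply R C (Localization.Away hZ), IsScalarTower.algebraMap_apply R S C]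
    exact isUnit_of_dvd_unit (map_dvd _ (map_dvd _ hgX)) (hXZ ▸ IsLocalization.Away.algebraMap_isUnit (algebraMap S C hX))
  have hXZ' : IsUnit (algebraMap S (Localization.Away hZ) hX) := by
    rw [IsScalarTower.algebraMap_apply S C (Localization.Away hZ), hXZ]
    exact IsLocalization.Away.algebraMap_isUnit hZ
  have hYZ' : IsUnit (algebraMap D (Localization.Away hZ) hY) := by
    rw [IsScalarTower.algebraMap_apply D C (Localization.Away hZ), hYZ]
    exact IsLocalization.Away.algebraMap_isUnit hZ
  letI a1 : Algebra (Localization.Away g) (Localization.Away hX) := (IsLocalization.Away.lift g hgX').toAlgebra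
  haveI t1 : IsScalarTower R (Localization.Away g) (Localization.Away hX) :=
    IsScalarTower.of_algebraMap_eq fun r => (IsLocalization.Away.lift_eq g hgX' r).symm
  letI a2 : Algebra (Localization.Away g) (Localization.Away hZ) := (IsLocalization.Away.lift g hgZ').toAlgebra
  haveI t2 : IsScalarTower R (Localization.Away g) (Localization.Away hZ) :=
    IsScalarTower.of_algebraMap_eq fun r => (IsLocalization.Away.lift_eq g hgZ' r).symm
  letI a3 : Algebra (Localization.Away g) (Localization.Away hY) := (IsLocalization.Away.lift g hgY').toAlgebra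
  haveI t3 : IsScalarTower R (Localization.Away g) (Localization.Away hY) :=
    IsScalarTower.of_algebraMap_eq fun r => (IsLocalization.Away.lift_eq g hgY' r).symm
  letI a4 : Algebra (Localization.Away hX) (Localization.Away hZ) := (IsLocalization.Away.lift hX hXZ').toAlgebra
  haveI t4 : IsScalarTower S (Localization.Away hX) (Localization.Away hZ) :=
    IsScalarTower.of_algebraMap_eq fun r => (IsLocalization.Away.lift_eq hX hXZ' r).symm
  haveI t5 : IsScalarTower (Localization.Away g) (Localization.Away hX) (Localization.Away hZ) :=
    IsScalarTower.of_algebraMap_eq' (IsLocalization.ringHom_ext (Submonoid.powers g) (RingHom.ext fun r => by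
      simp only [RingHom.comp_apply, ← IsScalarTower.algebraMap_apply]
      rw [IsScalarTower.algebraMap_apply R S (Localization.Away hX), ← IsScalarTower.algebraMap_apply S (Localization.Away hX) (Localization.Away hZ),
        IsScalarTower.algebraMap_apply S C (Localization.Away hZ), ← IsScalarTower.algebraMap_apply R S C,
        ← IsScalarTower.algebraMap_apply R C (Localization.Away hZ)]))
  letI a6 : Algebra (Localization.Away hY) (Localization.Away hZ) := (IsLocalization.Away.lift hY hYZ').toAlgebra
  haveI t6 : IsScalarTower D (Localization.Away hY) (Localization.Away hZ) :=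
    IsScalarTower.of_algebraMap_eq fun r => (IsLocalization.Away.lift_eq hY hYZ' r).symm
  haveI t7 : IsScalarTower (Localization.Away g) (Localization.Away hY) (Localization.Away hZ) :=
    IsScalarTower.of_algebraMap_eq' (IsLocalization.ringHom_ext (Submonoid.powers g) (RingHom.ext fun r => by
      simp only [RingHom.comp_apply, ← IsScalarTower.algebraMap_apply]
      rw [IsScalarTower.algebraMap_apply R D (Localization.Away hY), ← IsScalarTower.algebraMap_apply D (Localization.Away hY) (Localization.Away hZ),
        IsScalarTower.algebraMap_apply D C (Localization.Away hZ), ← IsScalarTower.algebraMap_apply R D C,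
        ← IsScalarTower.algebraMap_apply R C (Localization.Away hZ)]))
  letI m8 : Module (Localization.Away g) (LocalizedModule (Submonoid.powers hX) N) :=
    Module.compHom _ (algebraMap (Localization.Away g) (Localization.Away hX))
  haveI t8 : IsScalarTower (Localization.Away g) (Localization.Away hX) (LocalizedModule (Submonoid.powers hX) N) :=
    IsScalarTower.of_algebraMap_smul fun _ _ => rfl
  letI m9 : Module (Localization.Away hX) (LocalizedModule (Submonoid.powers hZ) G) :=
    Module.compHom _ (algebraMap (Localization.Away hX) (Localization.Away hZ))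
  haveI t9 : IsScalarTower (Localization.Away hX) (Localization.Away hZ) (LocalizedModule (Submonoid.powers hZ) G) :=
    IsScalarTower.of_algebraMap_smul fun _ _ => rfl
  haveI hp1 := (map_away_isPrime (A₁ := Localization.Away g) g p hgp).1
  haveI hq1 := (map_away_isPrime (A₁ := Localization.Away hX) hX q hqX).1
  haveI hz1 := (map_away_isPrime (A₁ := Localization.Away hZ) hZ z hzZ).1
  haveI hy1 := (map_away_isPrime (A₁ := Localization.Away hY) hY y hyY).1
  haveI hyo := liesOver_map_away (R₁ := Localization.Away g) (A₁ := Localization.Away hY) g hY p y hgp hyY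
  haveI : (Ideal.map (algebraMap R (Localization.Away g)) p).LiesOver p :=
    ⟨(map_away_isPrime (A₁ := Localization.Away g) g p hgp).2.symm⟩
  exact ⟨a1, t1, a2, t2, a3, t3, a4, t4, t5, a6, t6, t7, m8, t8, m9, t9, hp1, hy1, hyo,
    oneStep_shrink N p q G h z y h1 h3 h4 g hX hY hZ hXZ hYZ hne
      (LocalizedModule (Submonoid.powers hX) N) (LocalizedModule.mkLinearMap (Submonoid.powers hX) N)
      (IsLocalizedModule.isBaseChange (Submonoid.powers hX) _ _)
      (LocalizedModule (Submonoid.powers hZ) G) (LocalizedModule.mkLinearMap (Submonoid.powers hZ) G)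
      (IsLocalizedModule.isBaseChange (Submonoid.powers hZ) _ _)
      (Ideal.map (algebraMap R (Localization.Away g)) p) (Ideal.map (algebraMap S (Localization.Away hX)) q)
      (Ideal.map (algebraMap C (Localization.Away hZ)) z) (Ideal.map (algebraMap D (Localization.Away hY)) y)
      (map_away_isPrime hX q hqX).2 (map_away_isPrime hZ z hzZ).2 (map_away_isPrime hY y hyY).2⟩

/-- The smooth algebra of a one-step dévissage is flat of finite presentation. -/
theorem smooth_of_smoothRelDim {R D : Type u} [CommRing R] [CommRing D] [Algebra R D] {n : ℕ}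
    (h : FlatCA.SmoothRelDim n R D) : Algebra.Smooth R D := by
  haveI : AlgebraicGeometry.Smooth (AlgebraicGeometry.Spec.map (CommRingCat.ofHom (algebraMap R D))) :=
    haveI := h
    AlgebraicGeometry.SmoothOfRelativeDimension.smooth n _
  exact RingHom.smooth_algebraMap.mp
    ((AlgebraicGeometry.HasRingHomProperty.Spec_iff (P := @AlgebraicGeometry.Smooth)
      (φ := CommRingCat.ofHom (algebraMap R D))).mp inferInstance)

end Groth.Agent.RG
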