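import Groth.Agent.RG.StepGI
import Groth.Agent.RG.StepShrinkAway
import Groth.Agent.RG.StepDim

/-!
# Étale localisation of one-step dévissages
-/

set_option autoImplicit false
set_option linter.style.haveILetI false
set_option linter.unusedSectionVars false
set_option backward.isDefEq.respectTransparency false
set_option backward.isDefEq.respectTransparency.types false
set_option maxHeartbeats 1000000

universe u

open TensorProduct

namespace Groth.Agent.RG

attribute [local instance] Algebra.TensorProduct.rightAlgebra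

/-- A surjective square with extended kernel is cocartesian. -/
theorem isPushout_of_ker {S S' C C' : Type u} [CommRing S] [CommRing S'] [CommRing C] [CommRing C'] [Algebra S S']
    [Algebra S C] [Algebra C C'] [Algebra S' C'] [Algebra S C'] [IsScalarTower S S' C'] [IsScalarTower S C C']
    (h : Function.Surjective (algebraMap S C)) (h' : Function.Surjective (algebraMap S' C'))
    (hker : RingHom.ker (algebraMap S' C') = (RingHom.ker (algebraMap S C)).map (algebraMap S S')) :
    Algebra.IsPushout S S' C C' := by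
  let φ : S' ⊗[S] C →ₐ[S'] C' :=
    Algebra.TensorProduct.lift (Algebra.ofId S' C') (IsScalarTower.toAlgHom S C C') fun _ _ => Commute.all _ _
  have hφ : ∀ a : S', φ (a ⊗ₜ[S] (1 : C)) = algebraMap S' C' a := fun a => by
    refine (Algebra.TensorProduct.lift_tmul _ _ _ a (1 : C)).trans ?_
    rw [map_one, mul_one]
    rfl
  have hs : ∀ t : S' ⊗[S] C, ∃ a : S', a ⊗ₜ[S] (1 : C) = t := fun t => by
    induction t using TensorProduct.induction_on with
    | zero => exact ⟨0, TensorProduct.zero_tmul _ _⟩
    | tmul a c =>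
      obtain ⟨s, rfl⟩ := h c
      exact ⟨s • a, by rw [TensorProduct.smul_tmul, Algebra.smul_def, mul_one]⟩
    | add x y hx hy =>
      obtain ⟨a, rfl⟩ := hx
      obtain ⟨b, rfl⟩ := hy
      exact ⟨a + b, TensorProduct.add_tmul _ _ _⟩
  have hbij : Function.Bijective φ := by
    refine ⟨(injective_iff_map_eq_zero φ).2 fun t ht => ?_, fun c => ?_⟩
    · obtain ⟨a, rfl⟩ := hs t
      rw [hφ] at ht
      have ha : a ∈ RingHom.ker (algebraMap S' C') := ht
      rw [hker] at ha
      induction ha using Submodule.span_induction with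
      | mem _ hm =>
        obtain ⟨s, hsk, rfl⟩ := hm
        rw [← mul_one (algebraMap S S' s), ← Algebra.smul_def, TensorProduct.smul_tmul, Algebra.smul_def,
          RingHom.mem_ker.1 hsk, zero_mul, TensorProduct.tmul_zero]
      | zero => exact TensorProduct.zero_tmul _ _
      | add a b _ _ ha hb =>
        have ha' := ha (by rw [← RingHom.mem_ker, hker]; assumption)
        have hb' := hb (by rw [← RingHom.mem_ker, hker]; assumption)
        rw [TensorProduct.add_tmul, ha', hb', add_zero]
      | smul r a _ ha =>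
        have ha' := ha (by rw [← RingHom.mem_ker, hker]; assumption)
        rw [smul_eq_mul, ← smul_eq_mul, ← TensorProduct.smul_tmul', ha', smul_zero]
    · obtain ⟨a, rfl⟩ := h' c
      exact ⟨_, hφ a⟩
  exact Algebra.IsPushout.of_equiv (AlgEquiv.ofBijective φ hbij) (RingHom.ext fun c => by
    show φ ((1 : S') ⊗ₜ[S] c) = algebraMap C C' c
    exact (Algebra.TensorProduct.lift_tmul _ _ _ (1 : S') c).trans (by simp))

variable {R S R' S' : Type u} [CommRing R] [CommRing S] [CommRing R'] [CommRing S'] [Algebra R S] [Algebra R R']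
  [Algebra S S'] [Algebra R' S'] [Algebra R S'] [IsScalarTower R R' S'] [IsScalarTower R S S']

/-- The support of the fibre keeps its local dimension under étale localisation. -/
theorem le_localDim_of_etale [Algebra.FiniteType R S] [Algebra.Etale R R'] [Algebra.Etale S S']
    (N : Type u) [AddCommGroup N] [Module S N] [Module R N] [IsScalarTower R S N] [Module.Finite S N]
    (p : Ideal R) [p.IsPrime] (q : Ideal S) [q.IsPrime] [q.LiesOver p]
    (p' : Ideal R') [p'.IsPrime] [p'.LiesOver p] (q' : Ideal S') [q'.IsPrime] [q'.LiesOver q] [q'.LiesOver p'] {n : ℕ}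
    (h1 : ∃ (ξ : PrimeSpectrum (p.Fiber S)) (hξ : ξ ∈ Module.support (p.Fiber S) (FlatCA.fiberMod p S N)),
      ξ.asIdeal = FlatCA.fiberIdeal p q ∧
      FlatMor.localDim (Module.support (p.Fiber S) (FlatCA.fiberMod p S N)) ⟨ξ, hξ⟩ = n)
    (N' : Type u) [AddCommGroup N'] [Module S' N'] [Module R' N'] [IsScalarTower R' S' N'] [Module S N']
    [IsScalarTower S S' N'] (f : N →ₗ[S] N') (hf : IsBaseChange S' f) :
    (n : WithBot ℕ∞) ≤ Module.supportDim (p'.Fiber S') (FlatCA.fiberMod p' S' N') ∧
    ∃ hq : (⟨q', inferInstance⟩ : PrimeSpectrum S') ∈ suppOver S' p' N',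
      (n : WithBot ℕ∞) ≤ FlatMor.localDim (suppOver S' p' N') ⟨_, hq⟩ := by
  haveI : Module.Finite S' N' := Module.Finite.equiv hf.equiv
  obtain ⟨ξ, hξ, hξq, hdim⟩ := h1
  obtain ⟨hqs, -⟩ := (exists_fibre_point_iff p N q n).1 ⟨ξ, hξ, hξq, hdim⟩
  have hq : (⟨q', inferInstance⟩ : PrimeSpectrum S') ∈ suppOver S' p' N' := by
    refine ⟨(QCoh.mem_support_baseChange hf _).2 ?_, PrimeSpectrum.ext (Ideal.LiesOver.over (P := q') (p := p')).symm⟩
    convert hqs.1 using 1
    exact PrimeSpectrum.ext (Ideal.LiesOver.over (P := q') (p := q)).symm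
  refine ⟨le_supportDim_of_etale N p q p' q' N' hf.equiv ξ hξq hξ hdim, hq, le_iInf fun U => ?_⟩
  obtain ⟨W, hW, hWU⟩ := U.1.2
  obtain ⟨_, ⟨a, rfl⟩, haq, haW⟩ := PrimeSpectrum.isTopologicalBasis_basic_opens.exists_subset_of_mem_open
    (show (⟨q', inferInstance⟩ : PrimeSpectrum S') ∈ W by
      exact (Set.ext_iff.1 hWU ⟨_, hq⟩).2 U.2) hW
  let Sa := Localization.Away a
  haveI : IsScalarTower R' S' Sa := inferInstance
  haveI : IsScalarTower R S Sa := IsScalarTower.of_algebraMap_eq fun r => by
    rw [IsScalarTower.algebraMap_apply R S' Sa, IsScalarTower.algebraMap_apply R S S',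
      ← IsScalarTower.algebraMap_apply S S' Sa]
  haveI : Algebra.Etale S' Sa := Algebra.Etale.of_isLocalizationAway a
  haveI : Algebra.Etale S Sa := Algebra.Etale.comp S S' Sa
  haveI hqa := (map_away_isPrime (A₁ := Sa) a q' haq).1
  have hqac := (map_away_isPrime (A₁ := Sa) a q' haq).2
  haveI : (q'.map (algebraMap S' Sa)).LiesOver q' := ⟨hqac.symm⟩
  haveI : (q'.map (algebraMap S' Sa)).LiesOver q := Ideal.LiesOver.trans _ q' q
  haveI : (q'.map (algebraMap S' Sa)).LiesOver p' := Ideal.LiesOver.trans _ q' p'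
  let Na := Sa ⊗[S'] N'
  haveI : Module.Finite Sa Na := inferInstance
  let ea : (Sa ⊗[S] N) ≃ₗ[Sa] Na :=
    (AlgebraTensorModule.cancelBaseChange S S' Sa Sa N).symm ≪≫ₗ LinearEquiv.baseChange S' Sa _ _ hf.equiv
  have h2 := le_supportDim_of_etale N p q p' (q'.map (algebraMap S' Sa)) Na ea ξ hξq hξ hdim
  rw [supportDim_eq_suppOver] at h2
  haveI : IsLocalization.Away (1 : R') R' :=
    IsLocalization.away_of_isUnit_of_bijective _ isUnit_one Function.bijective_id
  haveI : p'.LiesOver p' := ⟨rfl⟩
  let f' : N' →ₗ[S'] Na := TensorProduct.mk S' Sa N' 1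
  have hf' : IsBaseChange Sa f' := TensorProduct.isBaseChange S' N' Sa
  have hj := isOpenEmbedding_suppOverMap p' N' (1 : R') a p' Na f' hf'
  have hrange : ∀ x : suppOver Sa p' Na, suppOverMap p' N' (1 : R') a p' Na f' hf' x ∈ U.1 := fun x => by
    refine (Set.ext_iff.1 hWU _).1 (haW ?_)
    show a ∉ (x.1.asIdeal.comap (algebraMap S' Sa) : Ideal S')
    exact fun hm => x.1.2.ne_top (Ideal.eq_top_of_isUnit_mem _ hm (IsLocalization.Away.algebraMap_isUnit a))
  exact h2.trans (hj.isEmbedding.codRestrict (U.1 : Set _) hrange).isInducing.topologicalKrullDim_le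

/-- The pointed dimension conditions after étale localisation. -/
theorem dim_of_etale [Algebra.FiniteType R S] [Algebra.Etale R R'] [Algebra.Etale S S']
    (N : Type u) [AddCommGroup N] [Module S N] [Module R N] [IsScalarTower R S N] [Module.Finite S N]
    (p : Ideal R) [p.IsPrime] (q : Ideal S) [q.IsPrime] [q.LiesOver p]
    (p' : Ideal R') [p'.IsPrime] [p'.LiesOver p] (q' : Ideal S') [q'.IsPrime] [q'.LiesOver q] [q'.LiesOver p'] {n : ℕ}
    (h1 : ∃ (ξ : PrimeSpectrum (p.Fiber S)) (hξ : ξ ∈ Module.support (p.Fiber S) (FlatCA.fiberMod p S N)),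
      ξ.asIdeal = FlatCA.fiberIdeal p q ∧
      FlatMor.localDim (Module.support (p.Fiber S) (FlatCA.fiberMod p S N)) ⟨ξ, hξ⟩ = n)
    (N' : Type u) [AddCommGroup N'] [Module S' N'] [Module R' N'] [IsScalarTower R' S' N'] [Module S N']
    [IsScalarTower S S' N'] (f : N →ₗ[S] N') (hf : IsBaseChange S' f)
    (C' D' G' : Type u) [CommRing C'] [CommRing D'] [Algebra R' C'] [Algebra R' D'] [Algebra S' C']
    [IsScalarTower R' S' C'] [Algebra D' C'] [IsScalarTower R' D' C'] [Module.Finite D' C']
    [AddCommGroup G'] [Module C' G'] [Module S' G'] [IsScalarTower S' C' G'] [Module.Finite C' G']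
    (hsurj : Function.Surjective (algebraMap S' C')) (e : N' ≃ₗ[S'] G') (hsm : FlatCA.SmoothRelDim n R' D') :
    Module.supportDim (p'.Fiber S') (FlatCA.fiberMod p' S' N') = n ∧
    ∃ (ξ : PrimeSpectrum (p'.Fiber S')) (hξ : ξ ∈ Module.support (p'.Fiber S') (FlatCA.fiberMod p' S' N')),
      ξ.asIdeal = FlatCA.fiberIdeal p' q' ∧
      FlatMor.localDim (Module.support (p'.Fiber S') (FlatCA.fiberMod p' S' N')) ⟨ξ, hξ⟩ = n := by
  haveI : Module.Finite S' N' := Module.Finite.equiv hf.equiv
  obtain ⟨hge, hq, hloc⟩ := le_localDim_of_etale N p q p' q' h1 N' f hf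
  letI : Module R' G' := Module.compHom G' (algebraMap R' S')
  haveI : IsScalarTower R' S' G' := IsScalarTower.of_algebraMap_smul fun _ _ => rfl
  haveI : IsScalarTower R' C' G' := IsScalarTower.of_algebraMap_smul fun r x => by
    rw [IsScalarTower.algebraMap_apply R' S' C', algebraMap_smul, algebraMap_smul]
  letI : Module D' G' := Module.compHom G' (algebraMap D' C')
  haveI : IsScalarTower D' C' G' := IsScalarTower.of_algebraMap_smul fun _ _ => rfl
  haveI : IsScalarTower R' D' G' := IsScalarTower.of_algebraMap_smul fun r x => by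
    show algebraMap D' C' (algebraMap R' D' r) • x = r • x
    rw [← IsScalarTower.algebraMap_apply R' D' C', algebraMap_smul]
  haveI : Module.Finite S' C' := Module.Finite.of_surjective (Algebra.linearMap S' C') hsurj
  have hle : Module.supportDim (p'.Fiber S') (FlatCA.fiberMod p' S' N') ≤ (n : WithBot ℕ∞) := by
    show Module.supportDim (p'.Fiber S') ((p'.Fiber S') ⊗[S'] N') ≤ _
    rw [Module.supportDim_eq_of_equiv (LinearEquiv.baseChange S' (p'.Fiber S') _ _ e)]
    show Module.supportDim (p'.Fiber S') (FlatCA.fiberMod p' S' G') ≤ _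
    rw [supportDim_fibre_eq (S := S') (C := C') G' p', ← supportDim_fibre_eq (S := D') (C := C') G' p']
    exact (Module.supportDim_le_ringKrullDim _ _).trans (ringKrullDim_fibre_le hsm p')
  refine ⟨le_antisymm hle hge, (exists_fibre_point_iff p' N' q' n).2 ⟨hq, le_antisymm ?_ hloc⟩⟩
  rw [supportDim_eq_suppOver] at hle
  exact (H23.TopDim.localDim_le_dim _).trans hle

end Groth.Agent.RG
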