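import Groth.Agent.RG.DevShrink
import Groth.Agent.S12245
import Mathlib.RingTheory.Unramified.Finite

/-!
# Existence of complete dévissages after étale localisation
-/

set_option autoImplicit false
set_option linter.style.haveILetI false
set_option linter.unusedSectionVars false
set_option backward.isDefEq.respectTransparency false
set_option backward.isDefEq.respectTransparency.types false
set_option maxHeartbeats 1000000

universe u

open TensorProduct CategoryTheory

namespace Groth.Agent.RG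

attribute [local instance] Algebra.TensorProduct.rightAlgebra

/-- Étale algebras are quasi-finite. -/
theorem quasiFinite_of_etale (R S : Type u) [CommRing R] [CommRing S] [Algebra R S] [Algebra.Etale R S] :
    Algebra.QuasiFinite R S :=
  ⟨fun P _ => Algebra.FormallyUnramified.finite_of_free P.ResidueField (P.Fiber S)⟩

/-- A standard open is an étale neighbourhood. -/
theorem isEtaleNhd_away {A A₁ : Type u} [CommRing A] [CommRing A₁] [Algebra A A₁] (a : A) [IsLocalization.Away a A₁]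
    (P : Ideal A) [P.IsPrime] (P₁ : Ideal A₁) [P₁.IsPrime] [h : P₁.LiesOver P] : FlatCA.IsEtaleNhd A A₁ P P₁ :=
  ⟨Algebra.Etale.of_isLocalizationAway a, h,
    (RingHom.surjectiveOnStalks_of_isLocalization (Submonoid.powers a) A₁).residueFieldMap_bijective P P₁ h.over⟩

/-- A standard open inside an affine open. -/
theorem away_of_isOpenImmersion {T D E : Type u} [CommRing T] [CommRing D] [CommRing E] [Algebra T D] [Algebra D E]
    [Algebra T E] [IsScalarTower T D E]
    [AlgebraicGeometry.IsOpenImmersion (AlgebraicGeometry.Spec.map (CommRingCat.ofHom (algebraMap T D)))]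
    (h : T) [IsLocalization.Away (algebraMap T D h) E]
    (hsub : (PrimeSpectrum.basicOpen h : Set (PrimeSpectrum T)) ⊆ Set.range (PrimeSpectrum.comap (algebraMap T D))) :
    IsLocalization.Away h E := by
  have hu : IsUnit (algebraMap T E h) := by
    rw [IsScalarTower.algebraMap_apply T D E]
    exact IsLocalization.Away.algebraMap_isUnit _
  let φ : Localization.Away h →+* E := IsLocalization.Away.lift h hu
  let a := CommRingCat.ofHom φ
  let i := CommRingCat.ofHom (algebraMap T (Localization.Away h))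
  haveI : AlgebraicGeometry.IsOpenImmersion (AlgebraicGeometry.Spec.map (CommRingCat.ofHom (algebraMap D E))) :=
    .of_isLocalization (algebraMap T D h)
  haveI : AlgebraicGeometry.IsOpenImmersion (AlgebraicGeometry.Spec.map i) := .of_isLocalization h
  have hcomp : AlgebraicGeometry.Spec.map a ≫ AlgebraicGeometry.Spec.map i =
      AlgebraicGeometry.Spec.map (CommRingCat.ofHom (algebraMap D E)) ≫
        AlgebraicGeometry.Spec.map (CommRingCat.ofHom (algebraMap T D)) := by
    rw [← AlgebraicGeometry.Spec.map_comp, ← AlgebraicGeometry.Spec.map_comp, ← CommRingCat.ofHom_comp,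
      ← CommRingCat.ofHom_comp, IsLocalization.Away.lift_comp, ← IsScalarTower.algebraMap_eq]
  haveI : AlgebraicGeometry.IsOpenImmersion (AlgebraicGeometry.Spec.map a) := by
    haveI : AlgebraicGeometry.IsOpenImmersion (AlgebraicGeometry.Spec.map a ≫ AlgebraicGeometry.Spec.map i) := by
      rw [hcomp]; infer_instance
    exact AlgebraicGeometry.IsOpenImmersion.of_comp _ (AlgebraicGeometry.Spec.map i)
  have hsurj : Function.Surjective (PrimeSpectrum.comap φ) := by
    intro x
    have hx : PrimeSpectrum.comap (algebraMap T (Localization.Away h)) x ∈ (PrimeSpectrum.basicOpen h : Set (PrimeSpectrum T)) := by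
      rw [← PrimeSpectrum.localization_away_comap_range (Localization.Away h) h]
      exact ⟨x, rfl⟩
    obtain ⟨y, hy⟩ := hsub hx
    obtain ⟨z, rfl⟩ : y ∈ Set.range (PrimeSpectrum.comap (algebraMap D E)) := by
      rw [PrimeSpectrum.localization_away_comap_range E (algebraMap T D h)]
      show h ∉ (PrimeSpectrum.comap (algebraMap T D) y).asIdeal
      rw [hy]
      exact hx
    refine ⟨z, PrimeSpectrum.localization_comap_injective (Localization.Away h) (Submonoid.powers h) ?_⟩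
    rw [← hy, ← PrimeSpectrum.comap_comp_apply, ← PrimeSpectrum.comap_comp_apply, IsLocalization.Away.lift_comp,
      ← IsScalarTower.algebraMap_eq]
  haveI : Epi (AlgebraicGeometry.Spec.map a).base := (TopCat.epi_iff_surjective _).2 hsurj
  haveI : IsIso (AlgebraicGeometry.Spec.map a) := AlgebraicGeometry.IsOpenImmersion.isIso _
  haveI : IsIso (AlgebraicGeometry.Scheme.Spec.map a.op) := ‹IsIso (AlgebraicGeometry.Spec.map a)›
  haveI : IsIso a := (CategoryTheory.isIso_op_iff a).1 (CategoryTheory.isIso_of_reflects_iso _ AlgebraicGeometry.Scheme.Spec)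
  let e : Localization.Away h ≃ₐ[T] E :=
    AlgEquiv.ofBijective { φ with commutes' := fun t => IsLocalization.Away.lift_eq h hu t }
      (CategoryTheory.ConcreteCategory.bijective_of_isIso a)
  exact IsLocalization.isLocalization_of_algEquiv (Submonoid.powers h) e

/-- The conclusion of the existence theorem. -/
def DevAfterEtale (R S : Type u) [CommRing R] [CommRing S] [Algebra R S] (N : Type u) [AddCommGroup N] [Module S N]
    (p : Ideal R) [p.IsPrime] (q : Ideal S) [q.IsPrime] : Prop :=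
  ∃ (R' S' : Type u) (_ : CommRing R') (_ : CommRing S') (_ : Algebra R R') (_ : Algebra S S') (_ : Algebra R' S')
    (_ : Algebra R S') (_ : IsScalarTower R R' S') (_ : IsScalarTower R S S')
    (p' : Ideal R') (q' : Ideal S') (_ : p'.IsPrime) (_ : q'.IsPrime),
    FlatCA.IsEtaleNhd R R' p p' ∧ FlatCA.IsEtaleNhd S S' q q' ∧ q'.LiesOver p' ∧ DevAt R' p' S' (S' ⊗[S] N) q'

/-- A step whose continuation is known on standard opens gives a dévissage after localisation. -/
theorem devAfterEtale_of_step {R₀ S₀ R S : Type u} [CommRing R₀] [CommRing S₀] [Algebra R₀ S₀] [CommRing R] [CommRing S]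
    [Algebra R₀ R] [Algebra S₀ S] [Algebra R S] [Algebra R₀ S] [IsScalarTower R₀ R S] [IsScalarTower R₀ S₀ S]
    (N₀ : Type u) [AddCommGroup N₀] [Module S₀ N₀] (p₀ : Ideal R₀) [p₀.IsPrime] (q₀ : Ideal S₀) [q₀.IsPrime]
    {N : Type u} [AddCommGroup N] [Module S N] {p : Ideal R} [p.IsPrime] {q : Ideal S} [q.IsPrime] [q.LiesOver p]
    (hp : FlatCA.IsEtaleNhd R₀ R p₀ p) (hq : FlatCA.IsEtaleNhd S₀ S q₀ q) (eN : (S ⊗[S₀] N₀) ≃ₗ[S] N)
    (σ : Step R S N p q) (w : σ.D) (hw : w ∉ σ.y) (g₀ : R) (hg₀ : g₀ ∉ p)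
    (H : ∀ g' ∉ p, g₀ ∣ g' → ∀ (R₁ : Type u) [CommRing R₁] [Algebra R R₁] [IsLocalization.Away g' R₁]
      (D₁ : Type u) [CommRing D₁] [Algebra σ.D D₁] [Algebra R₁ D₁] [Algebra R D₁] [IsScalarTower R R₁ D₁]
      [IsScalarTower R σ.D D₁] [IsLocalization.Away (w * algebraMap R σ.D g') D₁]
      (p₁ : Ideal R₁) [p₁.IsPrime] [p₁.LiesOver p] (y₁ : Ideal D₁) [y₁.IsPrime] [y₁.LiesOver σ.y] [y₁.LiesOver p₁]
      (Q' : Type u) [AddCommGroup Q'] [Module D₁ Q'] [Module σ.D Q'] [IsScalarTower σ.D D₁ Q'] (gQ : σ.Q →ₗ[σ.D] Q'),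
      IsBaseChange D₁ gQ → Subsingleton Q' ∨ DevAt R₁ p₁ D₁ Q' y₁) :
    DevAfterEtale R₀ S₀ N₀ p₀ q₀ := by
  haveI := smooth_of_smoothRelDim σ.smooth
  obtain ⟨g₂, hg₂, hne⟩ := exists_fibres_meet p σ.y hw
  obtain ⟨g', hg'eq⟩ : ∃ g', g' = g₀ * g₂ := ⟨_, rfl⟩
  have hg' : g' ∉ p := fun h => ((inferInstance : p.IsPrime).mem_or_mem (hg'eq ▸ h)).elim hg₀ hg₂
  have hgy : algebraMap R σ.D g' ∉ σ.y := fun hm =>
    hg' ((SetLike.ext_iff.1 (Ideal.LiesOver.over (P := σ.y) (p := p)) g').2 hm)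
  obtain ⟨s, hs⟩ := σ.surj (algebraMap σ.D σ.C w)
  have hXY : algebraMap S σ.C (s * algebraMap R S g') = algebraMap σ.D σ.C (w * algebraMap R σ.D g') := by
    rw [map_mul, map_mul, hs, ← IsScalarTower.algebraMap_apply, ← IsScalarTower.algebraMap_apply]
  have hyY : w * algebraMap R σ.D g' ∉ σ.y := fun hm => ((inferInstance : σ.y.IsPrime).mem_or_mem hm).elim hw hgy
  have hqX : s * algebraMap R S g' ∉ q := fun hm => hyY (by
    have h1 := (SetLike.ext_iff.1 (Ideal.LiesOver.over (P := σ.z) (p := q)) _).1 hm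
    rw [Ideal.under_def, Ideal.mem_comap, hXY] at h1
    exact (SetLike.ext_iff.1 (Ideal.LiesOver.over (P := σ.z) (p := σ.y)) _).2 h1)
  let R₁ := Localization.Away g'
  let S₁ := Localization.Away (s * algebraMap R S g')
  have hu : IsUnit (algebraMap R S₁ g') := by
    rw [IsScalarTower.algebraMap_apply R S S₁]
    exact isUnit_of_dvd_unit (map_dvd _ (dvd_mul_left _ _))
      (IsLocalization.Away.algebraMap_isUnit (s * algebraMap R S g'))
  letI : Algebra R₁ S₁ := (IsLocalization.Away.lift g' hu).toAlgebra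
  haveI : IsScalarTower R R₁ S₁ :=
    IsScalarTower.of_algebraMap_eq fun r => (IsLocalization.Away.lift_eq g' hu r).symm
  haveI hp₁ := (map_away_isPrime (A₁ := R₁) g' p hg').1
  haveI hq₁ := (map_away_isPrime (A₁ := S₁) (s * algebraMap R S g') q hqX).1
  let p₁ := p.map (algebraMap R R₁)
  let q₁ := q.map (algebraMap S S₁)
  haveI : p₁.LiesOver p := ⟨(map_away_isPrime (A₁ := R₁) g' p hg').2.symm⟩
  haveI : q₁.LiesOver q := ⟨(map_away_isPrime (A₁ := S₁) (s * algebraMap R S g') q hqX).2.symm⟩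
  haveI : q₁.LiesOver p₁ := liesOver_map_away g' (s * algebraMap R S g') p q hg' hqX
  obtain ⟨C₁, D₁, _, _, _, _, _, _, _, _, _, _, _, _, _, _, _, _, _, _, _, _, _, _, z₁, y₁, _, _, _, _, _, _, _, hPP, hsm, hirr, huq, hpure⟩ :=
    step_shrink σ g' hg' (s * algebraMap R S g') (w * algebraMap R σ.D g') hXY hyY (dvd_mul_left _ _)
      (fun t ht => by
        obtain ⟨Q, hQ, hQt⟩ := hne t fun h => ht (hg'eq ▸ t.asIdeal.mul_mem_left g₀ h)
        refine ⟨Q, fun hm => (Q.2.mem_or_mem hm).elim (fun h => hQ (Q.asIdeal.mul_mem_right _ h)) fun h => ht ?_, hQt⟩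
        rw [← hQt]
        exact h) R₁ S₁ p₁ q₁
  let N₁ := S₁ ⊗[S] N
  let f : N →ₗ[S] N₁ := TensorProduct.mk S S₁ N 1
  have hf : IsBaseChange S₁ f := TensorProduct.isBaseChange S N S₁
  obtain ⟨gQ, hgQ⟩ := σ.exists_coker_transport (p' := p₁) (q' := q₁) f hf C₁ D₁ z₁ y₁ hsm hirr huq hpure
  have hdev : DevAt R₁ p₁ S₁ N₁ q₁ := by
    rcases H g' hg' (hg'eq ▸ dvd_mul_right _ _) R₁ D₁ p₁ y₁ _ gQ hgQ with h | h
    · refine .last (σ.transport f hf C₁ D₁ z₁ y₁ hsm hirr huq hpure) ?_
      rw [← LinearMap.range_eq_top, ← Submodule.Quotient.subsingleton_iff]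
      exact h
    · exact .cons (σ.transport f hf C₁ D₁ z₁ y₁ hsm hirr huq hpure) h
  haveI : IsScalarTower R₀ R R₁ := inferInstance
  haveI : IsScalarTower S₀ S S₁ := inferInstance
  haveI : IsScalarTower R₀ S S₁ := inferInstance
  haveI : IsScalarTower R₀ S₀ S₁ := IsScalarTower.of_algebraMap_eq fun r => by
    rw [IsScalarTower.algebraMap_apply R₀ S S₁, IsScalarTower.algebraMap_apply R₀ S₀ S,
      ← IsScalarTower.algebraMap_apply S₀ S S₁]
  haveI : IsScalarTower R₀ R₁ S₁ := IsScalarTower.of_algebraMap_eq fun r => by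
    rw [IsScalarTower.algebraMap_apply R₀ S S₁, IsScalarTower.algebraMap_apply R₀ R S,
      IsScalarTower.algebraMap_apply R₀ R R₁, ← IsScalarTower.algebraMap_apply R R₁ S₁,
      ← IsScalarTower.algebraMap_apply R S S₁]
  refine ⟨R₁, S₁, inferInstance, inferInstance, inferInstance, inferInstance, inferInstance, inferInstance,
    inferInstance, inferInstance, p₁, q₁, hp₁, hq₁, isEtaleNhd_trans hp (isEtaleNhd_away g' p p₁),
    isEtaleNhd_trans hq (isEtaleNhd_away (s * algebraMap R S g') q q₁), inferInstance, hdev.congr ?_⟩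
  exact (AlgebraTensorModule.cancelBaseChange S₀ S S₁ S₁ N₀).symm ≪≫ₗ LinearEquiv.baseChange S S₁ _ _ eN

/-- Existence of dévissages after étale localisation. -/
theorem devAfterEtale_of_localDim (n : ℕ) : ∀ {R S : Type u} [CommRing R] [CommRing S] [Algebra R S]
    [Algebra.FiniteType R S] (N : Type u) [AddCommGroup N] [Module S N] [Module R N] [IsScalarTower R S N]
    [Module.Finite S N] (p : Ideal R) [p.IsPrime] (q : Ideal S) [q.IsPrime] [q.LiesOver p],
    (∃ (ξ : PrimeSpectrum (p.Fiber S)) (hξ : ξ ∈ Module.support (p.Fiber S) (FlatCA.fiberMod p S N)),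
      ξ.asIdeal = FlatCA.fiberIdeal p q ∧
      FlatMor.localDim (Module.support (p.Fiber S) (FlatCA.fiberMod p S N)) ⟨ξ, hξ⟩ = n) →
    DevAfterEtale R S N p q := by
  induction n using Nat.strong_induction_on with
  | _ n ih =>
    intro R S _ _ _ _ N _ _ _ _ _ p _ q _ _ h1
    classical
    obtain ⟨ξ, hξ, hξq, hdimξ⟩ := h1
    obtain ⟨E⟩ := exists_elemDevissage N p q n ξ hξq hξ hdimξ
    haveI := E.finiteDC
    haveI := E.finiteG
    haveI := E.fpC
    haveI := E.etaleR.1
    haveI := E.etaleS.1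
    obtain ⟨hp'o, -⟩ := E.etaleR.2
    obtain ⟨hq'o, -⟩ := E.etaleS.2
    haveI : Module.Finite E.D E.G := Module.Finite.trans E.C E.G
    haveI : Module.Finite E.S' E.N' := Module.Finite.equiv E.isBaseChange.equiv
    letI : Module E.R' E.N' := Module.compHom E.N' (algebraMap E.R' E.S')
    haveI : IsScalarTower E.R' E.S' E.N' := IsScalarTower.of_algebraMap_smul fun _ _ => rfl
    haveI : Algebra.FiniteType R E.S' := Algebra.FiniteType.trans (S := S) inferInstance inferInstance
    haveI : Algebra.FiniteType E.R' E.S' := Algebra.FiniteType.of_restrictScalars_finiteType R _ _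
    haveI : Algebra.Smooth E.R' E.D := smooth_of_smoothRelDim E.smooth
    have hd := domFib_of_geomIntegral E.geomInt
    haveI hP := (hd.prime_map E.p').1
    obtain ⟨hdim, hloc⟩ := dim_of_etale N p q E.p' E.q' ⟨ξ, hξ, hξq, hdimξ⟩ E.N' E.f E.isBaseChange E.C E.D E.G
      E.surjC E.iso E.smooth
    haveI hgi : AlgebraicGeometry.GeometricallyIntegral
        (AlgebraicGeometry.Spec.map (CommRingCat.ofHom (algebraMap E.R' E.D))) := E.geomInt
    have hirr : FlatCA.GeomIrredFibres E.R' E.D := inferInstanceAs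
      (AlgebraicGeometry.GeometricallyIrreducible (AlgebraicGeometry.Spec.map (CommRingCat.ofHom (algebraMap E.R' E.D))))
    obtain ⟨r, α, hα⟩ := exists_fibre_basis (E.p'.map (algebraMap E.R' E.D)) E.G
    have hlt := supportDim_coker_lt hd E.p' (ringKrullDim_fibre_le E.smooth E.p') _ rfl α hα
    have hDG : Module.supportDim (E.p'.Fiber E.D) (FlatCA.fiberMod E.p' E.D E.G) = (n : WithBot ℕ∞) := by
      haveI : Module.Finite E.S' E.C := Module.Finite.of_surjective (Algebra.linearMap E.S' E.C) E.surjC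
      rw [supportDim_fibre_eq (S := E.D) (C := E.C) E.G E.p', ← supportDim_fibre_eq (S := E.S') (C := E.C) E.G E.p',
        ← hdim]
      exact Module.supportDim_eq_of_equiv (LinearEquiv.baseChange E.S' (E.p'.Fiber E.S') _ _ E.iso.symm)
    have hr : 0 < r := by
      rcases Nat.eq_zero_or_pos r with hr0 | hr0
      swap
      · exact hr0
      have hrange : LinearMap.range α = ⊥ := by
        subst hr0
        exact LinearMap.range_eq_bot.2 (LinearMap.ext fun v => by
          rw [Subsingleton.elim v 0, map_zero, LinearMap.zero_apply])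
      exfalso
      refine hlt.ne ?_
      rw [← hDG]
      exact Module.supportDim_eq_of_equiv
        (LinearEquiv.baseChange E.D (E.p'.Fiber E.D) _ _ (Submodule.quotEquivOfEqBot _ hrange))
    let σ : Step E.R' E.S' E.N' E.p' E.q' :=
      { C := E.C, D := E.D, G := E.G, n := n, z := E.z, y := E.y, surj := E.surjC, iso := E.iso
        smooth := E.smooth, irred := hirr, uniq := @E.uniq, pure := E.pureTrans, r := r, pos := hr, α := α, fibre := hα }
    by_cases hy : (⟨E.y, inferInstance⟩ : PrimeSpectrum E.D) ∈ Module.support E.D (E.G ⧸ LinearMap.range α)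
    swap
    · rw [Module.support_eq_zeroLocus, PrimeSpectrum.mem_zeroLocus, Set.not_subset] at hy
      obtain ⟨f, hf, hfy⟩ := hy
      refine devAfterEtale_of_step N p q E.etaleR E.etaleS E.isBaseChange.equiv σ f hfy 1
        (fun h => (inferInstance : E.p'.IsPrime).ne_top (E.p'.eq_top_iff_one.2 h)) ?_
      intro g' _ _ R₁ _ _ _ D₁ _ _ _ _ _ _ _ p₁ _ _ y₁ _ _ _ Q' _ _ _ _ gQ hgQ
      left
      refine subsingleton_of_forall_eq 0 fun x => ?_
      induction x using hgQ.inductionOn with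
      | zero => rfl
      | tmul m =>
        have hu : IsUnit (algebraMap σ.D D₁ f) := isUnit_of_dvd_unit (map_dvd _ (dvd_mul_right f _))
          (IsLocalization.Away.algebraMap_isUnit (f * algebraMap E.R' σ.D g'))
        refine (hu.smul_eq_zero).1 ?_
        rw [algebraMap_smul, ← map_smul, Module.mem_annihilator.1 hf m, map_zero]
      | smul a x hx => rw [hx, smul_zero]
      | add x y hx hy => rw [hx, hy, add_zero]
    -- the continuation
    let Q := E.G ⧸ LinearMap.range α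
    haveI : Module.Finite E.D Q := inferInstance
    haveI : Algebra.FiniteType E.R' E.D := inferInstance
    obtain ⟨x, hxy, hx⟩ := exists_fibre_point E.p' E.y Q hy
    haveI : Module.Finite (E.p'.Fiber E.D) (FlatCA.fiberMod E.p' E.D Q) :=
      inferInstanceAs (Module.Finite (E.p'.Fiber E.D) ((E.p'.Fiber E.D) ⊗[E.D] Q))
    have hlt' : topologicalKrullDim (Module.support (E.p'.Fiber E.D) (FlatCA.fiberMod E.p' E.D Q)) <
        (n : WithBot ℕ∞) := by
      rw [topologicalKrullDim_support]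
      exact hlt
    obtain ⟨m, -, hm⟩ := exists_localDim_eq_nat
      (X := Module.support (E.p'.Fiber E.D) (FlatCA.fiberMod E.p' E.D Q)) ⟨x, hx⟩ hlt'.le
    have hmn : m < n := by
      have := (H23.TopDim.localDim_le_dim (X := Module.support (E.p'.Fiber E.D) (FlatCA.fiberMod E.p' E.D Q)) ⟨x, hx⟩).trans_lt hlt'
      rw [hm] at this
      exact_mod_cast this
    obtain ⟨R₂, D₂, _, _, _, _, _, _, _, _, p₂, y₂, _, _, hR₂, hD₂, hy₂p, hdev₂⟩ :=
      ih m hmn Q E.p' E.y ⟨x, hx, hxy, hm⟩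
    haveI := hy₂p
    have hone : FlatCA.IsOneStepDevissage E.R' E.S' E.N' E.p' E.C E.D E.G n :=
      ⟨⟨E.iso⟩, E.surjC, E.fpC, E.finiteDC, E.finiteG, E.smooth, hirr, hdim⟩
    obtain ⟨R₃, _, _, _, _, p₃, _, hR₃, T, _, _, _, _, _, _, hT, D₃, _, _, _, _, _, _, _, _, _, _, _, y₃, _, hy₃y₂, hy₃p,
      himm, C₃, _, _, _, _, _, _, _, _, z₃, _, hz₃z, hz₃y, hDC, G₃, _, _, _, _, gG, hgG, S₃, _, _, _, _, _, _, q₃, _, _, _,
      _, _, _, _, _, hS₃, hz₃q, N₃, _, _, _, _, _, _, gN, hgN, hone₃, -, huniq₃, hpure₃⟩ :=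
      Groth.Agent.S12245.result E.R' E.S' E.N' E.p' E.q' E.C E.D E.G n hone E.z E.y hloc @E.uniq E.pureTrans
        R₂ p₂ hR₂ D₂ y₂ hD₂
    obtain ⟨⟨e₃⟩, hsurj₃, hfp₃, hfin₃, hG₃, hsm₃, hirr₃, -⟩ := hone₃
    haveI := hfp₃
    haveI := hfin₃
    haveI := hG₃
    haveI := hy₃y₂
    haveI := hy₃p
    haveI := hz₃z
    haveI := hz₃y
    haveI := hz₃q
    haveI := himm
    haveI := hT
    haveI := hDC
    haveI := hR₂.1
    haveI := hR₃.1
    haveI := hD₂.1
    obtain ⟨hp₂o, -⟩ := hR₂.2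
    obtain ⟨hp₃o, hκ₃⟩ := hR₃.2
    obtain ⟨hy₂o, -⟩ := hD₂.2
    haveI := hp₂o
    haveI := hy₂o
    haveI := hp₃o
    have hp₁₃ := isEtaleNhd_trans hR₂ hR₃
    haveI := hp₁₃.1
    obtain ⟨hp₁₃o, -⟩ := hp₁₃.2
    -- the step upstairs
    haveI : Algebra.IsPushout E.D E.C D₃ C₃ := Algebra.IsPushout.symm hDC
    letI : Module D₃ G₃ := Module.compHom G₃ (algebraMap D₃ C₃)
    haveI : IsScalarTower D₃ C₃ G₃ := IsScalarTower.of_algebraMap_smul fun _ _ => rfl
    letI : Module E.D G₃ := Module.compHom G₃ (algebraMap E.D C₃)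
    haveI : IsScalarTower E.D D₃ G₃ := IsScalarTower.of_algebraMap_smul fun d x => by
      show algebraMap D₃ C₃ (algebraMap E.D D₃ d) • x = algebraMap E.D C₃ d • x
      rw [← IsScalarTower.algebraMap_apply]
    haveI : IsScalarTower E.D E.C G₃ := IsScalarTower.of_algebraMap_smul fun d x => by
      show algebraMap E.D E.C d • x = algebraMap E.D C₃ d • x
      rw [IsScalarTower.algebraMap_apply E.D E.C C₃]
      exact (algebraMap_smul C₃ (algebraMap E.D E.C d) x).symm
    have hγ : IsBaseChange D₃ (gG.restrictScalars E.D) :=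
      isBaseChange_restrict (B := E.D) (B' := D₃) gG hgG
    haveI : Algebra.IsPushout R₂ D₂ R₃ T := Algebra.IsPushout.symm hT
    haveI : Algebra.Etale D₂ T := Algebra.Etale.of_equiv (Algebra.IsPushout.equiv R₂ D₂ R₃ T)
    haveI : Algebra.Etale T D₃ := RingHom.etale_algebraMap.mp
      ((AlgebraicGeometry.HasRingHomProperty.Spec_iff (P := @AlgebraicGeometry.Etale)
        (φ := CommRingCat.ofHom (algebraMap T D₃))).mp inferInstance)
    haveI : Algebra.Etale D₂ D₃ := Algebra.Etale.comp D₂ T D₃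
    haveI : Algebra.Etale E.D D₃ := Algebra.Etale.comp E.D D₂ D₃
    haveI hy₃ : y₃.LiesOver E.y := Ideal.LiesOver.trans y₃ y₂ E.y
    haveI : Algebra.Smooth R₃ D₃ := smooth_of_smoothRelDim hsm₃
    haveI hP₃ := (isPrime_map_of_smooth hsm₃ hirr₃ p₃).1
    haveI hPy : (E.p'.map (algebraMap E.R' E.D)).LiesOver E.p' := (hd.prime_map E.p').2
    have hPle : E.p'.map (algebraMap E.R' E.D) ≤ E.y :=
      Ideal.map_le_iff_le_comap.2 (Ideal.LiesOver.over (P := E.y) (p := E.p')).le
    obtain ⟨Q₀, hQ₀le, hQ₀, hQ₀o⟩ := Ideal.exists_ideal_le_liesOver_of_le y₃ (q := E.y) hPle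
    haveI := hQ₀
    haveI := quasiFinite_of_etale E.R' R₃
    haveI hP₃o : (p₃.map (algebraMap R₃ D₃)).LiesOver (E.p'.map (algebraMap E.R' E.D)) := by
      have h2 : Q₀.comap (algebraMap R₃ D₃) = p₃ := Algebra.QuasiFinite.eq_of_le_of_under_eq (R := E.R') _ _
        ((Ideal.comap_mono hQ₀le).trans hy₃p.over.ge) (by
          rw [Ideal.under_def, Ideal.comap_comap, ← IsScalarTower.algebraMap_eq E.R' R₃ D₃,
            IsScalarTower.algebraMap_eq E.R' E.D D₃, ← Ideal.comap_comap, ← Ideal.under_def, ← Ideal.under_def,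
            ← hQ₀o.over, ← hPy.over, ← hp₁₃o.over])
      refine ⟨le_antisymm ?_ ((Ideal.comap_mono (Ideal.map_le_iff_le_comap.2 h2.ge)).trans hQ₀o.over.ge)⟩
      rw [Ideal.map_le_iff_le_comap]
      intro a ha
      show algebraMap E.D D₃ (algebraMap E.R' E.D a) ∈ p₃.map (algebraMap R₃ D₃)
      rw [← IsScalarTower.algebraMap_apply, IsScalarTower.algebraMap_apply E.R' R₃ D₃]
      exact Ideal.mem_map_of_mem _ ((SetLike.ext_iff.1 hp₁₃o.over a).1 ha)
    let σ₃ : Step R₃ S₃ N₃ p₃ q₃ :=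
      { C := C₃, D := D₃, G := G₃, n := n, z := z₃, y := y₃, surj := hsurj₃, iso := e₃, smooth := hsm₃, irred := hirr₃
        uniq := @huniq₃, pure := hpure₃, r := r, pos := hr, α := baseFree (gG.restrictScalars E.D) α
        fibre := bijective_baseFree _ α hγ (E.p'.map (algebraMap E.R' E.D)) _ hα }
    have hc₃ : IsBaseChange D₃ (cokerMap (D' := D₃) (gG.restrictScalars E.D) α) := isBaseChange_cokerMap _ α hγ
    -- the dévissage on the base change of the étale neighbourhood
    let yT := y₃.comap (algebraMap T D₃)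
    haveI : yT.LiesOver y₂ := ⟨by
      rw [Ideal.under_def, Ideal.comap_comap, ← IsScalarTower.algebraMap_eq D₂ T D₃, ← Ideal.under_def]
      exact hy₃y₂.over⟩
    haveI : yT.LiesOver p₃ := ⟨by
      rw [Ideal.under_def, Ideal.comap_comap, ← IsScalarTower.algebraMap_eq R₃ T D₃, ← Ideal.under_def]
      exact hy₃p.over⟩
    letI : Algebra E.R' T := ((algebraMap R₃ T).comp (algebraMap E.R' R₃)).toAlgebra
    have hdevT : DevAt R₃ p₃ T (T ⊗[D₂] (D₂ ⊗[E.D] Q)) yT :=
      hdev₂.baseChange R₃ p₃ hκ₃ T _ (TensorProduct.mk D₂ T _ 1) (TensorProduct.isBaseChange _ _ _) yT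
    obtain ⟨_, ⟨a, rfl⟩, hay, hasub⟩ := PrimeSpectrum.isTopologicalBasis_basic_opens.exists_subset_of_mem_open
      (a := (⟨yT, inferInstance⟩ : PrimeSpectrum T))
      (show (⟨yT, inferInstance⟩ : PrimeSpectrum T) ∈ Set.range (PrimeSpectrum.comap (algebraMap T D₃)) from
        ⟨⟨y₃, inferInstance⟩, rfl⟩)
      (AlgebraicGeometry.Spec.map (CommRingCat.ofHom (algebraMap T D₃))).isOpenEmbedding.isOpen_range
    obtain ⟨g₁, hg₁, h₁, hh₁, hadvd, hinner⟩ := hdevT.shrink a hay
    haveI : q₃.LiesOver p₃ := ⟨by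
      have h := congrArg (Ideal.comap (algebraMap R₃ S₃)) hz₃q.over
      rw [Ideal.under_def (A := S₃) z₃, Ideal.comap_comap, ← IsScalarTower.algebraMap_eq R₃ S₃ C₃] at h
      exact (Ideal.LiesOver.over (P := z₃) (p := p₃) (self := Ideal.LiesOver.trans z₃ y₃ p₃)).trans h.symm⟩
    letI : Algebra R R₃ := ((algebraMap E.R' R₃).comp (algebraMap R E.R')).toAlgebra
    haveI : IsScalarTower R E.R' R₃ := IsScalarTower.of_algebraMap_eq' rfl
    letI : Algebra S S₃ := ((algebraMap E.S' S₃).comp (algebraMap S E.S')).toAlgebra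
    haveI : IsScalarTower S E.S' S₃ := IsScalarTower.of_algebraMap_eq' rfl
    letI : Algebra R S₃ := ((algebraMap S S₃).comp (algebraMap R S)).toAlgebra
    haveI : IsScalarTower R S S₃ := IsScalarTower.of_algebraMap_eq' rfl
    haveI : IsScalarTower R R₃ S₃ := IsScalarTower.of_algebraMap_eq fun c => by
      show algebraMap E.S' S₃ (algebraMap S E.S' (algebraMap R S c)) = algebraMap R₃ S₃ (algebraMap E.R' R₃ (algebraMap R E.R' c))
      rw [← IsScalarTower.algebraMap_apply R S E.S', IsScalarTower.algebraMap_apply R E.R' E.S',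
        ← IsScalarTower.algebraMap_apply E.R' E.S' S₃, ← IsScalarTower.algebraMap_apply E.R' R₃ S₃]
    let eN : (S₃ ⊗[S] N) ≃ₗ[S₃] N₃ :=
      (AlgebraTensorModule.cancelBaseChange S E.S' S₃ S₃ N).symm ≪≫ₗ
        LinearEquiv.baseChange E.S' S₃ _ _ E.isBaseChange.equiv ≪≫ₗ hgN.equiv
    refine devAfterEtale_of_step N p q (isEtaleNhd_trans E.etaleR hp₁₃) (isEtaleNhd_trans E.etaleS hS₃) eN σ₃
      (algebraMap T D₃ h₁) hh₁ g₁ hg₁ ?_
    intro g' hg' hdvd R₄ _ _ _ D₄ _ _ _ _ _ _ _ p₄ _ _ y₄ _ _ _ Q' _ _ _ _ gQ hgQ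
    right
    letI : Algebra T D₄ := ((algebraMap D₃ D₄).comp (algebraMap T D₃)).toAlgebra
    haveI : IsScalarTower T D₃ D₄ := IsScalarTower.of_algebraMap_eq' rfl
    haveI : IsScalarTower R₃ T D₄ := IsScalarTower.of_algebraMap_eq fun c => by
      show _ = algebraMap D₃ D₄ (algebraMap T D₃ (algebraMap R₃ T c))
      rw [← IsScalarTower.algebraMap_apply R₃ T D₃, ← IsScalarTower.algebraMap_apply R₃ D₃ D₄]
    haveI hloc₄ : IsLocalization.Away (algebraMap T D₃ (h₁ * algebraMap R₃ T g')) D₄ := by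
      rw [map_mul, ← IsScalarTower.algebraMap_apply R₃ T D₃]
      assumption
    haveI : IsLocalization.Away (h₁ * algebraMap R₃ T g') D₄ :=
      away_of_isOpenImmersion (D := D₃) _ (fun t ht => hasub fun hm => ht (by
        obtain ⟨c, hc⟩ := hadvd
        rw [hc]
        exact t.asIdeal.mul_mem_right _ (t.asIdeal.mul_mem_right c hm)))
    haveI : y₄.LiesOver yT := ⟨by
      show y₃.comap (algebraMap T D₃) = y₄.comap (algebraMap T D₄)
      rw [IsScalarTower.algebraMap_eq T D₃ D₄, ← Ideal.comap_comap]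
      exact congrArg _ (Ideal.LiesOver.over (P := y₄) (p := y₃))⟩
    letI : Algebra D₂ D₄ := ((algebraMap D₃ D₄).comp (algebraMap D₂ D₃)).toAlgebra
    haveI : IsScalarTower D₂ D₃ D₄ := IsScalarTower.of_algebraMap_eq' rfl
    haveI : IsScalarTower D₂ T D₄ := IsScalarTower.of_algebraMap_eq fun c => by
      show algebraMap D₃ D₄ (algebraMap D₂ D₃ c) = algebraMap D₃ D₄ (algebraMap T D₃ (algebraMap D₂ T c))
      rw [← IsScalarTower.algebraMap_apply D₂ T D₃]
    letI : Algebra E.D D₄ := ((algebraMap D₃ D₄).comp (algebraMap E.D D₃)).toAlgebra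
    haveI : IsScalarTower E.D D₃ D₄ := IsScalarTower.of_algebraMap_eq' rfl
    haveI : IsScalarTower E.D D₂ D₄ := IsScalarTower.of_algebraMap_eq fun c => by
      show algebraMap D₃ D₄ (algebraMap E.D D₃ c) = algebraMap D₃ D₄ (algebraMap D₂ D₃ (algebraMap E.D D₂ c))
      rw [← IsScalarTower.algebraMap_apply E.D D₂ D₃]
    let N₄ := D₄ ⊗[T] (T ⊗[D₂] (D₂ ⊗[E.D] Q))
    refine (hinner g' hg' hdvd R₄ D₄ p₄ y₄ N₄ (TensorProduct.mk T D₄ _ 1) (TensorProduct.isBaseChange _ _ _)).congr ?_
    exact hgQ.equiv.symm ≪≫ₗ LinearEquiv.baseChange D₃ D₄ _ _ hc₃.equiv.symm ≪≫ₗ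
      AlgebraTensorModule.cancelBaseChange E.D D₃ D₄ D₄ Q ≪≫ₗ
      (AlgebraTensorModule.cancelBaseChange E.D D₂ D₄ D₄ Q).symm ≪≫ₗ
      (AlgebraTensorModule.cancelBaseChange D₂ T D₄ D₄ (D₂ ⊗[E.D] Q)).symm

end Groth.Agent.RG

namespace Groth.Agent.RG

attribute [local instance] Algebra.TensorProduct.rightAlgebra

/-- A complete dévissage exists after étale localisation. -/
theorem devAfterEtale {R S : Type u} [CommRing R] [CommRing S] [Algebra R S] [Algebra.FiniteType R S]
    (N : Type u) [AddCommGroup N] [Module S N] [Module R N] [IsScalarTower R S N] [Module.Finite S N]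
    (p : Ideal R) [p.IsPrime] (q : Ideal S) [q.IsPrime] [q.LiesOver p]
    (hsupp : ∃ x ∈ Module.support (p.Fiber S) (FlatCA.fiberMod p S N), x.asIdeal = FlatCA.fiberIdeal p q) :
    DevAfterEtale R S N p q := by
  obtain ⟨x, hx, hxq⟩ := hsupp
  haveI : Module.Finite (p.Fiber S) (FlatCA.fiberMod p S N) :=
    inferInstanceAs (Module.Finite (p.Fiber S) ((p.Fiber S) ⊗[S] N))
  obtain ⟨m, hm⟩ := exists_ringKrullDim_lt (k := p.ResidueField) (A := p.Fiber S)
  have hle : topologicalKrullDim (Module.support (p.Fiber S) (FlatCA.fiberMod p S N)) ≤ (m : WithBot ℕ∞) := by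
    rw [topologicalKrullDim_support]
    exact (Module.supportDim_le_ringKrullDim _ _).trans hm.le
  obtain ⟨n, -, hn⟩ := exists_localDim_eq_nat
    (X := Module.support (p.Fiber S) (FlatCA.fiberMod p S N)) ⟨x, hx⟩ hle
  exact devAfterEtale_of_localDim n N p q ⟨x, hx, hxq, hn⟩

end Groth.Agent.RG
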