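import Groth.Agent.RG.DevConv

/-!
# The dévissage of the zero module
-/

set_option autoImplicit false
set_option linter.style.haveILetI false
set_option linter.unusedSectionVars false
set_option backward.isDefEq.respectTransparency false
set_option backward.isDefEq.respectTransparency.types false

universe u

open TensorProduct

namespace Groth.Agent.RG

/-- The zero module has a complete dévissage. -/
theorem nonempty_completeDevissage_of_subsingleton (R S : Type u) [CommRing R] [CommRing S] [Algebra R S] (N : Type u)
    [AddCommGroup N] [Module S N] [Subsingleton N] (p : Ideal R) [p.IsPrime] :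
    Nonempty (FlatCA.CompleteDevissage R S N p) := by
  let A₀ := S ⧸ (⊤ : Ideal S)
  haveI : Subsingleton A₀ := Ideal.Quotient.subsingleton_iff.2 rfl
  letI : Algebra R A₀ := inferInstance
  haveI : IsScalarTower R R A₀ := inferInstance
  have hp : (p.map (algebraMap R R)).IsPrime := by rw [Algebra.algebraMap_self, Ideal.map_id]; infer_instance
  have hfp : Algebra.FinitePresentation S A₀ :=
    Algebra.FinitePresentation.quotient ⟨{1}, by simp [Ideal.submodule_span_eq, Ideal.span_singleton_one]⟩
  have hirr : FlatCA.GeomIrredFibres R R := by
    show AlgebraicGeometry.GeometricallyIrreducible _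
    have : AlgebraicGeometry.Spec.map (CommRingCat.ofHom (algebraMap R R)) = CategoryTheory.CategoryStruct.id _ := by
      rw [Algebra.algebraMap_self]
      exact AlgebraicGeometry.Spec.map_id _
    rw [this]
    refine ⟨fun K _ y Z fst snd h => ?_⟩
    haveI : CategoryTheory.IsIso snd := h.isIso_snd_of_isIso
    exact (Homeomorph.irreducibleSpace_iff (AlgebraicGeometry.Scheme.homeoOfIso (CategoryTheory.asIso snd))).2 inferInstance
  have hz : ∀ (K M : Type u) [CommRing K] [Algebra R K] [AddCommGroup M] [Module R M] [Subsingleton M]
      (z : K ⊗[R] M), z = 0 := by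
    intro K M _ _ _ _ _ z
    induction z using TensorProduct.induction_on with
    | zero => rfl
    | tmul a m => rw [Subsingleton.elim m 0, TensorProduct.tmul_zero]
    | add a b ha hb => rw [ha, hb, add_zero]
  exact ⟨{
    n := 1
    pos := Nat.one_pos
    A := fun _ => A₀
    B := fun _ => R
    M := fun _ => PUnit.{u + 1}
    r := fun _ => 0
    hp := fun _ => hp
    α := fun _ => 0
    surjSA := Ideal.Quotient.mk_surjective
    fpSA := hfp
    surjBA' := fun i hi => absurd hi (by omega)
    fpBA' := fun i hi => absurd hi (by omega)
    finiteBA := fun _ _ => ⟨⟨∅, Subsingleton.elim _ _⟩⟩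
    smooth := fun _ _ => inferInstance
    geomIrred := fun _ _ => hirr
    finiteM := fun _ _ => inferInstance
    isoN := { toFun := fun _ => PUnit.unit, invFun := fun _ => 0, map_add' := fun _ _ => rfl,
              map_smul' := fun _ _ => rfl, left_inv := fun _ => Subsingleton.elim _ _, right_inv := fun _ => rfl }
    isoCoker := fun i hi => absurd hi (by omega)
    fibreIso := fun i _ => ⟨fun x y _ => (hz _ _ x).trans (hz _ _ y).symm, fun y => ⟨0, (hz _ _ y).symm⟩⟩
    cokerLast := fun y => ⟨0, Subsingleton.elim _ _⟩ }⟩

end Groth.Agent.RG
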