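import Groth.Agent.RG.EtaleFibre

/-!
# Étale pieces covering a fibre
-/

set_option autoImplicit false
set_option linter.style.haveILetI false
set_option linter.unusedSectionVars false
set_option backward.isDefEq.respectTransparency false
set_option backward.isDefEq.respectTransparency.types false
set_option maxHeartbeats 1000000

universe u

open TensorProduct

namespace Groth.Agent.RG

attribute [local instance] Algebra.TensorProduct.rightAlgebra

/-- An étale piece over a point of the base. -/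
structure Piece (R S : Type u) [CommRing R] [CommRing S] [Algebra R S] (p : Ideal R) [p.IsPrime] : Type (u + 1) where
  /-- the neighbourhood of the point -/
  R' : Type u
  /-- the étale algebra -/
  S' : Type u
  [cR : CommRing R'] [cS : CommRing S']
  [aRR : Algebra R R'] [aSS : Algebra S S'] [aR'S : Algebra R' S'] [aRS : Algebra R S']
  [tR : IsScalarTower R R' S'] [tS : IsScalarTower R S S']
  /-- the point of the neighbourhood -/
  p' : Ideal R'
  [hp' : p'.IsPrime]
  nhd : FlatCA.IsEtaleNhd R R' p p'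
  [etale : Algebra.Etale S S']
  /-- the point of the piece -/
  q' : Ideal S'
  [hq' : q'.IsPrime]
  [qp : q'.LiesOver p']

attribute [instance] Piece.cR Piece.cS Piece.aRR Piece.aSS Piece.aR'S Piece.aRS Piece.tR Piece.tS Piece.hp'
  Piece.etale Piece.hq' Piece.qp

variable {R S : Type u} [CommRing R] [CommRing S] [Algebra R S] {p : Ideal R} [p.IsPrime]

/-- Finitely many pieces cover the fibre. -/
theorem exists_finite_pieces (Good : Piece R S p → Prop)
    (h : ∀ (q : Ideal S) [q.IsPrime], q.LiesOver p → ∃ π : Piece R S p, Good π ∧ π.q'.comap (algebraMap S π.S') = q) :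
    ∃ (k : ℕ) (π : Fin k → Piece R S p), (∀ i, Good (π i)) ∧ ∀ (q : Ideal S) [q.IsPrime], q.LiesOver p →
      ∃ (i : Fin k) (Q' : Ideal (π i).S'), Q'.IsPrime ∧ Q'.LiesOver (π i).p' ∧ Q'.comap (algebraMap S (π i).S') = q := by
  classical
  let e := PrimeSpectrum.primesOverOrderIsoFiber R S p
  have h1 : ∀ ξ : PrimeSpectrum (p.Fiber S), ∃ (π : Piece R S p) (W : Set (PrimeSpectrum (p.Fiber S))),
      Good π ∧ IsOpen W ∧ ξ ∈ W ∧ ∀ ζ ∈ W, ∃ Q' : Ideal π.S', Q'.IsPrime ∧ Q'.LiesOver π.p' ∧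
        Q'.comap (algebraMap S π.S') = ζ.asIdeal.comap (Algebra.TensorProduct.includeRight : S →ₐ[R] p.Fiber S) := by
    intro ξ
    haveI := (e.symm ξ).2.1
    haveI := (e.symm ξ).2.2
    obtain ⟨π, hg, hq⟩ := h (e.symm ξ).1 inferInstance
    haveI : π.q'.LiesOver (e.symm ξ).1 := ⟨hq.symm⟩
    haveI := π.nhd.1
    obtain ⟨ho, hκ⟩ := π.nhd.2
    haveI := ho
    obtain ⟨W, hW, hmem, hWQ⟩ := exists_open_image (S' := π.S') p π.p' hκ (e.symm ξ).1 π.q'
    exact ⟨π, W, hg, hW, (show e (e.symm ξ) = ξ from e.apply_symm_apply ξ) ▸ hmem, hWQ⟩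
  choose π W hg hW hmem hWQ using h1
  obtain ⟨t, ht⟩ := isCompact_univ.elim_finite_subcover W hW fun ξ _ => Set.mem_iUnion.2 ⟨ξ, hmem ξ⟩
  refine ⟨t.card, fun i => π (t.equivFin.symm i).1, fun i => hg _, fun q _ hq => ?_⟩
  let ξ := e ⟨q, ‹_›, hq⟩
  obtain ⟨ζ, hζ, hξ⟩ := Set.mem_iUnion₂.1 (ht (Set.mem_univ ξ))
  have hc : ξ.asIdeal.comap (Algebra.TensorProduct.includeRight : S →ₐ[R] p.Fiber S) = q :=
    congr($(e.symm_apply_apply ⟨q, ‹_›, hq⟩).1)
  obtain ⟨i, hi⟩ : ∃ i, (t.equivFin.symm i).1 = ζ := ⟨t.equivFin ⟨ζ, hζ⟩, by rw [Equiv.symm_apply_apply]⟩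
  subst hi
  obtain ⟨Q', h1, h2, h3⟩ := hWQ _ ξ hξ
  exact ⟨i, Q', h1, h2, h3.trans hc⟩

/-- A common neighbourhood of finitely many pieces. -/
theorem exists_common_piece_nhd {k : ℕ} (π : Fin k → Piece R S p) :
    ∃ (A : Type u) (_ : CommRing A) (_ : Algebra R A) (p'' : Ideal A) (_ : p''.IsPrime)
      (_ : ∀ i, Algebra (π i).R' A), (∀ i, IsScalarTower R (π i).R' A) ∧ FlatCA.IsEtaleNhd R A p p'' ∧
        ∀ i, FlatCA.IsEtaleNhd (π i).R' A (π i).p' p'' := by
  obtain ⟨A, _, _, p'', _, hA, hmaps⟩ :=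
    exists_common_nhd p (fun i => (π i).R') (fun i => (π i).p') fun i => (π i).nhd
  choose φ hφ using hmaps
  letI : ∀ i, Algebra (π i).R' A := fun i => (φ i).toRingHom.toAlgebra
  haveI : ∀ i, IsScalarTower R (π i).R' A := fun i =>
    IsScalarTower.of_algebraMap_eq fun r => ((φ i).commutes r).symm
  refine ⟨A, inferInstance, inferInstance, p'', inferInstance, inferInstance, inferInstance, hA, fun i => ?_⟩
  haveI : p''.LiesOver (π i).p' := ⟨(hφ i).symm⟩
  exact isEtaleNhd_of_restrict (π i).nhd hA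

end Groth.Agent.RG
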