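import Groth.Agent.S1254
import Groth.Agent.S1256
import Groth.Agent.RG.PureLocus
import Groth.Agent.RG.PureUnivInj
import Groth.Agent.S0585
import Mathlib.RingTheory.Etale.Pi

/-!
# Purity along a point gives projectivity near it
-/

set_option autoImplicit false
set_option linter.style.haveILetI false
set_option linter.unusedSectionVars false
set_option backward.isDefEq.respectTransparency false
set_option backward.isDefEq.respectTransparency.types false
set_option maxHeartbeats 2000000

universe u

open TensorProduct Groth.Agent.ZClosLib PrimeSpectrum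

namespace Groth.Agent.RG

attribute [local instance] Algebra.TensorProduct.rightAlgebra

/-- A tensor product of a flat algebra and a flat module is flat. -/
theorem flat_tensor {A B C : Type u} [CommRing A] [CommRing B] [CommRing C] [Algebra A B] [Algebra B C] [Algebra A C]
    [IsScalarTower A B C] [Module.Flat B C] (N : Type u) [AddCommGroup N] [Module B N] [Module A N] [IsScalarTower A B N]
    [Module.Flat A N] : Module.Flat A (C ⊗[B] N) := by
  rw [Module.Flat.iff_rTensor_injective']
  intro J
  let l : N ⊗[A] J →ₗ[B] N ⊗[A] A := AlgebraTensorModule.lTensor B N J.subtype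
  have h0 : Function.Injective l := Module.Flat.iff_lTensor_injective'.1 ‹Module.Flat A N› J
  have h1 : Function.Injective (l.lTensor C) := Module.Flat.lTensor_preserves_injective_linearMap _ h0
  let eJ : (C ⊗[B] N) ⊗[A] J ≃ₗ[B] C ⊗[B] (N ⊗[A] J) := AlgebraTensorModule.assoc A B B C N J
  let eA : (C ⊗[B] N) ⊗[A] A ≃ₗ[B] C ⊗[B] (N ⊗[A] A) := AlgebraTensorModule.assoc A B B C N A
  have hc : ∀ z, eA (J.subtype.lTensor (C ⊗[B] N) z) = l.lTensor C (eJ z) := fun z => by
    induction z using TensorProduct.induction_on with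
    | zero => simp
    | add a b ha hb => simp only [map_add, ha, hb]
    | tmul x j =>
      induction x using TensorProduct.induction_on with
      | zero => simp
      | add a b ha hb => simp only [TensorProduct.add_tmul, map_add, ha, hb]
      | tmul c n => simp [eA, eJ, l]
  have h2 : Function.Injective (J.subtype.lTensor (C ⊗[B] N)) := fun a b hab =>
    eJ.injective (h1 (by rw [← hc, ← hc, hab]))
  rw [← LinearMap.comm_comp_lTensor_comp_comm_eq]
  simpa using h2

/-- Projectivity persists on smaller standard opens. -/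
theorem projective_away_of_dvd {A M : Type u} [CommRing A] [AddCommGroup M] [Module A M] {a f : A} (h : a ∣ f)
    [Module.Projective (Localization.Away a) (LocalizedModule (Submonoid.powers a) M)]
    (L : Type u) [CommRing L] [Algebra A L] [IsLocalization.Away f L] : Module.Projective L (L ⊗[A] M) := by
  haveI : Module.Projective (Localization.Away a) (Localization.Away a ⊗[A] M) :=
    Module.Projective.of_equiv (LocalizedModule.equivTensorProduct (Submonoid.powers a) M)
  have hu : IsUnit (algebraMap A L a) := by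
    obtain ⟨c, hc⟩ := h
    exact isUnit_of_dvd_unit ⟨algebraMap A L c, by rw [← map_mul, ← hc]⟩ (IsLocalization.Away.algebraMap_isUnit f)
  letI : Algebra (Localization.Away a) L := (IsLocalization.Away.lift a hu).toAlgebra
  haveI : IsScalarTower A (Localization.Away a) L :=
    IsScalarTower.of_algebraMap_eq fun x => (IsLocalization.Away.lift_eq a hu x).symm
  exact Module.Projective.of_equiv (AlgebraTensorModule.cancelBaseChange A (Localization.Away a) L L M)

/-- Descent of projectivity from a standard open of an étale neighbourhood. -/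
theorem exists_projective_away_descent {A A' : Type u} [CommRing A] [CommRing A'] [Algebra A A'] [Algebra.Etale A A']
    (p : Ideal A) [p.IsPrime] (p' : Ideal A') [p'.IsPrime] [p'.LiesOver p]
    (N : Type u) [AddCommGroup N] [Module A N] (f : A') (hf : f ∉ p')
    [Module.Projective (Localization.Away f) (Localization.Away f ⊗[A] N)] :
    ∃ g : A, g ∉ p ∧ Module.Projective (Localization.Away g) (Localization.Away g ⊗[A] N) := by
  let L := Localization.Away f
  haveI : Algebra.Etale A' L := Algebra.Etale.of_isLocalizationAway f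
  haveI : Algebra.Etale A L := Algebra.Etale.comp A A' L
  have hpL := map_away_isPrime (A₁ := L) f p' hf
  haveI := hpL.1
  have hopen : IsOpenMap (PrimeSpectrum.comap (algebraMap A L)) :=
    PrimeSpectrum.isOpenMap_comap_of_hasGoingDown_of_finitePresentation
  obtain ⟨_, ⟨g, rfl⟩, hgp, hsub⟩ := PrimeSpectrum.isTopologicalBasis_basic_opens.exists_subset_of_mem_open
    (show (⟨p, inferInstance⟩ : PrimeSpectrum A) ∈ Set.range (PrimeSpectrum.comap (algebraMap A L)) from
      ⟨⟨_, hpL.1⟩, PrimeSpectrum.ext (by
        show (p'.map (algebraMap A' L)).comap (algebraMap A L) = p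
        rw [IsScalarTower.algebraMap_eq A A' L, ← Ideal.comap_comap, hpL.2]
        exact (‹p'.LiesOver p›.over).symm)⟩) hopen.isOpen_range
  refine ⟨g, hgp, ?_⟩
  let G := Localization.Away g
  let L' := Localization.Away (algebraMap A L g)
  have hu : IsUnit (algebraMap A L' g) := by
    rw [IsScalarTower.algebraMap_apply A L L']
    exact IsLocalization.Away.algebraMap_isUnit (algebraMap A L g)
  letI : Algebra G L' := (IsLocalization.Away.lift g hu).toAlgebra
  haveI : IsScalarTower A G L' := IsScalarTower.of_algebraMap_eq fun x => (IsLocalization.Away.lift_eq g hu x).symm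
  haveI : Module.Flat L L' := IsLocalization.flat L' (Submonoid.powers (algebraMap A L g))
  haveI : Module.Flat A L' := Module.Flat.trans A L L'
  haveI : Module.Flat G L' := (Module.flat_iff_of_isLocalization G (Submonoid.powers g) L').2 inferInstance
  haveI : Module.FaithfullyFlat G L' := Module.FaithfullyFlat.of_comap_surjective fun x => by
    have hgx : g ∉ (x.asIdeal.comap (algebraMap A G)) := fun hm =>
      x.isPrime.ne_top (Ideal.eq_top_of_isUnit_mem _ hm (IsLocalization.Away.algebraMap_isUnit g))
    obtain ⟨y, hy⟩ := hsub (show PrimeSpectrum.comap (algebraMap A G) x ∈ _ from hgx)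
    have hy' : y.asIdeal.comap (algebraMap A L) = x.asIdeal.comap (algebraMap A G) := congrArg PrimeSpectrum.asIdeal hy
    have hgy : algebraMap A L g ∉ y.asIdeal := fun hm => hgx (hy' ▸ (show g ∈ y.asIdeal.comap (algebraMap A L) from hm))
    haveI := y.isPrime
    obtain ⟨hp1, hp2⟩ := map_away_isPrime (A₁ := L') (algebraMap A L g) y.asIdeal hgy
    refine ⟨⟨_, hp1⟩, PrimeSpectrum.localization_comap_injective G (Submonoid.powers g) (PrimeSpectrum.ext ?_)⟩
    show ((y.asIdeal.map (algebraMap L L')).comap (algebraMap G L')).comap (algebraMap A G) = _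
    rw [Ideal.comap_comap, ← IsScalarTower.algebraMap_eq A G L', IsScalarTower.algebraMap_eq A L L',
      ← Ideal.comap_comap, hp2]
    exact hy'
  haveI : Module.Projective L' (L' ⊗[A] N) :=
    Module.Projective.of_equiv (AlgebraTensorModule.cancelBaseChange A L L' L' N)
  haveI : Module.Projective L' (L' ⊗[G] (G ⊗[A] N)) :=
    Module.Projective.of_equiv (AlgebraTensorModule.cancelBaseChange A G L' L' N).symm
  exact S0585.result G L' (G ⊗[A] N)

/-- Projective factors give a projective product. -/
theorem projective_tensor_pi {A B L : Type u} [CommRing A] [CommRing B] [Algebra A B] [CommRing L] [Algebra A L] {k : ℕ}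
    (C : Fin k → Type u) [∀ i, CommRing (C i)] [∀ i, Algebra B (C i)] [∀ i, Algebra A (C i)] [∀ i, IsScalarTower A B (C i)]
    (N : Type u) [AddCommGroup N] [Module B N]
    (h : ∀ i, Module.Projective L (L ⊗[A] (C i ⊗[B] N))) : Module.Projective L (L ⊗[A] ((∀ i, C i) ⊗[B] N)) := by
  classical
  haveI : Module.Projective L (∀ i, L ⊗[A] (C i ⊗[B] N)) :=
    Module.Projective.of_equiv (DFinsupp.linearEquivFunOnFintype (R := L) (M := fun i => L ⊗[A] (C i ⊗[B] N)))
  let e : ((∀ i, C i) ⊗[B] N) ≃ₗ[A] ∀ i, C i ⊗[B] N :=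
    { TensorProduct.piLeft B N C with
      map_smul' := fun a x => by
        show TensorProduct.piLeft B N C (a • x) = a • TensorProduct.piLeft B N C x
        induction x using TensorProduct.induction_on with
        | zero => rw [smul_zero, map_zero, smul_zero]
        | tmul c n =>
          funext i
          rw [TensorProduct.smul_tmul']
          simp [TensorProduct.smul_tmul']
        | add x y hx hy => rw [smul_add, map_add, hx, hy, map_add, smul_add] }
  exact Module.Projective.of_equiv
    ((LinearEquiv.baseChange A L _ _ e) ≪≫ₗ TensorProduct.piRight A L L fun i => C i ⊗[B] N).symm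

/-- The étale neighbourhood part: projectivity near the point upstairs. -/
theorem exists_projective_of_pure_cover {A B : Type u} [CommRing A] [CommRing B] [Algebra A B]
    [Algebra.FinitePresentation A B] (N : Type u) [AddCommGroup N] [Module B N] [Module A N] [IsScalarTower A B N]
    [Module.FinitePresentation B N] [Module.Flat A N] (p : Ideal A) [p.IsPrime]
    (hpure : ∀ (t : Ideal A) [t.IsPrime], t ≤ p → ∀ (q : Ideal B) [q.IsPrime], q.LiesOver t →
      FlatCA.fiberIdeal t q ∈ associatedPrimes (t.Fiber B) (FlatCA.fiberMod t B N) →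
      ∃ Q : Ideal B, Q.IsPrime ∧ q ≤ Q ∧ Q.LiesOver p)
    {k : ℕ} (C : Fin k → Type u) [∀ i, CommRing (C i)] [∀ i, Algebra B (C i)] [∀ i, Algebra A (C i)]
    [∀ i, IsScalarTower A B (C i)] (het : ∀ i, Algebra.Etale B (C i))
    (hproj : ∀ i, ∃ a, a ∉ p ∧ Module.Projective (Localization.Away a) (LocalizedModule (Submonoid.powers a) (C i ⊗[B] N)))
    (hcov : ∀ (Q : Ideal B) [Q.IsPrime], Q.LiesOver p → ∃ (i : Fin k) (Q' : Ideal (C i)), Q'.IsPrime ∧
      Q'.comap (algebraMap B (C i)) = Q) :
    ∃ f, f ∉ p ∧ Module.Projective (Localization.Away f) (Localization.Away f ⊗[A] N) := by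
  classical
  haveI := het
  let P := ∀ i, C i
  haveI : IsScalarTower A B P := IsScalarTower.of_algebraMap_eq (R := A) (S := B) (A := P) fun a => funext fun i =>
    IsScalarTower.algebraMap_apply A B (C i) a
  have hopen : IsOpenMap (PrimeSpectrum.comap (algebraMap B P)) :=
    PrimeSpectrum.isOpenMap_comap_of_hasGoingDown_of_finitePresentation
  obtain ⟨s, hs⟩ := PrimeSpectrum.isCompact_isOpen_iff.1 ⟨isCompact_range (PrimeSpectrum.continuous_comap (algebraMap B P)), hopen.isOpen_range⟩
  let e := s.equivFin
  let g : Fin s.card → B := fun j => (e.symm j).1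
  have hg : ∀ (q : Ideal B) [q.IsPrime], (∃ j, g j ∉ q) → ∃ q' : Ideal P, q'.IsPrime ∧ q'.comap (algebraMap B P) = q := by
    rintro q _ ⟨j, hj⟩
    obtain ⟨y, hy⟩ : (⟨q, inferInstance⟩ : PrimeSpectrum B) ∈ Set.range (PrimeSpectrum.comap (algebraMap B P)) := by
      rw [← hs, Set.mem_compl_iff, PrimeSpectrum.mem_zeroLocus]
      exact fun hsub => hj (hsub (e.symm j).2)
    exact ⟨y.asIdeal, y.isPrime, congrArg PrimeSpectrum.asIdeal hy⟩
  obtain ⟨f₀, hf₀, hlocus⟩ := exists_relAss_avoid (A := A) N g p fun t _ ht q _ hq hass => by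
    obtain ⟨Q, hQ, hqQ, hQp⟩ := hpure t ht q hq hass
    haveI := hQ
    obtain ⟨i, Q', hQ', hQQ'⟩ := hcov Q hQp
    haveI := hQ'
    have hmem : (⟨Q, hQ⟩ : PrimeSpectrum B) ∈ (PrimeSpectrum.zeroLocus (s : Set B))ᶜ := by
      rw [hs]
      exact ⟨⟨Q'.comap (Pi.evalRingHom C i), inferInstance⟩, PrimeSpectrum.ext (by
        show (Q'.comap (Pi.evalRingHom C i)).comap (algebraMap B P) = Q
        rw [Ideal.comap_comap]
        exact hQQ')⟩
    rw [Set.mem_compl_iff, PrimeSpectrum.mem_zeroLocus, Set.not_subset] at hmem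
    obtain ⟨b, hb, hbQ⟩ := hmem
    exact ⟨e ⟨b, hb⟩, fun h => hbQ (hqQ (by simpa [g] using h))⟩
  choose a ha hpa using hproj
  let f := f₀ * ∏ i, a i
  have hf : f ∉ p := fun h => ((inferInstance : p.IsPrime).mem_or_mem h).elim hf₀ fun h => by
    obtain ⟨i, -, hi⟩ := (Ideal.IsPrime.prod_mem_iff (p := p)).1 h
    exact ha i hi
  refine ⟨f, hf, ?_⟩
  haveI : Module.Projective (Localization.Away f) (Localization.Away f ⊗[A] (P ⊗[B] N)) :=
    projective_tensor_pi C N fun i => by
      haveI := hpa i
      exact projective_away_of_dvd ((Finset.dvd_prod_of_mem a (Finset.mem_univ i)).trans (dvd_mul_left _ f₀)) _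
  haveI : Module.Flat B P := inferInstance
  exact projective_away_of_covering (C := P) N f _ fun t q _ _ _ hft hass =>
    hg q (hlocus t (fun h => hft (t.mul_mem_right _ h)) q inferInstance hass)

/-- The neighbourhood supplied by an impurity-free étale chart. -/
theorem assoc_specializes_of_pure {A B : Type u} [CommRing A] [CommRing B] [Algebra A B] {N : Type u} [AddCommGroup N]
    [Module B N] {p : Ideal A} [p.IsPrime] (hpure : FlatCA.IsPureAlong A B N p)
    {A' BA NA : Type u} [CommRing A'] [Algebra A A'] {p' : Ideal A'} [p'.IsPrime] (hA : FlatCA.IsEtaleNhd A A' p p')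
    [CommRing BA] [Algebra B BA] [Algebra A' BA] [Algebra A BA] [IsScalarTower A B BA] [IsScalarTower A A' BA]
    [Algebra.IsPushout A B A' BA] [AddCommGroup NA] [Module BA NA] [Module B NA] [IsScalarTower B BA NA]
    [Module A' NA] [IsScalarTower A' BA NA] (fA : N →ₗ[B] NA) (hfA : IsBaseChange BA fA)
    (t : Ideal A') [t.IsPrime] (ht : t ≤ p') (q : Ideal BA) [q.IsPrime] (hq : q.LiesOver t)
    (hass : FlatCA.fiberIdeal t q ∈ associatedPrimes (t.Fiber BA) (FlatCA.fiberMod t BA NA)) :
    ∃ Q : Ideal BA, Q.IsPrime ∧ q ≤ Q ∧ Q.LiesOver p' := by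
  by_contra hne
  push Not at hne
  exact hpure A' BA NA fA t p' q hA ⟨inferInstance, hfA, ht, hA.2.1, hq, hass, fun P' hP' h1 h2 => hne P' hP' h1 h2⟩

/-- Over an étale neighbourhood. -/
theorem exists_projective_chart {A B : Type u} [CommRing A] [CommRing B] [Algebra A B] [Algebra.FinitePresentation A B]
    (N : Type u) [AddCommGroup N] [Module B N] [Module A N] [IsScalarTower A B N] [Module.FinitePresentation B N]
    [Module.Flat A N] (p : Ideal A) [p.IsPrime] (hpure : FlatCA.IsPureAlong A B N p)
    (A' : Type u) [CommRing A'] [Algebra A A'] (p' : Ideal A') [p'.IsPrime] (hA : FlatCA.IsEtaleNhd A A' p p')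
    (BA NA : Type u) [CommRing BA] [Algebra B BA] [Algebra A' BA] [Algebra A BA] [IsScalarTower A B BA]
    [IsScalarTower A A' BA] [Algebra.IsPushout A B A' BA] [AddCommGroup NA] [Module BA NA] [Module B NA]
    [IsScalarTower B BA NA] [Module A' NA] [IsScalarTower A' BA NA] (fA : N →ₗ[B] NA) (hfA : IsBaseChange BA fA)
    {k : ℕ} (C : Fin k → Type u) [∀ i, CommRing (C i)] [∀ i, Algebra BA (C i)] [∀ i, Algebra A' (C i)]
    [∀ i, IsScalarTower A' BA (C i)] (Nc : Fin k → Type u) [∀ i, AddCommGroup (Nc i)] [∀ i, Module (C i) (Nc i)]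
    [∀ i, Module BA (Nc i)] [∀ i, IsScalarTower BA (C i) (Nc i)] (g : ∀ i, NA →ₗ[BA] Nc i)
    (hC : ∀ i, Algebra.Etale BA (C i) ∧ IsBaseChange (C i) (g i) ∧ Nonempty (FlatCA.CompleteDevissage A' (C i) (Nc i) p'))
    (hcov : ∀ (Q : Ideal BA) [Q.IsPrime], Q.LiesOver p' → ∃ (i : Fin k) (Q' : Ideal (C i)), Q'.IsPrime ∧
      Q'.comap (algebraMap BA (C i)) = Q) :
    ∃ f, f ∉ p' ∧ Module.Projective (Localization.Away f) (Localization.Away f ⊗[A] N) := by
  haveI : Algebra.IsPushout A A' B BA := Algebra.IsPushout.symm inferInstance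
  haveI : Algebra.FinitePresentation A' BA := Algebra.FinitePresentation.equiv (Algebra.IsPushout.equiv A A' B BA)
  haveI : Module.FinitePresentation BA NA := Module.FinitePresentation.of_equiv hfA.equiv
  haveI : SMulCommClass B A' BA :=
    ⟨fun s a c => by rw [← algebraMap_smul BA a c, ← algebraMap_smul BA a (s • c), smul_comm]⟩
  let eNA : (A' ⊗[A] N) ≃ₗ[A'] NA :=
    ((Algebra.IsPushout.cancelBaseChange A A' B BA N).restrictScalars A').symm ≪≫ₗ hfA.equiv.restrictScalars A'
  haveI : Module.Flat A' NA := Module.Flat.of_linearEquiv eNA.symm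
  haveI : ∀ i, Algebra.Etale BA (C i) := fun i => (hC i).1
  obtain ⟨f, hf, hproj⟩ := exists_projective_of_pure_cover (A := A') NA p'
    (assoc_specializes_of_pure hpure hA fA hfA) C (fun i => (hC i).1)
    (fun i => by
      obtain ⟨D⟩ := (hC i).2.2
      letI : Module A' (Nc i) := Module.compHom (Nc i) (algebraMap A' (C i))
      haveI : IsScalarTower A' (C i) (Nc i) := IsScalarTower.of_algebraMap_smul fun _ _ => rfl
      haveI : SMulCommClass BA A' (C i) :=
        ⟨fun s a c => by rw [← algebraMap_smul (C i) a c, ← algebraMap_smul (C i) a (s • c), smul_comm]⟩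
      haveI : Algebra.FinitePresentation A' (C i) := Algebra.FinitePresentation.trans A' BA (C i)
      haveI : Module.FinitePresentation (C i) (Nc i) := Module.FinitePresentation.of_equiv (hC i).2.1.equiv
      haveI : Module.Flat A' (C i ⊗[BA] NA) := flat_tensor NA
      let e : (C i ⊗[BA] NA) ≃ₗ[A'] Nc i := (hC i).2.1.equiv.restrictScalars A'
      haveI : Module.Flat A' (Nc i) := Module.Flat.of_linearEquiv e.symm
      obtain ⟨a, ha, hp, -⟩ := Groth.Agent.S1254.result (R := A') (S := C i) (Nc i) p' D
      haveI := hp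
      exact ⟨a, ha, Module.Projective.of_equiv (IsLocalizedModule.mapEquiv (Submonoid.powers a)
        (LocalizedModule.mkLinearMap (Submonoid.powers a) (Nc i))
        (LocalizedModule.mkLinearMap (Submonoid.powers a) (C i ⊗[BA] NA)) (Localization.Away a) e.symm)⟩)
    hcov
  refine ⟨f, hf, ?_⟩
  haveI := hproj
  exact Module.Projective.of_equiv ((LinearEquiv.baseChange A' (Localization.Away f) _ _ eNA).symm ≪≫ₗ
    AlgebraTensorModule.cancelBaseChange A A' (Localization.Away f) (Localization.Away f) N)

/-- A flat finitely presented module which is pure along `p` is projective near `p`. -/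
theorem exists_projective_away_of_pure {A B : Type u} [CommRing A] [CommRing B] [Algebra A B] [Algebra.FinitePresentation A B]
    (N : Type u) [AddCommGroup N] [Module B N] [Module A N] [IsScalarTower A B N] [Module.FinitePresentation B N]
    [Module.Flat A N] (p : Ideal A) [p.IsPrime] (hpure : FlatCA.IsPureAlong A B N p) :
    ∃ g : A, g ∉ p ∧ Module.Projective (Localization.Away g) (Localization.Away g ⊗[A] N) := by
  obtain ⟨A', _, _, p', _, hA, H⟩ := Groth.Agent.S1256.result (A := A) (B := B) N p
  let BA := B ⊗[A] A'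
  let NA := BA ⊗[B] N
  haveI : Algebra.IsPushout A B A' BA := inferInstance
  letI : Module A' NA := Module.compHom NA (algebraMap A' BA)
  haveI : IsScalarTower A' BA NA := IsScalarTower.of_algebraMap_smul fun _ _ => rfl
  obtain ⟨k, C, _, _, _, _, Nc, _, _, _, _, g, hC, hcov⟩ :=
    H BA NA (TensorProduct.mk B BA N 1) (TensorProduct.isBaseChange B N BA)
  obtain ⟨f, hf, hp⟩ := exists_projective_chart N p hpure A' p' hA BA NA (TensorProduct.mk B BA N 1)
    (TensorProduct.isBaseChange B N BA) C Nc g hC hcov
  haveI := hA.1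
  haveI := hA.2.1
  haveI := hp
  exact exists_projective_away_descent p p' N f hf

end Groth.Agent.RG
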