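import Groth.Agent.RG.PureProj
import Groth.Agent.ZClosLib.NzdAssoc

/-!
# Relative assassins along flat maps
-/

set_option autoImplicit false
set_option linter.style.haveILetI false
set_option linter.unusedSectionVars false
set_option backward.isDefEq.respectTransparency false
set_option backward.isDefEq.respectTransparency.types false
set_option maxHeartbeats 1000000

universe u

open TensorProduct IsLocalRing Groth.Agent.ZClosLib

namespace Groth.Agent.RG

attribute [local instance] Algebra.TensorProduct.rightAlgebra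

/-- Over a point of the relative assassin, a flat algebra with a point above it has one above it. -/
theorem exists_assoc_above {A B C : Type u} [CommRing A] [CommRing B] [CommRing C] [Algebra A B] [Algebra B C] [Algebra A C]
    [IsScalarTower A B C] [Module.Flat B C] [Algebra.FiniteType A B] [Algebra.FiniteType A C]
    (N : Type u) [AddCommGroup N] [Module B N] [Module A N] [IsScalarTower A B N]
    (N' : Type u) [AddCommGroup N'] [Module C N'] [Module B N'] [IsScalarTower B C N'] [Module A N'] [IsScalarTower A C N']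
    (f : N →ₗ[B] N') (hf : IsBaseChange C f)
    (p : Ideal A) [p.IsPrime] (P : Ideal B) [P.IsPrime] [P.LiesOver p]
    (hass : FlatCA.fiberIdeal p P ∈ associatedPrimes (p.Fiber B) (FlatCA.fiberMod p B N))
    (q' : Ideal C) [q'.IsPrime] (hq' : q'.comap (algebraMap B C) = P) :
    ∃ (Q : Ideal C), Q.IsPrime ∧ Q ≤ q' ∧ Q.comap (algebraMap B C) = P ∧ Q.LiesOver p ∧
      FlatCA.fiberIdeal p Q ∈ associatedPrimes (p.Fiber C) (FlatCA.fiberMod p C N') := by
  haveI : IsNoetherianRing (p.Fiber B) := Algebra.FiniteType.isNoetherianRing p.ResidueField _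
  haveI : IsNoetherianRing (p.Fiber C) := Algebra.FiniteType.isNoetherianRing p.ResidueField _
  have hcP : (FlatCA.fiberIdeal p P).comap (algebraMap B (p.Fiber B)) = P := by
    obtain ⟨⟨Q, hQ1⟩, hQ2⟩ := NzdUnivInj.exists_prime_fiber p P
    rw [← FibAssIdeal.eq_fiberIdeal p hQ2]
    exact hQ2
  have hP : P ∈ FlatCA.ass B (FlatCA.fiberMod p B N) := by
    rw [AssFiber.ass_fiberMod_eq]
    exact ⟨_, FibAssIdeal.mem_ass_of_mem_associatedPrimes hass, hcP⟩
  obtain ⟨-, n, hn⟩ := (S8999.mem_ass_iff p N P).1 hP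
  let Ns : Submodule B N := LinearMap.ker (FlatCA.toFiberMod p (S := B) N)
  have hNs : ∀ x : N, x ∈ Ns ↔ ∃ r ∉ p, r • x ∈ p • (⊤ : Submodule A N) := fun x =>
    PurityBC.toFiberMod_eq_zero_iff (S := B) p N x
  let ι : (B ⧸ P) →ₗ[B] N ⧸ Ns := Submodule.liftQ P
    (Ns.mkQ ∘ₗ LinearMap.toSpanSingleton B N n) fun b hb => by
      rw [LinearMap.mem_ker, LinearMap.comp_apply, Submodule.mkQ_apply, Submodule.Quotient.mk_eq_zero,
        LinearMap.toSpanSingleton_apply, hNs]
      exact (hn b).1 hb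
  have hι : Function.Injective ι := by
    rw [← LinearMap.ker_eq_bot]
    refine Submodule.ker_liftQ_eq_bot _ _ _ fun b hb => (hn b).2 ?_
    rw [LinearMap.mem_ker, LinearMap.comp_apply, Submodule.mkQ_apply, Submodule.Quotient.mk_eq_zero,
      LinearMap.toSpanSingleton_apply, hNs] at hb
    exact hb
  have hr : ∀ r ∉ p, Function.Injective (LinearMap.lsmul B (N ⧸ Ns) (algebraMap A B r)) := fun r hr => by
    rw [injective_iff_map_eq_zero]
    intro z hz
    obtain ⟨x, rfl⟩ := Submodule.Quotient.mk_surjective _ z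
    rw [LinearMap.lsmul_apply, ← Submodule.Quotient.mk_smul, Submodule.Quotient.mk_eq_zero, hNs, algebraMap_smul] at hz
    obtain ⟨r', hr', hmem⟩ := hz
    rw [Submodule.Quotient.mk_eq_zero, hNs]
    exact ⟨r' * r, fun h => ((inferInstance : p.IsPrime).mem_or_mem h).elim hr' hr, by rw [mul_smul]; exact hmem⟩
  let φ : N' →ₗ[C] C ⊗[B] (N ⧸ Ns) := hf.lift ((TensorProduct.mk B C (N ⧸ Ns) 1) ∘ₗ Ns.mkQ)
  have hφ : ∀ x, φ (f x) = (1 : C) ⊗ₜ[B] Ns.mkQ x := fun x => hf.lift_eq _ x
  have hp0 : ∀ a ∈ p, ∀ z : C ⊗[B] (N ⧸ Ns), algebraMap A C a • z = 0 := fun a ha z => by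
    rw [IsScalarTower.algebraMap_apply A B C, algebraMap_smul]
    induction z using TensorProduct.induction_on with
    | zero => rw [smul_zero]
    | add u v hu hv => rw [smul_add, hu, hv, add_zero]
    | tmul c m =>
      obtain ⟨x, rfl⟩ := Submodule.Quotient.mk_surjective _ m
      rw [← TensorProduct.tmul_smul, ← Submodule.Quotient.mk_smul, algebraMap_smul,
        (Submodule.Quotient.mk_eq_zero _).2 ((hNs _).2 ⟨1, fun h => (inferInstance : p.IsPrime).ne_top
          ((Ideal.eq_top_iff_one _).2 h), by rw [one_smul]; exact Submodule.smul_mem_smul ha trivial⟩), TensorProduct.tmul_zero]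
  have key : ∀ c : C, FlatCA.toFiberMod p (S := C) N' (c • f n) = 0 → c ∈ P.map (algebraMap B C) := fun c hc => by
    obtain ⟨r, hr', hmem⟩ := (PurityBC.toFiberMod_eq_zero_iff (S := C) p N' _).1 hc
    have h0 : φ (r • (c • f n)) = 0 := by
      refine Submodule.smul_induction_on hmem (fun a ha z _ => ?_) (fun u v hu hv => ?_)
      · rw [← algebraMap_smul C a z, map_smul]; exact hp0 a ha _
      · rw [map_add, hu, hv, add_zero]
    rw [← algebraMap_smul C r (c • f n), map_smul, map_smul, hφ, IsScalarTower.algebraMap_apply A B C,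
      algebraMap_smul] at h0
    have hinjr : Function.Injective ((LinearMap.lsmul B (N ⧸ Ns) (algebraMap A B r)).lTensor C) :=
      Module.Flat.lTensor_preserves_injective_linearMap _ (hr r hr')
    have h1 : c ⊗ₜ[B] Ns.mkQ n = 0 := hinjr (by
      rw [map_zero, LinearMap.lTensor_tmul, LinearMap.lsmul_apply, TensorProduct.tmul_smul]
      rwa [TensorProduct.smul_tmul', smul_eq_mul, mul_one] at h0)
    have h2 : c ⊗ₜ[B] (Submodule.Quotient.mk 1 : B ⧸ P) = 0 :=
      Module.Flat.lTensor_preserves_injective_linearMap (M := C) ι hι (by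
        rw [map_zero, LinearMap.lTensor_tmul, show ι (Submodule.Quotient.mk 1) = Ns.mkQ n from by
          show Ns.mkQ ((1 : B) • n) = Ns.mkQ n
          rw [one_smul]]
        exact h1)
    have h3 := congrArg (TensorProduct.tensorQuotEquivQuotSMul C P) h2
    rw [map_zero, show (Submodule.Quotient.mk 1 : B ⧸ P) = Ideal.Quotient.mk P 1 from rfl,
      TensorProduct.tensorQuotEquivQuotSMul_tmul_mk, one_smul, Submodule.Quotient.mk_eq_zero] at h3
    rwa [Ideal.smul_top_eq_map] at h3
  have hle : P.map (algebraMap B C) ≤ q' := Ideal.map_le_iff_le_comap.2 hq'.ge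
  haveI : q'.LiesOver p := ⟨by
    rw [Ideal.under_def, IsScalarTower.algebraMap_eq A B C, ← Ideal.comap_comap, hq']
    exact ‹P.LiesOver p›.over⟩
  haveI := NzdUnivInj.isPrime_fiberIdeal p q'
  let x := FlatCA.toFiberMod p (S := C) N' (f n)
  let I := WeakAss.annEl (p.Fiber C) x
  have hI : I ≤ FlatCA.fiberIdeal p q' := fun b hb => by
    obtain ⟨r, hr, c, hc⟩ := AssFiber.exists_smul_eq_includeRight p b
    have hc' : algebraMap C (p.Fiber C) c = algebraMap C (p.Fiber C) (algebraMap A C r) * b := hc.symm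
    have hmem : c ∈ q' := hle (key c (by
      rw [map_smul, ← AssFiber.algebraMap_smul_fiberMod, hc', mul_smul, WeakAss.mem_annEl.1 hb, smul_zero]))
    have h1 : algebraMap C (p.Fiber C) c ∈ FlatCA.fiberIdeal p q' := Ideal.mem_map_of_mem _ hmem
    rw [hc'] at h1
    exact (Ideal.unit_mul_mem_iff_mem _ (PurityBC.isUnit_algebraMap_fiber p hr)).1 h1
  obtain ⟨Qh, hQh, hQhle⟩ := Ideal.exists_minimalPrimes_le (I := I) (J := FlatCA.fiberIdeal p q') hI
  have hQa := FibAssIdeal.mem_associatedPrimes_of_mem_ass (WeakAss.mem_ass_of_mem_weakAss_of_fg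
    (IsNoetherian.noetherian Qh) (WeakAss.mem_weakAss_iff.2 ⟨x, hQh⟩))
  obtain ⟨hQp, hQl, hQe, -⟩ := NzdUnivInj.comap_spec p N' hQa
  have hcq : (FlatCA.fiberIdeal p q').comap (algebraMap C (p.Fiber C)) = q' := by
    obtain ⟨⟨Q, hQ1⟩, hQ2⟩ := NzdUnivInj.exists_prime_fiber p q'
    rw [← FibAssIdeal.eq_fiberIdeal p hQ2]
    exact hQ2
  have hQq : Qh.comap (algebraMap C (p.Fiber C)) ≤ q' := (Ideal.comap_mono hQhle).trans hcq.le
  refine ⟨_, hQp, hQq, le_antisymm ((Ideal.comap_mono hQq).trans hq'.le) fun b hb => ?_, hQl, by rw [hQe]; exact hQa⟩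
  refine hQh.1.2 (WeakAss.mem_annEl.2 ?_)
  rw [AssFiber.algebraMap_smul_fiberMod, ← map_smul, algebraMap_smul, ← map_smul,
    PurityBC.toFiberMod_eq_zero_iff (S := C) p N']
  obtain ⟨r, hr', hmem⟩ := (hn b).1 hb
  refine ⟨r, hr', ?_⟩
  haveI : IsScalarTower A B N' := IsScalarTower.of_algebraMap_smul fun a z => by
    rw [← algebraMap_smul C (algebraMap A B a) z, ← IsScalarTower.algebraMap_apply, algebraMap_smul]
  rw [← f.map_smul_of_tower r]
  refine Submodule.smul_induction_on hmem (fun a ha z _ => ?_) (fun u v hu hv => ?_)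
  · rw [f.map_smul_of_tower]; exact Submodule.smul_mem_smul ha trivial
  · rw [map_add]; exact add_mem hu hv

end Groth.Agent.RG
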