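import Groth.Agent.FlatModel.Core
import Mathlib.RingTheory.Ideal.AssociatedPrime.Finiteness

/-!
# Presented modules on fibres: field extensions and comparison with the tensor product
-/

set_option autoImplicit false
set_option linter.unusedSectionVars false
set_option backward.isDefEq.respectTransparency false

namespace Groth.Agent.RG

open MvPolynomial TensorProduct Groth.Agent.FlatModel

universe u

variable {a n : ℕ} {R₀ : Type u} [CommRing R₀] (K₀ : Submodule (MvPolynomial (Fin n) R₀) (V a n R₀))

theorem KK_KK (R T : Type u) [CommRing R] [CommRing T] [Algebra R₀ R] [Algebra R₀ T] [Algebra R T]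
    [IsScalarTower R₀ R T] : KK (R₀ := R) (KK K₀ R) T = KK K₀ T := by
  have hcomp : ∀ v : V a n R₀, mapV (algebraMap R T) (mapV (algebraMap R₀ R) v) = mapV (algebraMap R₀ T) v := fun v =>
    mapV_algebraMap (IsScalarTower.toAlgHom R₀ R T) v
  apply le_antisymm
  · rw [KK, Submodule.span_le]
    rintro _ ⟨x, hx, rfl⟩
    have := mapV_mem_span (algebraMap R T) hx
    rwa [Set.image_image, Set.image_congr fun v _ => hcomp v] at this
  · rw [KK, Submodule.span_le]
    rintro _ ⟨w, hw, rfl⟩
    rw [← hcomp w]
    exact Submodule.subset_span ⟨_, mapL_mem_KK K₀ hw, rfl⟩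

section field

variable {k₁ k : Type u} [Field k₁] [Field k] [Algebra k₁ k]

/-- Apply a linear functional to the coefficients. -/
noncomputable def coeffFun (φ : k →ₗ[k₁] k₁) (f : MvPolynomial (Fin n) k) : MvPolynomial (Fin n) k₁ :=
  f.support.sum fun d => monomial d (φ (f.coeff d))

theorem coeff_coeffFun (φ : k →ₗ[k₁] k₁) (f : MvPolynomial (Fin n) k) (d : Fin n →₀ ℕ) :
    (coeffFun φ f).coeff d = φ (f.coeff d) := by
  classical
  rw [coeffFun, MvPolynomial.coeff_sum]
  simp only [MvPolynomial.coeff_monomial, Finset.sum_ite_eq']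
  split_ifs with h
  · rfl
  · rw [MvPolynomial.notMem_support_iff.1 h, map_zero]

theorem coeffFun_add (φ : k →ₗ[k₁] k₁) (f g : MvPolynomial (Fin n) k) :
    coeffFun φ (f + g) = coeffFun φ f + coeffFun φ g := by
  ext d; simp [coeff_coeffFun]

theorem coeffFun_zero (φ : k →ₗ[k₁] k₁) : coeffFun (n := n) φ (0 : MvPolynomial (Fin n) k) = 0 := by
  ext d; simp [coeff_coeffFun]

theorem coeffFun_C_mul (φ : k →ₗ[k₁] k₁) (c : k) (f : MvPolynomial (Fin n) k) :
    coeffFun φ (C c * f) = coeffFun (φ ∘ₗ LinearMap.mulLeft k₁ c) f := by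
  ext d; simp [coeff_coeffFun]

theorem coeffFun_map_mul (φ : k →ₗ[k₁] k₁) (u : MvPolynomial (Fin n) k₁) (f : MvPolynomial (Fin n) k) :
    coeffFun φ (MvPolynomial.map (algebraMap k₁ k) u * f) = u * coeffFun φ f := by
  classical
  ext d
  rw [coeff_coeffFun, MvPolynomial.coeff_mul, MvPolynomial.coeff_mul, map_sum]
  exact Finset.sum_congr rfl fun x _ => by
    rw [MvPolynomial.coeff_map, coeff_coeffFun, ← Algebra.smul_def, map_smul, smul_eq_mul]

variable [Algebra R₀ k₁] [Algebra R₀ k] [IsScalarTower R₀ k₁ k]

theorem coeffFun_mem_KK {x : V a n k} (hx : x ∈ KK K₀ k) (φ : k →ₗ[k₁] k₁) :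
    (fun i => coeffFun φ (x i)) ∈ KK K₀ k₁ := by
  induction hx using Submodule.span_induction generalizing φ with
  | mem x hx =>
    obtain ⟨w, hw, rfl⟩ := hx
    have : (fun i => coeffFun φ (mapV (algebraMap R₀ k) w i)) = (C (φ 1) : MvPolynomial (Fin n) k₁) • mapV (algebraMap R₀ k₁) w := by
      funext i
      have hm : mapV (algebraMap R₀ k) w i = MvPolynomial.map (algebraMap k₁ k) (mapV (algebraMap R₀ k₁) w i) * 1 := by
        rw [mul_one, mapV_apply, mapV_apply, MvPolynomial.map_map, ← IsScalarTower.algebraMap_eq]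
      rw [hm, coeffFun_map_mul, Pi.smul_apply, smul_eq_mul, mul_comm]
      congr 1
      ext d
      classical
      rw [coeff_coeffFun, MvPolynomial.coeff_one, MvPolynomial.coeff_C]
      split_ifs <;> simp
    rw [this]
    exact Submodule.smul_mem _ _ (mapL_mem_KK K₀ hw)
  | zero =>
    have : (fun i => coeffFun φ ((0 : V a n k) i)) = 0 := funext fun i => coeffFun_zero φ
    rw [this]
    exact zero_mem _
  | add x y _ _ hx hy =>
    have : (fun i => coeffFun φ ((x + y) i)) = (fun i => coeffFun φ (x i)) + fun i => coeffFun φ (y i) :=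
      funext fun i => coeffFun_add φ _ _
    rw [this]
    exact add_mem (hx φ) (hy φ)
  | smul c x _ hx =>
    induction c using MvPolynomial.induction_on' with
    | monomial d r =>
      have : (fun i => coeffFun φ ((monomial d r • x) i)) =
          (monomial d 1 : MvPolynomial (Fin n) k₁) • fun i => coeffFun (φ ∘ₗ LinearMap.mulLeft k₁ r) (x i) := by
        funext i
        rw [Pi.smul_apply, smul_eq_mul, Pi.smul_apply, smul_eq_mul, ← coeffFun_C_mul φ r, ← coeffFun_map_mul,
          MvPolynomial.map_monomial, map_one, ← mul_assoc]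
        congr 2
        rw [mul_comm, MvPolynomial.C_mul_monomial, mul_one]
      rw [this]
      exact Submodule.smul_mem _ _ (hx _)
    | add p q hp hq =>
      have : (fun i => coeffFun φ (((p + q) • x) i)) =
          (fun i => coeffFun φ ((p • x) i)) + fun i => coeffFun φ ((q • x) i) :=
        funext fun i => by rw [add_smul]; exact coeffFun_add φ _ _
      rw [this]
      exact add_mem hp hq

/-- A vector not killed outside a prime stays so after a field extension. -/
theorem colon_le_of_field (Q : Ideal (MvPolynomial (Fin n) k)) (v : V a n k₁)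
    (h : ∀ u : MvPolynomial (Fin n) k₁, u • v ∈ KK K₀ k₁ → MvPolynomial.map (algebraMap k₁ k) u ∈ Q)
    {s : MvPolynomial (Fin n) k} (hs : s • mapV (algebraMap k₁ k) v ∈ KK K₀ k) : s ∈ Q := by
  classical
  let b := Module.Free.chooseBasis k₁ k
  have hj : ∀ j, MvPolynomial.map (algebraMap k₁ k) (coeffFun (b.coord j) s) ∈ Q := fun j => h _ (by
    have := coeffFun_mem_KK K₀ hs (b.coord j)
    convert this using 1
    funext i
    rw [Pi.smul_apply, smul_eq_mul, Pi.smul_apply, smul_eq_mul, mapV_apply, mul_comm s, coeffFun_map_mul, mul_comm])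
  let J := s.support.biUnion fun d => (b.repr (s.coeff d)).support
  have hsum : s = ∑ j ∈ J, C (b j) * MvPolynomial.map (algebraMap k₁ k) (coeffFun (b.coord j) s) := by
    ext d
    rw [MvPolynomial.coeff_sum]
    simp only [MvPolynomial.coeff_C_mul, MvPolynomial.coeff_map, coeff_coeffFun, Module.Basis.coord_apply]
    by_cases hd : d ∈ s.support
    · conv_lhs => rw [← b.linearCombination_repr (s.coeff d), Finsupp.linearCombination_apply, Finsupp.sum]
      refine (Finset.sum_subset (Finset.subset_biUnion_of_mem (fun d => (b.repr (s.coeff d)).support) hd) fun j _ hj => ?_).trans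
        (Finset.sum_congr rfl fun j _ => by rw [Algebra.smul_def, mul_comm])
      rw [Finsupp.notMem_support_iff.1 hj, zero_smul]
    · rw [MvPolynomial.notMem_support_iff.1 hd]
      simp
  rw [hsum]
  exact sum_mem fun j _ => Ideal.mul_mem_left _ _ (hj j)

end field

section tensor

variable {R : Type u} [CommRing R] {N : Type u} [AddCommGroup N] [Module R N] [Module (MvPolynomial (Fin n) R) N]
  [IsScalarTower R (MvPolynomial (Fin n) R) N]

/-- Vanishing on a base change of a presented module. -/
theorem mem_KK_ker_iff (π : V a n R →ₗ[MvPolynomial (Fin n) R] N) (hπ : Function.Surjective π)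
    (T : Type u) [CommRing T] [Algebra R T] (v : V a n R) :
    mapV (algebraMap R T) v ∈ KK (R₀ := R) (LinearMap.ker π) T ↔ π v ⊗ₜ[R] (1 : T) = 0 := by
  let πR : V a n R →ₗ[R] N := π.restrictScalars R
  have hcomm : π v ⊗ₜ[R] (1 : T) = 0 ↔ (1 : T) ⊗ₜ[R] πR v = 0 := by
    rw [← (TensorProduct.comm R N T).map_eq_zero_iff]
    rfl
  rw [hcomm]
  constructor
  · intro hv
    let Φ : V a n T →ₗ[T] T ⊗[R] N := (B a n T).constr T fun e => (1 : T) ⊗ₜ[R] πR (B a n R e)
    have hΦ : Φ.restrictScalars R ∘ₗ mapL T = (TensorProduct.mk R T N 1) ∘ₗ πR :=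
      (B a n R).ext fun e => by simp [Φ, mapL_B]
    have hΦv : ∀ v, Φ (mapV (algebraMap R T) v) = (1 : T) ⊗ₜ[R] πR v := fun v => LinearMap.congr_fun hΦ v
    have hall : ∀ f : MvPolynomial (Fin n) T, Φ (f • mapV (algebraMap R T) v) = 0 := by
      generalize mapV (algebraMap R T) v = z at hv ⊢
      induction hv using Submodule.span_induction with
      | mem x hx =>
        obtain ⟨l, hl, rfl⟩ := hx
        intro f
        induction f using MvPolynomial.induction_on' with
        | monomial d c =>
          have : (monomial d c : MvPolynomial (Fin n) T) • mapV (algebraMap R T) l =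
              c • mapV (algebraMap R T) ((monomial d 1 : MvPolynomial (Fin n) R) • l) := by
            rw [mapV_smul, MvPolynomial.map_monomial, map_one, ← C_smul, smul_smul, MvPolynomial.C_mul_monomial, mul_one]
          rw [this, map_smul, hΦv, LinearMap.restrictScalars_apply, map_smul, LinearMap.mem_ker.1 hl, smul_zero,
            tmul_zero, smul_zero]
        | add p q hp hq => rw [add_smul, map_add, hp, hq, add_zero]
      | zero => intro f; rw [smul_zero, map_zero]
      | add x y _ _ hx hy => intro f; rw [smul_add, map_add, hx, hy, add_zero]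
      | smul c x _ hx => intro f; rw [smul_smul]; exact hx _
    rw [← hΦv]
    simpa using hall 1
  · intro hv
    let L' := KK (R₀ := R) (LinearMap.ker π) T
    let mk : V a n T →ₗ[R] V a n T ⧸ L' := L'.mkQ.restrictScalars R
    let ψ : V a n R →ₗ[R] V a n T ⧸ L' := LinearMap.comp mk (mapL (R₀ := R) T)
    let Ψ₀ : N →ₗ[R] V a n T ⧸ L' :=
      (LinearMap.ker πR).liftQ ψ (fun x hx => by
        rw [LinearMap.mem_ker]
        exact (Submodule.Quotient.mk_eq_zero _).2 (mapL_mem_KK (LinearMap.ker π) (show x ∈ LinearMap.ker π from hx))) ∘ₗ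
        (πR.quotKerEquivOfSurjective hπ).symm.toLinearMap
    have hΨ₀ : ∀ v, Ψ₀ (πR v) = ψ v := by
      intro v
      have : (πR.quotKerEquivOfSurjective hπ).symm (πR v) = Submodule.Quotient.mk v := by
        rw [LinearEquiv.symm_apply_eq]; rfl
      simp only [Ψ₀, LinearMap.comp_apply, LinearEquiv.coe_coe, this]
      rfl
    have := congrArg (Ψ₀.liftBaseChange T) hv
    rw [LinearMap.liftBaseChange_tmul, one_smul, hΨ₀, map_zero] at this
    exact (Submodule.Quotient.mk_eq_zero _).1 this

variable (T : Type u) [CommRing T] [Algebra R T]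

theorem exists_smul_eq_mapV (hT : ∀ c : T, ∃ r : R, IsUnit (algebraMap R T r) ∧ ∃ r', algebraMap R T r * c = algebraMap R T r')
    (w : V a n T) : ∃ r : R, IsUnit (algebraMap R T r) ∧ ∃ v : V a n R, algebraMap R T r • w = mapV (algebraMap R T) v := by
  have hw : w ∈ Submodule.span T (Set.range (B a n T)) := by rw [(B a n T).span_eq]; trivial
  induction hw using Submodule.span_induction with
  | mem x hx =>
    obtain ⟨e, rfl⟩ := hx
    exact ⟨1, by simp, B a n R e, by rw [map_one, one_smul]; exact (mapL_B (R' := T) (R₀ := R) e).symm⟩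
  | zero => exact ⟨1, by simp, 0, by simp⟩
  | add x y _ _ hx hy =>
    obtain ⟨r, hr, v, hv⟩ := hx
    obtain ⟨r', hr', v', hv'⟩ := hy
    refine ⟨r * r', by rw [map_mul]; exact hr.mul hr', r' • v + r • v', ?_⟩
    rw [show mapV (algebraMap R T) (r' • v + r • v') = mapL T (r' • v + r • v') from rfl, map_add, map_smul, map_smul,
      show mapL T v = mapV (algebraMap R T) v from rfl, show mapL T v' = mapV (algebraMap R T) v' from rfl, ← hv, ← hv',
      ← algebraMap_smul T r', ← algebraMap_smul T r (algebraMap R T r' • y), smul_add, map_mul, smul_smul, smul_smul,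
      mul_comm (algebraMap R T r') (algebraMap R T r)]
  | smul c x _ hx =>
    obtain ⟨r, hr, v, hv⟩ := hx
    obtain ⟨r₁, hr₁, c', hc'⟩ := hT c
    refine ⟨r₁ * r, by rw [map_mul]; exact hr₁.mul hr, c' • v, ?_⟩
    rw [show mapV (algebraMap R T) (c' • v) = mapL T (c' • v) from rfl, map_smul,
      show mapL T v = mapV (algebraMap R T) v from rfl, ← hv, ← algebraMap_smul T c', map_mul, smul_smul, smul_smul,
      ← hc']
    congr 1
    ring

end tensor

end Groth.Agent.RG
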