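import Groth.Agent.FlatModel.Local

/-!
# Flatness at a submonoid is a condition on finitely many elements, stable under base change
-/

set_option autoImplicit false

namespace Groth.Agent.RG

open MvPolynomial Groth.Agent.FlatModel

universe u

variable {a n : ℕ} {R₀ : Type u} [CommRing R₀] (K₀ : Submodule (MvPolynomial (Fin n) R₀) (V a n R₀))

/-- The flatness condition on the vectors which come from the base. -/
def GenFlat (R' : Type u) [CommRing R'] [Algebra R₀ R'] (W : Submonoid (MvPolynomial (Fin n) R')) : Prop :=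
  ∀ p : Ideal R₀, ∀ t ∈ K₀, t ∈ CJ a n p → ∃ s ∈ W, s • mapV (algebraMap R₀ R') t ∈
    ((((p.map (algebraMap R₀ R')).map C : Ideal (MvPolynomial (Fin n) R'))) • KK K₀ R')

variable {K₀} {R' : Type u} [CommRing R'] [Algebra R₀ R']

theorem PtFlat.gen {W : Submonoid (MvPolynomial (Fin n) R')} (h : PtFlat K₀ R' W) : GenFlat K₀ R' W :=
  fun p t ht htp => h _ _ (mapL_mem_KK K₀ ht) (mem_CJ.2 fun i => MvPolynomial.mem_map_C_iff.2 fun d => by
    show ((mapL R' t) i).coeff d ∈ _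
    rw [show (mapL R' t) i = MvPolynomial.map (algebraMap R₀ R') (t i) from rfl, MvPolynomial.coeff_map]
    exact Ideal.mem_map_of_mem _ (MvPolynomial.mem_map_C_iff.1 (mem_CJ.1 htp i) d))

theorem mapV_mem_span_algHom {R'' : Type u} [CommRing R''] [Algebra R₀ R''] (φ : R' →ₐ[R₀] R'') {G : Set (V a n R₀)}
    {x : V a n R'} (hx : x ∈ Submodule.span (MvPolynomial (Fin n) R') (mapV (algebraMap R₀ R') '' G)) :
    mapV φ.toRingHom x ∈ Submodule.span (MvPolynomial (Fin n) R'') (mapV (algebraMap R₀ R'') '' G) := by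
  have := mapV_mem_span φ.toRingHom hx
  rwa [Set.image_image, Set.image_congr fun v _ => mapV_algebraMap φ v] at this

theorem GenFlat.map {R'' : Type u} [CommRing R''] [Algebra R₀ R''] (φ : R' →ₐ[R₀] R'')
    {W : Submonoid (MvPolynomial (Fin n) R')} {W' : Submonoid (MvPolynomial (Fin n) R'')}
    (hW : ∀ s ∈ W, MvPolynomial.map φ.toRingHom s ∈ W') (h : GenFlat K₀ R' W) : GenFlat K₀ R'' W' := by
  intro p t ht htp
  obtain ⟨s, hs, hst⟩ := h p t ht htp
  rw [map_smul_KK_eq_span] at hst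
  refine ⟨_, hW s hs, ?_⟩
  rw [map_smul_KK_eq_span, ← mapV_algebraMap φ t, ← mapV_smul]
  exact mapV_mem_span_algHom φ hst

theorem GenFlat.mono {W W' : Submonoid (MvPolynomial (Fin n) R')} (h : GenFlat K₀ R' W) (hW : W ≤ W') :
    GenFlat K₀ R' W' :=
  fun p t ht htp => let ⟨s, hs, hst⟩ := h p t ht htp; ⟨s, hW hs, hst⟩

variable [IsNoetherianRing R₀]

/-- The condition on the base is enough over a Noetherian ring. -/
theorem GenFlat.ptFlat_of_noetherian [IsNoetherianRing R'] {W : Submonoid (MvPolynomial (Fin n) R')}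
    (h : GenFlat K₀ R' W) : PtFlat K₀ R' W := by
  classical
  obtain ⟨S, hS, hcover⟩ := exists_cover K₀ ⊥
  choose G hG using fun p : Ideal R₀ => (IsNoetherian.noetherian (K₀ ⊓ CJ a n p) : (K₀ ⊓ CJ a n p).FG)
  choose! w hwW hw using fun (z : Ideal R₀ × V a n R₀) (hz : z.2 ∈ K₀ ⊓ CJ a n z.1) => h z.1 z.2 hz.1 hz.2
  let T := S.biUnion fun x => (G x.1).image fun t => (x.1, t)
  have hT : ∀ z ∈ T, z.2 ∈ K₀ ⊓ CJ a n z.1 := by
    intro z hz
    simp only [T, Finset.mem_biUnion, Finset.mem_image] at hz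
    obtain ⟨x, -, t, ht, rfl⟩ := hz
    exact (hG x.1).le (Submodule.subset_span ht)
  let g := ∏ z ∈ T, w z
  intro J x hx hxJ
  let c : Ideal (MvPolynomial (Fin n) R') :=
    ((J.map C : Ideal (MvPolynomial (Fin n) R')) • KK K₀ R').comap (LinearMap.toSpanSingleton _ _ x)
  have hgc : g ∈ c.radical := by
    rw [Ideal.radical_eq_sInf, Ideal.mem_sInf]
    rintro P ⟨hcP, hP⟩
    by_contra hgP
    obtain ⟨⟨p, f⟩, hpf, hpP, hfP⟩ :=
      hcover (P.comap ((C : R' →+* MvPolynomial (Fin n) R').comp (algebraMap R₀ R'))) (Ideal.IsPrime.comap _) bot_le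
    have hgt : ∀ t ∈ K₀, t ∈ CJ a n p → g • mapV (algebraMap R₀ R') t ∈
        (((p.map (algebraMap R₀ R')).map C : Ideal (MvPolynomial (Fin n) R'))) • KK K₀ R' := by
      intro t ht htp
      have hmem : t ∈ Submodule.span (MvPolynomial (Fin n) R₀) (G p : Set (V a n R₀)) := (hG p).ge ⟨ht, htp⟩
      have hle : Submodule.span (MvPolynomial (Fin n) R') (mapV (algebraMap R₀ R') '' (G p : Set (V a n R₀))) ≤
          (((p.map (algebraMap R₀ R')).map C : Ideal (MvPolynomial (Fin n) R')) • KK K₀ R').comap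
            (LinearMap.lsmul (MvPolynomial (Fin n) R') (V a n R') g) := by
        rw [Submodule.span_le]
        rintro _ ⟨t, ht, rfl⟩
        have hz : (p, t) ∈ T := Finset.mem_biUnion.2 ⟨(p, f), hpf, Finset.mem_image_of_mem _ ht⟩
        obtain ⟨b, hb⟩ := Finset.dvd_prod_of_mem w hz
        show g • mapV (algebraMap R₀ R') t ∈
          (((p.map (algebraMap R₀ R')).map C : Ideal (MvPolynomial (Fin n) R')) • KK K₀ R')
        rw [show g = b * w (p, t) from by rw [mul_comm]; exact hb, mul_smul]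
        exact Submodule.smul_mem _ _ (hw (p, t) (hT _ hz))
      exact hle (mapV_mem_span (algebraMap R₀ R') hmem)
    obtain ⟨s, hs, hsx⟩ := exists_smul_mem K₀ (hS _ hpf) g hgt J hx hxJ P hpP hfP hgP
    exact hs (hcP hsx)
  obtain ⟨m, hm⟩ := hgc
  exact ⟨_, pow_mem (prod_mem fun z hz => hwW z (hT z hz)) m, hm⟩

/-- The condition descends to a finitely generated subalgebra. -/
theorem GenFlat.exists_fg {R : Type u} [CommRing R] [Algebra R₀ R] {W : Submonoid (MvPolynomial (Fin n) R)}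
    (h : GenFlat K₀ R W) :
    ∃ (R₁ : Subalgebra R₀ R) (g : MvPolynomial (Fin n) R₁), R₁.FG ∧ MvPolynomial.map R₁.val.toRingHom g ∈ W ∧
      PtFlat K₀ R₁ (Submonoid.powers g) := by
  classical
  obtain ⟨S, hS, hcover⟩ := exists_cover K₀ ⊥
  choose G hG using fun p : Ideal R₀ => (IsNoetherian.noetherian (K₀ ⊓ CJ a n p) : (K₀ ⊓ CJ a n p).FG)
  let T : Ideal R₀ → (R₁ : Subalgebra R₀ R) → MvPolynomial (Fin n) R₁ → Set (V a n R₀) := fun p R₁ g =>
    {t | g • mapV (algebraMap R₀ R₁) t ∈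
      ((((p.map (algebraMap R₀ R₁)).map C : Ideal (MvPolynomial (Fin n) R₁))) • KK K₀ R₁)}
  have hmono : ∀ p (R₁ R₂ : Subalgebra R₀ R) (hle : R₁ ≤ R₂) (g : MvPolynomial (Fin n) R₁)
      (g' : MvPolynomial (Fin n) R₂), T p R₁ g ⊆ T p R₂ (g' * MvPolynomial.map (Subalgebra.inclusion hle).toRingHom g) := by
    intro p R₁ R₂ hle g g' t ht
    simp only [T, Set.mem_setOf_eq, map_smul_KK_eq_span] at ht ⊢
    have := span_mono_subalgebra hle ht
    rw [mapV_smul, mapV_algebraMap] at this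
    rw [mul_smul]
    exact Submodule.smul_mem _ _ this
  have hone : ∀ p, ∀ t ∈ K₀, t ∈ CJ a n p → ∃ R₁ : Subalgebra R₀ R, R₁.FG ∧ ∃ g : MvPolynomial (Fin n) R₁,
      MvPolynomial.map R₁.val.toRingHom g ∈ W ∧ t ∈ T p R₁ g := by
    intro p t ht htp
    obtain ⟨s, hs, h2⟩ := h p t ht htp
    rw [map_smul_KK_eq_span] at h2
    obtain ⟨R₁, hR₁, x₁, hx₁, hx₁t⟩ := exists_fg_span_descent h2
    let R₂ := R₁ ⊔ Algebra.adjoin R₀ (s.coeffs : Set R)
    obtain ⟨g, hg⟩ : s ∈ Set.range (MvPolynomial.map R₂.val.toRingHom) :=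
      MvPolynomial.mem_range_map_iff_coeffs_subset.2 fun c hc =>
        ⟨⟨c, (le_sup_right : _ ≤ R₂) (Algebra.subset_adjoin hc)⟩, rfl⟩
    refine ⟨R₂, hR₁.sup (Subalgebra.fg_adjoin_finset _), g, hg.symm ▸ hs, ?_⟩
    have hx₂ := span_mono_subalgebra (le_sup_left : R₁ ≤ R₂) hx₁
    have : mapV (Subalgebra.inclusion le_sup_left).toRingHom x₁ = g • mapV (algebraMap R₀ R₂) t :=
      mapV_injective (g := R₂.val.toRingHom) Subtype.val_injective (by
        rw [mapV_val_inclusion, hx₁t, mapV_smul, hg, mapV_algebraMap])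
    simp only [T, Set.mem_setOf_eq, map_smul_KK_eq_span]
    exact this ▸ hx₂
  have hfin : ∀ Z : Finset (Ideal R₀ × V a n R₀), (∀ z ∈ Z, z.2 ∈ K₀ ⊓ CJ a n z.1) →
      ∃ R₁ : Subalgebra R₀ R, R₁.FG ∧ ∃ g : MvPolynomial (Fin n) R₁,
        MvPolynomial.map R₁.val.toRingHom g ∈ W ∧ ∀ z ∈ Z, z.2 ∈ T z.1 R₁ g := by
    intro Z
    induction Z using Finset.induction with
    | empty => exact fun _ => ⟨⊥, Subalgebra.fg_bot, 1, by rw [map_one]; exact one_mem W, by simp⟩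
    | insert w Z _ ih =>
      intro hW
      obtain ⟨R₁, h₁, g₁, hg₁, h₁'⟩ := ih fun z hz => hW z (Finset.mem_insert_of_mem hz)
      obtain ⟨R₂, h₂, g₂, hg₂, h₂'⟩ := hone w.1 w.2 (hW w (Finset.mem_insert_self _ _)).1 (hW w (Finset.mem_insert_self _ _)).2
      let i₁ := MvPolynomial.map (σ := Fin n) (Subalgebra.inclusion (le_sup_left : R₁ ≤ R₁ ⊔ R₂)).toRingHom
      let i₂ := MvPolynomial.map (σ := Fin n) (Subalgebra.inclusion (le_sup_right : R₂ ≤ R₁ ⊔ R₂)).toRingHom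
      refine ⟨R₁ ⊔ R₂, h₁.sup h₂, i₁ g₁ * i₂ g₂, ?_, fun z hz => ?_⟩
      · rw [map_mul]
        refine mul_mem ?_ ?_
        · simp only [i₁, MvPolynomial.map_map]; exact hg₁
        · simp only [i₂, MvPolynomial.map_map]; exact hg₂
      rcases Finset.mem_insert.1 hz with rfl | hz
      · exact hmono _ _ _ le_sup_right g₂ (i₁ g₁) h₂'
      · rw [mul_comm]
        exact hmono _ _ _ le_sup_left g₁ (i₂ g₂) (h₁' z hz)
  obtain ⟨R₁, hR₁, g, hg, hZ⟩ := hfin (S.biUnion fun x => (G x.1).image fun t => (x.1, t)) (by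
    intro w hw
    simp only [Finset.mem_biUnion, Finset.mem_image] at hw
    obtain ⟨x, -, t, ht, rfl⟩ := hw
    exact (hG x.1).le (Submodule.subset_span ht))
  refine ⟨R₁, g, hR₁, hg, fun J x hx hxJ => ?_⟩
  haveI : Algebra.FiniteType R₀ R₁ := (Subalgebra.fg_iff_finiteType R₁).1 hR₁
  haveI : IsNoetherianRing R₁ := Algebra.FiniteType.isNoetherianRing R₀ R₁
  let c : Ideal (MvPolynomial (Fin n) R₁) :=
    ((J.map C : Ideal (MvPolynomial (Fin n) R₁)) • KK K₀ R₁).comap (LinearMap.toSpanSingleton _ _ x)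
  have hgc : g ∈ c.radical := by
    rw [Ideal.radical_eq_sInf, Ideal.mem_sInf]
    rintro P ⟨hcP, hP⟩
    by_contra hgP
    obtain ⟨⟨p, f⟩, hpf, hpP, hfP⟩ :=
      hcover (P.comap ((C : R₁ →+* MvPolynomial (Fin n) R₁).comp (algebraMap R₀ R₁))) (Ideal.IsPrime.comap _) bot_le
    have hgt : ∀ t ∈ K₀, t ∈ CJ a n p → g • mapV (algebraMap R₀ R₁) t ∈
        (((p.map (algebraMap R₀ R₁)).map C : Ideal (MvPolynomial (Fin n) R₁))) • KK K₀ R₁ := by
      intro t ht htp
      have hmem : t ∈ Submodule.span (MvPolynomial (Fin n) R₀) (G p : Set (V a n R₀)) := (hG p).ge ⟨ht, htp⟩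
      have hle : Submodule.span (MvPolynomial (Fin n) R₁) (mapV (algebraMap R₀ R₁) '' (G p : Set (V a n R₀))) ≤
          (((p.map (algebraMap R₀ R₁)).map C : Ideal (MvPolynomial (Fin n) R₁)) • KK K₀ R₁).comap
            (LinearMap.lsmul (MvPolynomial (Fin n) R₁) (V a n R₁) g) := by
        rw [Submodule.span_le]
        rintro _ ⟨t, ht, rfl⟩
        exact hZ (p, t) (Finset.mem_biUnion.2 ⟨(p, f), hpf, Finset.mem_image_of_mem _ ht⟩)
      exact hle (mapV_mem_span (algebraMap R₀ R₁) hmem)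
    obtain ⟨s, hs, hsx⟩ := exists_smul_mem K₀ (hS _ hpf) g hgt J hx hxJ P hpP hfP hgP
    exact hs (hcP hsx)
  obtain ⟨m, hm⟩ := hgc
  exact ⟨_, ⟨m, rfl⟩, hm⟩

/-- The condition on the base is equivalent to flatness. -/
theorem GenFlat.ptFlat {R : Type u} [CommRing R] [Algebra R₀ R] {W : Submonoid (MvPolynomial (Fin n) R)}
    (h : GenFlat K₀ R W) : PtFlat K₀ R W := by
  obtain ⟨R₁, g, hR₁, hg, h₁⟩ := h.exists_fg
  intro J x hx hxJ
  obtain ⟨R₂, hR₂, x₂, hx₂, hx₂x⟩ := exists_fg_span_descent hx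
  let R₃ := R₁ ⊔ R₂
  let g₃ := MvPolynomial.map (σ := Fin n) (Subalgebra.inclusion (le_sup_left : R₁ ≤ R₃)).toRingHom g
  let x₃ := mapV (Subalgebra.inclusion (le_sup_right : R₂ ≤ R₃)).toRingHom x₂
  haveI : Algebra.FiniteType R₀ R₃ := (Subalgebra.fg_iff_finiteType R₃).1 (hR₁.sup hR₂)
  haveI : IsNoetherianRing R₃ := Algebra.FiniteType.isNoetherianRing R₀ R₃
  have h₃ : PtFlat K₀ R₃ (Submonoid.powers g₃) := ((PtFlat.gen h₁).map _ (by
    rintro _ ⟨m, rfl⟩
    exact ⟨m, (map_pow _ g m).symm⟩)).ptFlat_of_noetherian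
  have hx₃x : mapV R₃.val.toRingHom x₃ = x := by rw [mapV_val_inclusion, hx₂x]
  have hx₃J : x₃ ∈ CJ a n (J.comap R₃.val.toRingHom) := mem_CJ.2 fun i => MvPolynomial.mem_map_C_iff.2 fun d => by
    have := MvPolynomial.mem_map_C_iff.1 (mem_CJ.1 hxJ i) d
    rw [← hx₃x, mapV_apply, MvPolynomial.coeff_map] at this
    exact this
  obtain ⟨_, ⟨m, rfl⟩, hm⟩ := h₃ _ x₃ (span_mono_subalgebra le_sup_right hx₂) hx₃J
  refine ⟨(MvPolynomial.map R₁.val.toRingHom g) ^ m, pow_mem hg m, ?_⟩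
  have hm' := smul_KK_le_closure K₀ _ hm
  have hgg : MvPolynomial.map R₁.val.toRingHom g = MvPolynomial.map R₃.val.toRingHom g₃ := by
    simp only [g₃, MvPolynomial.map_map]; rfl
  rw [← hx₃x, hgg, ← map_pow, ← mapV_smul]
  generalize g₃ ^ m • x₃ = y at hm'
  clear hm
  induction hm' using AddSubmonoid.closure_induction with
  | mem y hy =>
    obtain ⟨r, hr, w, hw, rfl⟩ := hy
    rw [← C_smul, mapV_smul, MvPolynomial.map_C]
    exact Submodule.smul_mem_smul (Ideal.mem_map_of_mem _ hr)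
      (show mapV _ (mapV _ w) ∈ _ from (mapV_algebraMap R₃.val w).symm ▸ mapL_mem_KK K₀ hw)
  | zero => rw [mapV_zero]; exact zero_mem _
  | add y z _ _ hy hz => rw [mapV_add]; exact add_mem hy hz

/-- Base change of flatness at a submonoid. -/
theorem PtFlat.map_algHom {R R'' : Type u} [CommRing R] [Algebra R₀ R] [CommRing R''] [Algebra R₀ R''] (φ : R →ₐ[R₀] R'')
    {W : Submonoid (MvPolynomial (Fin n) R)} {W' : Submonoid (MvPolynomial (Fin n) R'')}
    (hW : ∀ s ∈ W, MvPolynomial.map φ.toRingHom s ∈ W') (h : PtFlat K₀ R W) : PtFlat K₀ R'' W' :=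
  ((PtFlat.gen h).map φ hW).ptFlat

end Groth.Agent.RG
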