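import Groth.Agent.RG.DetectFlat
import Groth.Agent.RG.GenFlat
import Groth.Agent.RG.FibreVec

/-!
# Flatness of a presented module is detected at the associated points of its fibre
-/

set_option autoImplicit false
set_option linter.style.haveILetI false
set_option linter.unusedSectionVars false
set_option backward.isDefEq.respectTransparency false
set_option maxHeartbeats 1000000

universe u

namespace Groth.Agent.RG

open MvPolynomial TensorProduct Groth.Agent.FlatModel IsLocalRing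

variable {a n : ℕ} {R₀ : Type u} [CommRing R₀] (K₀ : Submodule (MvPolynomial (Fin n) R₀) (V a n R₀))

theorem mem_colon_mk_iff {A X : Type u} [CommRing A] [AddCommGroup X] [Module A X] (L : Submodule A X) (v : X) (s : A) :
    s ∈ (⊥ : Submodule A (X ⧸ L)).colon {Submodule.Quotient.mk v} ↔ s • v ∈ L := by
  rw [Submodule.mem_colon_singleton, Submodule.mem_bot, ← Submodule.Quotient.mk_smul, Submodule.Quotient.mk_eq_zero]

/-- A vector which survives at a prime is seen by an associated prime below it. -/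
theorem exists_assoc_le {A X : Type u} [CommRing A] [IsNoetherianRing A] [AddCommGroup X] [Module A X] (L : Submodule A X)
    (v : X) (P : Ideal A) [P.IsPrime] (h : ∀ s, s • v ∈ L → s ∈ P) :
    ∃ Q ∈ associatedPrimes A (X ⧸ L), Q ≤ P ∧ ∀ s, s • v ∈ L → s ∈ Q := by
  obtain ⟨Q, hQ, hQP⟩ := Ideal.exists_minimalPrimes_le
    (I := (⊥ : Submodule A (X ⧸ L)).colon {Submodule.Quotient.mk v}) (J := P) fun s hs => h s ((mem_colon_mk_iff L v s).1 hs)
  exact ⟨Q, isAssociatedPrime_iff.2 ⟨hQ.1.1, Submodule.exists_eq_colon_of_mem_minimalPrimes hQ⟩, hQP,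
    fun s hs => hQ.1.2 ((mem_colon_mk_iff L v s).2 hs)⟩

variable {K₀}

/-- `PtFlat` for the presented module. -/
theorem ptFlat_iff_localized {R : Type u} [CommRing R] [Algebra R₀ R] (W : Submonoid (MvPolynomial (Fin n) R)) :
    PtFlat K₀ R W ↔ Module.Flat R (LocalizedModule W (V a n R ⧸ KK K₀ R)) := by
  rw [ptFlat_iff K₀ W (KK K₀ R).mkQ (Submodule.mkQ_surjective _) (Submodule.ker_mkQ _),
    flat_localized_iff W (LocalizedModule.mkLinearMap W (V a n R ⧸ KK K₀ R))]

theorem exists_tmul_one {R : Type u} [CommRing R] {T : Type u} [CommRing T] [Algebra R T]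
    (hT : Function.Surjective (algebraMap R T)) {M : Type u} [AddCommGroup M] [Module R M] (x : M ⊗[R] T) :
    ∃ m : M, x = m ⊗ₜ (1 : T) := by
  induction x using TensorProduct.induction_on with
  | zero => exact ⟨0, (zero_tmul _ _).symm⟩
  | tmul m c =>
    obtain ⟨r, rfl⟩ := hT c
    exact ⟨r • m, by rw [smul_tmul, Algebra.smul_def, mul_one]⟩
  | add x y hx hy =>
    obtain ⟨b, rfl⟩ := hx
    obtain ⟨c, rfl⟩ := hy
    exact ⟨b + c, (add_tmul _ _ _).symm⟩

/-- Killing on a fibre, read on vectors. -/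
theorem smul_tmul_one_eq_zero_iff {R : Type u} [CommRing R] [Algebra R₀ R] (T : Type u) [CommRing T] [Algebra R T]
    [Algebra R₀ T] [IsScalarTower R₀ R T] (v : V a n R) (s : MvPolynomial (Fin n) R) :
    s • ((KK K₀ R).mkQ v ⊗ₜ[R] (1 : T)) = 0 ↔
      MvPolynomial.map (algebraMap R T) s • mapV (algebraMap R T) v ∈ KK K₀ T := by
  rw [smul_tmul', ← map_smul, ← mem_KK_ker_iff (KK K₀ R).mkQ (Submodule.mkQ_surjective _) T, Submodule.ker_mkQ,
    KK_KK K₀ R T, mapV_smul]

/-- Noetherian local base. -/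
theorem flatAt_of_fibre_detect {L : Type u} [CommRing L] [IsLocalRing L] [IsNoetherianRing L] [Algebra R₀ L]
    {k : Type u} [Field k] [Algebra (L ⧸ maximalIdeal L) k] [Algebra R₀ k] [IsScalarTower R₀ (L ⧸ maximalIdeal L) k]
    (qk : Ideal (MvPolynomial (Fin n) k)) [qk.IsPrime]
    (F : Set (Ideal (MvPolynomial (Fin n) k)))
    (hF : ∀ Q ∈ associatedPrimes (MvPolynomial (Fin n) k) (V a n k ⧸ KK K₀ k), Q ≤ qk → Q ∈ F)
    (hF' : ∀ Q ∈ F, Q.IsPrime ∧ Q ≤ qk)
    (hflat : ∀ Q ∈ F, ∀ [Q.IsPrime], PtFlat K₀ L (Q.comap (MvPolynomial.map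
      ((algebraMap (L ⧸ maximalIdeal L) k).comp (Ideal.Quotient.mk (maximalIdeal L))))).primeCompl) :
    PtFlat K₀ L (qk.comap (MvPolynomial.map
      ((algebraMap (L ⧸ maximalIdeal L) k).comp (Ideal.Quotient.mk (maximalIdeal L))))).primeCompl := by
  letI : Field (L ⧸ maximalIdeal L) := Ideal.Quotient.field _
  let ι := algebraMap (L ⧸ maximalIdeal L) k
  let ρ : L →+* L ⧸ maximalIdeal L := Ideal.Quotient.mk (maximalIdeal L)
  let θ : MvPolynomial (Fin n) L →+* MvPolynomial (Fin n) k := MvPolynomial.map (ι.comp ρ)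
  let M := V a n L ⧸ KK K₀ L
  haveI : Module.Finite (MvPolynomial (Fin n) L) M := inferInstance
  haveI : (qk.comap θ).IsPrime := Ideal.IsPrime.comap _
  rw [ptFlat_iff_localized]
  refine flatAt_of_detect (N := M) (qk.comap θ) (Ideal.map_le_iff_le_comap.2 fun r hr => ?_) {b | ∃ Q ∈ F, Q.comap θ = b}
    ?_ ?_ ?_
  · show θ (C r) ∈ qk
    rw [show θ (C r) = C (ι (ρ r)) from MvPolynomial.map_C _ _, show ρ r = 0 from Ideal.Quotient.eq_zero_iff_mem.2 hr,
      map_zero, map_zero]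
    exact zero_mem _
  · rintro b ⟨Q, hQ, rfl⟩
    haveI := (hF' Q hQ).1
    exact ⟨Ideal.IsPrime.comap _, Ideal.comap_mono (hF' Q hQ).2⟩
  · rintro b ⟨Q, hQ, rfl⟩ _
    haveI := (hF' Q hQ).1
    exact ptFlat_iff_localized (K₀ := K₀) _ |>.1 (hflat Q hQ)
  · intro x hx
    obtain ⟨y, rfl⟩ := exists_tmul_one Ideal.Quotient.mk_surjective x
    obtain ⟨v, rfl⟩ := Submodule.mkQ_surjective (KK K₀ L) y
    by_cases hu : ∃ u : MvPolynomial (Fin n) (L ⧸ maximalIdeal L), u • mapV ρ v ∈ KK K₀ (L ⧸ maximalIdeal L) ∧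
        MvPolynomial.map ι u ∉ qk
    · obtain ⟨u, hu, huq⟩ := hu
      obtain ⟨s, rfl⟩ := MvPolynomial.map_surjective ρ Ideal.Quotient.mk_surjective u
      exact ⟨s, by rw [Ideal.mem_comap]; show MvPolynomial.map (ι.comp ρ) s ∉ qk; rwa [← MvPolynomial.map_map],
        (smul_tmul_one_eq_zero_iff (K₀ := K₀) _ v s).2 hu⟩
    push Not at hu
    obtain ⟨Q, hQA, hQq, hQ⟩ := exists_assoc_le (KK K₀ k) (mapV ι (mapV ρ v)) qk
      fun s hs => colon_le_of_field K₀ qk (mapV ρ v) hu hs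
    obtain ⟨s, hs, hsx⟩ := hx _ ⟨Q, hF Q hQA hQq, rfl⟩
    refine absurd ?_ hs
    rw [Ideal.mem_comap]
    refine hQ _ ?_
    have h1 := mapV_mem_span_algHom (IsScalarTower.toAlgHom R₀ (L ⧸ maximalIdeal L) k)
      ((smul_tmul_one_eq_zero_iff (K₀ := K₀) (L ⧸ maximalIdeal L) v s).1 hsx)
    rw [mapV_smul] at h1
    show MvPolynomial.map (ι.comp ρ) s • _ ∈ _
    rw [← MvPolynomial.map_map]
    exact h1

/-- Local base. -/
theorem ptFlat_of_assoc_local [IsNoetherianRing R₀] {R : Type u} [CommRing R] [IsLocalRing R] [Algebra R₀ R]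
    {k : Type u} [Field k] [Algebra R k] [Algebra R₀ k] [IsScalarTower R₀ R k]
    (hk : Function.Surjective (algebraMap R k)) (qk : Ideal (MvPolynomial (Fin n) k)) [qk.IsPrime]
    (h : ∀ (Q : Ideal (MvPolynomial (Fin n) k)) [Q.IsPrime],
      Q ∈ associatedPrimes (MvPolynomial (Fin n) k) (V a n k ⧸ KK K₀ k) → Q ≤ qk →
      PtFlat K₀ R (Q.comap (MvPolynomial.map (algebraMap R k))).primeCompl) :
    PtFlat K₀ R (qk.comap (MvPolynomial.map (algebraMap R k))).primeCompl := by
  classical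
  let res := MvPolynomial.map (σ := Fin n) (algebraMap R k)
  let F := {Q ∈ associatedPrimes (MvPolynomial (Fin n) k) (V a n k ⧸ KK K₀ k) | Q ≤ qk}
  haveI : Module.Finite (MvPolynomial (Fin n) k) (V a n k ⧸ KK K₀ k) := inferInstance
  have hFfin : F.Finite := (associatedPrimes.finite (MvPolynomial (Fin n) k) (V a n k ⧸ KK K₀ k)).subset fun Q hQ => hQ.1
  let W : Submonoid (MvPolynomial (Fin n) R) :=
    { carrier := {s | ∀ Q ∈ F, res s ∉ Q}
      one_mem' := fun Q hQ h1 => hQ.1.isPrime.ne_top (Q.eq_top_iff_one.2 (by rwa [map_one] at h1))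
      mul_mem' := fun {s t} hs ht Q hQ h1 => by
        rw [map_mul] at h1
        exact (hQ.1.isPrime.mem_or_mem h1).elim (hs Q hQ) (ht Q hQ) }
  have hW : PtFlat K₀ R W := by
    intro J x hx hxJ
    let c : Ideal (MvPolynomial (Fin n) R) :=
      ((J.map C : Ideal (MvPolynomial (Fin n) R)) • KK K₀ R).comap (LinearMap.toSpanSingleton _ _ x)
    by_contra hne
    push Not at hne
    have hsub : (c : Set (MvPolynomial (Fin n) R)) ⊆ ⋃ Q ∈ (↑hFfin.toFinset : Set (Ideal (MvPolynomial (Fin n) k))),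
        ((Q.comap res : Ideal (MvPolynomial (Fin n) R)) : Set (MvPolynomial (Fin n) R)) := by
      intro s hs
      by_contra hsU
      simp only [Set.mem_iUnion, not_exists, Set.Finite.coe_toFinset] at hsU
      exact hne s (fun Q hQ h1 => hsU Q hQ h1) hs
    obtain ⟨Q, hQ, hcQ⟩ := (Ideal.subset_union_prime ⊥ ⊥ fun Q hQ _ _ => by
      haveI := (hFfin.mem_toFinset.1 hQ).1.isPrime
      exact Ideal.IsPrime.comap _).1 hsub
    have hQF := hFfin.mem_toFinset.1 hQ
    haveI := hQF.1.isPrime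
    obtain ⟨s, hs, hsx⟩ := h Q hQF.1 hQF.2 J x hx hxJ
    exact hs (hcQ hsx)
  obtain ⟨R₁, g, hR₁, hg, hg₁⟩ := (PtFlat.gen hW).exists_fg
  haveI : Algebra.FiniteType R₀ R₁ := (Subalgebra.fg_iff_finiteType R₁).1 hR₁
  haveI : IsNoetherianRing R₁ := Algebra.FiniteType.isNoetherianRing R₀ R₁
  haveI hm : (RingHom.ker (algebraMap R k)).IsMaximal := RingHom.ker_isMaximal_of_surjective _ hk
  let p₁ : Ideal R₁ := (RingHom.ker (algebraMap R k)).comap R₁.val.toRingHom
  let L := Localization.AtPrime p₁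
  haveI : IsNoetherianRing L := IsLocalization.isNoetherianRing p₁.primeCompl L inferInstance
  have hu : ∀ y : p₁.primeCompl, IsUnit (R₁.val.toRingHom y) := fun y => by
    by_contra hne
    refine y.2 ?_
    show R₁.val.toRingHom (y : R₁) ∈ RingHom.ker (algebraMap R k)
    exact (SetLike.ext_iff.1 (IsLocalRing.eq_maximalIdeal hm) _).2 hne
  let ψ₀ : L →+* R := IsLocalization.lift hu
  let ψ : L →ₐ[R₀] R :=
    { ψ₀ with
      commutes' := fun r => by
        show ψ₀ (algebraMap R₀ L r) = _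
        rw [IsScalarTower.algebraMap_apply R₀ R₁ L, IsLocalization.lift_eq]
        exact R₁.val.commutes r }
  let j : R₁ →ₐ[R₀] L := IsScalarTower.toAlgHom R₀ R₁ L
  have hψj : ψ.toRingHom.comp j.toRingHom = R₁.val.toRingHom := RingHom.ext fun r => IsLocalization.lift_eq hu r
  let χ : L →+* k := (algebraMap R k).comp ψ₀
  have hχ : ∀ l ∈ maximalIdeal L, χ l = 0 := by
    rw [← Localization.AtPrime.map_eq_maximalIdeal]
    intro l hl
    refine (Ideal.map_le_iff_le_comap (f := algebraMap R₁ L) (K := RingHom.ker χ)).2 (fun r hr => ?_) hl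
    show algebraMap R k (ψ₀ (algebraMap R₁ L r)) = 0
    rw [IsLocalization.lift_eq]
    exact hr
  letI : Algebra (L ⧸ maximalIdeal L) k := (Ideal.Quotient.lift (maximalIdeal L) χ hχ).toAlgebra
  haveI : IsScalarTower R₀ (L ⧸ maximalIdeal L) k := by
    refine IsScalarTower.of_algebraMap_eq (R := R₀) (S := L ⧸ maximalIdeal L) (A := k) fun r => ?_
    show algebraMap R₀ k r = Ideal.Quotient.lift (maximalIdeal L) χ hχ (Ideal.Quotient.mk (maximalIdeal L) (algebraMap R₀ L r))
    rw [Ideal.Quotient.lift_mk]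
    show algebraMap R₀ k r = algebraMap R k (ψ (algebraMap R₀ L r))
    rw [ψ.commutes, ← IsScalarTower.algebraMap_apply]
  have hgL : PtFlat K₀ L (Submonoid.powers (MvPolynomial.map j.toRingHom g)) := PtFlat.map_algHom j (by
    rintro _ ⟨m, rfl⟩
    exact ⟨m, (map_pow _ g m).symm⟩) hg₁
  have hmap : ∀ s, MvPolynomial.map (σ := Fin n) χ s = res (MvPolynomial.map ψ.toRingHom s) := fun s => by
    rw [MvPolynomial.map_map]
  have hfin : PtFlat K₀ L (qk.comap (MvPolynomial.map χ)).primeCompl := by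
    refine flatAt_of_fibre_detect qk F (fun Q hQ hle => ⟨hQ, hle⟩) (fun Q hQ => ⟨hQ.1.isPrime, hQ.2⟩) fun Q hQ _ =>
      hgL.mono K₀ (Submonoid.powers_le.2 ?_)
    show MvPolynomial.map χ (MvPolynomial.map j.toRingHom g) ∉ Q
    rw [MvPolynomial.map_map, show χ.comp j.toRingHom = (algebraMap R k).comp R₁.val.toRingHom from
      RingHom.ext fun r => congrArg (algebraMap R k) (IsLocalization.lift_eq hu r), ← MvPolynomial.map_map]
    exact hg Q hQ
  refine PtFlat.map_algHom ψ (fun s hs => ?_) hfin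
  show res (MvPolynomial.map ψ.toRingHom s) ∉ qk
  rw [← hmap]
  exact hs

end Groth.Agent.RG
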