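import Groth.Agent.RG.AssocFlatBase
import Mathlib.RingTheory.MvPolynomial.Localization
import Mathlib.RingTheory.LocalRing.ResidueField.Ideal

/-!
# Flatness at a point from flatness at the associated points of its fibre
-/

set_option autoImplicit false
set_option linter.style.haveILetI false
set_option linter.unusedSectionVars false
set_option backward.isDefEq.respectTransparency false
set_option maxHeartbeats 1000000

universe u

namespace Groth.Agent.RG

open MvPolynomial TensorProduct Groth.Agent.FlatModel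

attribute [local instance] MvPolynomial.algebraMvPolynomial

variable {a n : ℕ} {R₀ : Type u} [CommRing R₀] (K₀ : Submodule (MvPolynomial (Fin n) R₀) (V a n R₀))

/-- A vector vanishing after localisation is killed by the submonoid. -/
theorem exists_smul_eq_zero_of_mapV {R S : Type u} [CommRing R] [CommRing S] [Algebra R S] (M : Submonoid R)
    [IsLocalization M S] (x : V a n R) (hx : mapV (algebraMap R S) x = 0) :
    ∃ d ∈ M.map (C : R →+* MvPolynomial (Fin n) R), d • x = 0 := by
  classical
  choose d hd using fun i => (IsLocalization.map_eq_zero_iff (M.map (C : R →+* MvPolynomial (Fin n) R))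
    (MvPolynomial (Fin n) S) (x i)).1 (congrFun hx i)
  refine ⟨∏ i, (d i : MvPolynomial (Fin n) R), prod_mem fun i _ => (d i).2, funext fun i => ?_⟩
  obtain ⟨b, hb⟩ := Finset.dvd_prod_of_mem (fun i => (d i : MvPolynomial (Fin n) R)) (Finset.mem_univ i)
  rw [Pi.smul_apply, smul_eq_mul, hb, mul_right_comm, hd i, zero_mul]
  rfl

/-- Membership in a span after localisation. -/
theorem exists_smul_eq_mapV_of_span {R S : Type u} [CommRing R] [CommRing S] [Algebra R₀ R] [Algebra R₀ S] [Algebra R S]
    [IsScalarTower R₀ R S] (M : Submonoid R) [IsLocalization M S] (G : Set (V a n R₀)) {z : V a n S}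
    (hz : z ∈ Submodule.span (MvPolynomial (Fin n) S) (mapV (algebraMap R₀ S) '' G)) :
    ∃ c ∈ M.map (C : R →+* MvPolynomial (Fin n) R),
      ∃ y ∈ Submodule.span (MvPolynomial (Fin n) R) (mapV (algebraMap R₀ R) '' G),
        MvPolynomial.map (algebraMap R S) c • z = mapV (algebraMap R S) y := by
  induction hz using Submodule.span_induction with
  | mem x hx =>
    obtain ⟨w, hw, rfl⟩ := hx
    exact ⟨1, one_mem _, _, Submodule.subset_span ⟨w, hw, rfl⟩, by
      rw [map_one, one_smul]; exact (mapV_algebraMap (IsScalarTower.toAlgHom R₀ R S) w).symm⟩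
  | zero => exact ⟨1, one_mem _, 0, zero_mem _, by simp⟩
  | add x x' _ _ hx hx' =>
    obtain ⟨c, hc, y, hy, h⟩ := hx
    obtain ⟨c', hc', y', hy', h'⟩ := hx'
    refine ⟨c * c', mul_mem hc hc', c' • y + c • y', add_mem (Submodule.smul_mem _ _ hy) (Submodule.smul_mem _ _ hy'), ?_⟩
    rw [mapV_add, mapV_smul, mapV_smul, ← h, ← h', map_mul, smul_add, smul_smul, smul_smul, mul_comm (MvPolynomial.map _ c')]
  | smul f x _ hx =>
    obtain ⟨c, hc, y, hy, h⟩ := hx
    obtain ⟨⟨r, e⟩, hre⟩ := IsLocalization.surj (M.map (C : R →+* MvPolynomial (Fin n) R)) f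
    refine ⟨c * e, mul_mem hc e.2, r • y, Submodule.smul_mem _ _ hy, ?_⟩
    rw [mapV_smul, ← h, show MvPolynomial.map (algebraMap R S) r = f * MvPolynomial.map (algebraMap R S) e from hre.symm,
      map_mul, smul_smul, smul_smul]
    congr 1
    ring

variable {K₀}

/-- Any base. -/
theorem ptFlat_of_assoc [IsNoetherianRing R₀] {R : Type u} [CommRing R] [Algebra R₀ R] (p : Ideal R) [p.IsPrime]
    (q : Ideal (MvPolynomial (Fin n) R)) [q.IsPrime] (hqp : q.comap (C : R →+* MvPolynomial (Fin n) R) = p)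
    (h : ∀ (Q : Ideal (MvPolynomial (Fin n) p.ResidueField)) [Q.IsPrime],
      Q ∈ associatedPrimes (MvPolynomial (Fin n) p.ResidueField) (V a n p.ResidueField ⧸ KK K₀ p.ResidueField) →
      Q.comap (MvPolynomial.map (algebraMap R p.ResidueField)) ≤ q →
      PtFlat K₀ R (Q.comap (MvPolynomial.map (algebraMap R p.ResidueField))).primeCompl) :
    PtFlat K₀ R q.primeCompl := by
  let Rp := Localization.AtPrime p
  let k := p.ResidueField
  let M := p.primeCompl.map (C : R →+* MvPolynomial (Fin n) R)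
  haveI : IsLocalization M (MvPolynomial (Fin n) Rp) := MvPolynomial.isLocalization _ _
  have hMq : ∀ c ∈ M, c ∉ q := by
    rintro _ ⟨c, hc, rfl⟩ hcq
    exact hc ((SetLike.ext_iff.1 hqp c).1 hcq)
  have hdisj : Disjoint (M : Set (MvPolynomial (Fin n) R)) q := Set.disjoint_left.2 hMq
  let qp : Ideal (MvPolynomial (Fin n) Rp) := q.map (algebraMap (MvPolynomial (Fin n) R) (MvPolynomial (Fin n) Rp))
  haveI : qp.IsPrime := IsLocalization.isPrime_of_isPrime_disjoint M (MvPolynomial (Fin n) Rp) q ‹_› hdisj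
  have hqpc : qp.comap (algebraMap (MvPolynomial (Fin n) R) (MvPolynomial (Fin n) Rp)) = q :=
    IsLocalization.under_map_of_isPrime_disjoint M (MvPolynomial (Fin n) Rp) ‹_› hdisj
  have hk : Function.Surjective (algebraMap Rp k) := IsLocalRing.residue_surjective
  let res : MvPolynomial (Fin n) Rp →+* MvPolynomial (Fin n) k := MvPolynomial.map (algebraMap Rp k)
  have hres : Function.Surjective res := MvPolynomial.map_surjective _ hk
  have hkerle : RingHom.ker res ≤ qp := by
    intro f hf
    rw [MvPolynomial.ker_map] at hf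
    refine (Ideal.map_le_iff_le_comap.2 ?_) hf
    intro r hr
    obtain ⟨⟨r₀, e⟩, hre⟩ := IsLocalization.surj p.primeCompl r
    have hr₀ : r₀ ∈ p := by
      rw [← Ideal.algebraMap_residueField_eq_zero, IsScalarTower.algebraMap_apply R Rp p.ResidueField, ← hre, map_mul,
        RingHom.mem_ker.1 hr, zero_mul]
    have hmem : (C r : MvPolynomial (Fin n) Rp) * C (algebraMap R Rp e) ∈ qp := by
      rw [← map_mul, hre]
      have hr₀q : (C r₀ : MvPolynomial (Fin n) R) ∈ q := (SetLike.ext_iff.1 hqp r₀).2 hr₀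
      have := Ideal.mem_map_of_mem (algebraMap (MvPolynomial (Fin n) R) (MvPolynomial (Fin n) Rp)) hr₀q
      rwa [MvPolynomial.algebraMap_def, MvPolynomial.map_C] at this
    refine (Ideal.IsPrime.mem_or_mem ‹qp.IsPrime› hmem).resolve_right fun h1 => ?_
    refine hMq (C (e : R)) ⟨e, e.2, rfl⟩ ?_
    rw [← hqpc, Ideal.mem_comap, MvPolynomial.algebraMap_def, MvPolynomial.map_C]
    exact h1
  haveI : (qp.map res).IsPrime := Ideal.map_isPrime_of_surjective hres hkerle
  have hqk : (qp.map res).comap res = qp := by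
    rw [Ideal.comap_map_of_surjective _ hres, sup_eq_left]
    exact hkerle
  have hcomp : ∀ f, res (algebraMap (MvPolynomial (Fin n) R) (MvPolynomial (Fin n) Rp) f) =
      MvPolynomial.map (algebraMap R k) f := fun f => by
    rw [MvPolynomial.algebraMap_def, MvPolynomial.map_map, ← IsScalarTower.algebraMap_eq]
  have hloc : PtFlat K₀ Rp ((qp.map res).comap res).primeCompl := by
    refine ptFlat_of_assoc_local hk (qp.map res) fun Q _ hQ hQle => ?_
    refine PtFlat.map_algHom (IsScalarTower.toAlgHom R₀ R Rp) (fun s hs => ?_) (h Q hQ fun s hs => ?_)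
    · show res (MvPolynomial.map (algebraMap R Rp) s) ∉ Q
      rw [← MvPolynomial.algebraMap_def, hcomp]
      exact hs
    · rw [← hqpc, Ideal.mem_comap, ← hqk, Ideal.mem_comap, hcomp]
      exact hQle hs
  refine GenFlat.ptFlat fun p₀ t ht htp => ?_
  obtain ⟨s', hs', hst⟩ := PtFlat.gen hloc p₀ t ht htp
  replace hs' : s' ∉ qp := fun h1 => hs' (by rwa [← hqk] at h1)
  rw [map_smul_KK_eq_span] at hst
  obtain ⟨c, hc, y, hy, hcy⟩ := exists_smul_eq_mapV_of_span p.primeCompl _ hst
  obtain ⟨⟨s, e⟩, hse⟩ := IsLocalization.surj M s'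
  have hs : s ∉ q := fun h1 => by
    have h2 := Ideal.mem_map_of_mem (algebraMap (MvPolynomial (Fin n) R) (MvPolynomial (Fin n) Rp)) h1
    rw [← hse] at h2
    refine (Ideal.IsPrime.mem_or_mem ‹qp.IsPrime› h2).elim hs' fun h3 => hMq e e.2 ?_
    rw [← hqpc, Ideal.mem_comap]
    exact h3
  have hzero : mapV (algebraMap R Rp) ((c * s) • mapV (algebraMap R₀ R) t - (e : MvPolynomial (Fin n) R) • y) = 0 := by
    have h1 : MvPolynomial.map (algebraMap R Rp) s = s' * MvPolynomial.map (algebraMap R Rp) (e : MvPolynomial (Fin n) R) :=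
      hse.symm
    rw [mapV_sub, mapV_smul, mapV_smul, ← hcy,
      show mapV (algebraMap R Rp) (mapV (algebraMap R₀ R) t) = mapV (algebraMap R₀ Rp) t from
        mapV_algebraMap (IsScalarTower.toAlgHom R₀ R Rp) t, map_mul, h1, smul_smul, smul_smul, sub_eq_zero]
    congr 1
    ring
  obtain ⟨d, hd, hd0⟩ := exists_smul_eq_zero_of_mapV p.primeCompl _ hzero
  refine ⟨d * (c * s), Ideal.IsPrime.mul_notMem ‹_› (hMq d hd) (Ideal.IsPrime.mul_notMem ‹_› (hMq c hc) hs), ?_⟩
  rw [map_smul_KK_eq_span]
  rw [smul_sub, sub_eq_zero] at hd0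
  rw [mul_smul, hd0]
  exact Submodule.smul_mem _ _ (Submodule.smul_mem _ _ hy)

end Groth.Agent.RG
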