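import Groth.Agent.RG.DomFib
import Mathlib.RingTheory.Flat.EquationalCriterion
import Mathlib.RingTheory.Nakayama
import Mathlib.RingTheory.FiniteType

/-!
# Vanishing of kernels by content ideals
-/

set_option autoImplicit false
set_option linter.style.haveILetI false

universe u

open TensorProduct IsLocalRing

namespace Groth.Agent.RG

/-- An element of the kernel lying in `I Tʳ` lies in `I` times the kernel. -/
theorem mem_map_mul_of_flat {R T M : Type u} [CommRing R] [CommRing T] [Algebra R T] [AddCommGroup M]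
    [Module T M] [Module R M] [IsScalarTower R T M] [Module.Flat R M] {r : ℕ}
    (φ : (Fin r → T) →ₗ[T] M) (hφ : Function.Surjective φ) (L : Ideal T)
    (hker : ∀ w, φ w = 0 → ∀ i, w i ∈ L) {n : ℕ} (a : Fin n → R) {v : Fin r → T} (hv : φ v = 0)
    (hva : ∀ i, v i ∈ (Ideal.span (Set.range a)).map (algebraMap R T)) :
    ∀ i, v i ∈ (Ideal.span (Set.range a)).map (algebraMap R T) * L := by
  classical
  have h1 : ∀ i, ∃ t : Fin n → T, ∑ k, t k * algebraMap R T (a k) = v i := fun i => by
    refine Ideal.mem_span_range_iff_exists_fun.1 ?_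
    have h := hva i
    rw [Ideal.map_span, ← Set.range_comp] at h
    exact h
  choose t ht using h1
  let w : Fin n → (Fin r → T) := fun k i => t i k
  have hvw : v = ∑ k, algebraMap R T (a k) • w k := funext fun i => by
    rw [← ht i, Finset.sum_apply]
    exact Finset.sum_congr rfl fun k _ => mul_comm _ _
  have h0 : ∑ k, a k • φ (w k) = 0 := by
    rw [← hv, hvw, map_sum]
    exact Finset.sum_congr rfl fun k _ => by rw [map_smul, algebraMap_smul]
  obtain ⟨q, c, y, hy, hc⟩ := Module.Flat.isTrivialRelation_of_sum_smul_eq_zero h0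
  choose z hz using fun j => hφ (y j)
  let w' : Fin n → (Fin r → T) := fun k => w k - ∑ j, algebraMap R T (c k j) • z j
  have hw' : ∀ k, φ (w' k) = 0 := fun k => by
    rw [map_sub, map_sum, show φ (w k) = _ from hy k, sub_eq_zero]
    exact Finset.sum_congr rfl fun j _ => by rw [map_smul, hz, algebraMap_smul]
  have hvw' : v = ∑ k, algebraMap R T (a k) • w' k := by
    have h2 : ∑ k, algebraMap R T (a k) • ∑ j, algebraMap R T (c k j) • z j = 0 := by
      simp only [Finset.smul_sum, smul_smul, ← map_mul]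
      rw [Finset.sum_comm]
      refine Finset.sum_eq_zero fun j _ => ?_
      rw [← Finset.sum_smul, ← map_sum, hc j, map_zero, zero_smul]
    simp only [w', smul_sub, Finset.sum_sub_distrib, h2, sub_zero]
    exact hvw
  intro i
  rw [hvw', Finset.sum_apply]
  refine sum_mem fun k _ => ?_
  rw [Pi.smul_apply, smul_eq_mul]
  exact Ideal.mul_mem_mul (Ideal.mem_map_of_mem _ (Ideal.subset_span ⟨k, rfl⟩)) (hker _ (hw' k) i)

/-- Kernel vectors defined over a complete Noetherian base vanish. -/
theorem kernel_eq_zero {Rh R' B S' T' M' : Type u} [CommRing Rh] [IsNoetherianRing Rh] [IsLocalRing Rh]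
    [IsAdicComplete (maximalIdeal Rh) Rh] [CommRing R'] [IsLocalRing R'] [Algebra Rh R']
    [IsLocalHom (algebraMap Rh R')] [CommRing B] [Algebra Rh B] [Algebra.FiniteType Rh B] [Module.Flat Rh B]
    [CommRing S'] [Algebra R' S'] [Algebra.FinitePresentation R' S'] [Module.Flat R' S']
    (ψ : R' ⊗[Rh] B ≃ₐ[R'] S') (hd : DomFib R' S') (P' : Ideal S') [P'.IsPrime]
    (hP' : P' = (maximalIdeal R').map (algebraMap R' S'))
    [CommRing T'] [Algebra S' T'] [Algebra R' T'] [IsScalarTower R' S' T'] [IsLocalization.AtPrime T' P']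
    [AddCommGroup M'] [Module T' M'] [Module R' M'] [IsScalarTower R' T' M'] [Module.Flat R' M']
    {r : ℕ} (φ : (Fin r → T') →ₗ[T'] M') (hφ : Function.Surjective φ)
    (hker : ∀ w, φ w = 0 → ∀ i, w i ∈ (maximalIdeal R').map (algebraMap R' T'))
    (b : Fin r → B) (hb : φ (fun i => algebraMap S' T' (ψ (1 ⊗ₜ[Rh] b i))) = 0) :
    ∀ i, ψ (1 ⊗ₜ[Rh] b i) = 0 := by
  classical
  let ι : B →+* S' := ψ.toRingEquiv.toRingHom.comp Algebra.TensorProduct.includeRight.toRingHom
  have hιalg : ∀ a : Rh, ι (algebraMap Rh B a) = algebraMap R' S' (algebraMap Rh R' a) := fun a => by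
    show ψ ((1 : R') ⊗ₜ[Rh] algebraMap Rh B a) = _
    rw [← ψ.commutes]
    congr 1
    rw [Algebra.algebraMap_eq_smul_one a, tmul_smul, smul_tmul', ← Algebra.algebraMap_eq_smul_one]
    rfl
  haveI : IsNoetherianRing B := Algebra.FiniteType.isNoetherianRing Rh B
  let P₀ : Ideal B := P'.comap ι
  let A := Localization.AtPrime P₀
  haveI : Module.Flat B A := IsLocalization.flat A P₀.primeCompl
  haveI : Module.Flat Rh A := Module.Flat.trans Rh B A
  have hmA : (maximalIdeal Rh).map (algebraMap Rh A) ≠ ⊤ := by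
    refine ne_top_of_le_ne_top (maximalIdeal.isMaximal A).ne_top ?_
    rw [Ideal.map_le_iff_le_comap]
    intro a ha
    rw [Ideal.mem_comap, IsScalarTower.algebraMap_apply Rh B A, IsLocalization.AtPrime.to_map_mem_maximal_iff A P₀]
    show ι (algebraMap Rh B a) ∈ P'
    rw [hιalg, hP']
    refine Ideal.mem_map_of_mem _ ?_
    exact fun h => ha (isUnit_of_map_unit (algebraMap Rh R') a h)
  choose J hJ hJmin using fun i => exists_content hmA (algebraMap B A (b i))
  let J₀ : Ideal Rh := ⨆ i, J i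
  obtain ⟨n, g, hg⟩ := Submodule.fg_iff_exists_fin_generating_family.1 (IsNoetherian.noetherian J₀)
  let a : Fin n → R' := fun k => algebraMap Rh R' (g k)
  have hspan : J₀.map (algebraMap Rh R') = Ideal.span (Set.range a) := by
    rw [← hg, ← Ideal.span, Ideal.map_span, ← Set.range_comp]
    rfl
  let v : Fin r → T' := fun i => algebraMap S' T' (ψ (1 ⊗ₜ[Rh] b i))
  -- membership
  let g' : A →+* T' := IsLocalization.lift (M := P₀.primeCompl) (S := A) (g := (algebraMap S' T').comp ι)
    fun y => IsLocalization.map_units T' (⟨ι y, y.2⟩ : P'.primeCompl)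
  have hgalg : g'.comp (algebraMap Rh A) = (algebraMap R' T').comp (algebraMap Rh R') := RingHom.ext fun x => by
    rw [RingHom.comp_apply, IsScalarTower.algebraMap_apply Rh B A]
    show g' (algebraMap B A _) = _
    rw [IsLocalization.lift_eq, RingHom.comp_apply, hιalg, ← IsScalarTower.algebraMap_apply]
    rfl
  have hmem : ∀ i, v i ∈ (Ideal.span (Set.range a)).map (algebraMap R' T') := fun i => by
    have h1 : g' (algebraMap B A (b i)) ∈ ((J i).map (algebraMap Rh A)).map g' := Ideal.mem_map_of_mem _ (hJ i)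
    rw [IsLocalization.lift_eq, Ideal.map_map, hgalg, ← Ideal.map_map] at h1
    exact hspan ▸ Ideal.map_mono (Ideal.map_mono (le_iSup J i)) h1
  -- minimality
  have hmin : ∀ I' : Ideal R', (∀ i, v i ∈ I'.map (algebraMap R' T')) → J₀.map (algebraMap Rh R') ≤ I' := by
    intro I' hI'
    rw [Ideal.map_iSup]
    refine iSup_le fun i => ?_
    have h1 : ψ (1 ⊗ₜ[Rh] b i) ∈ I'.map (algebraMap R' S') := mem_map_of_mem_map hd P' hP' T' I' (hI' i)
    have h2 : (1 : R') ⊗ₜ[Rh] b i ∈ I'.map (algebraMap R' (R' ⊗[Rh] B)) := by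
      have := Ideal.mem_map_of_mem ψ.symm.toAlgHom.toRingHom h1
      rw [Ideal.map_map, show ψ.symm.toAlgHom.toRingHom.comp (algebraMap R' S') = algebraMap R' (R' ⊗[Rh] B) from
        RingHom.ext fun x => ψ.symm.commutes x] at this
      rwa [show ψ.symm.toAlgHom.toRingHom (ψ (1 ⊗ₜ[Rh] b i)) = (1 : R') ⊗ₜ[Rh] b i from ψ.symm_apply_apply _] at this
    let θ : R' ⊗[Rh] B →ₐ[R'] R' ⊗[Rh] A := Algebra.TensorProduct.map (AlgHom.id R' R') (IsScalarTower.toAlgHom Rh B A)
    have h3 := Ideal.mem_map_of_mem θ.toRingHom h2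
    rw [Ideal.map_map, show θ.toRingHom.comp (algebraMap R' (R' ⊗[Rh] B)) = algebraMap R' (R' ⊗[Rh] A) from
      RingHom.ext fun x => θ.commutes x, show θ.toRingHom ((1 : R') ⊗ₜ[Rh] b i) = (1 : R') ⊗ₜ[Rh] algebraMap B A (b i) from
      Algebra.TensorProduct.map_tmul _ _ _ _] at h3
    exact content_le_baseChange (hJmin i) R' I' h3
  -- Nakayama
  have hmul := mem_map_mul_of_flat φ hφ _ hker a hb hmem
  have hle : J₀.map (algebraMap Rh R') ≤ maximalIdeal R' * J₀.map (algebraMap Rh R') := hmin _ fun i => by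
    rw [Ideal.map_mul, mul_comm, hspan]
    exact hmul i
  have hfg : (J₀.map (algebraMap Rh R')).FG := hspan ▸ Submodule.fg_span (Set.finite_range a)
  have hzero : J₀.map (algebraMap Rh R') = ⊥ :=
    Submodule.eq_bot_of_le_smul_of_le_jacobson_bot (maximalIdeal R') _ hfg
      (by rwa [Ideal.smul_eq_mul]) (maximalIdeal_le_jacobson _)
  intro i
  have hv0 : v i = 0 := by
    have := hmem i
    rwa [← hspan, hzero, Ideal.map_bot, Ideal.mem_bot] at this
  have := mem_map_of_mem_map hd P' hP' T' (⊥ : Ideal R') (s := ψ (1 ⊗ₜ[Rh] b i)) (by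
    rw [Ideal.map_bot, Ideal.mem_bot]; exact hv0)
  rwa [Ideal.map_bot, Ideal.mem_bot] at this

end Groth.Agent.RG
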