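import Groth.Agent.RG.DevFreeBC
import Groth.Agent.RG.OpenFree

/-!
# An affine open of the base change on which a flat module is free
-/

set_option autoImplicit false
set_option linter.style.haveILetI false
set_option linter.unusedSectionVars false
set_option backward.isDefEq.respectTransparency false
set_option backward.isDefEq.respectTransparency.types false
set_option maxHeartbeats 2000000

universe u

open TensorProduct IsLocalRing

namespace Groth.Agent.RG

attribute [local instance] Algebra.TensorProduct.rightAlgebra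

/-- Freeness on a standard open after shrinking. -/
theorem free_localized_of_dev {A T C : Type u} [CommRing A] [IsLocalRing A] [CommRing T] [CommRing C] [Algebra A T]
    [Algebra A C] [Algebra T C] [IsScalarTower A T C] [Algebra.FiniteType A T] [Module.Flat T C]
    [Algebra.FinitePresentation A C] (Y : Type u) [AddCommGroup Y] [Module T Y] [Module A Y] [IsScalarTower A T Y]
    [Module.Finite T Y] (Q : Ideal C) [Q.IsPrime] [Q.LiesOver (maximalIdeal A)]
    (hdev : DevAt A (maximalIdeal A) C (C ⊗[T] Y) Q) (hflat : FlatCA.FlatAt A Q (C ⊗[T] Y)) (h : T)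
    (hh : algebraMap T C h ∉ Q)
    (hsub : (PrimeSpectrum.basicOpen h : Set (PrimeSpectrum T)) ⊆ Set.range (PrimeSpectrum.comap (algebraMap T C))) :
    Module.Free A (LocalizedModule (Submonoid.powers h) Y) := by
  obtain ⟨g, hg, hX, hXQ, hdvd, H⟩ := hdev.shrink (algebraMap T C h) hh
  have hgQ : algebraMap A C g ∉ Q := fun hm => hg ((SetLike.ext_iff.1 (Ideal.LiesOver.over (P := Q) (p := maximalIdeal A)) g).2 hm)
  have hvQ : hX * algebraMap A C g ∉ Q := fun hm => ((inferInstance : Q.IsPrime).mem_or_mem hm).elim hXQ hgQ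
  haveI : IsLocalization.Away g A :=
    IsLocalization.away_of_isUnit_of_bijective _ (IsLocalRing.notMem_maximalIdeal.1 hg) Function.bijective_id
  let S₁ := Localization.Away (hX * algebraMap A C g)
  haveI hQ₁ := (map_away_isPrime (A₁ := S₁) (hX * algebraMap A C g) Q hvQ).1
  haveI : (Q.map (algebraMap C S₁)).LiesOver Q := ⟨(map_away_isPrime (A₁ := S₁) (hX * algebraMap A C g) Q hvQ).2.symm⟩
  haveI : (Q.map (algebraMap C S₁)).LiesOver (maximalIdeal A) := Ideal.LiesOver.trans _ Q _
  haveI : (maximalIdeal A).LiesOver (maximalIdeal A) := ⟨rfl⟩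
  let f : C ⊗[T] Y →ₗ[C] S₁ ⊗[C] (C ⊗[T] Y) := TensorProduct.mk C S₁ (C ⊗[T] Y) 1
  have hdev₁ := H g hg dvd_rfl A S₁ (maximalIdeal A) (Q.map (algebraMap C S₁)) (S₁ ⊗[C] (C ⊗[T] Y)) f
    (TensorProduct.isBaseChange C (C ⊗[T] Y) S₁)
  obtain ⟨D, hD⟩ := hdev₁.has
  haveI : Algebra.FinitePresentation C S₁ := IsLocalization.Away.finitePresentation (hX * algebraMap A C g)
  haveI : Algebra.FinitePresentation A S₁ := Algebra.FinitePresentation.trans A C S₁
  haveI : Module.Flat C S₁ := IsLocalization.flat S₁ (Submonoid.powers (hX * algebraMap A C g))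
  have hflat₁ : FlatCA.FlatAt A (Q.map (algebraMap C S₁)) (S₁ ⊗[C] (C ⊗[T] Y)) :=
    flat_localized_baseChange (W := Q.primeCompl) (V := (Q.map (algebraMap C S₁)).primeCompl)
      (fun w hw hw' => hw ((SetLike.ext_iff.1 (Ideal.LiesOver.over (P := Q.map (algebraMap C S₁)) (p := Q)) w).2 hw')) hflat
  obtain ⟨-, hfree, -⟩ := Groth.Agent.S1253.result (R := A) (S := S₁) (S₁ ⊗[C] (C ⊗[T] Y)) _ hflat₁ D hD
  haveI := hfree
  haveI : IsLocalizedModule (Submonoid.powers (hX * algebraMap A C g)) f := inferInstance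
  exact free_localized_of_regular Y h hsub (hX * algebraMap A C g) (hdvd.trans (dvd_mul_right _ _))
    (fun k => hdev.regular hflat _ fun hm => hvQ ((inferInstance : Q.IsPrime).mem_of_pow_mem k hm)) f

/-- An open piece of the base change to the local ring of an étale neighbourhood. -/
theorem exists_free_open {R S : Type u} [CommRing R] [CommRing S] [Algebra R S] [Algebra.FinitePresentation R S]
    (N : Type u) [AddCommGroup N] [Module S N] [Module R N] [IsScalarTower R S N] [Module.Finite S N]
    (p : Ideal R) [p.IsPrime] (q : Ideal S) [q.IsPrime] [q.LiesOver p] (hflat : FlatCA.FlatAt R q N) :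
    ∃ (R' : Type u) (_ : CommRing R') (_ : Algebra R R') (p' : Ideal R') (_ : p'.IsPrime), FlatCA.IsEtaleNhd R R' p p' ∧
      ∀ (A : Type u) [CommRing A] [IsLocalRing A] [Algebra R' A] [Algebra R A] [IsScalarTower R R' A]
        [Algebra.FormallyEtale R' A] [Module.Flat R' A] [ho : (maximalIdeal A).LiesOver p'],
        Function.Bijective (Ideal.ResidueField.mapₐ p' (maximalIdeal A) (Algebra.ofId R' A) ho.over) →
        ∃ (h : S ⊗[R] A) (x : Ideal (S ⊗[R] A)) (_ : x.IsPrime), h ∉ x ∧ x.comap (algebraMap S (S ⊗[R] A)) = q ∧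
          x.LiesOver (maximalIdeal A) ∧
          Module.Free A (LocalizedModule (Submonoid.powers h) ((S ⊗[R] A) ⊗[S] N)) := by
  by_cases hqs : (⟨q, inferInstance⟩ : PrimeSpectrum S) ∈ Module.support S N
  swap
  · rw [Module.support_eq_zeroLocus, PrimeSpectrum.mem_zeroLocus, Set.not_subset] at hqs
    obtain ⟨h₀, hh₀, hhq⟩ := hqs
    refine ⟨R, inferInstance, inferInstance, p, inferInstance, isEtaleNhd_refl R p, ?_⟩
    intro A _ _ aR aR' _ _ _ ho hκ
    obtain rfl : aR = aR' := Algebra.algebra_ext _ _ fun r =>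
      (@IsScalarTower.algebraMap_apply R R A _ _ _ _ aR aR' inferInstance r).symm
    haveI : Algebra.IsPushout R A S (S ⊗[R] A) := Algebra.IsPushout.symm inferInstance
    obtain ⟨x, _, hxq, hxA⟩ := exists_prime_over (R := R) (R' := A) (S := S) (S' := S ⊗[R] A) p (maximalIdeal A) hκ q
    refine ⟨algebraMap S (S ⊗[R] A) h₀, x, inferInstance, fun hm => hhq ((SetLike.ext_iff.1 hxq.over h₀).2 hm),
      hxq.over.symm, hxA, ?_⟩
    haveI : Subsingleton (LocalizedModule (Submonoid.powers (algebraMap S (S ⊗[R] A) h₀)) ((S ⊗[R] A) ⊗[S] N)) := by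
      rw [LocalizedModule.subsingleton_iff]
      intro y
      refine ⟨_, ⟨1, pow_one _⟩, ?_⟩
      induction y using TensorProduct.induction_on with
      | zero => rw [smul_zero]
      | tmul a m => rw [algebraMap_smul, ← TensorProduct.tmul_smul, Module.mem_annihilator.1 hh₀ m, TensorProduct.tmul_zero]
      | add a b ha hb => rw [smul_add, ha, hb, add_zero]
    exact Module.Free.of_subsingleton _ _
  obtain ⟨ξ, hξq, hξ⟩ := exists_fibre_point p q N hqs
  obtain ⟨R', S', _, _, _, _, _, _, _, _, p', q', _, _, hR, hS, ho', hdev⟩ := devAfterEtale N p q ⟨ξ, hξ, hξq⟩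
  refine ⟨R', inferInstance, inferInstance, p', inferInstance, hR, ?_⟩
  intro A _ _ _ _ _ _ _ hA hκ
  haveI := hR.1
  haveI := hS.1
  haveI := ho'
  haveI := hA
  obtain ⟨hqo, -⟩ := hS.2
  haveI := hqo
  let C := S' ⊗[R'] A
  let T := S ⊗[R] A
  haveI : Algebra.FinitePresentation R S' := Algebra.FinitePresentation.trans R S S'
  haveI : Algebra.FinitePresentation R' S' :=
    Algebra.FinitePresentation.of_restrict_scalars_finitePresentation R R' S'
  haveI : Algebra.IsPushout R' A S' C := Algebra.IsPushout.symm inferInstance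
  haveI : Algebra.FinitePresentation A C := Algebra.FinitePresentation.equiv (Algebra.IsPushout.equiv R' A S' C)
  haveI : IsScalarTower R A C := IsScalarTower.of_algebraMap_eq (R := R) (S := A) (A := C) fun a => by
    show algebraMap R S' a ⊗ₜ[R'] (1 : A) = (1 : S') ⊗ₜ[R'] algebraMap R A a
    rw [IsScalarTower.algebraMap_apply R R' S', IsScalarTower.algebraMap_apply R R' A,
      ← mul_one (algebraMap R' S' _), ← Algebra.smul_def, TensorProduct.smul_tmul, Algebra.smul_def, mul_one]
  haveI : IsScalarTower R S C := IsScalarTower.of_algebraMap_eq (R := R) (S := S) (A := C) fun a => by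
    show algebraMap R S' a ⊗ₜ[R'] (1 : A) = algebraMap S S' (algebraMap R S a) ⊗ₜ[R'] (1 : A)
    rw [IsScalarTower.algebraMap_apply R S S']
  haveI : Algebra.IsPushout R A S T := Algebra.IsPushout.symm inferInstance
  haveI : Algebra.FinitePresentation A T := Algebra.FinitePresentation.equiv (Algebra.IsPushout.equiv R A S T)
  letI : Algebra T C := (Algebra.TensorProduct.lift (IsScalarTower.toAlgHom R S C)
    (IsScalarTower.toAlgHom R A C) fun _ _ => Commute.all _ _).toRingHom.toAlgebra
  haveI : IsScalarTower S T C := IsScalarTower.of_algebraMap_eq (R := S) (S := T) (A := C) fun a => by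
    show algebraMap S C a = Algebra.TensorProduct.lift (IsScalarTower.toAlgHom R S C)
      (IsScalarTower.toAlgHom R A C) (fun _ _ => Commute.all _ _) (a ⊗ₜ (1 : A))
    simp
  haveI : IsScalarTower A T C := IsScalarTower.of_algebraMap_eq (R := A) (S := T) (A := C) fun a => by
    show algebraMap A C a = Algebra.TensorProduct.lift (IsScalarTower.toAlgHom R S C)
      (IsScalarTower.toAlgHom R A C) (fun _ _ => Commute.all _ _) ((1 : S) ⊗ₜ a)
    simp
  haveI : Algebra.FormallyEtale R A := Algebra.FormallyEtale.comp R R' A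
  haveI : Algebra.FormallyEtale S' C := inferInstance
  haveI : Algebra.FormallyEtale S C := Algebra.FormallyEtale.comp S S' C
  haveI : Algebra.IsPushout R S A T := inferInstance
  haveI : Algebra.Etale T C := etale_of_formallyEtale (R := R) (A := A) (S := S) (SA := T) (C := C)
  haveI : Module.Flat T C := inferInstance
  obtain ⟨Q, _, hQq, hQA⟩ := exists_prime_over (R := R') (R' := A) (S := S') (S' := C) p' (maximalIdeal A) hκ q'
  haveI := hQq
  haveI := hQA
  let x := Q.comap (algebraMap T C)
  have hopen : IsOpenMap (PrimeSpectrum.comap (algebraMap T C)) :=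
    PrimeSpectrum.isOpenMap_comap_of_hasGoingDown_of_finitePresentation
  obtain ⟨_, ⟨h, rfl⟩, hhx, hsub⟩ := PrimeSpectrum.isTopologicalBasis_basic_opens.exists_subset_of_mem_open
    (show (⟨x, inferInstance⟩ : PrimeSpectrum T) ∈ Set.range (PrimeSpectrum.comap (algebraMap T C)) from
      ⟨⟨Q, inferInstance⟩, rfl⟩) hopen.isOpen_range
  refine ⟨h, x, inferInstance, hhx, ?_, ⟨?_⟩, ?_⟩
  · show (Q.comap (algebraMap T C)).comap (algebraMap S T) = q
    rw [Ideal.comap_comap, ← IsScalarTower.algebraMap_eq S T C, IsScalarTower.algebraMap_eq S S' C,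
      ← Ideal.comap_comap, ← Ideal.under_def (A := S') Q, ← hQq.over]
    exact hqo.over.symm
  · show maximalIdeal A = (Q.comap (algebraMap T C)).comap (algebraMap A T)
    rw [Ideal.comap_comap, ← IsScalarTower.algebraMap_eq A T C]
    exact hQA.over
  haveI : IsScalarTower R R' (S' ⊗[S] N) := inferInstance
  have h1 : FlatCA.FlatAt R q' (S' ⊗[S] N) :=
    flat_localized_baseChange (W := q.primeCompl) (V := q'.primeCompl)
      (fun w hw hw' => hw ((SetLike.ext_iff.1 hqo.over w).2 hw')) hflat
  have h2 : FlatCA.FlatAt R' q' (S' ⊗[S] N) :=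
    (Groth.Agent.S1231.result (R := R) (T := R') (C := S') (S' ⊗[S] N) q').1.1 h1
  have h3 : FlatCA.FlatAt A Q (C ⊗[S'] (S' ⊗[S] N)) := flatAt_baseChange_base (S' ⊗[S] N) q' Q h2
  have hbc := hdev.baseChange A (maximalIdeal A) hκ C (C ⊗[S'] (S' ⊗[S] N))
    (TensorProduct.mk S' C (S' ⊗[S] N) 1) (TensorProduct.isBaseChange _ _ _) Q
  haveI : SMulCommClass S A T := ⟨fun s a c => by rw [← algebraMap_smul T a c, ← algebraMap_smul T a (s • c), smul_comm]⟩
  let e : (C ⊗[T] (T ⊗[S] N)) ≃ₗ[C] C ⊗[S'] (S' ⊗[S] N) :=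
    AlgebraTensorModule.cancelBaseChange S T C C N ≪≫ₗ (AlgebraTensorModule.cancelBaseChange S S' C C N).symm
  exact free_localized_of_dev (T ⊗[S] N) Q (hbc.congr e) (flatAt_congr Q e.symm h3) h hhx hsub

end Groth.Agent.RG
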