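import Groth.Agent.RG.DevFreeBC

/-!
# Points of a base change along a surjection
-/

set_option autoImplicit false
set_option linter.style.haveILetI false
set_option linter.unusedSectionVars false
set_option backward.isDefEq.respectTransparency false
set_option backward.isDefEq.respectTransparency.types false
set_option maxHeartbeats 1000000

universe u

open TensorProduct

namespace Groth.Agent.RG

attribute [local instance] Algebra.TensorProduct.rightAlgebra

variable {S₀ S C₀ C : Type u} [CommRing S₀] [CommRing S] [CommRing C₀] [CommRing C] [Algebra S₀ S] [Algebra S₀ C₀]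
  [Algebra S C] [Algebra C₀ C] [Algebra S₀ C] [IsScalarTower S₀ S C] [IsScalarTower S₀ C₀ C]
  [Algebra.IsPushout S₀ S C₀ C]

theorem surjective_of_isPushout (hs : Function.Surjective (algebraMap S₀ S)) :
    Function.Surjective (algebraMap C₀ C) := by
  intro c
  obtain ⟨t, rfl⟩ := (Algebra.IsPushout.equiv S₀ S C₀ C).surjective c
  induction t using TensorProduct.induction_on with
  | zero => exact ⟨0, by simp⟩
  | add a b ha hb =>
    obtain ⟨x, hx⟩ := ha
    obtain ⟨y, hy⟩ := hb
    exact ⟨x + y, by rw [map_add, hx, hy, map_add]⟩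
  | tmul s c₀ =>
    obtain ⟨s₀, rfl⟩ := hs s
    refine ⟨algebraMap S₀ C₀ s₀ * c₀, ?_⟩
    rw [Algebra.IsPushout.equiv_tmul, map_mul, ← IsScalarTower.algebraMap_apply S₀ S C,
      ← IsScalarTower.algebraMap_apply S₀ C₀ C]

/-- Points lift. -/
theorem exists_prime_quot (hs : Function.Surjective (algebraMap S₀ S)) (x₀ : Ideal C₀) [x₀.IsPrime]
    (q : Ideal S) [q.IsPrime] (h : x₀.comap (algebraMap S₀ C₀) = q.comap (algebraMap S₀ S)) :
    ∃ x : Ideal C, x.IsPrime ∧ x.comap (algebraMap C₀ C) = x₀ ∧ x.comap (algebraMap S C) = q := by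
  let g : S₀ →+* C₀ ⧸ x₀ := (Ideal.Quotient.mk x₀).comp (algebraMap S₀ C₀)
  have hg : RingHom.ker (algebraMap S₀ S) ≤ RingHom.ker g := fun a ha => by
    rw [RingHom.mem_ker] at ha
    rw [RingHom.mem_ker, RingHom.comp_apply, Ideal.Quotient.eq_zero_iff_mem]
    refine (SetLike.ext_iff.1 h a).2 ?_
    rw [Ideal.mem_comap, ha]
    exact q.zero_mem
  let ψS : S →ₐ[S₀] C₀ ⧸ x₀ :=
    { (algebraMap S₀ S).liftOfSurjective hs ⟨g, hg⟩ with
      commutes' := fun a => RingHom.liftOfSurjective_comp_apply _ hs ⟨g, hg⟩ a }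
  let ψ : C →ₐ[S₀] C₀ ⧸ x₀ := Algebra.pushoutDesc (S := S) C ψS (IsScalarTower.toAlgHom S₀ C₀ (C₀ ⧸ x₀))
    fun _ _ => Commute.all _ _
  have h1 : (RingHom.ker ψ).comap (algebraMap C₀ C) = x₀ := by
    ext a
    show ψ (algebraMap C₀ C a) = 0 ↔ _
    rw [Algebra.pushoutDesc_right]
    exact Ideal.Quotient.eq_zero_iff_mem
  refine ⟨RingHom.ker ψ, RingHom.ker_isPrime ψ, h1, ?_⟩
  apply Ideal.comap_injective_of_surjective _ hs
  rw [← h, Ideal.comap_comap, ← IsScalarTower.algebraMap_eq, IsScalarTower.algebraMap_eq S₀ C₀ C, ← Ideal.comap_comap, h1]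

/-- Residue bijections pass to the quotient. -/
theorem residue_bijective_quot (hs : Function.Surjective (algebraMap S₀ S)) (q₀ : Ideal S₀) [q₀.IsPrime]
    (x₀ : Ideal C₀) [x₀.IsPrime] (q : Ideal S) [q.IsPrime] [hq : q.LiesOver q₀] [hx₀ : x₀.LiesOver q₀]
    (x : Ideal C) [x.IsPrime] [hx : x.LiesOver x₀] [hxq : x.LiesOver q]
    (hκ : Function.Bijective (Ideal.ResidueField.mapₐ q₀ x₀ (Algebra.ofId S₀ C₀) hx₀.over)) :
    Function.Bijective (Ideal.ResidueField.mapₐ q x (Algebra.ofId S C) hxq.over) := by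
  haveI h0 : x.LiesOver q₀ := Ideal.LiesOver.trans x x₀ q₀
  have h1 := residue_bijective_comp hx₀ hx h0 hκ
    ((RingHom.surjectiveOnStalks_of_surjective (surjective_of_isPushout (S₀ := S₀) (S := S) (C₀ := C₀) (C := C) hs)).residueFieldMap_bijective
      x₀ x hx.over)
  have heq : (Ideal.ResidueField.mapₐ q₀ x (Algebra.ofId S₀ C) h0.over : q₀.ResidueField →+* x.ResidueField) =
      (Ideal.ResidueField.mapₐ q x (Algebra.ofId S C) hxq.over : q.ResidueField →+* x.ResidueField).comp
        (Ideal.ResidueField.mapₐ q₀ q (Algebra.ofId S₀ S) hq.over : q₀.ResidueField →+* q.ResidueField) := by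
    refine Ideal.ResidueField.ringHom_ext (RingHom.ext fun s => ?_)
    show Ideal.ResidueField.map q₀ x _ _ (algebraMap S₀ q₀.ResidueField s) =
      Ideal.ResidueField.map q x _ _ (Ideal.ResidueField.map q₀ q _ _ (algebraMap S₀ q₀.ResidueField s))
    rw [Ideal.ResidueField.map_algebraMap, Ideal.ResidueField.map_algebraMap, Ideal.ResidueField.map_algebraMap]
    exact congrArg (algebraMap C x.ResidueField) (IsScalarTower.algebraMap_apply S₀ S C s)
  have h2 : Function.Bijective ((Ideal.ResidueField.mapₐ q x (Algebra.ofId S C) hxq.over : q.ResidueField →+* x.ResidueField) ∘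
      (Ideal.ResidueField.mapₐ q₀ q (Algebra.ofId S₀ S) hq.over : q₀.ResidueField →+* q.ResidueField)) := by
    rw [← RingHom.coe_comp, ← heq]
    exact h1
  exact ⟨RingHom.injective (Ideal.ResidueField.mapₐ q x (Algebra.ofId S C) hxq.over).toRingHom, h2.2.of_comp⟩

end Groth.Agent.RG
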