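import Groth.Agent.RG.DevFree

/-!
# Free pieces over base changes to a local neighbourhood
-/

set_option autoImplicit false
set_option linter.style.haveILetI false
set_option linter.unusedSectionVars false
set_option backward.isDefEq.respectTransparency false
set_option backward.isDefEq.respectTransparency.types false
set_option maxHeartbeats 1000000

universe u

open TensorProduct

namespace Groth.Agent.RG

/-- Residue bijections compose. -/
theorem residue_bijective_comp {R A B : Type u} [CommRing R] [CommRing A] [CommRing B] [Algebra R A] [Algebra R B]
    [Algebra A B] [IsScalarTower R A B] {p : Ideal R} [p.IsPrime] {a : Ideal A} [a.IsPrime] {b : Ideal B} [b.IsPrime]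
    (h₁ : a.LiesOver p) (h₂ : b.LiesOver a) (h : b.LiesOver p)
    (hA : Function.Bijective (Ideal.ResidueField.mapₐ p a (Algebra.ofId R A) h₁.over))
    (hB : Function.Bijective (Ideal.ResidueField.mapₐ a b (Algebra.ofId A B) h₂.over)) :
    Function.Bijective (Ideal.ResidueField.mapₐ p b (Algebra.ofId R B) h.over) := by
  have : (Ideal.ResidueField.mapₐ p b (Algebra.ofId R B) h.over : p.ResidueField →+* b.ResidueField) =
      (Ideal.ResidueField.mapₐ a b (Algebra.ofId A B) h₂.over : a.ResidueField →+* b.ResidueField).comp
        (Ideal.ResidueField.mapₐ p a (Algebra.ofId R A) h₁.over : p.ResidueField →+* a.ResidueField) := by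
    refine Ideal.ResidueField.ringHom_ext (RingHom.ext fun s => ?_)
    show Ideal.ResidueField.map p b _ _ (algebraMap R p.ResidueField s) =
      Ideal.ResidueField.map a b _ _ (Ideal.ResidueField.map p a _ _ (algebraMap R p.ResidueField s))
    rw [Ideal.ResidueField.map_algebraMap, Ideal.ResidueField.map_algebraMap, Ideal.ResidueField.map_algebraMap]
    exact congrArg (algebraMap B b.ResidueField) (IsScalarTower.algebraMap_apply R A B s)
  show Function.Bijective (Ideal.ResidueField.mapₐ p b (Algebra.ofId R B) h.over : p.ResidueField →+* b.ResidueField)
  rw [this]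
  exact hB.comp hA

/-- The local ring has the residue field of the point. -/
theorem residue_bijective_atPrime {R : Type u} [CommRing R] (p : Ideal R) [p.IsPrime] :
    ∃ h : (IsLocalRing.maximalIdeal (Localization.AtPrime p)).LiesOver p,
    Function.Bijective (Ideal.ResidueField.mapₐ p (IsLocalRing.maximalIdeal (Localization.AtPrime p))
      (Algebra.ofId R (Localization.AtPrime p)) h.over) := by
  have ho : (IsLocalRing.maximalIdeal (Localization.AtPrime p)).LiesOver p :=
    ⟨(IsLocalization.AtPrime.comap_maximalIdeal (Localization.AtPrime p) p).symm⟩
  exact ⟨ho, (RingHom.surjectiveOnStalks_of_isLocalization p.primeCompl (Localization.AtPrime p)).residueFieldMap_bijective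
    p _ ho.over⟩

/-- An algebra étale over the source is étale over a formally étale base change. -/
theorem etale_of_formallyEtale {R A S SA C : Type u} [CommRing R] [CommRing A] [CommRing S] [CommRing SA] [CommRing C]
    [Algebra R A] [Algebra R S] [Algebra R SA] [Algebra S SA] [Algebra A SA] [IsScalarTower R S SA]
    [IsScalarTower R A SA] [Algebra.IsPushout R S A SA] [Algebra.FormallyEtale R A] [Algebra SA C] [Algebra A C]
    [IsScalarTower A SA C] [Algebra S C] [IsScalarTower S SA C] [Algebra.FormallyEtale S C]
    [Algebra.FinitePresentation R S] [Algebra.FinitePresentation A C] : Algebra.Etale SA C := by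
  haveI : Algebra.IsPushout R A S SA := Algebra.IsPushout.symm inferInstance
  haveI : Algebra.FinitePresentation A SA := Algebra.FinitePresentation.equiv (Algebra.IsPushout.equiv R A S SA)
  haveI : Algebra.FinitePresentation SA C :=
    Algebra.FinitePresentation.of_restrict_scalars_finitePresentation A SA C
  haveI : Algebra.FormallyEtale S SA :=
    Algebra.FormallyEtale.of_equiv (Algebra.IsPushout.equiv R S A SA)
  exact ⟨Algebra.FormallyEtale.of_restrictScalars (R := S), inferInstance⟩

end Groth.Agent.RG
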