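import Groth.Agent.RG.AssocFlatBC
import Groth.Agent.S1259
import Groth.Agent.RG.CompleteBC
import Groth.Agent.RG.OpenFreeNbhd
import Groth.Agent.RG.PureKey

/-!
# Covered by a projective étale piece: no impurities
-/

set_option autoImplicit false
set_option linter.style.haveILetI false
set_option linter.unusedSectionVars false
set_option backward.isDefEq.respectTransparency false
set_option backward.isDefEq.respectTransparency.types false
set_option maxHeartbeats 2000000

universe u

open TensorProduct IsLocalRing Groth.Agent.ZClosLib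

namespace Groth.Agent.RG

attribute [local instance] Algebra.TensorProduct.rightAlgebra

/-- Primes over the same prime come from a prime of the tensor product. -/
theorem exists_prime_tensor_left {R : Type u} [CommRing R] (B S : Type u) [CommRing B] [Algebra R B] [CommRing S]
    [Algebra R S] (p : Ideal B) [p.IsPrime] (q : Ideal S) [q.IsPrime]
    (h : q.comap (algebraMap R S) = p.comap (algebraMap R B)) :
    ∃ r : Ideal (B ⊗[R] S), r.IsPrime ∧ r.comap (algebraMap B (B ⊗[R] S)) = p := by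
  let P := p.comap (algebraMap R B)
  let F := P.ResidueField
  let K₁ := p.ResidueField
  let K₂ := q.ResidueField
  let _ : Algebra F K₁ := (Ideal.ResidueField.map P p (algebraMap R B) rfl).toAlgebra
  let _ : Algebra F K₂ := (Ideal.ResidueField.map P q (algebraMap R S) h.symm).toAlgebra
  have : IsScalarTower R F K₁ := IsScalarTower.of_algebraMap_eq fun r => by
    rw [IsScalarTower.algebraMap_apply R B K₁]
    exact (Ideal.ResidueField.map_algebraMap P p (algebraMap R B) rfl r).symm
  have : IsScalarTower R F K₂ := IsScalarTower.of_algebraMap_eq fun r => by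
    rw [IsScalarTower.algebraMap_apply R S K₂]
    exact (Ideal.ResidueField.map_algebraMap P q (algebraMap R S) h.symm r).symm
  let f : B ⊗[R] S →ₐ[R] K₁ ⊗[F] K₂ := Algebra.TensorProduct.lift
    (((Algebra.TensorProduct.includeLeft : K₁ →ₐ[F] K₁ ⊗[F] K₂).restrictScalars R).comp
      (IsScalarTower.toAlgHom R B K₁))
    (((Algebra.TensorProduct.includeRight : K₂ →ₐ[F] K₁ ⊗[F] K₂).restrictScalars R).comp
      (IsScalarTower.toAlgHom R S K₂)) fun _ _ => .all _ _
  haveI : Nontrivial (K₁ ⊗[F] K₂) :=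
    Algebra.TensorProduct.nontrivial_of_algebraMap_injective_of_isDomain F K₁ K₂
      (algebraMap F K₁).injective (algebraMap F K₂).injective
  obtain ⟨m, hm⟩ := Ideal.exists_maximal (K₁ ⊗[F] K₂)
  refine ⟨m.comap f.toRingHom, inferInstance, ?_⟩
  ext b
  have e : f (algebraMap B (B ⊗[R] S) b) =
      (Algebra.TensorProduct.includeLeft : K₁ →ₐ[F] K₁ ⊗[F] K₂) (algebraMap B K₁ b) := by
    simp [f, Algebra.TensorProduct.algebraMap_apply]
  rw [Ideal.mem_comap, Ideal.mem_comap]
  show f (algebraMap B (B ⊗[R] S) b) ∈ m ↔ _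
  rw [e]
  constructor
  · intro hb
    by_contra hne
    have hu : IsUnit (algebraMap B K₁ b) :=
      isUnit_iff_ne_zero.mpr (fun h0 => hne (Ideal.algebraMap_residueField_eq_zero.mp h0))
    exact hm.ne_top (m.eq_top_of_isUnit_mem hb (hu.map _))
  · intro hb
    rw [Ideal.algebraMap_residueField_eq_zero.mpr hb, map_zero]
    exact m.zero_mem

/-- A point of the relative assassin in the image of a projective flat piece specialises into the closed fibre. -/
theorem exists_specialization_of_cover {R B C : Type u} [CommRing R] [IsLocalRing R] [CommRing B] [CommRing C]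
    [Algebra R B] [Algebra B C] [Algebra R C] [IsScalarTower R B C] [Algebra.FiniteType R B] [Algebra.FiniteType R C]
    [Module.Flat B C] (N : Type u) [AddCommGroup N] [Module B N] [Module R N] [IsScalarTower R B N] [Module.Finite B N]
    [Module.Projective R (C ⊗[B] N)] (t : Ideal R) [t.IsPrime] (P : Ideal B) [P.IsPrime] [P.LiesOver t]
    (hass : FlatCA.fiberIdeal t P ∈ associatedPrimes (t.Fiber B) (FlatCA.fiberMod t B N))
    (q' : Ideal C) [q'.IsPrime] (hq' : q'.comap (algebraMap B C) = P) :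
    ∃ P' : Ideal B, P'.IsPrime ∧ P ≤ P' ∧ P'.LiesOver (maximalIdeal R) := by
  obtain ⟨Q, hQ, -, hQP, hQt, hQass⟩ := exists_assoc_above N (C ⊗[B] N) (TensorProduct.mk B C N 1)
    (TensorProduct.isBaseChange B N C) t P hass q' hq'
  haveI := hQ
  haveI := hQt
  obtain ⟨Q', hQ', hle, hQ'm⟩ := exists_specialization_of_projective (R := R) (C ⊗[B] N) t Q hQass
  haveI := hQ'
  refine ⟨Q'.comap (algebraMap B C), inferInstance, hQP.ge.trans (Ideal.comap_mono hle), ⟨?_⟩⟩
  rw [Ideal.under_def, Ideal.comap_comap, ← IsScalarTower.algebraMap_eq R B C]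
  exact hQ'm.over

/-- Pull back of a projective piece: no impurity over a local base whose points come from the piece. -/
theorem not_impurity_of_cover {A B : Type u} [CommRing A] [CommRing B] [Algebra A B] [Algebra.FiniteType A B]
    {N : Type u} [AddCommGroup N] [Module B N] [Module A N] [IsScalarTower A B N] [Module.Finite B N]
    {p : Ideal A} [p.IsPrime]
    {R : Type u} [CommRing R] [Algebra A R] {SA : Type u} [CommRing SA] [Algebra B SA] [Algebra R SA] [Algebra A SA]
    [IsScalarTower A B SA] [IsScalarTower A R SA] [Algebra.IsPushout A B R SA]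
    (C : Type u) [CommRing C] [Algebra SA C] [Algebra R C] [IsScalarTower R SA C] [Algebra.Etale SA C]
    [hP : Module.Projective R (C ⊗[SA] (SA ⊗[B] N))]
    (A₃ : Type u) [CommRing A₃] [IsLocalRing A₃] [Algebra A A₃] [Algebra R A₃] [IsScalarTower A R A₃]
    (B₃ : Type u) [CommRing B₃] [Algebra A B₃] [Algebra B B₃] [Algebra A₃ B₃] [Algebra SA B₃] [Algebra R B₃]
    [IsScalarTower A B B₃] [IsScalarTower A A₃ B₃] [IsScalarTower B SA B₃] [IsScalarTower R A₃ B₃] [IsScalarTower R SA B₃]
    (N₃ : Type u) [AddCommGroup N₃] [Module B₃ N₃] [Module B N₃] [IsScalarTower B B₃ N₃] [Module A₃ N₃] [IsScalarTower A₃ B₃ N₃]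
    (f : N →ₗ[B] N₃) (t : Ideal A₃) [t.IsPrime] (P : Ideal B₃) [P.IsPrime]
    (himage : ∃ y : Ideal C, y.IsPrime ∧ y.comap (algebraMap SA C) = P.comap (algebraMap SA B₃)) :
    ¬ FlatCA.IsImpurity A B N p A₃ B₃ N₃ f t (maximalIdeal A₃) P := by
  rintro ⟨hpo, hf, -, -, hPt, hass, hno⟩
  haveI := hpo
  haveI := hPt
  haveI : Algebra.FiniteType A₃ B₃ := PurityBC.finiteType_of_isPushout A B A₃ B₃
  haveI : Module.Finite B₃ N₃ := Module.Finite.equiv hf.equiv
  haveI : IsScalarTower A SA B₃ := IsScalarTower.of_algebraMap_eq (R := A) (S := SA) (A := B₃) fun a => by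
    rw [IsScalarTower.algebraMap_apply A B SA, ← IsScalarTower.algebraMap_apply B SA B₃,
      ← IsScalarTower.algebraMap_apply A B B₃]
  haveI : Algebra.IsPushout A R B SA := Algebra.IsPushout.symm inferInstance
  haveI : Algebra.IsPushout A A₃ B B₃ := Algebra.IsPushout.symm inferInstance
  haveI hpoR : Algebra.IsPushout R A₃ SA B₃ :=
    (Algebra.IsPushout.comp_iff A R B SA (T := A₃) (T' := B₃)).1 inferInstance
  let C₃ := B₃ ⊗[SA] C
  haveI : Algebra.Etale B₃ C₃ := inferInstance
  haveI : Algebra.FiniteType A₃ C₃ := Algebra.FiniteType.trans (inferInstance : Algebra.FiniteType A₃ B₃)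
    (inferInstance : Algebra.FiniteType B₃ C₃)
  haveI : IsScalarTower R C C₃ := IsScalarTower.of_algebraMap_eq (R := R) (S := C) (A := C₃) fun r => by
    rw [IsScalarTower.algebraMap_apply R SA C, ← IsScalarTower.algebraMap_apply SA C C₃,
      IsScalarTower.algebraMap_apply SA B₃ C₃, ← IsScalarTower.algebraMap_apply R SA B₃]
    rfl
  haveI : IsScalarTower R A₃ C₃ := IsScalarTower.of_algebraMap_eq (R := R) (S := A₃) (A := C₃) fun r => by
    rw [IsScalarTower.algebraMap_apply A₃ B₃ C₃, ← IsScalarTower.algebraMap_apply R A₃ B₃]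
    rfl
  haveI : IsScalarTower B C₃ (C₃ ⊗[B₃] N₃) := inferInstance
  haveI : Algebra.IsPushout SA B₃ C C₃ := inferInstance
  haveI hpoC : Algebra.IsPushout R A₃ C C₃ := by
    haveI : Algebra.IsPushout R SA A₃ B₃ := hpoR.symm
    exact ((Algebra.IsPushout.comp_iff R SA A₃ B₃ (T := C) (T' := C₃)).2 (Algebra.IsPushout.symm inferInstance)).symm
  have hbc : IsBaseChange C₃ ((TensorProduct.mk B₃ C₃ N₃ 1).restrictScalars B ∘ₗ f) :=
    hf.comp (TensorProduct.isBaseChange B₃ N₃ C₃)
  let e : C₃ ⊗[C] (C ⊗[SA] (SA ⊗[B] N)) ≃ₗ[C₃] C₃ ⊗[B₃] N₃ :=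
    AlgebraTensorModule.cancelBaseChange SA C C₃ C₃ (SA ⊗[B] N) ≪≫ₗ
      AlgebraTensorModule.cancelBaseChange B SA C₃ C₃ N ≪≫ₗ hbc.equiv
  haveI : Module.Projective A₃ (C₃ ⊗[B₃] N₃) := Module.Projective.of_equiv
    (((Algebra.IsPushout.cancelBaseChange R A₃ C C₃ (C ⊗[SA] (SA ⊗[B] N))).restrictScalars A₃).symm ≪≫ₗ
      e.restrictScalars A₃)
  obtain ⟨y, hy, hyP⟩ := himage
  obtain ⟨r, hr, hrP⟩ := exists_prime_tensor_left B₃ C P y hyP
  haveI := hr
  obtain ⟨P', hP', hle, hP'm⟩ := exists_specialization_of_cover (R := A₃) (C := C₃) N₃ t P hass r hrP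
  exact hno P' hle hP'm

/-- The points of the relative assassin of the chart below the point lie in the image of the covering piece. -/
theorem mem_image_of_pure {A B : Type u} [CommRing A] [CommRing B] [Algebra A B] [Algebra.FiniteType A B]
    {N : Type u} [AddCommGroup N] [Module B N] [Module A N] [IsScalarTower A B N] [Module.Finite B N]
    {p : Ideal A} [p.IsPrime] (hpure : FlatCA.IsPureAlong A B N p)
    {A' : Type u} [CommRing A'] [Algebra A A'] {p' : Ideal A'} [p'.IsPrime] (hA : FlatCA.IsEtaleNhd A A' p p')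
    (R : Type u) [CommRing R] [IsLocalRing R] [Algebra A R] [Algebra A' R] [IsScalarTower A A' R]
    [IsLocalization p'.primeCompl R] [hR : (maximalIdeal R).LiesOver p']
    (C : Type u) [CommRing C] [Algebra (B ⊗[A] R) C] [Module.Flat (B ⊗[A] R) C]
    (hcov : ∀ (q : Ideal B) [q.IsPrime], q.LiesOver p → ∃ y : Ideal (B ⊗[A] R),
      y.comap (algebraMap B (B ⊗[A] R)) = q ∧ y.LiesOver (maximalIdeal R) ∧
      ∃ x : Ideal C, x.IsPrime ∧ x.comap (algebraMap (B ⊗[A] R) C) = y)
    (NR : Type u) [AddCommGroup NR] [Module (B ⊗[A] R) NR] [Module B NR] [IsScalarTower B (B ⊗[A] R) NR]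
    [Module R NR] [IsScalarTower R (B ⊗[A] R) NR] (f : N →ₗ[B] NR) (hf : IsBaseChange (B ⊗[A] R) f)
    (s : Ideal R) [s.IsPrime] (Q : Ideal (B ⊗[A] R)) [Q.IsPrime] [Q.LiesOver s]
    (hass : FlatCA.fiberIdeal s Q ∈ associatedPrimes (s.Fiber (B ⊗[A] R)) (FlatCA.fiberMod s (B ⊗[A] R) NR)) :
    ∃ y : Ideal C, y.IsPrime ∧ y.comap (algebraMap (B ⊗[A] R) C) = Q := by
  let SA := B ⊗[A] R
  let BA := B ⊗[A] A'
  let NA := BA ⊗[B] N
  haveI : Algebra.IsPushout A B A' BA := inferInstance
  haveI : Algebra.IsPushout A A' B BA := Algebra.IsPushout.symm inferInstance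
  haveI : Algebra.IsPushout A R B SA := Algebra.IsPushout.symm inferInstance
  letI : Module A' NA := Module.compHom NA (algebraMap A' BA)
  haveI : IsScalarTower A' BA NA := IsScalarTower.of_algebraMap_smul fun _ _ => rfl
  letI : Algebra BA SA :=
    (Algebra.TensorProduct.map (AlgHom.id A B) (IsScalarTower.toAlgHom A A' R)).toRingHom.toAlgebra
  haveI : IsScalarTower B BA SA := IsScalarTower.of_algebraMap_eq (R := B) (S := BA) (A := SA) fun b => by
    show b ⊗ₜ[A] (1 : R) = b ⊗ₜ[A] algebraMap A' R 1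
    rw [map_one]
  letI : Algebra A' SA := ((algebraMap R SA).comp (algebraMap A' R)).toAlgebra
  haveI : IsScalarTower A' R SA := IsScalarTower.of_algebraMap_eq' rfl
  haveI : IsScalarTower A' BA SA := IsScalarTower.of_algebraMap_eq (R := A') (S := BA) (A := SA) fun a => rfl
  haveI : IsScalarTower A BA SA := IsScalarTower.of_algebraMap_eq (R := A) (S := BA) (A := SA) fun a => by
    rw [IsScalarTower.algebraMap_apply A B BA, ← IsScalarTower.algebraMap_apply B BA SA,
      ← IsScalarTower.algebraMap_apply A B SA]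
  haveI hpo : Algebra.IsPushout A' R BA SA :=
    (Algebra.IsPushout.comp_iff A A' B BA (T := R) (T' := SA)).1 inferInstance
  haveI : Algebra.IsPushout A' BA R SA := hpo.symm
  haveI : IsLocalization (Algebra.algebraMapSubmonoid BA p'.primeCompl) SA :=
    (Algebra.isLocalization_iff_isPushout p'.primeCompl R).2 inferInstance
  haveI : Algebra.FiniteType A' BA := PurityBC.finiteType_of_isPushout A B A' BA
  letI : Module BA NR := Module.compHom NR (algebraMap BA SA)
  haveI : IsScalarTower BA SA NR := IsScalarTower.of_algebraMap_smul fun _ _ => rfl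
  haveI : IsScalarTower B BA NR := IsScalarTower.to₁₂₄ B BA SA NR
  letI : Module A' NR := Module.compHom NR (algebraMap A' R)
  haveI : IsScalarTower A' R NR := IsScalarTower.of_algebraMap_smul fun _ _ => rfl
  haveI : IsScalarTower A' BA NR := IsScalarTower.of_algebraMap_smul (R := A') (A := BA) (M := NR) fun a z => by
    rw [← algebraMap_smul SA (algebraMap A' BA a) z, ← IsScalarTower.algebraMap_apply A' BA SA,
      IsScalarTower.algebraMap_apply A' R SA, algebraMap_smul]
    rfl
  have hNA : IsBaseChange BA (TensorProduct.mk B BA N 1) := TensorProduct.isBaseChange B N BA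
  let g : NA →ₗ[BA] NR := hNA.lift f
  have hg : IsBaseChange SA g := IsBaseChange.of_comp hNA (by rw [hNA.lift_comp]; exact hf)
  haveI : (s.comap (algebraMap A' R)).IsPrime := inferInstance
  haveI : s.LiesOver (s.comap (algebraMap A' R)) := ⟨rfl⟩
  obtain ⟨hl, hassBA⟩ := PurityQF.assoc_contract (A := A') (C := R) g (isBaseChange_restrict g hg)
    (s.comap (algebraMap A' R)) s Q hass
  haveI := hl
  haveI := hA.2.1
  obtain ⟨Q', hQ', hle, hQ'p⟩ := assoc_specializes_of_pure hpure hA (TensorProduct.mk B BA N 1) hNA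
    (s.comap (algebraMap A' R))
    ((Ideal.comap_mono (IsLocalRing.le_maximalIdeal Ideal.IsPrime.ne_top')).trans hR.over.ge)
    (Q.comap (algebraMap BA SA)) hl hassBA
  haveI := hQ'
  haveI := hQ'p
  haveI hqp : (Q'.comap (algebraMap B BA)).LiesOver p := ⟨by
    rw [Ideal.under_def, Ideal.comap_comap, ← IsScalarTower.algebraMap_eq A B BA, IsScalarTower.algebraMap_eq A A' BA,
      ← Ideal.comap_comap, ← Ideal.under_def (A := A') Q', ← hQ'p.over]
    exact hA.2.1.over⟩
  obtain ⟨y, hyq, hym, x, hx, hxy⟩ := hcov (Q'.comap (algebraMap B BA)) hqp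
  haveI := hx
  subst hxy
  haveI : (x.comap (algebraMap SA C)).LiesOver (maximalIdeal R) := hym
  haveI : Q'.LiesOver (Q'.comap (algebraMap B BA)) := ⟨rfl⟩
  haveI : ((x.comap (algebraMap SA C)).comap (algebraMap BA SA)).LiesOver (Q'.comap (algebraMap B BA)) := ⟨by
    conv_rhs => rw [Ideal.under_def, Ideal.comap_comap, ← IsScalarTower.algebraMap_eq B BA SA, hyq]⟩
  haveI : ((x.comap (algebraMap SA C)).comap (algebraMap BA SA)).LiesOver p' := ⟨by
    rw [Ideal.under_def, Ideal.comap_comap (g := algebraMap BA SA), ← IsScalarTower.algebraMap_eq A' BA SA,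
      IsScalarTower.algebraMap_eq A' R SA, ← Ideal.comap_comap (g := algebraMap R SA)]
    exact hR.over.trans (congrArg (Ideal.comap (algebraMap A' R)) hym.over)⟩
  have heq := eq_of_liesOver (R := A) (R' := A') (S := B) (S' := BA) p p' hA.2.2
    (Q'.comap (algebraMap B BA)) Q' ((x.comap (algebraMap SA C)).comap (algebraMap BA SA))
  have hQy : Q ≤ x.comap (algebraMap SA C) := by
    intro z hz
    obtain ⟨⟨b, w⟩, hw⟩ := IsLocalization.surj (Algebra.algebraMapSubmonoid BA p'.primeCompl) z
    have h1 : b ∈ Q' := hle (show algebraMap BA SA b ∈ Q from hw ▸ Q.mul_mem_right _ hz)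
    rw [heq, Ideal.mem_comap, ← hw] at h1
    refine ((inferInstance : (x.comap (algebraMap SA C)).IsPrime).mem_or_mem h1).resolve_right fun h2 => ?_
    exact (inferInstance : (x.comap (algebraMap SA C)).IsPrime).ne_top
      (Ideal.eq_top_of_isUnit_mem _ h2 (IsLocalization.map_units SA w))
  haveI : x.LiesOver (x.comap (algebraMap SA C)) := ⟨rfl⟩
  obtain ⟨y', -, hy', hy'Q⟩ := Ideal.exists_ideal_le_liesOver_of_le (p := Q) (q := x.comap (algebraMap SA C)) x hQy
  exact ⟨y', hy', hy'Q.over.symm⟩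

/-- No impurity over a local base through the chart. -/
theorem not_impurity_of_chart {A B : Type u} [CommRing A] [CommRing B] [Algebra A B] [Algebra.FiniteType A B]
    {N : Type u} [AddCommGroup N] [Module B N] [Module A N] [IsScalarTower A B N] [Module.Finite B N]
    {p : Ideal A} [p.IsPrime] (hpure : FlatCA.IsPureAlong A B N p)
    {A' : Type u} [CommRing A'] [Algebra A A'] {p' : Ideal A'} [p'.IsPrime] (hA : FlatCA.IsEtaleNhd A A' p p')
    (R : Type u) [CommRing R] [IsLocalRing R] [Algebra A R] [Algebra A' R] [IsScalarTower A A' R]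
    [IsLocalization p'.primeCompl R] [hR : (maximalIdeal R).LiesOver p']
    (C : Type u) [CommRing C] [Algebra (B ⊗[A] R) C] [Algebra R C] [IsScalarTower R (B ⊗[A] R) C]
    [Algebra.Etale (B ⊗[A] R) C] [Module.Projective R (C ⊗[B ⊗[A] R] ((B ⊗[A] R) ⊗[B] N))]
    (hcov : ∀ (q : Ideal B) [q.IsPrime], q.LiesOver p → ∃ y : Ideal (B ⊗[A] R),
      y.comap (algebraMap B (B ⊗[A] R)) = q ∧ y.LiesOver (maximalIdeal R) ∧
      ∃ x : Ideal C, x.IsPrime ∧ x.comap (algebraMap (B ⊗[A] R) C) = y)
    {A'' B'' N'' : Type u} [CommRing A''] [CommRing B''] [Algebra A A''] [Algebra B B''] [Algebra A'' B'']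
    [Algebra A B''] [IsScalarTower A B B''] [IsScalarTower A A'' B''] [AddCommGroup N''] [Module B'' N'']
    [Module B N''] [IsScalarTower B B'' N''] [Module A'' N''] [IsScalarTower A'' B'' N''] {f : N →ₗ[B] N''}
    {t' t : Ideal A''} [t'.IsPrime] [t.IsPrime] {P : Ideal B''} [P.IsPrime]
    (A₃ : Type u) [CommRing A₃] [IsLocalRing A₃] [Algebra A A₃] [Algebra A'' A₃] [IsScalarTower A A'' A₃]
    [Algebra R A₃] [IsScalarTower A R A₃] [Module.Flat A'' A₃] [(maximalIdeal A₃).LiesOver t] :
    ¬ FlatCA.IsImpurity A B N p A'' B'' N'' f t' t P := by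
  intro himp
  obtain ⟨t₃, hle₃, _, ht₃⟩ :=
    Ideal.exists_ideal_le_liesOver_of_le (p := t') (q := t) (maximalIdeal A₃) himp.2.2.1
  haveI := ht₃
  let SA := B ⊗[A] R
  let B₃ := B ⊗[A] A₃
  let N₃ := B₃ ⊗[B] N
  haveI : Algebra.IsPushout A B A₃ B₃ := inferInstance
  letI : Module A₃ N₃ := Module.compHom N₃ (algebraMap A₃ B₃)
  haveI : IsScalarTower A₃ B₃ N₃ := IsScalarTower.of_algebraMap_smul fun _ _ => rfl
  obtain ⟨P₃, hP₃, himp₃⟩ := PurityBC.IsImpurity.propagate himp A₃ B₃ N₃ (TensorProduct.mk B B₃ N 1)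
    (TensorProduct.isBaseChange B N B₃) t₃ (maximalIdeal A₃) hle₃
  haveI := hP₃
  letI : Algebra SA B₃ :=
    (Algebra.TensorProduct.map (AlgHom.id A B) (IsScalarTower.toAlgHom A R A₃)).toRingHom.toAlgebra
  haveI : IsScalarTower B SA B₃ := IsScalarTower.of_algebraMap_eq (R := B) (S := SA) (A := B₃) fun b => by
    show b ⊗ₜ[A] (1 : A₃) = b ⊗ₜ[A] algebraMap R A₃ 1
    rw [map_one]
  letI : Algebra R B₃ := ((algebraMap A₃ B₃).comp (algebraMap R A₃)).toAlgebra
  haveI : IsScalarTower R A₃ B₃ := IsScalarTower.of_algebraMap_eq' rfl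
  haveI : IsScalarTower R SA B₃ := IsScalarTower.of_algebraMap_eq (R := R) (S := SA) (A := B₃) fun a => rfl
  haveI : Algebra.IsPushout A B R SA := inferInstance
  refine not_impurity_of_cover (R := R) (SA := SA) C A₃ B₃ N₃ (TensorProduct.mk B B₃ N 1) t₃ P₃ ?_ himp₃
  obtain ⟨-, hf₃, -, -, hPt, hass, -⟩ := himp₃
  haveI := hPt
  haveI : IsScalarTower A SA B₃ := IsScalarTower.of_algebraMap_eq (R := A) (S := SA) (A := B₃) fun a => by
    rw [IsScalarTower.algebraMap_apply A B SA, ← IsScalarTower.algebraMap_apply B SA B₃,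
      ← IsScalarTower.algebraMap_apply A B B₃]
  haveI : Algebra.IsPushout A R B SA := Algebra.IsPushout.symm inferInstance
  haveI : Algebra.IsPushout A A₃ B B₃ := Algebra.IsPushout.symm inferInstance
  haveI hpoR : Algebra.IsPushout R A₃ SA B₃ :=
    (Algebra.IsPushout.comp_iff A R B SA (T := A₃) (T' := B₃)).1 inferInstance
  haveI : Algebra.IsPushout R SA A₃ B₃ := hpoR.symm
  haveI : Algebra.FiniteType R SA := PurityBC.finiteType_of_isPushout A B R SA
  let NR := SA ⊗[B] N
  letI : Module R NR := Module.compHom NR (algebraMap R SA)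
  haveI : IsScalarTower R SA NR := IsScalarTower.of_algebraMap_smul fun _ _ => rfl
  letI : Module SA N₃ := Module.compHom N₃ (algebraMap SA B₃)
  haveI : IsScalarTower SA B₃ N₃ := IsScalarTower.of_algebraMap_smul fun _ _ => rfl
  haveI : IsScalarTower B SA N₃ := IsScalarTower.to₁₂₄ B SA B₃ N₃
  letI : Module R N₃ := Module.compHom N₃ (algebraMap R A₃)
  haveI : IsScalarTower R A₃ N₃ := IsScalarTower.of_algebraMap_smul fun _ _ => rfl
  haveI : IsScalarTower R SA N₃ := IsScalarTower.of_algebraMap_smul (R := R) (A := SA) (M := N₃) fun a z => by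
    rw [← algebraMap_smul B₃ (algebraMap R SA a) z, ← IsScalarTower.algebraMap_apply R SA B₃,
      IsScalarTower.algebraMap_apply R A₃ B₃, algebraMap_smul]
    rfl
  have hNR : IsBaseChange SA (TensorProduct.mk B SA N 1) := TensorProduct.isBaseChange B N SA
  let g : NR →ₗ[SA] N₃ := hNR.lift (TensorProduct.mk B B₃ N 1)
  have hg : IsBaseChange B₃ g := IsBaseChange.of_comp hNR (by rw [hNR.lift_comp]; exact hf₃)
  haveI : t₃.LiesOver (t₃.comap (algebraMap R A₃)) := ⟨rfl⟩
  obtain ⟨hl, hassR⟩ := PurityQF.assoc_contract (A := R) (C := A₃) g (isBaseChange_restrict g hg)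
    (t₃.comap (algebraMap R A₃)) t₃ P₃ hass
  haveI := hl
  exact mem_image_of_pure hpure hA R C hcov NR (TensorProduct.mk B SA N 1) hNR
    (t₃.comap (algebraMap R A₃)) (P₃.comap (algebraMap SA B₃)) hassR

/-- Purity along `p` gives universal purity, given the chart. -/
theorem isUnivPureAlong_of_chart {A B : Type u} [CommRing A] [CommRing B] [Algebra A B] [Algebra.FiniteType A B]
    {N : Type u} [AddCommGroup N] [Module B N] [Module A N] [IsScalarTower A B N] [Module.Finite B N]
    {p : Ideal A} [p.IsPrime] (hpure : FlatCA.IsPureAlong A B N p)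
    {A' : Type u} [CommRing A'] [Algebra A A'] {p' : Ideal A'} [p'.IsPrime] (hA : FlatCA.IsEtaleNhd A A' p p')
    (R : Type u) [CommRing R] [IsLocalRing R] [Algebra A R] [Algebra A' R] [IsScalarTower A A' R]
    [IsLocalization p'.primeCompl R] [hR : (maximalIdeal R).LiesOver p']
    (hκ : Function.Bijective (Ideal.ResidueField.mapₐ p' (maximalIdeal R) (Algebra.ofId A' R) hR.over))
    (C : Type u) [CommRing C] [Algebra (B ⊗[A] R) C] [Algebra R C] [IsScalarTower R (B ⊗[A] R) C]
    [Algebra.Etale (B ⊗[A] R) C] [Module.Projective R (C ⊗[B ⊗[A] R] ((B ⊗[A] R) ⊗[B] N))]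
    (hcov : ∀ (q : Ideal B) [q.IsPrime], q.LiesOver p → ∃ y : Ideal (B ⊗[A] R),
      y.comap (algebraMap B (B ⊗[A] R)) = q ∧ y.LiesOver (maximalIdeal R) ∧
      ∃ x : Ideal C, x.IsPrime ∧ x.comap (algebraMap (B ⊗[A] R) C) = y) :
    FlatCA.IsUnivPureAlong A B N p := by
  intro A'' B'' N'' _ _ _ _ _ _ _ _ _ _ _ _ _ _ f t' t _ _ P _ himp
  have htp : t.LiesOver p := himp.2.2.2.1
  haveI := htp
  haveI := hA.1
  obtain ⟨hpA, hκA⟩ := hA.2
  haveI := hpA
  haveI hRp : (maximalIdeal R).LiesOver p := Ideal.LiesOver.trans (maximalIdeal R) p' p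
  let A₂ := A'' ⊗[A] R
  haveI : Algebra.IsPushout A R A'' A₂ := Algebra.IsPushout.symm inferInstance
  haveI : Module.Flat A' R := IsLocalization.flat R p'.primeCompl
  haveI : Module.Flat A R := Module.Flat.trans A A' R
  obtain ⟨T, hT, hTt, hTm⟩ := exists_prime_over (R := A) (R' := R) (S := A'') (S' := A₂) p (maximalIdeal R)
    (residue_bijective_comp hpA hR hRp hκA hκ) t
  haveI := hT
  haveI := hTt
  haveI : Module.Flat A₂ (Localization.AtPrime T) := IsLocalization.flat _ T.primeCompl
  haveI : Module.Flat A'' (Localization.AtPrime T) := Module.Flat.trans A'' A₂ _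
  haveI : (maximalIdeal (Localization.AtPrime T)).LiesOver T :=
    ⟨(Localization.AtPrime.under_maximalIdeal (I := T)).symm⟩
  haveI : (maximalIdeal (Localization.AtPrime T)).LiesOver t := Ideal.LiesOver.trans _ T t
  haveI : IsScalarTower A R (Localization.AtPrime T) := inferInstance
  exact not_impurity_of_chart hpure hA R C hcov (Localization.AtPrime T) himp

end Groth.Agent.RG
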