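import Groth.Prelude.Def_FlatCA

/-!
# Primes in a base change to an étale neighbourhood
-/

set_option autoImplicit false
set_option linter.style.haveILetI false
set_option linter.unusedSectionVars false
set_option backward.isDefEq.respectTransparency false
set_option maxHeartbeats 1000000

universe u

open TensorProduct

namespace Groth.Agent.RG

theorem isEtaleNhd_refl (R : Type u) [CommRing R] (p : Ideal R) [p.IsPrime] : FlatCA.IsEtaleNhd R R p p := by
  refine ⟨inferInstance, ⟨rfl⟩, ?_⟩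
  have : (Ideal.ResidueField.mapₐ p p (Algebra.ofId R R) rfl : p.ResidueField →+* p.ResidueField) = RingHom.id _ := by
    refine Ideal.ResidueField.ringHom_ext (RingHom.ext fun s => ?_)
    show Ideal.ResidueField.map p p _ _ (algebraMap R p.ResidueField s) = algebraMap R p.ResidueField s
    rw [Ideal.ResidueField.map_algebraMap]
    rfl
  show Function.Bijective (Ideal.ResidueField.mapₐ p p (Algebra.ofId R R) rfl : p.ResidueField →+* p.ResidueField)
  rw [this]
  exact Function.bijective_id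

theorem isEtaleNhd_trans {R R₁ R₂ : Type u} [CommRing R] [CommRing R₁] [CommRing R₂] [Algebra R R₁] [Algebra R₁ R₂]
    [Algebra R R₂] [IsScalarTower R R₁ R₂] {p : Ideal R} [p.IsPrime] {p₁ : Ideal R₁} [p₁.IsPrime] {p₂ : Ideal R₂}
    [p₂.IsPrime] (h₁ : FlatCA.IsEtaleNhd R R₁ p p₁) (h₂ : FlatCA.IsEtaleNhd R₁ R₂ p₁ p₂) :
    FlatCA.IsEtaleNhd R R₂ p p₂ := by
  obtain ⟨he₁, ho₁, hb₁⟩ := h₁
  obtain ⟨he₂, ho₂, hb₂⟩ := h₂
  haveI := he₁; haveI := he₂
  haveI := ho₁; haveI := ho₂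
  haveI ho : p₂.LiesOver p := Ideal.LiesOver.trans p₂ p₁ p
  refine ⟨Algebra.Etale.comp R R₁ R₂, ho, ?_⟩
  have : (Ideal.ResidueField.mapₐ p p₂ (Algebra.ofId R R₂) ho.over : p.ResidueField →+* p₂.ResidueField) =
      (Ideal.ResidueField.mapₐ p₁ p₂ (Algebra.ofId R₁ R₂) ho₂.over : p₁.ResidueField →+* p₂.ResidueField).comp
        (Ideal.ResidueField.mapₐ p p₁ (Algebra.ofId R R₁) ho₁.over : p.ResidueField →+* p₁.ResidueField) := by
    refine Ideal.ResidueField.ringHom_ext (RingHom.ext fun s => ?_)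
    show Ideal.ResidueField.map p p₂ _ _ (algebraMap R p.ResidueField s) =
      Ideal.ResidueField.map p₁ p₂ _ _ (Ideal.ResidueField.map p p₁ _ _ (algebraMap R p.ResidueField s))
    rw [Ideal.ResidueField.map_algebraMap, Ideal.ResidueField.map_algebraMap, Ideal.ResidueField.map_algebraMap]
    exact congrArg (algebraMap R₂ p₂.ResidueField) (IsScalarTower.algebraMap_apply R R₁ R₂ s)
  show Function.Bijective (Ideal.ResidueField.mapₐ p p₂ (Algebra.ofId R R₂) ho.over : p.ResidueField →+* p₂.ResidueField)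
  rw [this]
  exact hb₂.comp hb₁

section

variable {R R₂ : Type u} [CommRing R] [CommRing R₂] [Algebra R R₂] {p : Ideal R} [p.IsPrime] {p₂ : Ideal R₂}
  [p₂.IsPrime] (hR : FlatCA.IsEtaleNhd R R₂ p p₂)

include hR in
theorem exists_mul_sub_mem (r : R₂) :
    ∃ a b : R, b ∉ p ∧ algebraMap R R₂ b * r - algebraMap R R₂ a ∈ p₂ := by
  obtain ⟨-, ho, hb⟩ := hR
  obtain ⟨x, hx⟩ := hb.2 (algebraMap R₂ p₂.ResidueField r)
  obtain ⟨a, b, hb0, rfl⟩ := IsFractionRing.div_surjective (R ⧸ p) x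
  obtain ⟨a, rfl⟩ := Ideal.Quotient.mk_surjective a
  obtain ⟨b, rfl⟩ := Ideal.Quotient.mk_surjective b
  have hbp : b ∉ p := fun h => nonZeroDivisors.ne_zero hb0 (Ideal.Quotient.eq_zero_iff_mem.2 h)
  refine ⟨a, b, hbp, ?_⟩
  rw [← Ideal.algebraMap_residueField_eq_zero, map_sub, map_mul, ← hx, sub_eq_zero]
  have hm : ∀ c : R, algebraMap R₂ p₂.ResidueField (algebraMap R R₂ c) =
      Ideal.ResidueField.mapₐ p p₂ (Algebra.ofId R R₂) ho.over (algebraMap (R ⧸ p) p.ResidueField (Ideal.Quotient.mk p c)) := by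
    intro c
    rw [Ideal.algebraMap_quotient_residueField_mk]
    exact (Ideal.ResidueField.map_algebraMap p p₂ (Algebra.ofId R R₂).toRingHom ho.over c).symm
  rw [hm, hm, ← map_mul, mul_div_cancel₀]
  exact fun h => hbp (Ideal.algebraMap_residueField_eq_zero.1 ((Ideal.algebraMap_quotient_residueField_mk (I := p) b).symm.trans h))

variable {X : Type u} [CommRing X] [Algebra R X]

attribute [local instance] Algebra.TensorProduct.rightAlgebra

include hR in
/-- Modulo the point of the base every element comes from `X`, up to a unit. -/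
theorem exists_mul_sub_mem_map (t : R₂ ⊗[R] X) :
    ∃ b : R, b ∉ p ∧ ∃ x : X, algebraMap R (R₂ ⊗[R] X) b * t - (1 : R₂) ⊗ₜ[R] x ∈
      p₂.map (algebraMap R₂ (R₂ ⊗[R] X)) := by
  induction t using TensorProduct.induction_on with
  | zero => exact ⟨1, fun h => (inferInstance : p.IsPrime).ne_top (p.eq_top_iff_one.2 h), 0, by simp⟩
  | tmul r x =>
    obtain ⟨a, b, hb, hm⟩ := exists_mul_sub_mem hR r
    refine ⟨b, hb, a • x, ?_⟩
    have : algebraMap R (R₂ ⊗[R] X) b * r ⊗ₜ[R] x - (1 : R₂) ⊗ₜ[R] (a • x) =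
        algebraMap R₂ (R₂ ⊗[R] X) (algebraMap R R₂ b * r - algebraMap R R₂ a) * (1 : R₂) ⊗ₜ[R] x := by
      rw [Algebra.TensorProduct.algebraMap_apply, Algebra.TensorProduct.algebraMap_apply,
        Algebra.TensorProduct.tmul_mul_tmul, Algebra.TensorProduct.tmul_mul_tmul, one_mul, Algebra.algebraMap_self,
        RingHom.id_apply, mul_one, TensorProduct.sub_tmul]
      congr 1
      rw [Algebra.algebraMap_eq_smul_one, TensorProduct.smul_tmul]
    rw [this]
    exact Ideal.mul_mem_right _ _ (Ideal.mem_map_of_mem _ hm)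
  | add s t hs ht =>
    obtain ⟨b, hb, x, hx⟩ := hs
    obtain ⟨c, hc, y, hy⟩ := ht
    refine ⟨b * c, fun h => ((inferInstance : p.IsPrime).mem_or_mem h).elim hb hc, c • x + b • y, ?_⟩
    have e : ∀ (d : R) (z : X), (1 : R₂) ⊗ₜ[R] (d • z) = algebraMap R (R₂ ⊗[R] X) d * (1 : R₂) ⊗ₜ[R] z := by
      intro d z
      rw [← Algebra.smul_def, TensorProduct.tmul_smul]
    rw [show algebraMap R (R₂ ⊗[R] X) (b * c) * (s + t) - (1 : R₂) ⊗ₜ[R] (c • x + b • y) =
      algebraMap R _ c * (algebraMap R _ b * s - (1 : R₂) ⊗ₜ[R] x) +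
        algebraMap R _ b * (algebraMap R _ c * t - (1 : R₂) ⊗ₜ[R] y) by
      rw [TensorProduct.tmul_add, e, e, map_mul]; ring]
    exact add_mem (Ideal.mul_mem_left _ _ hx) (Ideal.mul_mem_left _ _ hy)

include hR in
/-- A prime over the point of the base is determined by its contraction. -/
theorem prime_le_of_comap (Q₁ Q₂ : Ideal (R₂ ⊗[R] X)) [Q₁.IsPrime] [Q₂.IsPrime]
    (h₁ : Q₁.comap (algebraMap R₂ (R₂ ⊗[R] X)) = p₂) (h₂ : Q₂.comap (algebraMap R₂ (R₂ ⊗[R] X)) = p₂)
    (hX : ∀ x : X, (1 : R₂) ⊗ₜ[R] x ∈ Q₁ ↔ (1 : R₂) ⊗ₜ[R] x ∈ Q₂) : Q₁ = Q₂ := by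
  have key : ∀ (Q Q' : Ideal (R₂ ⊗[R] X)) [Q.IsPrime] [Q'.IsPrime],
      Q.comap (algebraMap R₂ (R₂ ⊗[R] X)) = p₂ → Q'.comap (algebraMap R₂ (R₂ ⊗[R] X)) = p₂ →
      (∀ x : X, (1 : R₂) ⊗ₜ[R] x ∈ Q → (1 : R₂) ⊗ₜ[R] x ∈ Q') → Q ≤ Q' := by
    intro Q Q' _ _ hQ hQ' hsub t ht
    obtain ⟨b, hb, x, hx⟩ := exists_mul_sub_mem_map hR t
    have hxQ : (1 : R₂) ⊗ₜ[R] x ∈ Q := by
      have h1 := Q.sub_mem (Q.mul_mem_left (algebraMap R _ b) ht)
        ((Ideal.map_le_iff_le_comap.2 hQ.ge) hx)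
      rwa [sub_sub_cancel] at h1
    have hbt : algebraMap R (R₂ ⊗[R] X) b * t ∈ Q' := by
      have := Q'.add_mem ((Ideal.map_le_iff_le_comap.2 hQ'.ge) hx) (hsub x hxQ)
      rwa [sub_add_cancel] at this
    refine ((inferInstance : Q'.IsPrime).mem_or_mem hbt).resolve_left fun h => hb ?_
    obtain ⟨-, ho, -⟩ := hR
    rw [IsScalarTower.algebraMap_apply R R₂ (R₂ ⊗[R] X), ← Ideal.mem_comap, hQ'] at h
    exact (SetLike.ext_iff.1 ho.over b).2 h
  exact le_antisymm (key Q₁ Q₂ h₁ h₂ fun x => (hX x).1) (key Q₂ Q₁ h₂ h₁ fun x => (hX x).2)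

include hR in
/-- There is a prime over a given one and the point of the base. -/
theorem exists_prime_baseChange (x : Ideal X) [x.IsPrime] [x.LiesOver p] :
    ∃ (Q : Ideal (R₂ ⊗[R] X)) (_ : Q.IsPrime), Q.comap (algebraMap R₂ (R₂ ⊗[R] X)) = p₂ ∧
      Q.comap (Algebra.TensorProduct.includeRight : X →ₐ[R] R₂ ⊗[R] X) = x := by
  obtain ⟨-, ho, hb⟩ := hR
  let e := RingEquiv.ofBijective (Ideal.ResidueField.mapₐ p p₂ (Algebra.ofId R R₂) ho.over).toRingHom hb
  let f₀ : R₂ →+* x.ResidueField :=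
    (Ideal.ResidueField.mapₐ p x (Algebra.ofId R X) (Ideal.LiesOver.over (P := x) (p := p))).toRingHom.comp
      (e.symm.toRingHom.comp (algebraMap R₂ p₂.ResidueField))
  let f : R₂ →ₐ[R] x.ResidueField :=
    { f₀ with
      commutes' := fun c => by
        show Ideal.ResidueField.mapₐ p x _ _ (e.symm (algebraMap R₂ p₂.ResidueField (algebraMap R R₂ c))) = _
        rw [show algebraMap R₂ p₂.ResidueField (algebraMap R R₂ c) = e (algebraMap R p.ResidueField c) from
          (Ideal.ResidueField.map_algebraMap p p₂ (Algebra.ofId R R₂).toRingHom ho.over c).symm,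
          RingEquiv.symm_apply_apply, IsScalarTower.algebraMap_apply R X x.ResidueField]
        exact Ideal.ResidueField.map_algebraMap p x (Algebra.ofId R X).toRingHom _ c }
  let φ := Algebra.TensorProduct.lift f (IsScalarTower.toAlgHom R X x.ResidueField) fun _ _ => Commute.all _ _
  haveI : (RingHom.ker φ).IsPrime := RingHom.ker_isPrime φ
  refine ⟨RingHom.ker φ, inferInstance, ?_, ?_⟩
  · ext r
    rw [Ideal.mem_comap, RingHom.mem_ker, Algebra.TensorProduct.algebraMap_apply, Algebra.TensorProduct.lift_tmul,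
      map_one, mul_one, Algebra.algebraMap_self, RingHom.id_apply]
    show Ideal.ResidueField.mapₐ p x _ _ (e.symm (algebraMap R₂ p₂.ResidueField r)) = 0 ↔ _
    rw [map_eq_zero, map_eq_zero, Ideal.algebraMap_residueField_eq_zero]
  · ext a
    rw [Ideal.mem_comap, RingHom.mem_ker, Algebra.TensorProduct.includeRight_apply, Algebra.TensorProduct.lift_tmul,
      map_one, one_mul, IsScalarTower.coe_toAlgHom', Ideal.algebraMap_residueField_eq_zero]

end

end Groth.Agent.RG
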