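import Groth.Agent.RG.PureKey
import Groth.Agent.RG.EtaleBC
import Groth.Agent.RG.AssocFlatBC
import Groth.Agent.RG.CoverPure
import Groth.Agent.S1221

/-!
# Purity read off an étale cover of the fibre
-/

set_option autoImplicit false
set_option linter.style.haveILetI false
set_option linter.unusedSectionVars false
set_option backward.isDefEq.respectTransparency false
set_option backward.isDefEq.respectTransparency.types false
set_option maxHeartbeats 2000000

universe u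

open TensorProduct Groth.Agent.ZClosLib

namespace Groth.Agent.RG

attribute [local instance] Algebra.TensorProduct.rightAlgebra

/-- The common refinement of two étale neighbourhoods. -/
theorem exists_isEtaleNhd_tensor {A A' A'' : Type u} [CommRing A] [CommRing A'] [CommRing A''] [Algebra A A'] [Algebra A A'']
    {p : Ideal A} [p.IsPrime] {p' : Ideal A'} [p'.IsPrime] {p'' : Ideal A''} [p''.IsPrime]
    (h' : FlatCA.IsEtaleNhd A A' p p') (h'' : FlatCA.IsEtaleNhd A A'' p p'') :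
    ∃ (r : Ideal (A' ⊗[A] A'')) (_ : r.IsPrime), r.comap (algebraMap A'' (A' ⊗[A] A'')) = p'' ∧
      FlatCA.IsEtaleNhd A' (A' ⊗[A] A'') p' r := by
  haveI := h''.2.1
  haveI := h'.2.1
  haveI := h''.1
  obtain ⟨r, hr, hr', hr''⟩ := exists_prime_baseChange h' (X := A'') p''
  refine ⟨r, hr, hr'', inferInstance, ⟨hr'.symm⟩, RingHom.injective _, fun y => ?_⟩
  haveI : r.LiesOver p' := ⟨hr'.symm⟩
  let φ := Ideal.ResidueField.mapₐ p' r (Algebra.ofId A' (A' ⊗[A] A'')) hr'.symm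
  show ∃ x, φ x = y
  suffices hz : ∀ z : A' ⊗[A] A'', algebraMap (A' ⊗[A] A'') r.ResidueField z ∈ φ.toRingHom.fieldRange by
    obtain ⟨a, b, hb, rfl⟩ := IsFractionRing.div_surjective ((A' ⊗[A] A'') ⧸ r) y
    obtain ⟨a, rfl⟩ := Ideal.Quotient.mk_surjective a
    obtain ⟨b, rfl⟩ := Ideal.Quotient.mk_surjective b
    rw [Ideal.algebraMap_quotient_residueField_mk, Ideal.algebraMap_quotient_residueField_mk]
    exact Subfield.div_mem _ (hz a) (hz b)
  intro z
  induction z using TensorProduct.induction_on with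
  | zero => rw [map_zero]; exact zero_mem _
  | add s t hs ht => rw [map_add]; exact add_mem hs ht
  | tmul a c =>
    rw [show a ⊗ₜ[A] c = algebraMap A' (A' ⊗[A] A'') a * (1 : A') ⊗ₜ[A] c by
      rw [Algebra.TensorProduct.algebraMap_apply, Algebra.TensorProduct.tmul_mul_tmul, mul_one, one_mul,
        Algebra.algebraMap_self, RingHom.id_apply], map_mul]
    refine mul_mem ⟨algebraMap A' p'.ResidueField a, φ.commutes a⟩ ?_
    obtain ⟨a₀, b₀, hb₀, hm⟩ := exists_mul_sub_mem h'' c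
    rw [← hr'', Ideal.mem_comap] at hm
    have hm' : algebraMap (A' ⊗[A] A'') r.ResidueField ((1 : A') ⊗ₜ[A] (algebraMap A A'' b₀ * c - algebraMap A A'' a₀)) = 0 :=
      Ideal.algebraMap_residueField_eq_zero.2 hm
    have e : ∀ x : A, (1 : A') ⊗ₜ[A] algebraMap A A'' x = algebraMap A' (A' ⊗[A] A'') (algebraMap A A' x) := fun x => by
      rw [← IsScalarTower.algebraMap_apply A A' (A' ⊗[A] A''), Algebra.TensorProduct.algebraMap_apply,
        Algebra.algebraMap_eq_smul_one, Algebra.algebraMap_eq_smul_one, TensorProduct.smul_tmul]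
    rw [TensorProduct.tmul_sub, ← one_mul (1 : A'), ← Algebra.TensorProduct.tmul_mul_tmul, map_sub, map_mul, one_mul,
      sub_eq_zero, e, e] at hm'
    have hb : algebraMap (A' ⊗[A] A'') r.ResidueField (algebraMap A' (A' ⊗[A] A'') (algebraMap A A' b₀)) ≠ 0 := fun h0 => by
      rw [Ideal.algebraMap_residueField_eq_zero, ← Ideal.mem_comap, hr'] at h0
      exact hb₀ ((SetLike.ext_iff.1 h'.2.1.over b₀).2 h0)
    have hmem : ∀ x : A', algebraMap (A' ⊗[A] A'') r.ResidueField (algebraMap A' (A' ⊗[A] A'') x) ∈ φ.toRingHom.fieldRange :=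
      fun x => ⟨algebraMap A' p'.ResidueField x, φ.commutes x⟩
    rw [show algebraMap (A' ⊗[A] A'') r.ResidueField ((1 : A') ⊗ₜ[A] c) =
      algebraMap (A' ⊗[A] A'') r.ResidueField (algebraMap A' (A' ⊗[A] A'') (algebraMap A A' a₀)) /
        algebraMap (A' ⊗[A] A'') r.ResidueField (algebraMap A' (A' ⊗[A] A'') (algebraMap A A' b₀)) from by
      rw [eq_div_iff hb, mul_comm, hm']]
    exact Subfield.div_mem _ (hmem _) (hmem _)

/-- Through the cover, over the refinement. -/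
theorem specializes_cover_step {A' A₃ BA B₃ B' C₃ : Type u} [CommRing A'] [CommRing A₃] [CommRing BA] [CommRing B₃]
    [CommRing B'] [CommRing C₃] [Algebra A' A₃] [Algebra BA B₃] [Algebra A' B'] [Algebra BA B'] [Algebra B₃ C₃]
    [Algebra B' C₃] [Algebra BA C₃] [IsScalarTower BA B₃ C₃] [IsScalarTower BA B' C₃]
    [Algebra A₃ B₃] [Algebra A₃ C₃] [Algebra A' C₃] [IsScalarTower A₃ B₃ C₃] [IsScalarTower A' B' C₃] [IsScalarTower A' A₃ C₃]
    [Algebra.IsPushout A' B' A₃ C₃] [Algebra.FiniteType A₃ B₃] [Algebra.FiniteType A₃ C₃] [Module.Flat B₃ C₃]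
    {NA : Type u} [AddCommGroup NA] [Module BA NA]
    {N₃ : Type u} [AddCommGroup N₃] [Module B₃ N₃] [Module A₃ N₃] [IsScalarTower A₃ B₃ N₃] [Module BA N₃] [IsScalarTower BA B₃ N₃]
    (gA : NA →ₗ[BA] N₃) (hgA : IsBaseChange B₃ gA)
    {N' : Type u} [AddCommGroup N'] [Module B' N'] [Module A' N'] [IsScalarTower A' B' N'] [Module BA N'] [IsScalarTower BA B' N']
    (f' : NA →ₗ[BA] N') (hf' : IsBaseChange B' f')
    {M₃ : Type u} [AddCommGroup M₃] [Module C₃ M₃] [Module B₃ M₃] [IsScalarTower B₃ C₃ M₃] [Module A₃ M₃]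
    [IsScalarTower A₃ C₃ M₃] [Module BA M₃] [IsScalarTower BA B₃ M₃] [IsScalarTower BA C₃ M₃] [Module B' M₃]
    [IsScalarTower B' C₃ M₃] [IsScalarTower BA B' M₃]
    (h₃ : N₃ →ₗ[B₃] M₃) (hh₃ : IsBaseChange C₃ h₃)
    {p' : Ideal A'} [p'.IsPrime] (hpure : FlatCA.IsPureAlong A' B' N' p')
    {r : Ideal A₃} [r.IsPrime] (hr : FlatCA.IsEtaleNhd A' A₃ p' r) (t₃ : Ideal A₃) [t₃.IsPrime] (ht₃r : t₃ ≤ r)
    (P₃ : Ideal B₃) [P₃.IsPrime] [P₃.LiesOver t₃]
    (hass₃ : FlatCA.fiberIdeal t₃ P₃ ∈ associatedPrimes (t₃.Fiber B₃) (FlatCA.fiberMod t₃ B₃ N₃))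
    (R : Ideal C₃) [R.IsPrime] (hRP : R.comap (algebraMap B₃ C₃) = P₃) :
    ∃ U : Ideal B₃, U.IsPrime ∧ P₃ ≤ U ∧ U.LiesOver r := by
  obtain ⟨Q₃, hQ₃, -, hQ₃P, hQ₃t, hQ₃ass⟩ := exists_assoc_above N₃ M₃ h₃ hh₃ t₃ P₃ hass₃ R hRP
  haveI := hQ₃
  let k₃ : N' →ₗ[B'] M₃ := hf'.lift (h₃.restrictScalars BA ∘ₗ gA)
  have hk₃ : IsBaseChange C₃ k₃ := IsBaseChange.of_comp hf' (by rw [hf'.lift_comp]; exact hgA.comp hh₃)
  obtain ⟨U, hU, hle, hUr⟩ := assoc_specializes_of_pure hpure hr k₃ hk₃ t₃ ht₃r Q₃ hQ₃t hQ₃ass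
  haveI := hU
  refine ⟨U.comap (algebraMap B₃ C₃), inferInstance, hQ₃P.ge.trans (Ideal.comap_mono hle), ⟨?_⟩⟩
  rw [Ideal.under_def, Ideal.comap_comap, ← IsScalarTower.algebraMap_eq A₃ B₃ C₃]
  exact hUr.over

/-- A point of the relative assassin over the refinement, seen in the image of the cover, specialises. -/
theorem specializes_of_image {A' A₃ BA B₃ B' : Type u} [CommRing A'] [CommRing A₃] [CommRing BA] [CommRing B₃]
    [CommRing B'] [Algebra A' A₃] [Algebra A' BA] [Algebra BA B₃] [Algebra A₃ B₃] [Algebra A' B₃]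
    [IsScalarTower A' BA B₃] [IsScalarTower A' A₃ B₃] [Algebra.IsPushout A' BA A₃ B₃]
    [Algebra A' B'] [Algebra BA B'] [IsScalarTower A' BA B'] [Algebra.Etale BA B'] [Algebra.FiniteType A₃ B₃]
    {NA : Type u} [AddCommGroup NA] [Module BA NA]
    {N₃ : Type u} [AddCommGroup N₃] [Module B₃ N₃] [Module A₃ N₃] [IsScalarTower A₃ B₃ N₃] [Module BA N₃] [IsScalarTower BA B₃ N₃]
    (gA : NA →ₗ[BA] N₃) (hgA : IsBaseChange B₃ gA)
    {N' : Type u} [AddCommGroup N'] [Module B' N'] [Module A' N'] [IsScalarTower A' B' N'] [Module BA N'] [IsScalarTower BA B' N']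
    (f' : NA →ₗ[BA] N') (hf' : IsBaseChange B' f')
    {p' : Ideal A'} [p'.IsPrime] (hpure : FlatCA.IsPureAlong A' B' N' p')
    {r : Ideal A₃} [r.IsPrime] (hr : FlatCA.IsEtaleNhd A' A₃ p' r) (t₃ : Ideal A₃) [t₃.IsPrime] (ht₃r : t₃ ≤ r)
    (P₃ : Ideal B₃) [P₃.IsPrime] [P₃.LiesOver t₃]
    (hass₃ : FlatCA.fiberIdeal t₃ P₃ ∈ associatedPrimes (t₃.Fiber B₃) (FlatCA.fiberMod t₃ B₃ N₃))
    (Q' : Ideal B') [Q'.IsPrime] (hQ' : Q'.comap (algebraMap BA B') = P₃.comap (algebraMap BA B₃)) :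
    ∃ U : Ideal B₃, U.IsPrime ∧ P₃ ≤ U ∧ U.LiesOver r := by
  obtain ⟨R, hR, hRP⟩ := exists_prime_tensor_left B₃ B' P₃ Q' hQ'
  haveI := hR
  let C₃ := B₃ ⊗[BA] B'
  haveI : Algebra.Etale B₃ C₃ := inferInstance
  haveI : Algebra.FiniteType A₃ C₃ := Algebra.FiniteType.trans (inferInstance : Algebra.FiniteType A₃ B₃)
    (inferInstance : Algebra.FiniteType B₃ C₃)
  haveI : IsScalarTower A' B' C₃ := IsScalarTower.of_algebraMap_eq (R := A') (S := B') (A := C₃) fun a => by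
    rw [IsScalarTower.algebraMap_apply A' BA B', ← IsScalarTower.algebraMap_apply BA B' C₃,
      IsScalarTower.algebraMap_apply BA B₃ C₃, ← IsScalarTower.algebraMap_apply A' BA B₃]
    rfl
  haveI : IsScalarTower A' A₃ C₃ := IsScalarTower.of_algebraMap_eq (R := A') (S := A₃) (A := C₃) fun a => by
    rw [IsScalarTower.algebraMap_apply A₃ B₃ C₃, ← IsScalarTower.algebraMap_apply A' A₃ B₃]
    rfl
  haveI hpoC : Algebra.IsPushout A' B' A₃ C₃ := by
    haveI : Algebra.IsPushout BA B₃ B' C₃ := inferInstance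
    exact (Algebra.IsPushout.comp_iff A' BA A₃ B₃ (T := B') (T' := C₃)).2 (Algebra.IsPushout.symm inferInstance)
  let M₃ := C₃ ⊗[B₃] N₃
  haveI : IsScalarTower A₃ C₃ M₃ := inferInstance
  letI : Module B' M₃ := Module.compHom M₃ (algebraMap B' C₃)
  haveI : IsScalarTower B' C₃ M₃ := IsScalarTower.of_algebraMap_smul fun _ _ => rfl
  haveI : IsScalarTower BA C₃ M₃ := inferInstance
  haveI : IsScalarTower BA B₃ M₃ := IsScalarTower.of_algebraMap_smul fun b z => by
    rw [← algebraMap_smul C₃ (algebraMap BA B₃ b) z, ← IsScalarTower.algebraMap_apply BA B₃ C₃]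
    exact IsScalarTower.algebraMap_smul C₃ b z
  haveI : IsScalarTower BA B' M₃ := IsScalarTower.of_algebraMap_smul fun b z => by
    rw [← algebraMap_smul C₃ (algebraMap BA B' b) z, ← IsScalarTower.algebraMap_apply BA B' C₃]
    exact IsScalarTower.algebraMap_smul C₃ b z
  exact specializes_cover_step gA hgA f' hf' (TensorProduct.mk B₃ C₃ N₃ 1) (TensorProduct.isBaseChange B₃ N₃ C₃)
    hpure hr t₃ ht₃r P₃ hass₃ R hRP

/-- A refinement of two étale neighbourhoods, with a point below. -/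
theorem exists_refinement {A A' A₁ : Type u} [CommRing A] [CommRing A'] [CommRing A₁] [Algebra A A'] [Algebra A A₁]
    {p : Ideal A} [p.IsPrime] {p' : Ideal A'} [p'.IsPrime] {t₁' t₁ : Ideal A₁} [t₁'.IsPrime] [t₁.IsPrime]
    (het : FlatCA.IsEtaleNhd A A' p p') (het₁ : FlatCA.IsEtaleNhd A A₁ p t₁) (htt : t₁' ≤ t₁) :
    ∃ (A₃ : Type u) (_ : CommRing A₃) (_ : Algebra A A₃) (_ : Algebra A' A₃) (_ : IsScalarTower A A' A₃)
      (_ : Algebra A₁ A₃) (_ : IsScalarTower A A₁ A₃) (r : Ideal A₃) (_ : r.IsPrime) (t₃ : Ideal A₃) (_ : t₃.IsPrime),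
      FlatCA.IsEtaleNhd A' A₃ p' r ∧ t₃.LiesOver t₁' ∧ t₃ ≤ r ∧ r.comap (algebraMap A₁ A₃) = t₁ := by
  haveI := het.1; haveI := het₁.1
  obtain ⟨r, _, hr₁, hr⟩ := exists_isEtaleNhd_tensor het het₁
  haveI : r.LiesOver t₁ := ⟨hr₁.symm⟩
  haveI : Module.Flat A₁ (A' ⊗[A] A₁) := by
    haveI : Algebra.IsPushout A A₁ A' (A' ⊗[A] A₁) := inferInstance
    exact Module.Flat.of_linearEquiv (Algebra.IsPushout.equiv A A₁ A' (A' ⊗[A] A₁)).toLinearEquiv.symm
  obtain ⟨t₃, ht₃r, ht₃, ht₃l⟩ := Ideal.exists_ideal_le_liesOver_of_le (p := t₁') (q := t₁) r htt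
  exact ⟨A' ⊗[A] A₁, inferInstance, inferInstance, inferInstance, inferInstance, inferInstance, inferInstance,
    r, inferInstance, t₃, ht₃, hr, ht₃l, ht₃r, hr₁⟩

/-- Towers on the refined module. -/
theorem chart_tower (R Y S M : Type u) [CommRing R] [CommRing Y] [CommRing S] [Algebra R Y] [Algebra R S]
    [AddCommGroup M] [Module Y M] [Module R M] [IsScalarTower R Y M] : IsScalarTower R S ((Y ⊗[R] S) ⊗[Y] M) := by
  refine IsScalarTower.of_algebraMap_smul fun a z => ?_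
  rw [← algebraMap_smul (Y ⊗[R] S) (algebraMap R S a) z, ← IsScalarTower.algebraMap_apply R S (Y ⊗[R] S)]
  exact IsScalarTower.algebraMap_smul (Y ⊗[R] S) a z

/-- One chart: over a refinement of the two neighbourhoods. -/
theorem specializes_of_chart {A B : Type u} [CommRing A] [CommRing B] [Algebra A B]
    (N : Type u) [AddCommGroup N] [Module B N]
    {A' : Type u} [CommRing A'] [Algebra A A'] {p' : Ideal A'} [p'.IsPrime]
    {B' : Type u} [CommRing B'] [Algebra A' B']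
    {BA : Type u} [CommRing BA] [Algebra B BA] [Algebra A' BA] [Algebra A BA] [IsScalarTower A B BA] [IsScalarTower A A' BA]
    [Algebra.IsPushout A B A' BA] [Algebra.FiniteType A' BA] [Algebra BA B'] [IsScalarTower A' BA B'] [Algebra.Etale BA B']
    {NA : Type u} [AddCommGroup NA] [Module BA NA] [Module B NA] [IsScalarTower B BA NA] [Module A' NA] [IsScalarTower A' BA NA]
    (fA : N →ₗ[B] NA) (hfA : IsBaseChange BA fA)
    {N' : Type u} [AddCommGroup N'] [Module B' N'] [Module A' N'] [IsScalarTower A' B' N'] [Module BA N'] [IsScalarTower BA B' N']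
    (f' : NA →ₗ[BA] N') (hf' : IsBaseChange B' f') (hpure : FlatCA.IsPureAlong A' B' N' p')
    (hQ : ∀ (t' : Ideal A') [t'.IsPrime], t' ≤ p' → ∀ (Q : Ideal BA) [Q.IsPrime], Q.LiesOver t' →
      FlatCA.fiberIdeal t' Q ∈ associatedPrimes (t'.Fiber BA) (FlatCA.fiberMod t' BA NA) →
      ∃ Q' : Ideal B', Q'.IsPrime ∧ Q'.comap (algebraMap BA B') = Q)
    {A₁ B₁ N₁ : Type u} [CommRing A₁] [CommRing B₁] [Algebra A A₁] [Algebra B B₁] [Algebra A₁ B₁] [Algebra A B₁]
    [IsScalarTower A B B₁] [IsScalarTower A A₁ B₁] [Algebra.IsPushout A B A₁ B₁]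
    [AddCommGroup N₁] [Module B₁ N₁] [Module B N₁] [IsScalarTower B B₁ N₁] [Module A₁ N₁] [IsScalarTower A₁ B₁ N₁]
    (f₁ : N →ₗ[B] N₁) (hf₁ : IsBaseChange B₁ f₁) {t₁' : Ideal A₁} [t₁'.IsPrime] (P : Ideal B₁) [P.IsPrime]
    (hass : FlatCA.fiberIdeal t₁' P ∈ associatedPrimes (t₁'.Fiber B₁) (FlatCA.fiberMod t₁' B₁ N₁))
    {A₃ : Type u} [CommRing A₃] [Algebra A A₃] [Algebra A' A₃] [IsScalarTower A A' A₃] [Algebra A₁ A₃] [IsScalarTower A A₁ A₃]
    {r : Ideal A₃} [r.IsPrime] (hr : FlatCA.IsEtaleNhd A' A₃ p' r) (t₃ : Ideal A₃) [t₃.IsPrime] [t₃.LiesOver t₁'] (ht₃r : t₃ ≤ r)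
    {B₃ : Type u} [CommRing B₃] [Algebra A₁ B₃] [Algebra B₁ B₃] [Algebra A₃ B₃] [Algebra A B₃] [Algebra B B₃]
    [IsScalarTower A₁ B₁ B₃] [IsScalarTower A₁ A₃ B₃] [IsScalarTower A A₁ B₃] [IsScalarTower B B₁ B₃]
    [Algebra.IsPushout A₁ B₁ A₃ B₃] [Algebra.FiniteType A₃ B₃]
    {N₃ : Type u} [AddCommGroup N₃] [Module B₃ N₃] [Module B₁ N₃] [IsScalarTower B₁ B₃ N₃] [Module B N₃] [IsScalarTower B B₃ N₃]
    [IsScalarTower B B₁ N₃] [Module A₁ N₃] [IsScalarTower A₁ B₁ N₃] [Module A₃ N₃] [IsScalarTower A₃ B₃ N₃] [IsScalarTower A₁ A₃ N₃]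
    (g₁ : N₁ →ₗ[B₁] N₃) (hg₁ : IsBaseChange B₃ g₁) :
    ∃ U : Ideal B₁, U.IsPrime ∧ P ≤ U ∧ U.LiesOver (r.comap (algebraMap A₁ A₃)) := by
  haveI : IsScalarTower A B₁ B₃ := IsScalarTower.of_algebraMap_eq (R := A) (S := B₁) (A := B₃) fun a => by
    rw [IsScalarTower.algebraMap_apply A A₁ B₁, ← IsScalarTower.algebraMap_apply A₁ B₁ B₃,
      ← IsScalarTower.algebraMap_apply A A₁ B₃]
  haveI : IsScalarTower A B B₃ := IsScalarTower.of_algebraMap_eq (R := A) (S := B) (A := B₃) fun a => by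
    rw [IsScalarTower.algebraMap_apply A A₁ B₃, IsScalarTower.algebraMap_apply A₁ B₁ B₃,
      ← IsScalarTower.algebraMap_apply A A₁ B₁, IsScalarTower.algebraMap_apply A B B₁,
      ← IsScalarTower.algebraMap_apply B B₁ B₃]
  haveI : Algebra.IsPushout A₁ A₃ B₁ B₃ := Algebra.IsPushout.symm inferInstance
  haveI : IsScalarTower A A₃ B₃ := IsScalarTower.of_algebraMap_eq (R := A) (S := A₃) (A := B₃) fun a => by
    rw [IsScalarTower.algebraMap_apply A A₁ B₃, IsScalarTower.algebraMap_apply A A₁ A₃,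
      ← IsScalarTower.algebraMap_apply A₁ A₃ B₃]
  haveI : Algebra.IsPushout A B A₃ B₃ := by
    haveI : Algebra.IsPushout A A₁ B B₁ := Algebra.IsPushout.symm inferInstance
    exact ((Algebra.IsPushout.comp_iff A A₁ B B₁ (T := A₃) (T' := B₃)).2 inferInstance).symm
  letI : Algebra A' B₃ := ((algebraMap A₃ B₃).comp (algebraMap A' A₃)).toAlgebra
  haveI : IsScalarTower A' A₃ B₃ := IsScalarTower.of_algebraMap_eq' rfl
  haveI : IsScalarTower A A' B₃ := IsScalarTower.of_algebraMap_eq (R := A) (S := A') (A := B₃) fun a => by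
    rw [IsScalarTower.algebraMap_apply A' A₃ B₃, ← IsScalarTower.algebraMap_apply A A' A₃,
      ← IsScalarTower.algebraMap_apply A A₃ B₃]
  let ψ : BA →ₐ[A] B₃ := Algebra.pushoutDesc (R := A) (S := B) (R' := A') BA
    (IsScalarTower.toAlgHom A B B₃) (IsScalarTower.toAlgHom A A' B₃) fun _ _ => mul_comm _ _
  letI : Algebra BA B₃ := ψ.toRingHom.toAlgebra
  haveI : IsScalarTower B BA B₃ := IsScalarTower.of_algebraMap_eq (R := B) (S := BA) (A := B₃) fun b => by
    show _ = ψ (algebraMap B BA b)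
    simp only [ψ, Algebra.pushoutDesc_left]
    rfl
  haveI : IsScalarTower A' BA B₃ := IsScalarTower.of_algebraMap_eq (R := A') (S := BA) (A := B₃) fun a => by
    show _ = ψ (algebraMap A' BA a)
    simp only [ψ, Algebra.pushoutDesc_right]
    rfl
  haveI : IsScalarTower A BA B₃ := IsScalarTower.of_algebraMap_eq (R := A) (S := BA) (A := B₃) fun a =>
    (ψ.commutes a).symm
  haveI : Algebra.IsPushout A A' B BA := Algebra.IsPushout.symm inferInstance
  haveI : Algebra.IsPushout A A₃ B B₃ := Algebra.IsPushout.symm inferInstance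
  haveI hpo₃ : Algebra.IsPushout A' A₃ BA B₃ := (Algebra.IsPushout.comp_iff A A' B BA (T := A₃) (T' := B₃)).1 inferInstance
  obtain ⟨P₃, _, hPP₃, hP₃t, hass₃⟩ := PurityBC.exists_assoc_over (A := A₁) (A' := A₃) (B' := B₃) g₁
    (isBaseChange_restrict g₁ hg₁) t₁' t₃ P hass
  haveI := hP₃t
  letI : Module BA N₃ := Module.compHom N₃ (algebraMap BA B₃)
  haveI : IsScalarTower BA B₃ N₃ := IsScalarTower.of_algebraMap_smul fun _ _ => rfl
  haveI : IsScalarTower B BA N₃ := IsScalarTower.to₁₂₄ B BA B₃ N₃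
  letI : Module A' N₃ := Module.compHom N₃ (algebraMap A' A₃)
  haveI : IsScalarTower A' A₃ N₃ := IsScalarTower.of_algebraMap_smul fun _ _ => rfl
  haveI : IsScalarTower A' BA N₃ := IsScalarTower.of_algebraMap_smul fun a z => by
    rw [← algebraMap_smul B₃ (algebraMap A' BA a) z, ← IsScalarTower.algebraMap_apply A' BA B₃,
      IsScalarTower.algebraMap_apply A' A₃ B₃, algebraMap_smul]
    rfl
  have hN₃ : IsBaseChange B₃ (g₁.restrictScalars B ∘ₗ f₁) := hf₁.comp hg₁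
  let gA : NA →ₗ[BA] N₃ := hfA.lift (g₁.restrictScalars B ∘ₗ f₁)
  have hgA : IsBaseChange B₃ gA := IsBaseChange.of_comp hfA (by rw [hfA.lift_comp]; exact hN₃)
  let t' := t₃.comap (algebraMap A' A₃)
  haveI : Algebra.IsPushout A' BA A₃ B₃ := hpo₃.symm
  haveI : t'.IsPrime := inferInstance
  haveI : t₃.LiesOver t' := ⟨rfl⟩
  obtain ⟨hQl, hQass⟩ := PurityQF.assoc_contract (A := A') (C := A₃) gA (isBaseChange_restrict gA hgA) t' t₃ P₃ hass₃
  obtain ⟨Q', hQ', hQ'Q⟩ := hQ t' ((Ideal.comap_mono ht₃r).trans hr.2.1.over.ge) (P₃.comap (algebraMap BA B₃)) hQl hQass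
  haveI := hQ'
  obtain ⟨U, hU, hle, hUr⟩ := specializes_of_image gA hgA f' hf' hpure hr t₃ ht₃r P₃ hass₃ Q' hQ'Q
  haveI := hU
  refine ⟨U.comap (algebraMap B₁ B₃), inferInstance, hPP₃.trans (Ideal.comap_mono hle), ⟨?_⟩⟩
  rw [Ideal.under_def, Ideal.comap_comap, ← IsScalarTower.algebraMap_eq A₁ B₁ B₃, IsScalarTower.algebraMap_eq A₁ A₃ B₃,
    ← Ideal.comap_comap, ← Ideal.under_def (A := A₃) U, ← hUr.over]

/-- An impurity cannot lie above the image of a pure étale cover. -/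
theorem pure_of_image {A B : Type u} [CommRing A] [CommRing B] [Algebra A B] [Algebra.FiniteType A B]
    (N : Type u) [AddCommGroup N] [Module B N] [Module A N] [IsScalarTower A B N] [Module.Finite B N] (p : Ideal A) [p.IsPrime]
    {A' : Type u} [CommRing A'] [Algebra A A'] (p' : Ideal A') [p'.IsPrime] (het : FlatCA.IsEtaleNhd A A' p p')
    {B' : Type u} [CommRing B'] [Algebra A' B'] [Algebra.FiniteType A' B']
    {BA : Type u} [CommRing BA] [Algebra B BA] [Algebra A' BA] [Algebra A BA] [IsScalarTower A B BA] [IsScalarTower A A' BA]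
    [Algebra.IsPushout A B A' BA] [Algebra BA B'] [IsScalarTower A' BA B'] [Algebra.Etale BA B']
    {NA : Type u} [AddCommGroup NA] [Module BA NA] [Module B NA] [IsScalarTower B BA NA] [Module A' NA] [IsScalarTower A' BA NA]
    (fA : N →ₗ[B] NA) (hfA : IsBaseChange BA fA)
    {N' : Type u} [AddCommGroup N'] [Module B' N'] [Module A' N'] [IsScalarTower A' B' N'] [Module BA N'] [IsScalarTower BA B' N']
    (f' : NA →ₗ[BA] N') (hf' : IsBaseChange B' f') (hpure : FlatCA.IsPureAlong A' B' N' p')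
    (hQ : ∀ (t' : Ideal A') [t'.IsPrime], t' ≤ p' → ∀ (Q : Ideal BA) [Q.IsPrime], Q.LiesOver t' →
      FlatCA.fiberIdeal t' Q ∈ associatedPrimes (t'.Fiber BA) (FlatCA.fiberMod t' BA NA) →
      ∃ Q' : Ideal B', Q'.IsPrime ∧ Q'.comap (algebraMap BA B') = Q) :
    FlatCA.IsPureAlong A B N p := by
  intro A₁ B₁ N₁ _ _ _ _ _ _ _ _ _ _ _ _ _ _ f₁ t₁' t₁ _ _ P _ het₁ himp
  obtain ⟨hpo, hf₁, htt, -, hPt, hass, hno⟩ := himp
  haveI := hpo; haveI := hPt
  obtain ⟨A₃, _, _, _, _, _, _, r, _, t₃, _, hr, ht₃l, ht₃r, hr₁⟩ := exists_refinement het het₁ htt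
  haveI := ht₃l
  haveI : Algebra.FiniteType A₁ B₁ := PurityBC.finiteType_of_isPushout A B A₁ B₁
  haveI : Algebra.FiniteType A' BA := PurityBC.finiteType_of_isPushout A B A' BA
  haveI : Algebra.IsPushout A₁ B₁ A₃ (B₁ ⊗[A₁] A₃) := inferInstance
  haveI : Algebra.FiniteType A₃ (B₁ ⊗[A₁] A₃) := PurityBC.finiteType_of_isPushout A₁ B₁ A₃ _
  haveI : IsScalarTower A₁ A₃ ((B₁ ⊗[A₁] A₃) ⊗[B₁] N₁) := chart_tower A₁ B₁ A₃ N₁
  obtain ⟨U, hU, hle, hUl⟩ := specializes_of_chart (A := A) (B := B) (A₃ := A₃) (B₃ := B₁ ⊗[A₁] A₃) (N₃ := (B₁ ⊗[A₁] A₃) ⊗[B₁] N₁) N fA hfA f' hf' hpure hQ f₁ hf₁ P hass hr t₃ ht₃r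
    (TensorProduct.mk B₁ (B₁ ⊗[A₁] A₃) N₁ 1) (TensorProduct.isBaseChange B₁ N₁ _)
  exact hno U hle ⟨hr₁.symm.trans hUl.over⟩

/-- Purity forces the points of the relative assassin into the image of a cover of the fibre. -/
theorem image_of_pure {A B : Type u} [CommRing A] [CommRing B] [Algebra A B] [Algebra.FiniteType A B]
    {N : Type u} [AddCommGroup N] [Module B N] [Module A N] [IsScalarTower A B N] [Module.Finite B N] {p : Ideal A} [p.IsPrime]
    (hflat : ∀ (q : Ideal B) [q.IsPrime], q.LiesOver p → FlatCA.FlatAt A q N) (hpure : FlatCA.IsPureAlong A B N p)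
    {A' : Type u} [CommRing A'] [Algebra A A'] {p' : Ideal A'} [p'.IsPrime] (het : FlatCA.IsEtaleNhd A A' p p')
    {B' : Type u} [CommRing B'] [Algebra A' B'] [Algebra B B']
    (hcov : ∀ (q : Ideal B) [q.IsPrime], q.LiesOver p →
      FlatCA.fiberIdeal p q ∈ associatedPrimes (p.Fiber B) (FlatCA.fiberMod p B N) →
      ∃ q' : Ideal B', q'.IsPrime ∧ q'.comap (algebraMap B B') = q ∧ q'.comap (algebraMap A' B') = p')
    {BA : Type u} [CommRing BA] [Algebra B BA] [Algebra A' BA] [Algebra A BA] [IsScalarTower A B BA] [IsScalarTower A A' BA]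
    [Algebra.IsPushout A B A' BA] [Algebra BA B'] [IsScalarTower B BA B'] [IsScalarTower A' BA B'] [Module.Flat BA B']
    {NA : Type u} [AddCommGroup NA] [Module BA NA] [Module B NA] [IsScalarTower B BA NA] [Module A' NA] [IsScalarTower A' BA NA]
    (fA : N →ₗ[B] NA) (hfA : IsBaseChange BA fA)
    (t' : Ideal A') [t'.IsPrime] (htp : t' ≤ p') (Q : Ideal BA) [Q.IsPrime] (hQt : Q.LiesOver t')
    (hass : FlatCA.fiberIdeal t' Q ∈ associatedPrimes (t'.Fiber BA) (FlatCA.fiberMod t' BA NA)) :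
    ∃ Q' : Ideal B', Q'.IsPrime ∧ Q'.comap (algebraMap BA B') = Q := by
  haveI := hQt
  haveI := het.1
  haveI := het.2.1
  haveI : Algebra.FiniteType A' BA := PurityBC.finiteType_of_isPushout A B A' BA
  haveI : Module.Finite BA NA := Module.Finite.equiv hfA.equiv
  haveI : Algebra.IsPushout A A' B BA := Algebra.IsPushout.symm inferInstance
  letI : Module A NA := Module.compHom NA (algebraMap A A')
  haveI : IsScalarTower A A' NA := IsScalarTower.of_algebraMap_smul fun _ _ => rfl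
  haveI : IsScalarTower A BA NA := IsScalarTower.of_algebraMap_smul fun a z => by
    rw [IsScalarTower.algebraMap_apply A A' BA, algebraMap_smul]
    rfl
  haveI : IsScalarTower A B NA := IsScalarTower.of_algebraMap_smul fun a z => by
    rw [← algebraMap_smul BA (algebraMap A B a) z, ← IsScalarTower.algebraMap_apply A B BA, algebraMap_smul]
  have hflatA : ∀ (Q₀ : Ideal BA) [Q₀.IsPrime], Q₀.LiesOver p' → FlatCA.FlatAt A' Q₀ NA := by
    intro Q₀ _ hQ₀
    let q := Q₀.comap (algebraMap B BA)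
    haveI : Q₀.LiesOver q := ⟨rfl⟩
    haveI hql : q.LiesOver p := ⟨by
      rw [Ideal.under_def, Ideal.comap_comap, ← IsScalarTower.algebraMap_eq A B BA, IsScalarTower.algebraMap_eq A A' BA,
        ← Ideal.comap_comap, ← Ideal.under_def (A := A') Q₀, ← hQ₀.over]
      exact het.2.1.over⟩
    haveI : Algebra.IsPushout A A' B BA := inferInstance
    haveI : Algebra.Etale B BA := Algebra.Etale.of_equiv (Algebra.IsPushout.equiv A B A' BA)
    have h1 : FlatCA.FlatAt A Q₀ (BA ⊗[B] N) :=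
      flat_localized_baseChange (W := q.primeCompl) (V := Q₀.primeCompl) (fun w hw hw' => hw hw') (hflat q hql)
    have h2 : FlatCA.FlatAt A Q₀ NA := flatAt_congr Q₀ hfA.equiv h1
    exact (Groth.Agent.S1231.result (R := A) (T := A') (C := BA) NA Q₀).1.1 h2
  obtain ⟨Q₀, hQ₀, hle₀, hQ₀p⟩ := assoc_specializes_of_pure hpure het fA hfA t' htp Q hQt hass
  obtain ⟨Q₁, _, hle, hQ₁p, hQ₁⟩ := Groth.Agent.S1221.result (A := A') (B := BA) NA p' hflatA t' htp Q hass
    ⟨Q₀, hQ₀, hle₀, hQ₀p⟩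
  haveI := hQ₁p
  obtain ⟨hql, hqass⟩ := PurityQF.assoc_contract (A := A) (C := A') fA (isBaseChange_restrict fA hfA) p p' Q₁ hQ₁
  obtain ⟨q', hq', hq'q, hq'p⟩ := hcov (Q₁.comap (algebraMap B BA)) hql hqass
  haveI := hq'; haveI := hql
  haveI : Q₁.LiesOver (Q₁.comap (algebraMap B BA)) := ⟨rfl⟩
  haveI : (q'.comap (algebraMap BA B')).LiesOver (Q₁.comap (algebraMap B BA)) := ⟨by
    conv_rhs => rw [Ideal.under_def, Ideal.comap_comap, ← IsScalarTower.algebraMap_eq B BA B', hq'q]⟩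
  haveI : (q'.comap (algebraMap BA B')).LiesOver p' := ⟨by
    rw [Ideal.under_def, Ideal.comap_comap (g := algebraMap BA B'), ← IsScalarTower.algebraMap_eq A' BA B', hq'p]⟩
  have heq := eq_of_liesOver (R := A) (R' := A') (S := B) (S' := BA) p p' het.2.2
    (Q₁.comap (algebraMap B BA)) Q₁ (q'.comap (algebraMap BA B'))
  haveI : q'.LiesOver (q'.comap (algebraMap BA B')) := ⟨rfl⟩
  obtain ⟨y', -, hy', hy'Q⟩ := Ideal.exists_ideal_le_liesOver_of_le (p := Q) (q := q'.comap (algebraMap BA B')) q'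
    (hle.trans heq.le)
  exact ⟨y', hy', hy'Q.over.symm⟩

end Groth.Agent.RG
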