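import Groth.Agent.RG.Injective
import Groth.Agent.FlatModel.Open
import Groth.Prelude.Def_FlatCA
import Mathlib.RingTheory.Spectrum.Prime.Chevalley
import Mathlib.RingTheory.Flat.Localization
import Mathlib.RingTheory.LocalRing.Module

/-!
# Flatness at a point through a basis of the fibre at the generic point
-/

set_option autoImplicit false
set_option linter.style.haveILetI false
set_option linter.unusedSectionVars false
set_option backward.isDefEq.respectTransparency false
set_option maxHeartbeats 1000000
set_option synthInstance.maxHeartbeats 60000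

universe u

open TensorProduct IsLocalRing

namespace Groth.Agent.RG

/-- A finite module has a map from a free module that is bijective at a residue field. -/
theorem exists_fibre_basis {S : Type u} [CommRing S] (P : Ideal S) [P.IsPrime] (N : Type u) [AddCommGroup N]
    [Module S N] [Module.Finite S N] :
    ∃ (r : ℕ) (α : (Fin r → S) →ₗ[S] N), Function.Bijective (α.baseChange P.ResidueField) := by
  classical
  let v : N → P.ResidueField ⊗[S] N := fun n => 1 ⊗ₜ[S] n
  have hv : Submodule.span P.ResidueField (Set.range v) = ⊤ := by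
    refine eq_top_iff.2 fun y _ => ?_
    induction y using TensorProduct.induction_on with
    | zero => exact zero_mem _
    | add a b ha hb => exact add_mem (ha trivial) (hb trivial)
    | tmul t n =>
      rw [show t ⊗ₜ[S] n = t • v n by rw [TensorProduct.smul_tmul', smul_eq_mul, mul_one]]
      exact Submodule.smul_mem _ _ (Submodule.subset_span ⟨n, rfl⟩)
  obtain ⟨b, hb, hspan, hli⟩ := exists_linearIndependent P.ResidueField (Set.range v)
  haveI : Finite b := hli.finite
  obtain ⟨r, ⟨e⟩⟩ := Finite.exists_equiv_fin b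
  let B : Module.Basis (Fin r) P.ResidueField (P.ResidueField ⊗[S] N) :=
    (Module.Basis.mk hli (by rw [Subtype.range_coe, hspan, hv])).reindex e
  have hB : ∀ i, ∃ n, v n = B i := fun i => by
    rw [Module.Basis.reindex_apply, Module.Basis.mk_apply]
    exact hb (e.symm i).2
  choose n hn using hB
  refine ⟨r, Fintype.linearCombination S n, ?_⟩
  let c := Algebra.TensorProduct.basis P.ResidueField (Pi.basisFun S (Fin r))
  have h : (Fintype.linearCombination S n).baseChange P.ResidueField = (c.equiv B (Equiv.refl _)).toLinearMap :=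
    c.ext fun i => by
      rw [Algebra.TensorProduct.basis_apply, LinearMap.baseChange_tmul, Pi.basisFun_apply,
        Fintype.linearCombination_apply_single, one_smul, LinearEquiv.coe_coe]
      have h2 := c.equiv_apply i B (Equiv.refl _)
      rw [Algebra.TensorProduct.basis_apply, Pi.basisFun_apply] at h2
      exact (hn i).trans h2.symm
  rw [h]
  exact (c.equiv B (Equiv.refl _)).bijective

/-- Coordinates of the kernel of a map bijective at a residue field lie in the prime. -/
theorem mem_of_map_eq_zero {S : Type u} [CommRing S] (P : Ideal S) [P.IsPrime] {N : Type u} [AddCommGroup N]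
    [Module S N] {r : ℕ} (α : (Fin r → S) →ₗ[S] N) (hfib : Function.Bijective (α.baseChange P.ResidueField))
    {x : Fin r → S} (hx : α x = 0) (i : Fin r) : x i ∈ P := by
  classical
  have h1 : (1 : P.ResidueField) ⊗ₜ[S] x = 0 := hfib.1 (by rw [LinearMap.baseChange_tmul, hx, tmul_zero, map_zero])
  have h2 := congrArg (fun y => TensorProduct.piScalarRight S S P.ResidueField (Fin r) y i) h1
  simp only [TensorProduct.piScalarRight_apply, TensorProduct.piScalarRightHom_tmul, map_zero, Pi.zero_apply,
    Algebra.smul_def, mul_one] at h2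
  exact Ideal.algebraMap_residueField_eq_zero.1 h2

/-- A map surjective at a residue field is surjective at the prime. -/
theorem exists_smul_mem_range {S : Type u} [CommRing S] (P : Ideal S) [P.IsPrime] {N : Type u} [AddCommGroup N]
    [Module S N] [Module.Finite S N] {r : ℕ} (α : (Fin r → S) →ₗ[S] N)
    (hfib : Function.Bijective (α.baseChange P.ResidueField)) (n : N) : ∃ s ∉ P, s • n ∈ LinearMap.range α := by
  have hsurj : Function.Surjective ((LinearMap.range α).mkQ.baseChange P.ResidueField) :=
    LinearMap.lTensor_surjective P.ResidueField (Submodule.mkQ_surjective _)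
  have hsub : Subsingleton (P.ResidueField ⊗[S] (N ⧸ LinearMap.range α)) := by
    refine ⟨fun a b => ?_⟩
    suffices ∀ y, y = (0 : P.ResidueField ⊗[S] (N ⧸ LinearMap.range α)) by rw [this a, this b]
    intro y
    obtain ⟨y, rfl⟩ := hsurj y
    obtain ⟨w, rfl⟩ := hfib.2 y
    have h0 : (LinearMap.range α).mkQ ∘ₗ α = 0 := LinearMap.range_mkQ_comp α
    rw [← LinearMap.comp_apply, ← LinearMap.baseChange_comp, h0, LinearMap.baseChange_zero, LinearMap.zero_apply]
  have h := (Module.mem_support_iff_nontrivial_residueField_tensorProduct (R := S) (M := N ⧸ LinearMap.range α)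
    ⟨P, inferInstance⟩).not.2 (not_nontrivial_iff_subsingleton.2 hsub)
  obtain ⟨s, hs, hsn⟩ := Module.notMem_support_iff'.1 h ((LinearMap.range α).mkQ n)
  exact ⟨s, hs, (Submodule.Quotient.mk_eq_zero _).1 hsn⟩

section

variable {R S : Type u} [CommRing R] [CommRing S] [Algebra R S]

attribute [local instance] Algebra.TensorProduct.rightAlgebra in
/-- A flat algebra hitting the generic point of every fibre receives the algebra universally injectively. -/
theorem univInj_of_generic [Algebra.FinitePresentation R S] [Module.Flat R S] (hd : DomFib R S)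
    (T : Type u) [CommRing T] [Algebra S T] [Algebra R T] [IsScalarTower R S T] [Module.Flat S T]
    (hgen : ∀ (p : Ideal R) [p.IsPrime] (q : Ideal S) [q.IsPrime], q.LiesOver p →
      (∀ (Q : Ideal S) [Q.IsPrime], Q.LiesOver p → q ≤ Q) →
      ∃ Q' : Ideal T, Q'.IsPrime ∧ Q'.comap (algebraMap S T) = q) :
    FlatCA.UnivInj R (IsScalarTower.toAlgHom R S T).toLinearMap := by
  have key : FlatCA.UnivInj R ((TensorProduct.mk S T S 1).restrictScalars R) := by
    refine Groth.Agent.S1195.result S fun p q _ _ hqp hass => ?_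
    haveI : IsDomain (p.Fiber S) := hd p.ResidueField
    let e : FlatCA.fiberMod p S S ≃ₗ[p.Fiber S] p.Fiber S :=
      TensorProduct.AlgebraTensorModule.rid S (p.Fiber S) (p.Fiber S)
    rw [LinearEquiv.AssociatedPrimes.eq e] at hass
    have h0 : FlatCA.fiberIdeal p q = ⊥ := by
      obtain ⟨hp', x, hx⟩ := hass
      have hx0 : x ≠ 0 := by
        rintro rfl
        exact hp'.ne_top (by rw [hx]; simp)
      rw [hx, show Submodule.colon (⊥ : Submodule (p.Fiber S) (p.Fiber S)) {x} = ⊥ from ?_]
      · exact (Ideal.isPrime_bot : (⊥ : Ideal (p.Fiber S)).IsPrime).isRadical.radical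
      · ext r
        simp [Submodule.mem_colon_singleton, hx0]
    refine hgen p q hqp fun Q _ hQ => ?_
    obtain ⟨⟨Q₁, hQ₁⟩, hQ₁c⟩ := Groth.Agent.ZClosLib.NzdUnivInj.exists_prime_fiber p Q
    refine le_trans ?_ hQ₁c.le
    intro b hb
    have h1 := Ideal.mem_map_of_mem (Algebra.TensorProduct.includeRight (R := R) (A := p.ResidueField) (B := S)).toRingHom hb
    change _ ∈ FlatCA.fiberIdeal p q at h1
    rw [h0, Ideal.mem_bot] at h1
    rw [Ideal.mem_comap, h1]
    exact zero_mem _
  intro Q _ _
  let e : T ⊗[S] S ≃ₗ[R] T := (TensorProduct.rid S T).restrictScalars R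
  have he : (IsScalarTower.toAlgHom R S T).toLinearMap =
      e.toLinearMap ∘ₗ ((TensorProduct.mk S T S 1).restrictScalars R) := by
    refine LinearMap.ext fun s => ?_
    show algebraMap S T s = TensorProduct.rid S T ((1 : T) ⊗ₜ[S] s)
    rw [TensorProduct.rid_tmul, Algebra.smul_def, mul_one]
  rw [he, LinearMap.lTensor_comp]
  exact (LinearEquiv.lTensor Q e).injective.comp (key Q)

/-- Universal injectivity over an algebra gives it over the base. -/
theorem rTensor_injective_of_univInj {R' X Y : Type u} [CommRing R'] [Algebra R R'] [AddCommGroup X] [Module R' X]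
    [Module R X] [IsScalarTower R R' X] [AddCommGroup Y] [Module R' Y] [Module R Y] [IsScalarTower R R' Y]
    (g : X →ₗ[R'] Y) (h : FlatCA.UnivInj R' g) (Q : Type u) [AddCommGroup Q] [Module R Q] :
    Function.Injective ((g.restrictScalars R).rTensor Q) := by
  let eX := AlgebraTensorModule.cancelBaseChange R R' R' X Q
  let eY := AlgebraTensorModule.cancelBaseChange R R' R' Y Q
  have h1 : Function.Injective (g.rTensor (R' ⊗[R] Q)) := by
    intro a b hab
    apply (TensorProduct.comm R' X (R' ⊗[R] Q)).injective
    apply h (R' ⊗[R] Q)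
    rw [LinearMap.lTensor_comm, LinearMap.lTensor_comm, hab]
  have hc : ∀ y, (g.restrictScalars R).rTensor Q (eX y) = eY (g.rTensor (R' ⊗[R] Q) y) := by
    intro y
    induction y using TensorProduct.induction_on with
    | zero => simp
    | add a b ha hb => simp only [map_add, ha, hb]
    | tmul x z =>
      induction z using TensorProduct.induction_on with
      | zero => simp
      | add a b ha hb => simp only [tmul_add, map_add, ha, hb]
      | tmul a b => simp [eX, eY]
  intro a b hab
  obtain ⟨a, rfl⟩ := eX.surjective a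
  obtain ⟨b, rfl⟩ := eX.surjective b
  rw [hc, hc] at hab
  rw [h1 (eY.injective hab)]

/-- `exists_smul_tmul_eq_zero` with the localisations given. -/
theorem exists_smul_tmul_eq_zero_aux (M₀ : Submonoid R) {R' S' T : Type u} [CommRing R'] [Algebra R R']
    [IsLocalization M₀ R'] [CommRing S'] [Algebra R' S'] [Algebra R S'] [Algebra S S'] [IsScalarTower R R' S']
    [IsScalarTower R S S'] [IsLocalization (Algebra.algebraMapSubmonoid S M₀) S'] [Algebra.FinitePresentation R' S']
    [Module.Flat R' S'] (hd' : DomFib R' S') [CommRing T] [Algebra S T] [Algebra R T] [IsScalarTower R S T]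
    [Algebra S' T] [IsScalarTower S S' T] [Algebra R' T] [IsScalarTower R' S' T] [IsScalarTower R R' T] [Module.Flat S' T]
    (hgen : ∀ (p : Ideal R) [p.IsPrime] (q : Ideal S) [q.IsPrime], Disjoint (M₀ : Set R) p → q.LiesOver p →
      (∀ (Q : Ideal S) [Q.IsPrime], Q.LiesOver p → q ≤ Q) →
      ∃ Q' : Ideal T, Q'.IsPrime ∧ Q'.comap (algebraMap S T) = q)
    (Q : Type u) [AddCommGroup Q] [Module R Q] (u : S ⊗[R] Q)
    (hu : (IsScalarTower.toAlgHom R S T).toLinearMap.rTensor Q u = 0) :
    ∃ w ∈ Algebra.algebraMapSubmonoid S M₀, w • u = 0 := by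
  let W := Algebra.algebraMapSubmonoid S M₀
  have huniv := univInj_of_generic hd' T fun p' _ q' _ hq'p hmin => by
    haveI := hq'p
    obtain ⟨hp, hdp⟩ := (IsLocalization.isPrime_iff_isPrime_disjoint M₀ R' p').1 inferInstance
    haveI : (p'.under R).IsPrime := hp
    have hq'o : (q'.comap (algebraMap S S')).LiesOver (p'.under R) := ⟨by
      rw [Ideal.under_def, Ideal.under_def, hq'p.over, Ideal.under_def, Ideal.comap_comap, Ideal.comap_comap,
        ← IsScalarTower.algebraMap_eq, ← IsScalarTower.algebraMap_eq]⟩
    obtain ⟨Q', hQ', hQ'c⟩ := hgen (p'.under R) (q'.comap (algebraMap S S')) hdp hq'o fun Q _ hQ => by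
      have hdQ : Disjoint (W : Set S) Q := by
        rw [Set.disjoint_left]
        rintro _ ⟨a, ha, rfl⟩ haQ
        exact Set.disjoint_left.1 hdp ha ((SetLike.ext_iff.1 hQ.over a).2 haQ)
      haveI : (Q.map (algebraMap S S')).IsPrime := IsLocalization.isPrime_of_isPrime_disjoint W S' Q inferInstance hdQ
      have hc : (Q.map (algebraMap S S')).comap (algebraMap S S') = Q :=
        IsLocalization.comap_map_of_isPrime_disjoint W S' inferInstance hdQ
      have hover : (Q.map (algebraMap S S')).LiesOver p' := ⟨by
        have h2 : ((Q.map (algebraMap S S')).under R').under R = p'.under R := by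
          rw [hQ.over, Ideal.under_def, Ideal.under_def, Ideal.under_def, Ideal.comap_comap,
            ← IsScalarTower.algebraMap_eq, IsScalarTower.algebraMap_eq R S S', ← Ideal.comap_comap, hc]
        rw [← IsLocalization.map_comap M₀ R' p', ← IsLocalization.map_comap M₀ R' ((Q.map (algebraMap S S')).under R')]
        exact congrArg (Ideal.map (algebraMap R R')) h2.symm⟩
      have h3 := Ideal.comap_mono (f := algebraMap S S') (hmin _ hover)
      rwa [hc] at h3
    refine ⟨Q'.comap (RingHom.id T), hQ', ?_⟩
    rw [Ideal.comap_id, ← IsLocalization.map_comap W S' (Q'.comap (algebraMap S' T)), Ideal.under_def, Ideal.comap_comap,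
      ← IsScalarTower.algebraMap_eq, hQ'c, IsLocalization.map_comap W S' q']
  let f : S →ₗ[S] S' := Algebra.linearMap S S'
  haveI : IsLocalizedModule W f := inferInstance
  have h1 : ((IsScalarTower.toAlgHom R' S' T).toLinearMap.restrictScalars R).rTensor Q ((f.restrictScalars R).rTensor Q u) = 0 := by
    rw [← LinearMap.comp_apply, ← LinearMap.rTensor_comp, ← hu]
    congr 2
    exact LinearMap.ext fun s => (IsScalarTower.algebraMap_apply S S' T s).symm
  have h2 : AlgebraTensorModule.rTensor R Q f u = 0 :=
    rTensor_injective_of_univInj (IsScalarTower.toAlgHom R' S' T).toLinearMap huniv Q (h1.trans (map_zero _).symm)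
  obtain ⟨w, hw⟩ := (IsLocalizedModule.eq_zero_iff W (AlgebraTensorModule.rTensor R Q f)).1 h2
  exact ⟨w, w.2, hw⟩

attribute [local instance] Algebra.TensorProduct.rightAlgebra in
/-- What dies in an algebra over a localisation hitting the generic points there is killed by the submonoid. -/
theorem exists_smul_tmul_eq_zero [Algebra.FinitePresentation R S] [Module.Flat R S] (hd : DomFib R S)
    (M₀ : Submonoid R) (T : Type u) [CommRing T] [Algebra S T] [Algebra R T] [IsScalarTower R S T] [Module.Flat S T]
    (hW : ∀ w ∈ M₀, IsUnit (algebraMap R T w))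
    (hgen : ∀ (p : Ideal R) [p.IsPrime] (q : Ideal S) [q.IsPrime], Disjoint (M₀ : Set R) p → q.LiesOver p →
      (∀ (Q : Ideal S) [Q.IsPrime], Q.LiesOver p → q ≤ Q) →
      ∃ Q' : Ideal T, Q'.IsPrime ∧ Q'.comap (algebraMap S T) = q)
    (Q : Type u) [AddCommGroup Q] [Module R Q] (u : S ⊗[R] Q)
    (hu : (IsScalarTower.toAlgHom R S T).toLinearMap.rTensor Q u = 0) :
    ∃ w ∈ Algebra.algebraMapSubmonoid S M₀, w • u = 0 := by
  haveI : IsLocalization (Algebra.algebraMapSubmonoid S M₀) (Localization M₀ ⊗[R] S) :=
    IsLocalization.tensorRight (Localization M₀) M₀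
  have hWu : ∀ w : Algebra.algebraMapSubmonoid S M₀, IsUnit (algebraMap S T w) := by
    rintro ⟨_, a, ha, rfl⟩
    exact (IsScalarTower.algebraMap_apply R S T a) ▸ hW a ha
  let l : Localization M₀ ⊗[R] S →+* T := IsLocalization.lift hWu
  letI : Algebra (Localization M₀ ⊗[R] S) T := l.toAlgebra
  haveI : IsScalarTower S (Localization M₀ ⊗[R] S) T :=
    IsScalarTower.of_algebraMap_eq fun x => (IsLocalization.lift_eq hWu x).symm
  letI : Algebra (Localization M₀) T := (l.comp (algebraMap (Localization M₀) (Localization M₀ ⊗[R] S))).toAlgebra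
  have hsm : ∀ (a : Localization M₀) (b : Localization M₀ ⊗[R] S),
      a • b = algebraMap (Localization M₀) (Localization M₀ ⊗[R] S) a * b := fun a b => Algebra.smul_def a b
  haveI : IsScalarTower (Localization M₀) (Localization M₀ ⊗[R] S) T := ⟨fun a b c => by
    rw [hsm]
    show l (algebraMap (Localization M₀) (Localization M₀ ⊗[R] S) a * b) * c =
      (l.comp (algebraMap (Localization M₀) (Localization M₀ ⊗[R] S))) a * (l b * c)
    rw [map_mul, RingHom.comp_apply, mul_assoc]⟩
  haveI : IsScalarTower R (Localization M₀) T := IsScalarTower.of_algebraMap_eq fun a => by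
    show _ = l (algebraMap (Localization M₀) _ (algebraMap R (Localization M₀) a))
    rw [← IsScalarTower.algebraMap_apply, IsScalarTower.algebraMap_apply R S (Localization M₀ ⊗[R] S),
      IsLocalization.lift_eq, ← IsScalarTower.algebraMap_apply]
  haveI : Module.Flat (Localization M₀ ⊗[R] S) T :=
    (Module.flat_iff_of_isLocalization (Localization M₀ ⊗[R] S) (Algebra.algebraMapSubmonoid S M₀) T).2 inferInstance
  exact exists_smul_tmul_eq_zero_aux M₀ (S' := Localization M₀ ⊗[R] S) (hd.baseChange (Localization M₀)) hgen Q u hu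

variable {N : Type u} [AddCommGroup N] [Module S N] [Module R N] [IsScalarTower R S N]

/-- `α` stays injective after any tensor product over `R`, up to `W`. -/
def UnivInjUpTo (R : Type u) {S : Type u} [CommRing R] [CommRing S] [Algebra R S] {X N : Type u} [AddCommGroup X]
    [Module S X] [Module R X] [IsScalarTower R S X] [AddCommGroup N] [Module S N] [Module R N] [IsScalarTower R S N]
    (W : Submonoid S) (α : X →ₗ[S] N) : Prop :=
  ∀ (Q : Type u) [AddCommGroup Q] [Module R Q] (z : X ⊗[R] Q),
    (α.restrictScalars R).rTensor Q z = 0 → ∃ w ∈ W, w • z = 0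

/-- Retractions in an algebra give universal injectivity up to a submonoid. -/
theorem univInjUpTo_of_retractions (W : Submonoid S) (T : Type u) [CommRing T] [Algebra S T] [Algebra R T]
    [IsScalarTower R S T]
    (hker : ∀ (Q : Type u) [AddCommGroup Q] [Module R Q] (u : S ⊗[R] Q),
      (IsScalarTower.toAlgHom R S T).toLinearMap.rTensor Q u = 0 → ∃ w ∈ W, w • u = 0)
    {r : ℕ} (α : (Fin r → S) →ₗ[S] N) (β : Fin r → (N →ₗ[S] T))
    (hβ : ∀ i x, β i (α x) = algebraMap S T (x i)) : UnivInjUpTo R W α := by
  classical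
  intro Q _ _ z hz
  let pr : Fin r → ((Fin r → S) ⊗[R] Q →ₗ[S] S ⊗[R] Q) := fun i =>
    AlgebraTensorModule.rTensor R Q (LinearMap.proj (R := S) (φ := fun _ : Fin r => S) i)
  let ins : Fin r → (S ⊗[R] Q →ₗ[S] (Fin r → S) ⊗[R] Q) := fun i =>
    AlgebraTensorModule.rTensor R Q (LinearMap.single S (fun _ : Fin r => S) i)
  have hsum : z = ∑ i, ins i (pr i z) := by
    clear hz
    induction z using TensorProduct.induction_on with
    | zero => simp
    | add a b ha hb => rw [ha, hb]; simp [Finset.sum_add_distrib, ← ha, ← hb]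
    | tmul x y =>
      simp only [pr, ins, AlgebraTensorModule.rTensor_tmul, LinearMap.proj_apply, LinearMap.single_apply, ← sum_tmul,
        Finset.univ_sum_single]
  have h : ∀ i, ∃ w ∈ W, w • pr i z = 0 := fun i => by
    refine hker Q _ ?_
    show (IsScalarTower.toAlgHom R S T).toLinearMap.rTensor Q
      (((LinearMap.proj (R := S) (φ := fun _ : Fin r => S) i).restrictScalars R).rTensor Q z) = 0
    rw [← LinearMap.comp_apply, ← LinearMap.rTensor_comp,
      show (IsScalarTower.toAlgHom R S T).toLinearMap ∘ₗ
          (LinearMap.proj (R := S) (φ := fun _ : Fin r => S) i).restrictScalars R =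
        (β i).restrictScalars R ∘ₗ α.restrictScalars R from LinearMap.ext fun x => (hβ i x).symm,
      LinearMap.rTensor_comp, LinearMap.comp_apply, hz, map_zero]
  choose w hw hwz using h
  refine ⟨∏ i, w i, prod_mem fun i _ => hw i, ?_⟩
  rw [hsum, Finset.smul_sum]
  refine Finset.sum_eq_zero fun i _ => ?_
  rw [← Finset.prod_erase_mul _ _ (Finset.mem_univ i), mul_smul, ← map_smul, hwz i, map_zero, smul_zero]

/-- An element of the kernel is killed by `W`. -/
theorem UnivInjUpTo.exists_smul_eq_zero {X : Type u} [AddCommGroup X] [Module S X] [Module R X] [IsScalarTower R S X]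
    {W : Submonoid S} {α : X →ₗ[S] N} (h : UnivInjUpTo R W α) {x : X} (hx : α x = 0) :
    ∃ w ∈ W, w • x = 0 := by
  obtain ⟨w, hw, hwx⟩ := h R (x ⊗ₜ[R] (1 : R)) (by
    rw [LinearMap.rTensor_tmul, LinearMap.restrictScalars_apply, hx, zero_tmul])
  refine ⟨w, hw, ?_⟩
  have := congrArg (TensorProduct.rid R X) hwx
  rwa [smul_tmul', TensorProduct.rid_tmul, map_zero, one_smul] at this

/-- Universal injectivity of a localised map, for any localisations. -/
theorem UnivInjUpTo.injective_rTensor {X X' N' : Type u} [AddCommGroup X] [Module S X] [Module R X] [IsScalarTower R S X]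
    [AddCommGroup X'] [Module S X'] [Module R X'] [IsScalarTower R S X']
    [AddCommGroup N'] [Module S N'] [Module R N'] [IsScalarTower R S N']
    {W : Submonoid S} {α : X →ₗ[S] N} (h : UnivInjUpTo R W α) (lX : X →ₗ[S] X') (lN : N →ₗ[S] N')
    [IsLocalizedModule W lX] [IsLocalizedModule W lN] (g : X' →ₗ[S] N') (hg : ∀ x, g (lX x) = lN (α x))
    (Q : Type u) [AddCommGroup Q] [Module R Q] : Function.Injective ((g.restrictScalars R).rTensor Q) := by
  let fX : X ⊗[R] Q →ₗ[S] X' ⊗[R] Q := AlgebraTensorModule.rTensor R Q lX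
  let fN : N ⊗[R] Q →ₗ[S] N' ⊗[R] Q := AlgebraTensorModule.rTensor R Q lN
  let m : X' ⊗[R] Q →ₗ[S] N' ⊗[R] Q := AlgebraTensorModule.rTensor R Q g
  have hc : ∀ z, m (fX z) = fN ((α.restrictScalars R).rTensor Q z) := by
    intro z
    induction z using TensorProduct.induction_on with
    | zero => simp only [map_zero]
    | add a b ha hb => simp only [map_add, ha, hb]
    | tmul x y =>
      simp only [m, fX, fN, AlgebraTensorModule.rTensor_tmul, LinearMap.rTensor_tmul, LinearMap.restrictScalars_apply, hg]
  rw [injective_iff_map_eq_zero]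
  intro z hz
  obtain ⟨⟨z₀, s⟩, hs⟩ := IsLocalizedModule.surj W fX z
  have h1 : fN ((α.restrictScalars R).rTensor Q z₀) = 0 := by
    rw [← hc, ← hs, Submonoid.smul_def, map_smul, show m z = 0 from hz, smul_zero]
  obtain ⟨t, ht⟩ := (IsLocalizedModule.eq_zero_iff W fN).1 h1
  obtain ⟨w, hw, hwz⟩ := h Q ((t : S) • z₀) (by
    rw [show (α.restrictScalars R).rTensor Q ((t : S) • z₀) = (t : S) • (α.restrictScalars R).rTensor Q z₀ from
      (AlgebraTensorModule.rTensor R Q α).map_smul _ _]
    exact ht)
  have h2 : ((⟨w, hw⟩ * t * s : W) : S) • z = 0 := by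
    rw [Submonoid.coe_mul, Submonoid.coe_mul, mul_smul, ← Submonoid.smul_def, hs, ← map_smul, mul_smul, hwz, map_zero]
  generalize (⟨w, hw⟩ * t * s : W) = v at h2
  refine ((Module.End.isUnit_iff _).1 (IsLocalizedModule.map_units fX v)).1 ?_
  rw [Module.algebraMap_end_apply, map_zero]
  exact h2

/-- Universal injectivity of a localised map. -/
theorem UnivInjUpTo.univInj_localized {X : Type u} [AddCommGroup X] [Module S X] [Module R X] [IsScalarTower R S X]
    {W : Submonoid S} {α : X →ₗ[S] N} (h : UnivInjUpTo R W α) :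
    FlatCA.UnivInj R ((LocalizedModule.map W α).restrictScalars R) := by
  intro Q _ _
  have hi := h.injective_rTensor (LocalizedModule.mkLinearMap W X) (LocalizedModule.mkLinearMap W N)
    ((LocalizedModule.map W α).restrictScalars S) (fun x => LocalizedModule.map_mk W α x 1) Q
  intro a b hab
  apply (TensorProduct.comm R Q (LocalizedModule W X)).injective
  apply hi
  show ((LocalizedModule.map W α).restrictScalars R).rTensor Q _ = ((LocalizedModule.map W α).restrictScalars R).rTensor Q _
  rw [LinearMap.rTensor_comm, LinearMap.rTensor_comm, hab]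

/-- Universal injectivity gives injectivity. -/
theorem injective_of_univInj {X Y : Type u} [AddCommGroup X] [Module R X] [AddCommGroup Y] [Module R Y]
    {g : X →ₗ[R] Y} (h : FlatCA.UnivInj R g) : Function.Injective g := by
  intro a b hab
  have := h R (show g.lTensor R ((1 : R) ⊗ₜ[R] a) = g.lTensor R ((1 : R) ⊗ₜ[R] b) by
    rw [LinearMap.lTensor_tmul, LinearMap.lTensor_tmul, hab])
  simpa using congrArg (TensorProduct.lid R X) this

/-- Injectivity of a localised map. -/
theorem injective_localizedMap_iff {X : Type u} [AddCommGroup X] [Module S X] (W : Submonoid S) (α : X →ₗ[S] N) :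
    Function.Injective (LocalizedModule.map W α) ↔ ∀ x, α x = 0 → ∃ w ∈ W, w • x = 0 := by
  constructor
  · intro h x hx
    have h1 : LocalizedModule.mk x (1 : W) = 0 := h (by
      rw [LocalizedModule.map_mk, hx, LocalizedModule.zero_mk, map_zero])
    exact LocalizedModule.mem_ker_mkLinearMap_iff.1 h1
  · intro h
    rw [injective_iff_map_eq_zero]
    intro y
    induction y using LocalizedModule.induction_on with
    | h x s =>
      intro hx
      rw [LocalizedModule.map_mk, ← LocalizedModule.zero_mk (1 : W), LocalizedModule.mk_eq] at hx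
      obtain ⟨t, ht⟩ := hx
      simp only [one_smul, smul_zero] at ht
      obtain ⟨w, hw, hwx⟩ := h ((t : S) • x) (by rw [map_smul]; exact ht)
      rw [← LocalizedModule.zero_mk (1 : W), LocalizedModule.mk_eq]
      refine ⟨⟨w, hw⟩ * t, ?_⟩
      rw [one_smul, smul_zero, smul_zero, Submonoid.smul_def, Submonoid.coe_mul, mul_smul, hwx]

/-- Localising further keeps flatness. -/
theorem flat_localized_mono {W W' : Submonoid S} (hle : W ≤ W') (h : Module.Flat R (LocalizedModule W N)) :
    Module.Flat R (LocalizedModule W' N) :=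
  (FlatModel.flat_localized_iff W' (LocalizedModule.mkLinearMap W' N)).2 fun J y hy =>
    let ⟨s, hs, hsy⟩ := (FlatModel.flat_localized_iff W (LocalizedModule.mkLinearMap W N)).1 h J y hy
    ⟨s, hle hs, hsy⟩

/-- `y ⊗ j ↦ j y`. -/
noncomputable def evI (S : Type u) [CommRing S] [Algebra R S] (J : Ideal R) (Y : Type u) [AddCommGroup Y] [Module S Y]
    [Module R Y] [IsScalarTower R S Y] : Y ⊗[R] J →ₗ[S] Y :=
  (AlgebraTensorModule.rid R S Y).toLinearMap ∘ₗ AlgebraTensorModule.lTensor S Y J.subtype

theorem evI_tmul (J : Ideal R) {Y : Type u} [AddCommGroup Y] [Module S Y] [Module R Y] [IsScalarTower R S Y] (y : Y)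
    (j : J) : evI S J Y (y ⊗ₜ j) = (j : R) • y :=
  TensorProduct.rid_tmul _ _

theorem evI_eq_zero_iff (J : Ideal R) {Y : Type u} [AddCommGroup Y] [Module S Y] [Module R Y] [IsScalarTower R S Y]
    (z : Y ⊗[R] J) : evI S J Y z = 0 ↔ J.subtype.lTensor Y z = 0 :=
  (AlgebraTensorModule.rid R S Y).map_eq_zero_iff

theorem evI_natural (J : Ideal R) {X Y : Type u} [AddCommGroup X] [Module S X] [Module R X] [IsScalarTower R S X]
    [AddCommGroup Y] [Module S Y] [Module R Y] [IsScalarTower R S Y] (g : X →ₗ[S] Y) (z : X ⊗[R] J) :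
    evI S J Y ((g.restrictScalars R).rTensor J z) = g (evI S J X z) := by
  induction z using TensorProduct.induction_on with
  | zero => simp only [map_zero]
  | add a b ha hb => simp only [map_add, ha, hb]
  | tmul n j => rw [LinearMap.rTensor_tmul, LinearMap.restrictScalars_apply, evI_tmul, evI_tmul,
      LinearMap.map_smul_of_tower]

theorem evI_mem (J : Ideal R) {Y : Type u} [AddCommGroup Y] [Module S Y] [Module R Y] [IsScalarTower R S Y]
    (z : Y ⊗[R] J) : evI S J Y z ∈ J • (⊤ : Submodule R Y) := by
  induction z using TensorProduct.induction_on with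
  | zero => simp only [map_zero, zero_mem]
  | add a b ha hb => simpa only [map_add] using add_mem ha hb
  | tmul n j => rw [evI_tmul]; exact Submodule.smul_mem_smul j.2 Submodule.mem_top

/-- The cokernel of a map universally injective up to `W` into a flat module is flat. -/
theorem flat_coker {W V : Submonoid S} (hle : W ≤ V) {X : Type u} [AddCommGroup X] [Module S X] [Module R X]
    [IsScalarTower R S X] {α : X →ₗ[S] N} (hu : UnivInjUpTo R W α) (h : Module.Flat R (LocalizedModule V N)) :
    Module.Flat R (LocalizedModule V (N ⧸ LinearMap.range α)) := by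
  rw [FlatModel.flat_localized_iff V (LocalizedModule.mkLinearMap V (N ⧸ LinearMap.range α))]
  intro J y hy
  let π : N →ₗ[S] N ⧸ LinearMap.range α := (LinearMap.range α).mkQ
  obtain ⟨y', rfl⟩ := LinearMap.rTensor_surjective J (g := π.restrictScalars R) (Submodule.mkQ_surjective _) y
  obtain ⟨x, hx⟩ : ∃ x, α x = evI S J N y' := by
    rw [← LinearMap.mem_range, ← Submodule.Quotient.mk_eq_zero]
    show π _ = 0
    rw [← evI_natural, evI_eq_zero_iff]
    exact hy
  have hq : ∀ {Y : Type u} [AddCommGroup Y] [Module R Y] (y : Y),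
      y ⊗ₜ[R] (Ideal.Quotient.mk J 1) = 0 ↔ y ∈ J • (⊤ : Submodule R Y) := by
    intro Y _ _ y
    rw [← (TensorProduct.comm R Y (R ⧸ J)).map_eq_zero_iff, TensorProduct.comm_tmul,
      ← (TensorProduct.quotTensorEquivQuotSMul Y J).map_eq_zero_iff, TensorProduct.quotTensorEquivQuotSMul_mk_tmul,
      one_smul, Submodule.Quotient.mk_eq_zero]
  obtain ⟨w, hw, hwx⟩ := hu (R ⧸ J) (x ⊗ₜ[R] Ideal.Quotient.mk J 1) (by
    rw [LinearMap.rTensor_tmul, LinearMap.restrictScalars_apply, hx]
    exact (hq _).2 (evI_mem J y'))
  rw [smul_tmul', hq] at hwx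
  obtain ⟨x', hx'⟩ : ∃ x' : X ⊗[R] J, evI S J X x' = w • x := by
    refine Submodule.smul_induction_on hwx (fun a ha z _ => ⟨z ⊗ₜ ⟨a, ha⟩, evI_tmul J z _⟩) ?_
    rintro a b ⟨a', rfl⟩ ⟨b', rfl⟩
    exact ⟨a' + b', map_add _ _ _⟩
  have hwy : evI S J N (w • y' - (α.restrictScalars R).rTensor J x') = 0 := by
    rw [map_sub, map_smul, evI_natural, hx', map_smul, hx, sub_self]
  obtain ⟨s, hs, hsz⟩ := (FlatModel.flat_localized_iff V (LocalizedModule.mkLinearMap V N)).1 h J _
    ((evI_eq_zero_iff J _).1 hwy)
  refine ⟨s * w, mul_mem hs (hle hw), ?_⟩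
  have h3 := congrArg (AlgebraTensorModule.rTensor R J π) hsz
  have h4 : AlgebraTensorModule.rTensor R J π ((α.restrictScalars R).rTensor J x') = 0 := by
    clear hwy hsz h3 hx'
    induction x' using TensorProduct.induction_on with
    | zero => simp only [map_zero]
    | add a b ha hb => simp only [map_add, ha, hb, add_zero]
    | tmul n j =>
      rw [LinearMap.rTensor_tmul, AlgebraTensorModule.rTensor_tmul, LinearMap.restrictScalars_apply,
        show π (α n) = 0 from (Submodule.Quotient.mk_eq_zero _).2 ⟨n, rfl⟩, zero_tmul]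
  rw [map_smul, map_sub, map_smul, map_zero, h4, sub_zero, ← mul_smul] at h3
  exact h3

/-- An extension of flat modules by a map injective at the localisation is flat. -/
theorem flat_of_coker {V : Submonoid S} {X : Type u} [AddCommGroup X] [Module S X] [Module R X]
    [IsScalarTower R S X] [Module.Flat R X] {α : X →ₗ[S] N}
    (hinj : ∀ x, α x = 0 → ∃ v ∈ V, v • x = 0)
    (h : Module.Flat R (LocalizedModule V (N ⧸ LinearMap.range α))) : Module.Flat R (LocalizedModule V N) := by
  rw [FlatModel.flat_localized_iff V (LocalizedModule.mkLinearMap V N)]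
  intro J y hy
  let π : N →ₗ[S] N ⧸ LinearMap.range α := (LinearMap.range α).mkQ
  obtain ⟨s, hs, hsy⟩ := (FlatModel.flat_localized_iff V (LocalizedModule.mkLinearMap V (N ⧸ LinearMap.range α))).1 h J
    ((π.restrictScalars R).rTensor J y) (by
      rw [← LinearMap.comp_apply, LinearMap.lTensor_comp_rTensor, ← LinearMap.rTensor_comp_lTensor,
        LinearMap.comp_apply, hy, map_zero])
  have hexact : Function.Exact (α.restrictScalars R) (π.restrictScalars R) := LinearMap.exact_map_mkQ_range α
  obtain ⟨x', hx'⟩ := (rTensor_exact J hexact (Submodule.mkQ_surjective _) (s • y)).1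
    ((show (π.restrictScalars R).rTensor J (s • y) = s • (π.restrictScalars R).rTensor J y from
      (AlgebraTensorModule.rTensor R J π).map_smul _ _).trans hsy)
  have h1 : α (evI S J X x') = 0 := by
    rw [← evI_natural, hx', map_smul, (evI_eq_zero_iff J y).2 hy, smul_zero]
  obtain ⟨v, hv, hvx⟩ := hinj _ h1
  have h3 : v • x' = 0 := (Module.Flat.iff_lTensor_injective'.1 ‹Module.Flat R X› J)
    (((evI_eq_zero_iff J _).1 (by rw [map_smul, hvx])).trans (map_zero _).symm)
  refine ⟨v * s, mul_mem hv hs, ?_⟩
  rw [mul_smul, ← hx', show v • (α.restrictScalars R).rTensor J x' = (α.restrictScalars R).rTensor J (v • x') from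
    ((AlgebraTensorModule.rTensor R J α).map_smul _ _).symm, h3, map_zero]

/-- `exists_retractions`, with the localisations given. -/
theorem exists_retractions_aux {R' S' T : Type u} [CommRing R'] [IsLocalRing R'] [Algebra R R'] (M₀ : Submonoid R)
    [IsLocalization M₀ R'] [CommRing S'] [Algebra R' S'] [Algebra S S'] [Algebra.FinitePresentation R' S'] [Module.Flat R' S']
    (hd' : DomFib R' S') (P : Ideal S) [P.IsPrime] (P' : Ideal S') [P'.IsPrime]
    (hP' : P' = (maximalIdeal R').map (algebraMap R' S')) (hP'map : P' = P.map (algebraMap S S'))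
    [CommRing T] [Algebra S' T] [IsLocalization.AtPrime T P'] [Algebra R' T] [IsScalarTower R' S' T] [Algebra S T]
    [IsScalarTower S S' T] [Algebra R T] [IsScalarTower R S T] [IsScalarTower R R' T] [IsLocalization.AtPrime T P]
    [Module.Finite S N] (hflat : FlatCA.FlatAt R P N) {r : ℕ} (α : (Fin r → S) →ₗ[S] N)
    (hfib : Function.Bijective (α.baseChange P.ResidueField)) :
    ∃ β : Fin r → (N →ₗ[S] Localization.AtPrime P),
      ∀ i x, β i (α x) = algebraMap S (Localization.AtPrime P) (x i) := by
  classical
  let f : N →ₗ[S] T ⊗[S] N := TensorProduct.mk S T N 1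
  haveI : IsLocalizedModule P.primeCompl f :=
    (isLocalizedModule_iff_isBaseChange P.primeCompl T f).2 (TensorProduct.isBaseChange _ _ _)
  haveI : Module.Flat R (LocalizedModule P.primeCompl N) := hflat
  haveI : Module.Flat R (T ⊗[S] N) :=
    Module.Flat.of_linearEquiv ((IsLocalizedModule.iso P.primeCompl f).restrictScalars R).symm
  haveI : IsScalarTower R R' (T ⊗[S] N) := inferInstance
  haveI : Module.Flat R' (T ⊗[S] N) := (Module.flat_iff_of_isLocalization R' M₀ (T ⊗[S] N)).2 inferInstance
  let φ : (Fin r → T) →ₗ[T] T ⊗[S] N := Fintype.linearCombination T fun i => f (α (Pi.single i 1))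
  have hφc : ∀ x : Fin r → S, φ (fun i => algebraMap S T (x i)) = f (α x) := by
    intro x
    rw [Fintype.linearCombination_apply]
    conv_rhs => rw [pi_eq_sum_univ' x, map_sum, map_sum]
    exact Finset.sum_congr rfl fun i _ => by rw [algebraMap_smul, map_smul, map_smul]
  have hsurj : Function.Surjective φ := by
    intro y
    obtain ⟨⟨n, t⟩, ht⟩ := IsLocalizedModule.surj P.primeCompl f y
    obtain ⟨s, hs, x, hx⟩ := exists_smul_mem_range P α hfib n
    have hu : IsUnit (algebraMap S T (s * t)) := IsLocalization.map_units T (⟨s, hs⟩ * t : P.primeCompl)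
    obtain ⟨v, hv⟩ := hu
    refine ⟨(↑v⁻¹ : T) • fun i => algebraMap S T (x i), ?_⟩
    rw [map_smul, hφc, hx, map_smul, ← ht, Submonoid.smul_def, smul_smul, ← algebraMap_smul T (s * t : S) y, ← hv,
      smul_smul, Units.inv_mul, one_smul]
  have hker : ∀ w, φ w = 0 → ∀ i, w i ∈ (maximalIdeal R').map (algebraMap R' T) := by
    intro w hw
    obtain ⟨u, hu⟩ := IsLocalization.exist_integer_multiples_of_finite P.primeCompl w
    choose x hx using hu
    have h1 : f (α x) = 0 := by
      rw [← hφc, show (fun i => algebraMap S T (x i)) = (u : S) • w from funext fun i => hx i,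
        LinearMap.map_smul_of_tower, hw, smul_zero]
    obtain ⟨s, hs⟩ := (IsLocalizedModule.eq_zero_iff P.primeCompl f).1 h1
    intro i
    have h2 : x i ∈ P := (Ideal.IsPrime.mem_or_mem inferInstance
      (mem_of_map_eq_zero P α hfib (x := (s : S) • x) (by rw [map_smul]; exact hs) i)).resolve_left s.2
    have h3 : algebraMap S T (x i) ∈ (maximalIdeal R').map (algebraMap R' T) := by
      rw [IsScalarTower.algebraMap_eq R' S' T, ← Ideal.map_map, IsScalarTower.algebraMap_apply S S' T]
      exact Ideal.mem_map_of_mem _ (by rw [← hP', hP'map]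
                                       exact Ideal.mem_map_of_mem _ h2)
    rw [show algebraMap S T (x i) = algebraMap S T u * w i from (hx i).trans (Algebra.smul_def _ _)] at h3
    exact (Ideal.unit_mul_mem_iff_mem _ (IsLocalization.map_units T u)).1 h3
  have hinj : Function.Injective φ := injective_of_flat (T := T) hd' P' hP' φ hsurj hker
  let e := LinearEquiv.ofBijective φ ⟨hinj, hsurj⟩
  let ρ : T →ₗ[S] Localization.AtPrime P := (IsLocalization.algEquiv P.primeCompl T (Localization.AtPrime P)).toLinearMap
  refine ⟨fun i => ρ ∘ₗ (LinearMap.proj (R := T) i).restrictScalars S ∘ₗ e.symm.toLinearMap.restrictScalars S ∘ₗ f,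
    fun i x => ?_⟩
  show ρ (e.symm (f (α x)) i) = _
  rw [← hφc, show φ (fun j => algebraMap S T (x j)) = e (fun j => algebraMap S T (x j)) from rfl,
    LinearEquiv.symm_apply_apply]
  exact (IsLocalization.algEquiv P.primeCompl T (Localization.AtPrime P)).commutes (x i)

attribute [local instance] Algebra.TensorProduct.rightAlgebra in
/-- A module flat at the generic point of the fibre has retractions there. -/
theorem exists_retractions [Algebra.FinitePresentation R S] [Module.Flat R S] (hd : DomFib R S)
    (rr : Ideal R) [rr.IsPrime] (P : Ideal S) [P.IsPrime] (hP : P = rr.map (algebraMap R S)) (hPr : P.LiesOver rr)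
    [Module.Finite S N] (hflat : FlatCA.FlatAt R P N) {r : ℕ} (α : (Fin r → S) →ₗ[S] N)
    (hfib : Function.Bijective (α.baseChange P.ResidueField)) :
    ∃ β : Fin r → (N →ₗ[S] Localization.AtPrime P),
      ∀ i x, β i (α x) = algebraMap S (Localization.AtPrime P) (x i) := by
  haveI : IsLocalization (Algebra.algebraMapSubmonoid S rr.primeCompl) (Localization.AtPrime rr ⊗[R] S) :=
    IsLocalization.tensorRight (Localization.AtPrime rr) rr.primeCompl
  have hd' := hd.baseChange (Localization.AtPrime rr)
  haveI := hd'.isPrime_map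
  have hP'map : (maximalIdeal (Localization.AtPrime rr)).map (algebraMap _ (Localization.AtPrime rr ⊗[R] S)) =
      P.map (algebraMap S (Localization.AtPrime rr ⊗[R] S)) := by
    rw [hP, Ideal.map_map, ← IsScalarTower.algebraMap_eq,
      IsScalarTower.algebraMap_eq R (Localization.AtPrime rr) (Localization.AtPrime rr ⊗[R] S), ← Ideal.map_map,
      IsLocalization.AtPrime.map_eq_maximalIdeal rr (Localization.AtPrime rr)]
  have hdisj : Disjoint (Algebra.algebraMapSubmonoid S rr.primeCompl : Set S) P := by
    rw [Set.disjoint_left]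
    rintro _ ⟨a, ha, rfl⟩ h
    exact ha ((SetLike.ext_iff.1 hPr.over a).2 h)
  have hP'c : ((maximalIdeal (Localization.AtPrime rr)).map (algebraMap _ (Localization.AtPrime rr ⊗[R] S))).comap
      (algebraMap S (Localization.AtPrime rr ⊗[R] S)) = P := by
    rw [hP'map]
    exact IsLocalization.comap_map_of_isPrime_disjoint _ _ inferInstance hdisj
  generalize hP'' : (maximalIdeal (Localization.AtPrime rr)).map (algebraMap _ (Localization.AtPrime rr ⊗[R] S)) = P'
    at hP'map hP'c
  haveI : P'.IsPrime := hP'' ▸ inferInstance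
  haveI : IsScalarTower R S (Localization.AtPrime P') := IsScalarTower.of_algebraMap_eq fun a => by
    rw [IsScalarTower.algebraMap_apply S (Localization.AtPrime rr ⊗[R] S) (Localization.AtPrime P'),
      ← IsScalarTower.algebraMap_apply R S (Localization.AtPrime rr ⊗[R] S),
      ← IsScalarTower.algebraMap_apply R (Localization.AtPrime rr ⊗[R] S) (Localization.AtPrime P')]
  haveI : IsLocalization.AtPrime (Localization.AtPrime P') P := by
    have := IsLocalization.isLocalization_isLocalization_atPrime_isLocalization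
      (Algebra.algebraMapSubmonoid S rr.primeCompl) (Localization.AtPrime P') P'
    simp only [hP'c] at this
    exact this
  exact exists_retractions_aux (R' := Localization.AtPrime rr) (T := Localization.AtPrime P') rr.primeCompl hd' P P'
    hP''.symm hP'map hflat α hfib

/-- A map with retractions at the generic point is bijective there. -/
theorem bijective_localizedMap_of_retractions (P : Ideal S) [P.IsPrime] [Module.Finite S N] {r : ℕ}
    (α : (Fin r → S) →ₗ[S] N) (hfib : Function.Bijective (α.baseChange P.ResidueField))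
    (β : Fin r → (N →ₗ[S] Localization.AtPrime P))
    (hβ : ∀ i x, β i (α x) = algebraMap S (Localization.AtPrime P) (x i)) :
    Function.Bijective (LocalizedModule.map P.primeCompl α) := by
  classical
  constructor
  · rw [injective_localizedMap_iff]
    intro x hx
    have h : ∀ i, ∃ s : P.primeCompl, (s : S) * x i = 0 := fun i =>
      (IsLocalization.map_eq_zero_iff P.primeCompl (Localization.AtPrime P) (x i)).1 (by rw [← hβ i x, hx, map_zero])
    choose s hs using h
    refine ⟨(∏ i, s i : P.primeCompl), Subtype.prop _, funext fun i => ?_⟩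
    rw [← Finset.prod_erase_mul _ _ (Finset.mem_univ i), Submonoid.coe_mul, Pi.smul_apply, smul_eq_mul, mul_assoc, hs,
      mul_zero, Pi.zero_apply]
  · intro y
    induction y using LocalizedModule.induction_on with
    | h n t =>
      obtain ⟨s, hs, x, hx⟩ := exists_smul_mem_range P α hfib n
      refine ⟨LocalizedModule.mk x ((⟨s, hs⟩ : P.primeCompl) * t), ?_⟩
      rw [LocalizedModule.map_mk, hx]
      exact LocalizedModule.mk_cancel_common_left (⟨s, hs⟩ : P.primeCompl) t n

variable [Algebra.FinitePresentation R S] [Module.Flat R S] (hd : DomFib R S) (rr : Ideal R) [rr.IsPrime]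

include hd in
/-- The localisation at the generic point of a fibre has kernel killed from the base. -/
theorem exists_smul_tmul_eq_zero_atPrime (P : Ideal S) [P.IsPrime] (hPr : P.LiesOver rr) (Q : Type u) [AddCommGroup Q]
    [Module R Q] (u : S ⊗[R] Q)
    (hu : (IsScalarTower.toAlgHom R S (Localization.AtPrime P)).toLinearMap.rTensor Q u = 0) :
    ∃ w ∈ Algebra.algebraMapSubmonoid S rr.primeCompl, w • u = 0 := by
  haveI := hPr
  refine exists_smul_tmul_eq_zero hd rr.primeCompl (Localization.AtPrime P) (fun a ha => ?_)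
    (fun p _ q _ hdp _ hmin => ?_) Q u hu
  · rw [IsScalarTower.algebraMap_apply R S (Localization.AtPrime P)]
    exact IsLocalization.map_units _ (⟨algebraMap R S a, fun h => ha ((SetLike.ext_iff.1 hPr.over a).2 h)⟩ : P.primeCompl)
  · have hle : p ≤ rr := fun a ha => not_not.1 fun h => Set.disjoint_left.1 hdp h ha
    obtain ⟨Q', hQ'le, hQ', hQ'p⟩ := Ideal.exists_ideal_le_liesOver_of_le (p := p) (q := rr) P hle
    have hdisj : Disjoint (P.primeCompl : Set S) (q : Set S) :=
      Set.disjoint_left.2 fun a ha ha' => ha (hQ'le (hmin Q' hQ'p ha'))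
    exact ⟨q.map (algebraMap S _), IsLocalization.isPrime_of_isPrime_disjoint P.primeCompl _ q inferInstance hdisj,
      IsLocalization.comap_map_of_isPrime_disjoint P.primeCompl _ inferInstance hdisj⟩

include hd in
/-- Bijectivity at the generic point gives injectivity up to the base. -/
theorem exists_smul_eq_zero_of_bijective (P : Ideal S) [P.IsPrime] (hPr : P.LiesOver rr) {r : ℕ}
    (α : (Fin r → S) →ₗ[S] N) (h : Function.Bijective (LocalizedModule.map P.primeCompl α))
    {x : Fin r → S} (hx : α x = 0) : ∃ w ∈ Algebra.algebraMapSubmonoid S rr.primeCompl, w • x = 0 := by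
  classical
  obtain ⟨s, hs, hsx⟩ := (injective_localizedMap_iff _ α).1 h.1 x hx
  have hi : ∀ i, ∃ w ∈ Algebra.algebraMapSubmonoid S rr.primeCompl, w * x i = 0 := fun i => by
    have h0 : algebraMap S (Localization.AtPrime P) (x i) = 0 :=
      (IsLocalization.map_eq_zero_iff P.primeCompl _ (x i)).2 ⟨⟨s, hs⟩, congrFun hsx i⟩
    obtain ⟨w, hw, hwx⟩ := exists_smul_tmul_eq_zero_atPrime hd rr P hPr R (x i ⊗ₜ[R] (1 : R)) (by
      rw [LinearMap.rTensor_tmul]
      show algebraMap S _ (x i) ⊗ₜ[R] _ = 0
      rw [h0, zero_tmul])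
    refine ⟨w, hw, ?_⟩
    have := congrArg (TensorProduct.rid R S) hwx
    rwa [smul_tmul', TensorProduct.rid_tmul, map_zero, one_smul, smul_eq_mul] at this
  choose w hw hwx using hi
  refine ⟨∏ i, w i, prod_mem fun i _ => hw i, funext fun i => ?_⟩
  rw [← Finset.prod_erase_mul _ _ (Finset.mem_univ i), Pi.smul_apply, smul_eq_mul, mul_assoc, hwx, mul_zero, Pi.zero_apply]

include hd in
/-- Retractions near the generic point give universal injectivity near the base point. -/
theorem exists_univInjUpTo_powers (P : Ideal S) [P.IsPrime] (hPr : P.LiesOver rr) [Module.FinitePresentation S N]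
    {r : ℕ} (α : (Fin r → S) →ₗ[S] N) (β : Fin r → (N →ₗ[S] Localization.AtPrime P))
    (hβ : ∀ i x, β i (α x) = algebraMap S (Localization.AtPrime P) (x i)) :
    ∃ f ∉ rr, UnivInjUpTo R (Submonoid.powers (algebraMap R S f)) α := by
  classical
  have hγ : ∀ i, ∃ (γ : N →ₗ[S] S) (g : S), g ∉ P ∧ ∀ x, γ (α x) = g * x i := fun i => by
    obtain ⟨γ, s, hγs⟩ := Module.FinitePresentation.exists_lift_of_isLocalizedModule P.primeCompl
      (Algebra.linearMap S (Localization.AtPrime P)) (β i)
    have ht : ∀ j, ∃ t : P.primeCompl, (t : S) * (γ (α (Pi.single j 1)) - (s : S) * Pi.single (M := fun _ => S) j 1 i) = 0 :=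
      fun j => (IsLocalization.map_eq_zero_iff P.primeCompl (Localization.AtPrime P) _).1 (by
        rw [map_sub, map_mul, sub_eq_zero, ← hβ i (Pi.single j 1)]
        refine (LinearMap.congr_fun hγs _).trans ?_
        rw [LinearMap.smul_apply, Submonoid.smul_def, Algebra.smul_def])
    choose t ht using ht
    refine ⟨((∏ j, t j : P.primeCompl) : S) • γ, (∏ j, t j : P.primeCompl) * s, ((∏ j, t j) * s : P.primeCompl).2, ?_⟩
    have he : (((∏ j, t j : P.primeCompl) : S) • γ) ∘ₗ α =
        (((∏ j, t j : P.primeCompl) : S) * s) • LinearMap.proj (R := S) (φ := fun _ : Fin r => S) i := by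
      refine (Pi.basisFun S (Fin r)).ext fun j => ?_
      rw [Pi.basisFun_apply, LinearMap.comp_apply, LinearMap.smul_apply, LinearMap.smul_apply, LinearMap.proj_apply,
        smul_eq_mul, smul_eq_mul, mul_assoc, ← sub_eq_zero, ← mul_sub, ← Finset.prod_erase_mul _ _ (Finset.mem_univ j),
        Submonoid.coe_mul, mul_assoc, ht, mul_zero]
    intro x
    exact LinearMap.congr_fun he x
  choose γ g hg hγg using hγ
  let G := ∏ i, g i
  have hG : G ∉ P := fun h => by
    obtain ⟨i, _, hi⟩ := (Ideal.IsPrime.prod_mem_iff).1 h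
    exact hg i hi
  haveI : Algebra.HasGoingDown R S := inferInstance
  have hopen := PrimeSpectrum.isOpenMap_comap_of_hasGoingDown_of_finitePresentation (R := R) (S := S) _
    (PrimeSpectrum.isOpen_basicOpen (a := G))
  have hmem : (⟨rr, inferInstance⟩ : PrimeSpectrum R) ∈
      PrimeSpectrum.comap (algebraMap R S) '' (PrimeSpectrum.basicOpen G : Set (PrimeSpectrum S)) :=
    ⟨⟨P, inferInstance⟩, hG, PrimeSpectrum.ext hPr.over.symm⟩
  obtain ⟨_, ⟨f, rfl⟩, hf, hsub⟩ := PrimeSpectrum.isTopologicalBasis_basic_opens.exists_subset_of_mem_open hmem hopen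
  refine ⟨f, hf, ?_⟩
  let g' := G * algebraMap R S f
  let T := Localization.Away g'
  have hker : ∀ (Q : Type u) [AddCommGroup Q] [Module R Q] (u : S ⊗[R] Q),
      (IsScalarTower.toAlgHom R S T).toLinearMap.rTensor Q u = 0 →
      ∃ w ∈ Submonoid.powers (algebraMap R S f), w • u = 0 := by
    intro Q _ _ u hu
    have hgen : ∀ (p : Ideal R) [p.IsPrime] (q : Ideal S) [q.IsPrime], Disjoint (Submonoid.powers f : Set R) p →
        q.LiesOver p → (∀ (Q : Ideal S) [Q.IsPrime], Q.LiesOver p → q ≤ Q) →
        ∃ Q' : Ideal T, Q'.IsPrime ∧ Q'.comap (algebraMap S T) = q := by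
      intro p _ q _ hdp hqp hmin
      have hfp : f ∉ p := Set.disjoint_left.1 hdp (Submonoid.mem_powers f)
      obtain ⟨⟨Q', hQ'⟩, hGQ', hQ'p⟩ := hsub (show (⟨p, inferInstance⟩ : PrimeSpectrum R) ∈ _ from hfp)
      haveI hQ'o : Q'.LiesOver p := ⟨(congrArg PrimeSpectrum.asIdeal hQ'p).symm⟩
      have hg' : g' ∉ q := fun h => by
        rcases (inferInstance : q.IsPrime).mem_or_mem h with h1 | h1
        · exact hGQ' (hmin Q' hQ'o h1)
        · exact hfp ((SetLike.ext_iff.1 hqp.over f).2 h1)
      have hdisj : Disjoint (Submonoid.powers g' : Set S) (q : Set S) :=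
        (Ideal.disjoint_powers_iff_notMem g' (inferInstance : q.IsPrime).isRadical).2 hg'
      exact ⟨q.map (algebraMap S T), IsLocalization.isPrime_of_isPrime_disjoint (Submonoid.powers g') T q inferInstance hdisj,
        IsLocalization.comap_map_of_isPrime_disjoint (Submonoid.powers g') T inferInstance hdisj⟩
    obtain ⟨w, ⟨_, ⟨k, rfl⟩, rfl⟩, hwu⟩ := exists_smul_tmul_eq_zero hd (Submonoid.powers f) T (by
        rintro _ ⟨k, rfl⟩
        rw [map_pow, IsScalarTower.algebraMap_apply R S T]
        exact (isUnit_of_dvd_unit (map_dvd _ (dvd_mul_left _ G)) (IsLocalization.Away.algebraMap_isUnit g')).pow k)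
      hgen Q u hu
    exact ⟨_, ⟨k, (map_pow _ _ _).symm⟩, hwu⟩
  let c : Fin r → T := fun i => IsLocalization.Away.invSelf g' *
    algebraMap S T ((∏ j ∈ Finset.univ.erase i, g j) * algebraMap R S f)
  refine univInjUpTo_of_retractions _ T hker α (fun i => c i • (Algebra.linearMap S T ∘ₗ γ i)) fun i x => ?_
  show c i * algebraMap S T (γ i (α x)) = _
  rw [hγg]
  simp only [c]
  rw [mul_assoc, ← map_mul,
    show (∏ j ∈ Finset.univ.erase i, g j) * algebraMap R S f * (g i * x i) = g' * x i by
      simp only [g', G, ← Finset.prod_erase_mul _ _ (Finset.mem_univ i)]; ring,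
    map_mul, ← mul_assoc, mul_comm (IsLocalization.Away.invSelf g'), IsLocalization.Away.mul_invSelf, one_mul]

end

end Groth.Agent.RG
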