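import Groth.Agent.RG.EtaleBC
import Groth.Agent.RG.CoverPure
import Groth.Agent.FlatModel.Spread
import Mathlib.RingTheory.Spectrum.Prime.Chevalley

/-!
# Base change of étale neighbourhoods, images of étale maps, descent of avoidance
-/

set_option autoImplicit false
set_option linter.style.haveILetI false
set_option linter.unusedSectionVars false
set_option backward.isDefEq.respectTransparency false
set_option backward.isDefEq.respectTransparency.types false
set_option maxHeartbeats 1000000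

universe u

open TensorProduct

namespace Groth.Agent.RG

attribute [local instance] Algebra.TensorProduct.rightAlgebra

/-- The base change of an étale neighbourhood is one. -/
theorem isEtaleNhd_baseChange {R R' C C' : Type u} [CommRing R] [CommRing R'] [CommRing C] [CommRing C']
    [Algebra R R'] [Algebra R C] [Algebra C C'] [Algebra R' C'] [Algebra R C'] [IsScalarTower R C C']
    [IsScalarTower R R' C'] [Algebra.IsPushout R C R' C']
    {p : Ideal R} [p.IsPrime] {p' : Ideal R'} [p'.IsPrime] (h : FlatCA.IsEtaleNhd R R' p p')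
    {pC : Ideal C} [pC.IsPrime] [hpC : pC.LiesOver p] {r : Ideal C'} [r.IsPrime]
    (hrC : r.comap (algebraMap C C') = pC) (hr' : r.comap (algebraMap R' C') = p') :
    FlatCA.IsEtaleNhd C C' pC r := by
  haveI := h.1
  haveI : r.LiesOver pC := ⟨hrC.symm⟩
  refine ⟨Algebra.Etale.of_equiv (Algebra.IsPushout.equiv R C R' C'), inferInstance, RingHom.injective _, fun y => ?_⟩
  let φ := Ideal.ResidueField.mapₐ pC r (Algebra.ofId C C') hrC.symm
  show ∃ x, φ x = y
  suffices hz : ∀ z : C', algebraMap C' r.ResidueField z ∈ φ.toRingHom.fieldRange by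
    obtain ⟨a, b, hb, rfl⟩ := IsFractionRing.div_surjective (C' ⧸ r) y
    obtain ⟨a, rfl⟩ := Ideal.Quotient.mk_surjective a
    obtain ⟨b, rfl⟩ := Ideal.Quotient.mk_surjective b
    rw [Ideal.algebraMap_quotient_residueField_mk, Ideal.algebraMap_quotient_residueField_mk]
    exact Subfield.div_mem _ (hz a) (hz b)
  intro z
  have hmem : ∀ x : C, algebraMap C' r.ResidueField (algebraMap C C' x) ∈ φ.toRingHom.fieldRange :=
    fun x => ⟨algebraMap C pC.ResidueField x, φ.commutes x⟩
  refine (Algebra.IsPushout.out : IsBaseChange C (IsScalarTower.toAlgHom R R' C').toLinearMap).inductionOn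
    z (fun w => algebraMap C' r.ResidueField w ∈ φ.toRingHom.fieldRange)
    (by rw [map_zero]; exact zero_mem _) (fun c => ?_) (fun a x hx => ?_)
    (fun x y hx hy => by rw [map_add]; exact add_mem hx hy)
  · show algebraMap C' r.ResidueField (algebraMap R' C' c) ∈ _
    obtain ⟨a₀, b₀, hb₀, hm⟩ := exists_mul_sub_mem h c
    rw [← hr', Ideal.mem_comap, ← Ideal.algebraMap_residueField_eq_zero, map_sub, map_mul, map_sub, map_mul,
      sub_eq_zero, ← IsScalarTower.algebraMap_apply R R' C', ← IsScalarTower.algebraMap_apply R R' C',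
      IsScalarTower.algebraMap_apply R C C', IsScalarTower.algebraMap_apply R C C'] at hm
    have hb : algebraMap C' r.ResidueField (algebraMap C C' (algebraMap R C b₀)) ≠ 0 := fun h0 => by
      rw [Ideal.algebraMap_residueField_eq_zero, ← Ideal.mem_comap, hrC] at h0
      exact hb₀ ((SetLike.ext_iff.1 hpC.over b₀).2 h0)
    rw [show algebraMap C' r.ResidueField (algebraMap R' C' c) =
      algebraMap C' r.ResidueField (algebraMap C C' (algebraMap R C a₀)) /
        algebraMap C' r.ResidueField (algebraMap C C' (algebraMap R C b₀)) from by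
      rw [eq_div_iff hb, mul_comm, hm]]
    exact Subfield.div_mem _ (hmem _) (hmem _)
  · rw [Algebra.smul_def, map_mul]
    exact mul_mem (hmem a) hx

/-- The image of an étale map is a finite union of basic opens. -/
theorem exists_image_elems (W S : Type u) [CommRing W] [CommRing S] [Algebra W S] [Algebra.Etale W S] :
    ∃ (r : ℕ) (h : Fin r → W), ∀ (Q : Ideal W) [Q.IsPrime],
      (∃ i, h i ∉ Q) ↔ ∃ Q' : Ideal S, Q'.IsPrime ∧ Q'.comap (algebraMap W S) = Q := by
  classical
  let f := PrimeSpectrum.comap (algebraMap W S)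
  have ho : IsOpen (Set.range f) :=
    (PrimeSpectrum.isOpenMap_comap_of_hasGoingDown_of_finitePresentation (R := W) (S := S)).isOpen_range
  have hc : IsCompact (Set.range f) := isCompact_range (PrimeSpectrum.continuous_comap _)
  have hb : ∀ y : Set.range f, ∃ a : W, y.1 ∈ PrimeSpectrum.basicOpen a ∧
      (PrimeSpectrum.basicOpen a : Set (PrimeSpectrum W)) ⊆ Set.range f := fun y => by
    obtain ⟨_, ⟨a, rfl⟩, ha, hsub⟩ := PrimeSpectrum.isTopologicalBasis_basic_opens.exists_subset_of_mem_open y.2 ho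
    exact ⟨a, ha, hsub⟩
  choose a ha hsub using hb
  obtain ⟨t, ht⟩ := hc.elim_finite_subcover (fun y => (PrimeSpectrum.basicOpen (a y) : Set (PrimeSpectrum W)))
    (fun y => (PrimeSpectrum.basicOpen (a y)).isOpen) fun y hy => Set.mem_iUnion.2 ⟨⟨y, hy⟩, ha _⟩
  refine ⟨t.card, fun i => a (t.equivFin.symm i).1, fun Q _ => ⟨?_, ?_⟩⟩
  · rintro ⟨i, hi⟩
    obtain ⟨y, hy⟩ := hsub (t.equivFin.symm i).1 (a := ⟨Q, inferInstance⟩) hi
    exact ⟨y.asIdeal, y.isPrime, congrArg PrimeSpectrum.asIdeal hy⟩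
  · rintro ⟨Q', hQ', hQQ⟩
    obtain ⟨y, hyt, hy⟩ := Set.mem_iUnion₂.1 (ht ⟨⟨Q', hQ'⟩, rfl⟩)
    refine ⟨t.equivFin ⟨y, hyt⟩, ?_⟩
    show a (t.equivFin.symm (t.equivFin ⟨y, hyt⟩)).1 ∉ Q
    rw [Equiv.symm_apply_apply, ← hQQ]
    exact hy

section Descent

variable {R : Type u} [CommRing R] {ι : Type u} [Preorder ι] {G : ι → Type u} [∀ i, CommRing (G i)]
  [∀ i, Algebra R (G i)] {A : Type u} [CommRing A] [Algebra R A] [∀ i, Algebra (G i) A]
  [∀ i, IsScalarTower R (G i) A] (g : ∀ i j, i ≤ j → G i →ₐ[R] G j)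
  (hcolim : FlatCA.IsDirectedColimitRing G (fun i j h => (g i j h).toRingHom) A)
  (R' : Type u) [CommRing R'] [Algebra R R']

variable (A) in
/-- The map from a stage. -/
noncomputable abbrev stageMap (k : ι) : G k ⊗[R] R' →ₐ[R] A ⊗[R] R' :=
  Algebra.TensorProduct.map (IsScalarTower.toAlgHom R (G k) A) (AlgHom.id R R')

include hcolim in
/-- Generisations avoiding the image of an affine scheme over the base do so at a stage. -/
theorem exists_stage_avoid (r : Ideal (A ⊗[R] R')) [r.IsPrime] {E : Type u} [CommRing E] (f : R' →+* E)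
    (h : ∀ (t : Ideal (A ⊗[R] R')) [t.IsPrime], t ≤ r → ∀ y : Ideal E, y.IsPrime →
      y.comap f ≠ t.comap (algebraMap R' (A ⊗[R] R'))) :
    ∃ k, ∀ (t : Ideal (G k ⊗[R] R')) [t.IsPrime], t ≤ r.comap (stageMap A R' k) → ∀ y : Ideal E, y.IsPrime →
      y.comap f ≠ t.comap (algebraMap R' (G k ⊗[R] R')) := by
  letI : Algebra R' E := f.toAlgebra
  letI : Algebra R E := (f.comp (algebraMap R R')).toAlgebra
  haveI : IsScalarTower R R' E := IsScalarTower.of_algebraMap_eq' rfl
  let φ : R' →ₐ[R] E := IsScalarTower.toAlgHom R R' E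
  -- at infinity
  let Φ : A ⊗[R] R' →ₐ[R] A ⊗[R] E := Algebra.TensorProduct.map (AlgHom.id R A) φ
  have hcomm : ∀ x : R', Φ (algebraMap R' (A ⊗[R] R') x) = (1 : A) ⊗ₜ[R] φ x := fun x => by
    show Φ ((1 : A) ⊗ₜ[R] x) = _
    simp [Φ]
  obtain ⟨s, hsr, hs⟩ : ∃ s, s ∉ r ∧ Φ s = 0 := by
    by_contra hne
    push Not at hne
    have h0 : Disjoint ((⊥ : Ideal (A ⊗[R] E)) : Set (A ⊗[R] E)) (r.primeCompl.map Φ : Set (A ⊗[R] E)) :=
      Set.disjoint_left.2 fun a ha hw => by
        obtain ⟨s, hs, rfl⟩ := hw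
        exact hne s hs ha
    obtain ⟨Q, hQ, -, hQW⟩ := Ideal.exists_le_prime_disjoint ⊥ _ h0
    haveI := hQ
    refine h (Q.comap Φ) (fun a ha => by_contra fun har => Set.disjoint_left.1 hQW ha ⟨a, har, rfl⟩)
      (Q.comap (Algebra.TensorProduct.includeRight : E →ₐ[R] A ⊗[R] E)) inferInstance ?_
    ext x
    simp only [Ideal.mem_comap, Algebra.TensorProduct.includeRight_apply, hcomm]
    rfl
  -- descend
  obtain ⟨i, si, hsi⟩ := FlatSpread.exists_tensor_stage g hcolim R' s
  have hsi0 : (IsScalarTower.toAlgHom R (G i) A).toLinearMap.rTensor E (φ.toLinearMap.lTensor (G i) si) = 0 := by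
    rw [← LinearMap.comp_apply, LinearMap.rTensor_comp_lTensor, ← LinearMap.lTensor_comp_rTensor, LinearMap.comp_apply,
      hsi, ← hs]
    rfl
  obtain ⟨k, hik, hk⟩ := FlatSpread.exists_tensor_zero g hcolim E _ hsi0
  refine ⟨k, fun t _ htr y hy hyt => ?_⟩
  let sk := (g i k hik).toLinearMap.rTensor R' si
  have hsk : stageMap A R' k sk = s := by
    rw [← hsi]
    show (stageMap A R' k).toLinearMap ((g i k hik).toLinearMap.rTensor R' si) = _
    rw [← LinearMap.comp_apply]
    refine LinearMap.congr_fun (TensorProduct.ext' fun a x => ?_) si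
    simp only [stageMap, LinearMap.comp_apply, LinearMap.rTensor_tmul, AlgHom.toLinearMap_apply,
      Algebra.TensorProduct.map_tmul, AlgHom.id_apply]
    exact congrArg (· ⊗ₜ[R] x) (RingHom.congr_fun (hcolim.2.2.2.2.1 i k hik) a)
  have hk0 : φ.toLinearMap.lTensor (G k) sk = 0 := by
    rw [← hk, ← LinearMap.comp_apply, LinearMap.lTensor_comp_rTensor, ← LinearMap.rTensor_comp_lTensor,
      LinearMap.comp_apply]
  haveI := hy
  obtain ⟨q, hq, hqt⟩ := exists_prime_tensor_left (R := R') (G k ⊗[R] R') E t y hyt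
  let χ : G k ⊗[R] E →ₗ[R] (G k ⊗[R] R') ⊗[R'] E :=
    (Algebra.TensorProduct.lift
      (((Algebra.TensorProduct.includeLeft : G k ⊗[R] R' →ₐ[R] (G k ⊗[R] R') ⊗[R'] E)).comp
        (Algebra.TensorProduct.includeLeft : G k →ₐ[R] G k ⊗[R] R'))
      ((Algebra.TensorProduct.includeRight : E →ₐ[R'] (G k ⊗[R] R') ⊗[R'] E).restrictScalars R)
      fun _ _ => Commute.all _ _).toLinearMap
  have hχ : χ ∘ₗ φ.toLinearMap.lTensor (G k) =
      ((Algebra.TensorProduct.includeLeft : G k ⊗[R] R' →ₐ[R] (G k ⊗[R] R') ⊗[R'] E)).toLinearMap := by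
    refine TensorProduct.ext' fun a x => ?_
    show ((a ⊗ₜ[R] (1 : R')) ⊗ₜ[R'] (1 : E)) * ((1 : G k ⊗[R] R') ⊗ₜ[R'] φ x) = (a ⊗ₜ[R] x) ⊗ₜ[R'] (1 : E)
    rw [Algebra.TensorProduct.tmul_mul_tmul, mul_one, one_mul, show φ x = x • (1 : E) from by
      rw [Algebra.smul_def, mul_one]; rfl, ← TensorProduct.smul_tmul, Algebra.smul_def]
    congr 1
    show ((1 : G k) ⊗ₜ[R] x) * (a ⊗ₜ[R] (1 : R')) = _
    rw [Algebra.TensorProduct.tmul_mul_tmul, mul_one, one_mul]
  have hzero : algebraMap (G k ⊗[R] R') ((G k ⊗[R] R') ⊗[R'] E) sk = 0 := by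
    show sk ⊗ₜ[R'] (1 : E) = 0
    rw [show sk ⊗ₜ[R'] (1 : E) = χ (φ.toLinearMap.lTensor (G k) sk) from (LinearMap.congr_fun hχ sk).symm, hk0, map_zero]
  have : sk ∈ t := by
    rw [← hqt, Ideal.mem_comap, hzero]; exact zero_mem _
  exact hsr (hsk ▸ htr this)

end Descent

end Groth.Agent.RG
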