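import Groth.Agent.RG.DescPureKey

/-!
# The criterion for purity after a base change
-/

set_option autoImplicit false
set_option linter.style.haveILetI false
set_option linter.unusedSectionVars false
set_option backward.isDefEq.respectTransparency false
set_option backward.isDefEq.respectTransparency.types false
set_option maxHeartbeats 2000000

universe u

open TensorProduct Groth.Agent.ZClosLib

namespace Groth.Agent.RG

attribute [local instance] Algebra.TensorProduct.rightAlgebra

variable {R R' S W S' M MW M' : Type u}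
  [CommRing R] [CommRing R'] [CommRing S] [CommRing W] [CommRing S']
  [Algebra R R'] [Algebra R S] [Algebra R W] [Algebra R' W] [Algebra S W] [IsScalarTower R R' W] [IsScalarTower R S W]
  [Algebra.IsPushout R R' S W] [Algebra.FiniteType R S]
  [Algebra W S'] [Algebra.Etale W S'] [Algebra R' S'] [IsScalarTower R' W S'] [Algebra S S'] [IsScalarTower S W S']
  [AddCommGroup M] [Module S M]
  [AddCommGroup MW] [Module W MW] [Module S MW] [IsScalarTower S W MW] [Module R' MW] [IsScalarTower R' W MW]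
  [AddCommGroup M'] [Module S' M'] [Module W M'] [IsScalarTower W S' M'] [Module R' M'] [IsScalarTower R' S' M']
  (fW : M →ₗ[S] MW) (hfW : IsBaseChange W fW) (fS : MW →ₗ[W] M') (hfS : IsBaseChange S' fS)
  (hproj : Module.Projective R' M')
  {n : ℕ} (h : Fin n → W)
  (himage : ∀ (Q : Ideal W) [Q.IsPrime], (∃ i, h i ∉ Q) ↔ ∃ Q' : Ideal S', Q'.IsPrime ∧ Q'.comap (algebraMap W S') = Q)
  {p : Ideal R} [p.IsPrime] {p' : Ideal R'} [p'.IsPrime] (het : FlatCA.IsEtaleNhd R R' p p')
  (hcov₀ : ∀ (q : Ideal S) [q.IsPrime], q.LiesOver p →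
    ∃ q' : Ideal S', q'.IsPrime ∧ q'.comap (algebraMap S S') = q ∧ q'.comap (algebraMap R' S') = p')

omit fW fS in
/-- The cover carries a pure module. -/
theorem isPureAlong_cover_tensor [Algebra.FiniteType R' W] {C' BA NA : Type u} [CommRing C'] [CommRing BA] [Algebra C' BA] [Algebra R' C']
    [Algebra R' BA] [IsScalarTower R' C' BA] [Algebra W BA] [IsScalarTower R' W BA] [Algebra.IsPushout R' C' W BA]
    [Algebra.FiniteType C' BA]
    [AddCommGroup NA] [Module BA NA] [Module C' NA] [IsScalarTower C' BA NA] [Module W NA] [IsScalarTower W BA NA]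
    [Module R' NA] [IsScalarTower R' C' NA] [IsScalarTower R' W NA]
    [Module.Finite BA NA] (fS : MW →ₗ[W] M') (hfS : IsBaseChange S' fS) (hproj : Module.Projective R' M')
    (gW : MW →ₗ[W] NA) (hgW : IsBaseChange BA gW) (P : Ideal C') [P.IsPrime] :
    FlatCA.IsPureAlong C' (BA ⊗[W] S') ((BA ⊗[W] S') ⊗[BA] NA) P := by
  haveI : Algebra.FiniteType C' (BA ⊗[W] S') := Algebra.FiniteType.trans
    (inferInstance : Algebra.FiniteType C' BA) (inferInstance : Algebra.FiniteType BA (BA ⊗[W] S'))
  haveI : SMulCommClass BA S' (BA ⊗[W] S') := ⟨fun a b x => by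
    rw [Algebra.smul_def, Algebra.smul_def, Algebra.smul_def, Algebra.smul_def, mul_left_comm]⟩
  haveI : IsScalarTower W S' ((BA ⊗[W] S') ⊗[BA] NA) :=
    IsScalarTower.of_algebraMap_smul fun a (z : (BA ⊗[W] S') ⊗[BA] NA) => by
      rw [← algebraMap_smul (BA ⊗[W] S') (algebraMap W S' a) z, ← IsScalarTower.algebraMap_apply W S' (BA ⊗[W] S'),
        algebraMap_smul]
  haveI : IsScalarTower R' S' ((BA ⊗[W] S') ⊗[BA] NA) :=
    IsScalarTower.of_algebraMap_smul fun a (z : (BA ⊗[W] S') ⊗[BA] NA) => by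
      rw [← algebraMap_smul (BA ⊗[W] S') (algebraMap R' S' a) z, IsScalarTower.algebraMap_apply R' W S',
        ← IsScalarTower.algebraMap_apply W S' (BA ⊗[W] S'), ← IsScalarTower.algebraMap_apply R' W (BA ⊗[W] S'),
        algebraMap_smul]
  exact isPureAlong_cover (R' := R') hproj fS hfS gW hgW
    (TensorProduct.mk BA (BA ⊗[W] S') NA 1) (TensorProduct.isBaseChange BA NA (BA ⊗[W] S')) P

include himage het hcov₀

omit fW fS in
/-- The criterion, with the models above given. -/
theorem pure_iff_injP_aux {C C' CS BA MC NA : Type u} [CommRing C] [CommRing C'] [CommRing CS] [CommRing BA]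
    [Algebra R C] [Algebra C C'] [Algebra C CS] [Algebra R CS] [IsScalarTower R C CS] [Algebra S CS] [IsScalarTower R S CS]
    [Algebra CS BA] [Algebra C' BA] [Algebra C BA] [IsScalarTower C CS BA] [IsScalarTower C C' BA]
    [Algebra.IsPushout C CS C' BA] [Algebra R' C'] [Algebra R' BA] [IsScalarTower R' C' BA] [Algebra W BA]
    [IsScalarTower R' W BA] [Algebra.IsPushout R' C' W BA] [Algebra S BA] [IsScalarTower S W BA] [IsScalarTower S CS BA]
    [Algebra.FiniteType R' W] [Algebra.FiniteType C CS] [Algebra.FiniteType C' BA]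
    [AddCommGroup MC] [Module CS MC] [Module C MC] [IsScalarTower C CS MC] [Module.Finite CS MC]
    [AddCommGroup NA] [Module BA NA] [Module CS NA] [IsScalarTower CS BA NA] [Module C' NA] [IsScalarTower C' BA NA]
    [Module W NA] [IsScalarTower W BA NA] [Module R' NA] [IsScalarTower R' C' NA] [IsScalarTower R' W NA]
    [Module.Finite BA NA]
    (fS : MW →ₗ[W] M') (hfS : IsBaseChange S' fS) (hproj : Module.Projective R' M')
    (fA : MC →ₗ[CS] NA) (hfA : IsBaseChange BA fA) (gW : MW →ₗ[W] NA) (hgW : IsBaseChange BA gW)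
    (pC : Ideal C) [pC.IsPrime] [pC.LiesOver p]
    (hflat : ∀ (q : Ideal CS) [q.IsPrime], q.LiesOver pC → FlatCA.FlatAt C q MC)
    (P : Ideal C') [P.IsPrime] (hetC : FlatCA.IsEtaleNhd C C' pC P) (hPR : P.comap (algebraMap R' C') = p') :
    FlatCA.IsPureAlong C CS MC pC ↔ ∀ (t : Ideal C') [t.IsPrime], t ≤ P →
      RelAssGen.InjP ((RelAssGen.mulMap h MW).restrictScalars R') (t.comap (algebraMap R' C')) := by
  have hgW' : IsBaseChange C' (gW.restrictScalars R') :=
    haveI : Algebra.IsPushout R' W C' BA := Algebra.IsPushout.symm inferInstance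
    isBaseChange_restrict (B := R') (B' := C') (A := W) gW hgW
  constructor
  · intro hpure t _ htP
    exact injP_of_cover gW hgW' h himage t fun Q _ hQt hass =>
      image_of_pure (A := C) (B := CS) hflat hpure hetC (B' := BA ⊗[W] S')
        (fun q _ hq _ => exists_cover_point (R := R) (S := S) het hcov₀ hetC hPR q hq)
        fA hfA t htP Q hQt hass
  · intro hinj
    haveI : Algebra.FiniteType C' (BA ⊗[W] S') := Algebra.FiniteType.trans
      (inferInstance : Algebra.FiniteType C' BA) (inferInstance : Algebra.FiniteType BA (BA ⊗[W] S'))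
    exact pure_of_image MC pC P hetC fA hfA (TensorProduct.mk BA (BA ⊗[W] S') NA 1)
      (TensorProduct.isBaseChange BA NA (BA ⊗[W] S')) (isPureAlong_cover_tensor fS hfS hproj gW hgW P)
      fun t _ htP Q _ hQt hass => exists_cover_of_injP gW hgW' h himage t (hinj t htP) Q hQt hass

include fW hfW fS hfS hproj


/-- The criterion, with the rings above given. -/
theorem pure_iff_injP_rings {C C' CS BA : Type u} [CommRing C] [CommRing C'] [CommRing CS] [CommRing BA]
    [Algebra R C] [Algebra C C'] [Algebra C CS] [Algebra R CS] [IsScalarTower R C CS] [Algebra S CS] [IsScalarTower R S CS]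
    [Algebra CS BA] [Algebra C' BA] [Algebra C BA] [IsScalarTower C CS BA] [IsScalarTower C C' BA]
    [Algebra.IsPushout C CS C' BA] [Algebra R' C'] [Algebra R' BA] [IsScalarTower R' C' BA] [Algebra W BA]
    [IsScalarTower R' W BA] [Algebra.IsPushout R' C' W BA] [Algebra S BA] [IsScalarTower S W BA] [IsScalarTower S CS BA]
    [Algebra.FiniteType R' W] [Algebra.FiniteType C CS] [Algebra.FiniteType C' BA]
    {MC : Type u} [AddCommGroup MC] [Module CS MC] [Module S MC] [IsScalarTower S CS MC] [Module C MC] [IsScalarTower C CS MC]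
    [Module.Finite CS MC] (fC : M →ₗ[S] MC) (hfC : IsBaseChange CS fC)
    (pC : Ideal C) [pC.IsPrime] [pC.LiesOver p]
    (hflat : ∀ (q : Ideal CS) [q.IsPrime], q.LiesOver pC → FlatCA.FlatAt C q MC)
    (P : Ideal C') [P.IsPrime] (hetC : FlatCA.IsEtaleNhd C C' pC P) (hPR : P.comap (algebraMap R' C') = p') :
    FlatCA.IsPureAlong C CS MC pC ↔ ∀ (t : Ideal C') [t.IsPrime], t ≤ P →
      RelAssGen.InjP ((RelAssGen.mulMap h MW).restrictScalars R') (t.comap (algebraMap R' C')) := by
  haveI : SMulCommClass CS W BA := ⟨fun a b x => by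
    rw [Algebra.smul_def, Algebra.smul_def, Algebra.smul_def, Algebra.smul_def, mul_left_comm]⟩
  haveI : SMulCommClass CS S BA := ⟨fun a b x => by
    rw [Algebra.smul_def, Algebra.smul_def, Algebra.smul_def, Algebra.smul_def, mul_left_comm]⟩
  haveI : SMulCommClass CS R' BA := ⟨fun a b x => by
    rw [Algebra.smul_def, Algebra.smul_def, Algebra.smul_def, Algebra.smul_def, mul_left_comm]⟩
  haveI : SMulCommClass CS C' BA := ⟨fun a b x => by
    rw [Algebra.smul_def, Algebra.smul_def, Algebra.smul_def, Algebra.smul_def, mul_left_comm]⟩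
  -- the modules above
  let NA := BA ⊗[CS] MC
  haveI : IsScalarTower S W NA := IsScalarTower.of_algebraMap_smul fun a (z : NA) => by
    rw [← algebraMap_smul BA (algebraMap S W a) z, ← IsScalarTower.algebraMap_apply S W _, algebraMap_smul]
  haveI : IsScalarTower S CS NA := IsScalarTower.of_algebraMap_smul fun a (z : NA) => by
    rw [← algebraMap_smul BA (algebraMap S CS a) z, ← IsScalarTower.algebraMap_apply S CS _, algebraMap_smul]
  haveI : IsScalarTower R' W NA := IsScalarTower.of_algebraMap_smul fun a (z : NA) => by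
    rw [← algebraMap_smul BA (algebraMap R' W a) z, ← IsScalarTower.algebraMap_apply R' W _, algebraMap_smul]
  let fA : MC →ₗ[CS] NA := TensorProduct.mk CS BA MC 1
  have hfA : IsBaseChange BA fA := TensorProduct.isBaseChange CS MC _
  obtain ⟨gW, hgW, -⟩ := isBaseChange_chart fW hfW fC hfC fA hfA
  exact pure_iff_injP_aux h himage het hcov₀ fS hfS hproj fA hfA gW hgW pC hflat P hetC hPR


/-- Purity after a base change, read in the fibres of the model. -/
theorem pure_iff_injP (C CS : Type u) [CommRing C] [CommRing CS] [Algebra R C] [Algebra C CS] [Algebra S CS] [Algebra R CS]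
    [IsScalarTower R C CS] [IsScalarTower R S CS] [Algebra.IsPushout R C S CS]
    (MC : Type u) [AddCommGroup MC] [Module CS MC] [Module S MC] [IsScalarTower S CS MC] [Module C MC] [IsScalarTower C CS MC]
    [Module.Finite CS MC] (fC : M →ₗ[S] MC) (hfC : IsBaseChange CS fC)
    (pC : Ideal C) [pC.IsPrime] [pC.LiesOver p]
    (hflat : ∀ (q : Ideal CS) [q.IsPrime], q.LiesOver pC → FlatCA.FlatAt C q MC)
    (P : Ideal (C ⊗[R] R')) [P.IsPrime] (hPC : P.comap (algebraMap C (C ⊗[R] R')) = pC)
    (hPR : P.comap (algebraMap R' (C ⊗[R] R')) = p') :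
    FlatCA.IsPureAlong C CS MC pC ↔ ∀ (t : Ideal (C ⊗[R] R')) [t.IsPrime], t ≤ P →
      RelAssGen.InjP ((RelAssGen.mulMap h MW).restrictScalars R') (t.comap (algebraMap R' (C ⊗[R] R'))) := by
  haveI := het.1
  haveI := het.2.1
  haveI hC'po : Algebra.IsPushout R C R' (C ⊗[R] R') := inferInstance
  have hetC : FlatCA.IsEtaleNhd C (C ⊗[R] R') pC P := isEtaleNhd_baseChange het hPC hPR
  haveI : Algebra.IsPushout R S R' W := Algebra.IsPushout.symm inferInstance
  haveI : Algebra.IsPushout R S C CS := Algebra.IsPushout.symm inferInstance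
  haveI : Algebra.FiniteType R' W := PurityBC.finiteType_of_isPushout R S R' W
  haveI : Algebra.FiniteType C CS := PurityBC.finiteType_of_isPushout R S C CS
  -- the rings above
  letI : Algebra S ((C ⊗[R] R') ⊗[R'] W) := ((algebraMap W ((C ⊗[R] R') ⊗[R'] W)).comp (algebraMap S W)).toAlgebra
  haveI : IsScalarTower S W ((C ⊗[R] R') ⊗[R'] W) := IsScalarTower.of_algebraMap_eq' rfl
  haveI hR'W : IsScalarTower R' W ((C ⊗[R] R') ⊗[R'] W) := inferInstance
  haveI : IsScalarTower R R' ((C ⊗[R] R') ⊗[R'] W) := inferInstance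
  haveI : IsScalarTower R S ((C ⊗[R] R') ⊗[R'] W) :=
    IsScalarTower.of_algebraMap_eq (R := R) (S := S) (A := (C ⊗[R] R') ⊗[R'] W) fun a => by
      rw [IsScalarTower.algebraMap_apply S W ((C ⊗[R] R') ⊗[R'] W), ← IsScalarTower.algebraMap_apply R S W,
        IsScalarTower.algebraMap_apply R R' W, ← IsScalarTower.algebraMap_apply R' W ((C ⊗[R] R') ⊗[R'] W),
        ← IsScalarTower.algebraMap_apply R R' ((C ⊗[R] R') ⊗[R'] W)]
  let ψ : CS →ₐ[R] (C ⊗[R] R') ⊗[R'] W := Algebra.pushoutDesc (R := R) (S := C) (R' := S) CS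
    (IsScalarTower.toAlgHom R C _) (IsScalarTower.toAlgHom R S _) fun _ _ => mul_comm _ _
  letI : Algebra CS ((C ⊗[R] R') ⊗[R'] W) := ψ.toRingHom.toAlgebra
  haveI : IsScalarTower C CS ((C ⊗[R] R') ⊗[R'] W) :=
    IsScalarTower.of_algebraMap_eq (R := C) (S := CS) (A := (C ⊗[R] R') ⊗[R'] W) fun a => by
      show _ = ψ (algebraMap C CS a)
      simp only [ψ, Algebra.pushoutDesc_left]
      rfl
  haveI : IsScalarTower S CS ((C ⊗[R] R') ⊗[R'] W) :=
    IsScalarTower.of_algebraMap_eq (R := S) (S := CS) (A := (C ⊗[R] R') ⊗[R'] W) fun a => by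
      show _ = ψ (algebraMap S CS a)
      simp only [ψ, Algebra.pushoutDesc_right]
      rfl
  haveI : IsScalarTower R CS ((C ⊗[R] R') ⊗[R'] W) :=
    IsScalarTower.of_algebraMap_eq (R := R) (S := CS) (A := (C ⊗[R] R') ⊗[R'] W) fun a => (ψ.commutes a).symm
  haveI : IsScalarTower R W ((C ⊗[R] R') ⊗[R'] W) :=
    IsScalarTower.of_algebraMap_eq (R := R) (S := W) (A := (C ⊗[R] R') ⊗[R'] W) fun a => by
      rw [IsScalarTower.algebraMap_apply R R' W, ← IsScalarTower.algebraMap_apply R' W ((C ⊗[R] R') ⊗[R'] W),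
        ← IsScalarTower.algebraMap_apply R R' ((C ⊗[R] R') ⊗[R'] W)]
  haveI hpoBA : Algebra.IsPushout C CS (C ⊗[R] R') ((C ⊗[R] R') ⊗[R'] W) := by
    haveI : Algebra.IsPushout R R' S W := inferInstance
    haveI h1 : Algebra.IsPushout R (C ⊗[R] R') S ((C ⊗[R] R') ⊗[R'] W) :=
      (Algebra.IsPushout.comp_iff R R' S W (T := C ⊗[R] R') (T' := (C ⊗[R] R') ⊗[R'] W)).2 inferInstance
    exact ((Algebra.IsPushout.comp_iff R C S CS (T := C ⊗[R] R') (T' := (C ⊗[R] R') ⊗[R'] W)).1 h1).symm
  haveI : Algebra.IsPushout R' (C ⊗[R] R') W ((C ⊗[R] R') ⊗[R'] W) := inferInstance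
  haveI : Algebra.FiniteType (C ⊗[R] R') ((C ⊗[R] R') ⊗[R'] W) := inferInstance
  exact pure_iff_injP_rings (BA := (C ⊗[R] R') ⊗[R'] W) fW hfW fS hfS hproj h himage het hcov₀ fC hfC pC hflat P hetC hPR

end Groth.Agent.RG
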