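import Groth.Agent.RG.DescPureModel
import Groth.Agent.NApproxLib.Model
import Groth.Agent.FlatSyz5.Colim

/-!
# Descent of purity and flatness along a fibre to a stage of a colimit
-/

set_option autoImplicit false
set_option linter.style.haveILetI false
set_option linter.unusedSectionVars false
set_option backward.isDefEq.respectTransparency false
set_option backward.isDefEq.respectTransparency.types false
set_option maxHeartbeats 2000000

universe u

open TensorProduct

namespace Groth.Agent.RG

attribute [local instance] Algebra.TensorProduct.rightAlgebra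

variable {ι : Type u} [Preorder ι] {G : ι → Type u} [∀ i, CommRing (G i)] {g : ∀ i j, i ≤ j → G i →+* G j}
  {A : Type u} [CommRing A] [∀ i, Algebra (G i) A] (hcolim : FlatCA.IsDirectedColimitRing G g A)

include hcolim in
/-- The stages above a given one form a directed system with the same colimit. -/
theorem isDirectedColimitRing_above (j : ι) :
    FlatCA.IsDirectedColimitRing (fun i : {i // j ≤ i} => G i.1) (fun a b h => g a.1 b.1 h) A := by
  obtain ⟨hdir, hne, hid, hcomp, halg, hsurj, hinj⟩ := hcolim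
  refine ⟨⟨fun a b => ?_⟩, ⟨⟨j, le_rfl⟩⟩, fun a => hid a.1, fun a b c _ _ => hcomp a.1 b.1 c.1 _ _, fun a b h => halg a.1 b.1 h,
    fun a => ?_, fun a x hx => ?_⟩
  · obtain ⟨c, hac, hbc⟩ := hdir.directed a.1 b.1
    exact ⟨⟨c, a.2.trans hac⟩, hac, hbc⟩
  · obtain ⟨i, x, rfl⟩ := hsurj a
    obtain ⟨k, hik, hjk⟩ := hdir.directed i j
    exact ⟨⟨k, hjk⟩, g i k hik x, RingHom.congr_fun (halg i k hik) x⟩
  · obtain ⟨k, hak, hk⟩ := hinj a.1 x hx
    exact ⟨⟨k, a.2.trans hak⟩, hak, hk⟩

include hcolim in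
/-- A homomorphism out of a ring of finite type over the integers lifts to a stage. -/
theorem exists_hom_stage {R : Type u} [CommRing R] [Algebra.FiniteType ℤ R] (ψ : R →+* A) :
    ∃ (j : ι) (φ : R →+* G j), (algebraMap (G j) A).comp φ = ψ := by
  classical
  obtain ⟨hdir, hne, -, hcomp, halg, hsurj, hinj⟩ := hcolim
  haveI : IsDirected ι (· ≤ ·) := hdir
  haveI := hne
  obtain ⟨n, π, hπ⟩ := Algebra.FiniteType.iff_quotient_mvPolynomial''.1 (inferInstance : Algebra.FiniteType ℤ R)
  choose i x hx using fun a : Fin n => hsurj (ψ (π (MvPolynomial.X a)))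
  obtain ⟨i₀, hi₀⟩ := Finset.exists_le (Finset.univ.image i)
  let θ : MvPolynomial (Fin n) ℤ →+* G i₀ :=
    MvPolynomial.eval₂Hom (Int.castRingHom (G i₀)) fun a => g (i a) i₀ (hi₀ _ (Finset.mem_image_of_mem i (Finset.mem_univ a))) (x a)
  have hθ : (algebraMap (G i₀) A).comp θ = ψ.comp π.toRingHom := MvPolynomial.ringHom_ext (fun z => by simp) fun a => by
    simp only [θ, RingHom.comp_apply, MvPolynomial.eval₂Hom_X']
    exact (RingHom.congr_fun (halg _ _ _) (x a)).trans (hx a)
  obtain ⟨T, hT⟩ := IsNoetherian.noetherian (RingHom.ker π.toRingHom)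
  have hkill : ∀ t : Finset (MvPolynomial (Fin n) ℤ), (∀ q ∈ t, π q = 0) →
      ∃ j, ∃ h : i₀ ≤ j, ∀ q ∈ t, g i₀ j h (θ q) = 0 := by
    intro t
    induction t using Finset.induction with
    | empty => exact fun _ => ⟨i₀, le_rfl, by simp⟩
    | @insert q t _ ih =>
      intro h
      obtain ⟨j, hj, hj'⟩ := ih fun r hr => h r (Finset.mem_insert_of_mem hr)
      obtain ⟨j', hij', hq⟩ := hinj i₀ (θ q) ((RingHom.congr_fun hθ q).trans (by
        show ψ (π q) = 0
        rw [h q (Finset.mem_insert_self _ _), map_zero]))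
      obtain ⟨k, hjk, hj'k⟩ := hdir.directed j j'
      refine ⟨k, hj.trans hjk, fun r hr => ?_⟩
      rcases Finset.mem_insert.1 hr with rfl | hr
      · rw [← hcomp i₀ j' k hij' hj'k, RingHom.comp_apply, hq, map_zero]
      · rw [← hcomp i₀ j k hj hjk, RingHom.comp_apply, hj' r hr, map_zero]
  obtain ⟨j, hij, hj⟩ := hkill T fun q hq => hT.le (Submodule.subset_span hq)
  have hker : RingHom.ker π.toRingHom ≤ RingHom.ker ((g i₀ j hij).comp θ) := by
    rw [← hT]
    exact Submodule.span_le.2 fun r hr => hj r hr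
  refine ⟨j, π.toRingHom.liftOfSurjective hπ ⟨(g i₀ j hij).comp θ, hker⟩, RingHom.ext fun y => ?_⟩
  obtain ⟨y, rfl⟩ := hπ y
  rw [RingHom.comp_apply]
  refine (congrArg (algebraMap (G j) A) (RingHom.liftOfRightInverse_comp_apply _ _ _ _ y)).trans ?_
  exact (RingHom.congr_fun (halg i₀ j hij) (θ y)).trans (RingHom.congr_fun hθ y)

variable {B : Type u} [CommRing B] [Algebra A B] (N : Type u) [AddCommGroup N] [Module B N] [Module A N] [IsScalarTower A B N]
  (p : Ideal A) [p.IsPrime]

/-- The conclusion: a stage with a model which is pure and flat along the fibre. -/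
def HasPureFlatModel (G : ι → Type u) [∀ i, CommRing (G i)] [∀ i, Algebra (G i) A] : Prop :=
  ∃ (i : ι) (Bi Ni : Type u) (_ : CommRing Bi) (_ : Algebra (G i) Bi) (_ : Algebra Bi B) (_ : Algebra (G i) B)
      (_ : IsScalarTower (G i) A B) (_ : IsScalarTower (G i) Bi B)
      (_ : AddCommGroup Ni) (_ : Module Bi Ni) (_ : Module (G i) Ni) (_ : IsScalarTower (G i) Bi Ni)
      (_ : Module Bi N) (_ : IsScalarTower Bi B N) (f : Ni →ₗ[Bi] N),
      Algebra.FinitePresentation (G i) Bi ∧ Algebra.IsPushout (G i) Bi A B ∧ Module.FinitePresentation Bi Ni ∧ IsBaseChange B f ∧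
      FlatCA.IsPureAlong (G i) Bi Ni (p.comap (algebraMap (G i) A)) ∧
      ∀ (q : Ideal Bi) [q.IsPrime], q.LiesOver (p.comap (algebraMap (G i) A)) → FlatCA.FlatAt (G i) q Ni

include hcolim in
/-- From a stage where the model is flat along the fibre. -/
theorem hasPureFlatModel_of_flat (j : ι) {S : Type u} [CommRing S] [Algebra (G j) S] [Algebra.FinitePresentation (G j) S]
    (M : Type u) [AddCommGroup M] [Module S M] [Module (G j) M] [IsScalarTower (G j) S M] [Module.FinitePresentation S M]
    [Algebra S B] [Algebra (G j) B] [IsScalarTower (G j) A B] [IsScalarTower (G j) S B] [Algebra.IsPushout (G j) A S B]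
    [Module S N] [IsScalarTower S B N] (f : M →ₗ[S] N) (hf : IsBaseChange B f)
    (hflat : ∀ (q : Ideal S) [q.IsPrime], q.LiesOver (p.comap (algebraMap (G j) A)) → FlatCA.FlatAt (G j) q M)
    (hpure : FlatCA.IsPureAlong A B N p) : HasPureFlatModel (B := B) N p G := by
  obtain ⟨-, -, -, hcomp, halg, -⟩ := id hcolim
  letI : ∀ i : {i // j ≤ i}, Algebra (G j) (G i.1) := fun i => (g j i.1 i.2).toAlgebra
  haveI : ∀ i : {i // j ≤ i}, IsScalarTower (G j) (G i.1) A := fun i =>
    IsScalarTower.of_algebraMap_eq fun x => (RingHom.congr_fun (halg j i.1 i.2) x).symm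
  let g' : ∀ a b : {i // j ≤ i}, a ≤ b → G a.1 →ₐ[G j] G b.1 := fun a b h =>
    { g a.1 b.1 h with commutes' := fun x => RingHom.congr_fun (hcomp j a.1 b.1 a.2 h) x }
  obtain ⟨k, hk⟩ := exists_stage_pure (R := G j) (G := fun i : {i // j ≤ i} => G i.1) M g'
    (isDirectedColimitRing_above hcolim j) p hflat N f hf hpure
  letI : Algebra (G k.1) B := ((algebraMap A B).comp (algebraMap (G k.1) A)).toAlgebra
  haveI : IsScalarTower (G k.1) A B := IsScalarTower.of_algebraMap_eq' rfl
  obtain ⟨Sk, Mk, _, _, _, _, _, _, _, _, _, _, _, _, _, _, _, _, _, fk, f', hpo, hfk, hpo', hf', hfp, hfpm⟩ :=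
    exists_mid_model (G j) (G k.1) A S B M f hf
  haveI := hpo
  haveI hp₀ : (p.comap (algebraMap (G k.1) A)).LiesOver (p.comap (algebraMap (G j) A)) := ⟨by
    rw [Ideal.under_def, Ideal.comap_comap, ← IsScalarTower.algebraMap_eq]⟩
  exact ⟨k.1, Sk, Mk, inferInstance, inferInstance, inferInstance, inferInstance, inferInstance, inferInstance,
    inferInstance, inferInstance, inferInstance, inferInstance, inferInstance, inferInstance, f', hfp, hpo'.symm, hfpm, hf',
    hk Sk Mk fk hfk, fun q _ hq => flatAt_fibre_baseChange fk hfk hflat _ q hq⟩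

include hcolim in
/-- From a stage where elements cutting out flatness are defined. -/
theorem hasPureFlatModel_of_cover (j : ι) {S : Type u} [CommRing S] [Algebra (G j) S] [Algebra.FinitePresentation (G j) S]
    (M : Type u) [AddCommGroup M] [Module S M] [Module (G j) M] [IsScalarTower (G j) S M] [Module.FinitePresentation S M]
    [Algebra S B] [Algebra (G j) B] [IsScalarTower (G j) A B] [IsScalarTower (G j) S B] [Algebra.IsPushout (G j) A S B]
    [Module S N] [IsScalarTower S B N] (f : M →ₗ[S] N) (hf : IsBaseChange B f) (s : Finset S)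
    (hgood : ∀ x ∈ s, FlatSpread.Good A N (algebraMap S B x))
    (hcov : ∀ (q : Ideal B) [q.IsPrime], q.LiesOver p → ∃ x ∈ s, algebraMap S B x ∉ q)
    (hpure : FlatCA.IsPureAlong A B N p) : HasPureFlatModel (B := B) N p G := by
  obtain ⟨-, -, -, hcomp, halg, -⟩ := id hcolim
  letI : ∀ i : {i // j ≤ i}, Algebra (G j) (G i.1) := fun i => (g j i.1 i.2).toAlgebra
  haveI : ∀ i : {i // j ≤ i}, IsScalarTower (G j) (G i.1) A := fun i =>
    IsScalarTower.of_algebraMap_eq fun x => (RingHom.congr_fun (halg j i.1 i.2) x).symm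
  let g' : ∀ a b : {i // j ≤ i}, a ≤ b → G a.1 →ₐ[G j] G b.1 := fun a b h =>
    { g a.1 b.1 h with commutes' := fun x => RingHom.congr_fun (hcomp j a.1 b.1 a.2 h) x }
  obtain ⟨k, hk⟩ := exists_stage_flat (R := G j) (G := fun i : {i // j ≤ i} => G i.1) M g'
    (isDirectedColimitRing_above hcolim j) N f hf p s hgood hcov
  letI : Algebra (G k.1) B := ((algebraMap A B).comp (algebraMap (G k.1) A)).toAlgebra
  haveI : IsScalarTower (G k.1) A B := IsScalarTower.of_algebraMap_eq' rfl
  obtain ⟨Sk, Mk, _, _, _, _, _, _, _, _, _, _, _, _, _, _, _, _, _, fk, f', hpo, hfk, hpo', hf', hfp, hfpm⟩ :=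
    exists_mid_model (G j) (G k.1) A S B M f hf
  haveI := hpo; haveI := hpo'; haveI := hfp; haveI := hfpm
  exact hasPureFlatModel_of_flat hcolim N p k.1 Mk f' hf' (fun q _ hq => hk Sk Mk fk hfk q hq) hpure

include hcolim in
/-- From a model over a ring mapping to a stage. -/
theorem hasPureFlatModel_of_model {R : Type u} [CommRing R] [∀ i, Algebra R (G i)] [Algebra R A]
    [∀ i, IsScalarTower R (G i) A] (hg : ∀ i j h (x : R), g i j h (algebraMap R (G i) x) = algebraMap R (G j) x)
    {S : Type u} [CommRing S] [Algebra R S] [Algebra.FinitePresentation R S]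
    (M : Type u) [AddCommGroup M] [Module S M] [Module.FinitePresentation S M]
    [Algebra S B] [Algebra R B] [IsScalarTower R A B] [IsScalarTower R S B] [Algebra.IsPushout R A S B]
    [Module S N] [IsScalarTower S B N] (f : M →ₗ[S] N) (hf : IsBaseChange B f) [Algebra.FinitePresentation A B]
    [Module.FinitePresentation B N]
    (hflat : ∀ (q : Ideal B) [q.IsPrime], q.LiesOver p → FlatCA.FlatAt A q N)
    (hpure : FlatCA.IsPureAlong A B N p) : HasPureFlatModel (B := B) N p G := by
  classical
  obtain ⟨hdir, hne, -, -, halg, -, -⟩ := id hcolim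
  haveI : IsDirected ι (· ≤ ·) := hdir
  haveI := hne
  obtain ⟨s, hgood, hcov⟩ := exists_flat_cover N p hflat
  let g' : ∀ a b, a ≤ b → G a →ₐ[R] G b := fun a b h => { g a b h with commutes' := hg a b h }
  let e := Algebra.IsPushout.equiv R A S B
  have hlift : ∀ t : Finset B, ∃ i, ∀ b ∈ t, ∃ y : G i ⊗[R] S,
      e ((IsScalarTower.toAlgHom R (G i) A).toLinearMap.rTensor S y) = b := by
    intro t
    induction t using Finset.induction_on with
    | empty => exact ⟨Classical.arbitrary ι, fun b hb => absurd hb (Finset.notMem_empty b)⟩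
    | @insert b t _ ih =>
      obtain ⟨i, hi⟩ := ih
      obtain ⟨i', y, hy⟩ := FlatSpread.exists_tensor_stage g' hcolim S (e.symm b)
      obtain ⟨k, hik, hi'k⟩ := exists_ge_ge (α := ι) i i'
      have hpush : ∀ a c (h : a ≤ c) (z : G a ⊗[R] S),
          (IsScalarTower.toAlgHom R (G c) A).toLinearMap.rTensor S ((g' a c h).toLinearMap.rTensor S z) =
            (IsScalarTower.toAlgHom R (G a) A).toLinearMap.rTensor S z := fun a c h z => by
        rw [← LinearMap.rTensor_comp_apply]
        exact congrArg (fun l => LinearMap.rTensor S l z) (LinearMap.ext fun x => RingHom.congr_fun (halg a c h) x)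
      refine ⟨k, fun b' hb' => ?_⟩
      rcases Finset.mem_insert.1 hb' with rfl | hb'
      · exact ⟨(g' i' k hi'k).toLinearMap.rTensor S y, by rw [hpush, hy, AlgEquiv.apply_symm_apply]⟩
      · obtain ⟨z, hz⟩ := hi b' hb'
        exact ⟨(g' i k hik).toLinearMap.rTensor S z, by rw [hpush, hz]⟩
  obtain ⟨j, hj⟩ := hlift s
  letI : Algebra (G j) B := ((algebraMap A B).comp (algebraMap (G j) A)).toAlgebra
  haveI : IsScalarTower (G j) A B := IsScalarTower.of_algebraMap_eq' rfl
  obtain ⟨Sj, Mj, _, _, _, _, _, _, _, _, _, _, _, _, _, _, _, _, _, fj, f', hpo, hfj, hpo', hf', hfp, hfpm⟩ :=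
    exists_mid_model R (G j) A S B M f hf
  haveI := hpo; haveI := hpo'; haveI := hfp; haveI := hfpm
  haveI : IsScalarTower R (G j) B := IsScalarTower.of_algebraMap_eq fun x => by
    rw [IsScalarTower.algebraMap_apply (G j) A B, ← IsScalarTower.algebraMap_apply R (G j) A,
      ← IsScalarTower.algebraMap_apply R A B]
  let ej := Algebra.IsPushout.equiv R (G j) S Sj
  have hj' : ∀ b ∈ s, ∃ y : Sj, algebraMap Sj B y = b := fun b hb => by
    obtain ⟨y, hy⟩ := hj b hb
    refine ⟨ej y, ?_⟩
    rw [← hy]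
    clear hy
    induction y using TensorProduct.induction_on with
    | zero => simp
    | add u v hu hv => simp only [map_add, hu, hv]
    | tmul a x =>
      rw [LinearMap.rTensor_tmul, Algebra.IsPushout.equiv_tmul, Algebra.IsPushout.equiv_tmul, map_mul,
        ← IsScalarTower.algebraMap_apply (G j) Sj B, ← IsScalarTower.algebraMap_apply S Sj B,
        IsScalarTower.algebraMap_apply (G j) A B]
      rfl
  choose lift hl using hj'
  refine hasPureFlatModel_of_cover hcolim N p j Mj f' hf' (s.attach.image fun b : {b // b ∈ s} => lift b.1 b.2) ?_ ?_ hpure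
  · intro x hx
    obtain ⟨b, -, rfl⟩ := Finset.mem_image.1 hx
    rw [hl b.1 b.2]
    exact hgood b.1 b.2
  · intro q _ hq
    obtain ⟨b, hb, hbq⟩ := hcov q hq
    exact ⟨lift b hb, Finset.mem_image.2 ⟨⟨b, hb⟩, Finset.mem_attach _ _, rfl⟩, by rw [hl b hb]; exact hbq⟩

include hcolim in
/-- Descent of purity and flatness along a fibre. -/
theorem hasPureFlatModel [Algebra.FinitePresentation A B] [Module.FinitePresentation B N]
    (hflat : ∀ (q : Ideal B) [q.IsPrime], q.LiesOver p → FlatCA.FlatAt A q N)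
    (hpure : FlatCA.IsPureAlong A B N p) : HasPureFlatModel (B := B) N p G := by
  obtain ⟨-, -, -, hcomp, halg, -⟩ := id hcolim
  obtain ⟨R, _, _, S, _, _, _, _, _, _, M, _, _, _, _, _, _, f, hR, hS, hM, hpo, hf⟩ := NApproxLib.exists_model A B N
  haveI := hR; haveI := hS; haveI := hM; haveI := hpo
  haveI : IsNoetherianRing R := Algebra.FiniteType.isNoetherianRing ℤ R
  haveI : IsNoetherianRing S := Algebra.FiniteType.isNoetherianRing R S
  haveI : Algebra.FinitePresentation R S := Algebra.FinitePresentation.of_finiteType.1 hS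
  haveI : Module.FinitePresentation S M := Module.finitePresentation_of_finite S M
  obtain ⟨j, φ, hφ'⟩ := exists_hom_stage hcolim (algebraMap R A)
  have hφ : ∀ x, algebraMap (G j) A (φ x) = algebraMap R A x := fun x => RingHom.congr_fun hφ' x
  letI : ∀ i : {i // j ≤ i}, Algebra R (G i.1) := fun i => ((g j i.1 i.2).comp φ).toAlgebra
  haveI : ∀ i : {i // j ≤ i}, IsScalarTower R (G i.1) A := fun i => IsScalarTower.of_algebraMap_eq fun x =>
    ((RingHom.congr_fun (halg j i.1 i.2) (φ x)).trans (hφ x)).symm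
  obtain ⟨k, rest⟩ := hasPureFlatModel_of_model (G := fun i : {i // j ≤ i} => G i.1)
    (isDirectedColimitRing_above hcolim j) N p
    (fun a b h x => RingHom.congr_fun (hcomp j a.1 b.1 a.2 h) (φ x)) M f hf hflat hpure
  exact ⟨k.1, rest⟩

end Groth.Agent.RG
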