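import Groth.Agent.RG.CoverTransfer
import Groth.Agent.RG.PureLocus
import Groth.Agent.RG.DescPureBase
import Groth.Agent.RG.PureProj

/-!
# Purity after a base change, read in the fibres of a model
-/

set_option autoImplicit false
set_option linter.style.haveILetI false
set_option linter.unusedSectionVars false
set_option backward.isDefEq.respectTransparency false
set_option backward.isDefEq.respectTransparency.types false
set_option maxHeartbeats 2000000

universe u

open TensorProduct Groth.Agent.ZClosLib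

namespace Groth.Agent.RG

attribute [local instance] Algebra.TensorProduct.rightAlgebra

section Assassin

variable {R' W C' BA S' MW NA : Type u} [CommRing R'] [CommRing W] [CommRing C'] [CommRing BA] [CommRing S']
  [Algebra R' W] [Algebra W BA] [Algebra R' C'] [Algebra C' BA] [Algebra R' BA] [IsScalarTower R' W BA]
  [IsScalarTower R' C' BA] [Algebra.FiniteType R' W] [Algebra.FiniteType C' BA] [Algebra W S']
  [AddCommGroup MW] [Module W MW] [Module R' MW] [IsScalarTower R' W MW]
  [AddCommGroup NA] [Module BA NA] [Module C' NA] [IsScalarTower C' BA NA] [Module W NA] [IsScalarTower W BA NA]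
  [Module R' NA] [IsScalarTower R' C' NA] [IsScalarTower R' W NA]
  (gW : MW →ₗ[W] NA) (hgW : IsBaseChange C' (gW.restrictScalars R'))
  {n : ℕ} (h : Fin n → W)
  (himage : ∀ (Q : Ideal W) [Q.IsPrime], (∃ i, h i ∉ Q) ↔ ∃ Q' : Ideal S', Q'.IsPrime ∧ Q'.comap (algebraMap W S') = Q)

include hgW himage

/-- Injectivity in the fibre below puts the relative assassin above into the cover. -/
theorem exists_cover_of_injP (t : Ideal C') [t.IsPrime]
    (hinj : RelAssGen.InjP ((RelAssGen.mulMap h MW).restrictScalars R') (t.comap (algebraMap R' C')))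
    (Q : Ideal BA) [Q.IsPrime] (hQt : Q.LiesOver t)
    (hass : FlatCA.fiberIdeal t Q ∈ associatedPrimes (t.Fiber BA) (FlatCA.fiberMod t BA NA)) :
    ∃ Q' : Ideal (BA ⊗[W] S'), Q'.IsPrime ∧ Q'.comap (algebraMap BA (BA ⊗[W] S')) = Q := by
  haveI := hQt
  haveI : t.LiesOver (t.comap (algebraMap R' C')) := ⟨rfl⟩
  obtain ⟨-, hass₀⟩ := PurityQF.assoc_contract (A := R') (C := C') (B := W) (B' := BA) gW hgW (t.comap (algebraMap R' C')) t Q hass
  obtain ⟨i, hi⟩ := (injP_mulMap_iff_assoc MW h _).1 hinj _ hass₀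
  obtain ⟨Q', hQ', hQ'Q⟩ := (himage (Q.comap (algebraMap W BA))).1 ⟨i, fun hh => hi (Ideal.mem_map_of_mem _ hh)⟩
  haveI := hQ'
  exact exists_prime_tensor_left BA S' Q Q' hQ'Q

/-- A relative assassin inside the cover above gives injectivity in the fibre below. -/
theorem injP_of_cover (t : Ideal C') [t.IsPrime]
    (hQ : ∀ (Q : Ideal BA) [Q.IsPrime], Q.LiesOver t →
      FlatCA.fiberIdeal t Q ∈ associatedPrimes (t.Fiber BA) (FlatCA.fiberMod t BA NA) →
      ∃ Q' : Ideal (BA ⊗[W] S'), Q'.IsPrime ∧ Q'.comap (algebraMap BA (BA ⊗[W] S')) = Q) :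
    RelAssGen.InjP ((RelAssGen.mulMap h MW).restrictScalars R') (t.comap (algebraMap R' C')) := by
  haveI : t.LiesOver (t.comap (algebraMap R' C')) := ⟨rfl⟩
  haveI : IsNoetherianRing ((t.comap (algebraMap R' C')).Fiber W) :=
    Algebra.FiniteType.isNoetherianRing (t.comap (algebraMap R' C')).ResidueField _
  refine (injP_mulMap_iff_assoc MW h _).2 fun P hP => ?_
  obtain ⟨hp', hl, he, -⟩ := NzdUnivInj.comap_spec (t.comap (algebraMap R' C')) MW hP
  haveI := hp'; haveI := hl
  obtain ⟨Q, _, hle, hQt, hass⟩ := PurityBC.exists_assoc_over (A := R') (A' := C') (B := W) (B' := BA) gW hgW _ t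
    (P.comap (algebraMap W ((t.comap (algebraMap R' C')).Fiber W))) (by rw [he]; exact hP)
  obtain ⟨Q', hQ', hQ'Q⟩ := hQ Q hQt hass
  haveI := hQ'
  obtain ⟨i, hi⟩ := (himage (Q.comap (algebraMap W BA))).2
    ⟨Q'.comap (algebraMap S' (BA ⊗[W] S')), inferInstance, by
      rw [Ideal.comap_comap, ← IsScalarTower.algebraMap_eq W S' (BA ⊗[W] S'), IsScalarTower.algebraMap_eq W BA (BA ⊗[W] S'),
        ← Ideal.comap_comap, hQ'Q]⟩
  exact ⟨i, fun hh => hi (hle hh)⟩

end Assassin

section PureIff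

variable {R R' S W S' M MW M' C C' CS BA MC NA N' : Type u}
  [CommRing R] [CommRing R'] [CommRing S] [CommRing W] [CommRing S'] [CommRing C] [CommRing C'] [CommRing CS] [CommRing BA]
  [Algebra R R'] [Algebra R S] [Algebra R W] [Algebra R' W] [Algebra S W] [IsScalarTower R R' W] [IsScalarTower R S W]
  [Algebra.IsPushout R R' S W] [Algebra.FiniteType R S] [Algebra.FiniteType R' W]
  [Algebra W S'] [Algebra.Etale W S'] [Algebra R' S'] [IsScalarTower R' W S'] [Algebra S S'] [IsScalarTower S W S']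
  [Algebra C C'] [Algebra C CS] [Algebra CS BA] [Algebra C' BA] [Algebra C BA] [IsScalarTower C CS BA]
  [IsScalarTower C C' BA] [Algebra.IsPushout C CS C' BA]
  [Algebra R' C'] [Algebra R' BA] [IsScalarTower R' C' BA] [Algebra W BA] [IsScalarTower R' W BA]
  [Algebra.IsPushout R' C' W BA] [Algebra S BA] [IsScalarTower S W BA] [Algebra S CS] [IsScalarTower S CS BA]
  [Algebra.FiniteType C CS]
  [AddCommGroup M] [Module S M]
  [AddCommGroup MW] [Module W MW] [Module S MW] [IsScalarTower S W MW] [Module R' MW] [IsScalarTower R' W MW]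
  [AddCommGroup M'] [Module S' M'] [Module W M'] [IsScalarTower W S' M'] [Module R' M'] [IsScalarTower R' S' M']
  [AddCommGroup MC] [Module CS MC] [Module S MC] [IsScalarTower S CS MC] [Module C MC] [IsScalarTower C CS MC]
  [Module.Finite CS MC]
  [AddCommGroup NA] [Module BA NA] [Module CS NA] [IsScalarTower CS BA NA] [Module C' NA] [IsScalarTower C' BA NA]
  [Module W NA] [IsScalarTower W BA NA] [Module R' NA] [IsScalarTower R' C' NA] [IsScalarTower R' W NA]
  [Module S NA] [IsScalarTower S CS NA] [IsScalarTower S W NA]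

/-- The base change of a module through two routes. -/
theorem isBaseChange_chart (fW : M →ₗ[S] MW) (hfW : IsBaseChange W fW) (fC : M →ₗ[S] MC) (hfC : IsBaseChange CS fC)
    (fA : MC →ₗ[CS] NA) (hfA : IsBaseChange BA fA) :
    ∃ gW : MW →ₗ[W] NA, IsBaseChange BA gW ∧ gW.restrictScalars S ∘ₗ fW = fA.restrictScalars S ∘ₗ fC := by
  haveI : IsScalarTower S BA NA := IsScalarTower.of_algebraMap_smul fun a z => by
    rw [IsScalarTower.algebraMap_apply S CS BA, algebraMap_smul, algebraMap_smul]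
  refine ⟨hfW.lift (fA.restrictScalars S ∘ₗ fC), IsBaseChange.of_comp hfW ?_, hfW.lift_comp _⟩
  rw [hfW.lift_comp]
  exact hfC.comp hfA

variable [AddCommGroup N'] [Module (BA ⊗[W] S') N'] [Module BA N'] [IsScalarTower BA (BA ⊗[W] S') N']
  [Module C' N'] [IsScalarTower C' (BA ⊗[W] S') N']
  [Module S' N'] [IsScalarTower S' (BA ⊗[W] S') N'] [Module W N'] [IsScalarTower W BA N'] [IsScalarTower W S' N']
  [Module R' N'] [IsScalarTower R' C' N'] [IsScalarTower R' S' N']

/-- The cover has projective module, so it is pure. -/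
theorem isPureAlong_cover (hproj : Module.Projective R' M') (fS : MW →ₗ[W] M') (hfS : IsBaseChange S' fS)
    (gW : MW →ₗ[W] NA) (hgW : IsBaseChange BA gW) (f' : NA →ₗ[BA] N') (hf' : IsBaseChange (BA ⊗[W] S') f')
    [Module.Finite (BA ⊗[W] S') N'] [Algebra.FiniteType C' (BA ⊗[W] S')]
    (P : Ideal C') [P.IsPrime] : FlatCA.IsPureAlong C' (BA ⊗[W] S') N' P := by
  haveI := hproj
  haveI : IsScalarTower R' C' (BA ⊗[W] S') := IsScalarTower.of_algebraMap_eq (R := R') (S := C') (A := BA ⊗[W] S') fun a => by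
    rw [IsScalarTower.algebraMap_apply C' BA (BA ⊗[W] S'), ← IsScalarTower.algebraMap_apply R' C' BA,
      ← IsScalarTower.algebraMap_apply R' BA (BA ⊗[W] S')]
  haveI : IsScalarTower R' S' (BA ⊗[W] S') := IsScalarTower.of_algebraMap_eq (R := R') (S := S') (A := BA ⊗[W] S') fun a => by
    rw [IsScalarTower.algebraMap_apply R' C' (BA ⊗[W] S'), IsScalarTower.algebraMap_apply C' BA (BA ⊗[W] S'),
      ← IsScalarTower.algebraMap_apply R' C' BA, IsScalarTower.algebraMap_apply R' W BA,
      IsScalarTower.algebraMap_apply R' W S', ← IsScalarTower.algebraMap_apply W BA (BA ⊗[W] S'),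
      ← IsScalarTower.algebraMap_apply W S' (BA ⊗[W] S')]
  haveI : Algebra.IsPushout R' S' C' (BA ⊗[W] S') := by
    haveI : Algebra.IsPushout R' W C' BA := Algebra.IsPushout.symm inferInstance
    exact (Algebra.IsPushout.comp_iff R' W C' BA (T := S') (T' := BA ⊗[W] S')).2 (Algebra.IsPushout.symm inferInstance)
  haveI : IsScalarTower W (BA ⊗[W] S') N' := IsScalarTower.of_algebraMap_smul fun a z => by
    rw [IsScalarTower.algebraMap_apply W S' (BA ⊗[W] S'), algebraMap_smul, algebraMap_smul]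
  let g' : M' →ₗ[S'] N' := hfS.lift (f'.restrictScalars W ∘ₗ gW)
  have hg' : IsBaseChange (BA ⊗[W] S') g' := IsBaseChange.of_comp hfS (by rw [hfS.lift_comp]; exact hgW.comp hf')
  haveI : Module.Projective C' N' := Module.Projective.of_equiv (isBaseChange_restrict (B := R') (B' := C') g' hg').equiv
  intro A₁ B₁ N₁ _ _ _ _ _ _ _ _ _ _ _ _ _ _ f t₁' t₁ _ _ P₁ _ _
  exact isUnivPureAlong_of_projective (A := C') (B := BA ⊗[W] S') N' P (Localization.AtPrime P) A₁ B₁ N₁ f t₁' t₁ P₁

end PureIff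

section Points

variable {R R' S W S' C C' CS BA : Type u}
  [CommRing R] [CommRing R'] [CommRing S] [CommRing W] [CommRing S'] [CommRing C] [CommRing C'] [CommRing CS] [CommRing BA]
  [Algebra R R'] [Algebra R S] [Algebra R W] [Algebra R' W] [Algebra S W] [IsScalarTower R R' W] [IsScalarTower R S W]
  [Algebra.IsPushout R R' S W] [Algebra W S'] [Algebra R' S'] [IsScalarTower R' W S'] [Algebra S S'] [IsScalarTower S W S']
  [Algebra R C] [Algebra C C'] [Algebra C CS] [Algebra R CS] [IsScalarTower R C CS] [Algebra S CS] [IsScalarTower R S CS]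
  [Algebra CS BA] [Algebra C' BA] [Algebra C BA] [IsScalarTower C CS BA]
  [IsScalarTower C C' BA] [Algebra.IsPushout C CS C' BA]
  [Algebra R' C'] [Algebra R' BA] [IsScalarTower R' C' BA] [Algebra W BA] [IsScalarTower R' W BA]
  [Algebra S BA] [IsScalarTower S W BA] [IsScalarTower S CS BA]

/-- The cover meets every point of the fibre over the point of the neighbourhood. -/
theorem exists_cover_point {p : Ideal R} [p.IsPrime] {p' : Ideal R'} [p'.IsPrime] (het : FlatCA.IsEtaleNhd R R' p p')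
    (hcov₀ : ∀ (q : Ideal S) [q.IsPrime], q.LiesOver p →
      ∃ q' : Ideal S', q'.IsPrime ∧ q'.comap (algebraMap S S') = q ∧ q'.comap (algebraMap R' S') = p')
    {pC : Ideal C} [pC.IsPrime] [hpC : pC.LiesOver p] {P : Ideal C'} [P.IsPrime] (hetC : FlatCA.IsEtaleNhd C C' pC P)
    (hP : P.comap (algebraMap R' C') = p') (q : Ideal CS) [q.IsPrime] (hq : q.LiesOver pC) :
    ∃ q' : Ideal (BA ⊗[W] S'), q'.IsPrime ∧ q'.comap (algebraMap CS (BA ⊗[W] S')) = q ∧
      q'.comap (algebraMap C' (BA ⊗[W] S')) = P := by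
  haveI := hq
  haveI := hetC.2.1
  haveI := het.2.1
  haveI : Algebra.IsPushout C C' CS BA := Algebra.IsPushout.symm inferInstance
  obtain ⟨QB, _, hQq, hQP⟩ := exists_prime_over (R := C) (R' := C') (S := CS) (S' := BA) pC P hetC.2.2 q
  let q₀ := q.comap (algebraMap S CS)
  haveI hq₀ : q₀.LiesOver p := ⟨by
    rw [Ideal.under_def, Ideal.comap_comap, ← IsScalarTower.algebraMap_eq R S CS, IsScalarTower.algebraMap_eq R C CS,
      ← Ideal.comap_comap, ← Ideal.under_def (A := C) q, ← hq.over]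
    exact hpC.over⟩
  obtain ⟨q'₀, hq'₀, hq'q, hq'p⟩ := hcov₀ q₀ hq₀
  haveI := hq'₀
  haveI : (QB.comap (algebraMap W BA)).LiesOver q₀ := ⟨by
    rw [Ideal.under_def, Ideal.comap_comap, ← IsScalarTower.algebraMap_eq S W BA, IsScalarTower.algebraMap_eq S CS BA,
      ← Ideal.comap_comap, ← Ideal.under_def (A := CS) QB, ← hQq.over]⟩
  haveI : (QB.comap (algebraMap W BA)).LiesOver p' := ⟨by
    rw [Ideal.under_def, Ideal.comap_comap, ← IsScalarTower.algebraMap_eq R' W BA, IsScalarTower.algebraMap_eq R' C' BA,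
      ← Ideal.comap_comap, ← Ideal.under_def (A := C') QB, ← hQP.over, hP]⟩
  haveI : (q'₀.comap (algebraMap W S')).LiesOver q₀ := ⟨by
    rw [Ideal.under_def, Ideal.comap_comap, ← IsScalarTower.algebraMap_eq S W S', hq'q]⟩
  haveI : (q'₀.comap (algebraMap W S')).LiesOver p' := ⟨by
    rw [Ideal.under_def, Ideal.comap_comap, ← IsScalarTower.algebraMap_eq R' W S', hq'p]⟩
  obtain ⟨Q', hQ', hQ'B⟩ := exists_prime_tensor_left BA S' QB q'₀
    (eq_of_liesOver (R := R) (R' := R') (S := S) (S' := W) p p' het.2.2 q₀ _ _).symm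
  haveI := hQ'
  refine ⟨Q', hQ', ?_, ?_⟩
  · rw [IsScalarTower.algebraMap_eq CS BA (BA ⊗[W] S'), ← Ideal.comap_comap, hQ'B]
    exact hQq.over.symm
  · rw [IsScalarTower.algebraMap_eq C' BA (BA ⊗[W] S'), ← Ideal.comap_comap, hQ'B]
    exact hQP.over.symm

end Points

end Groth.Agent.RG
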