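import Groth.Agent.RG.EtaleCoverProj
import Groth.Agent.RG.DescPureChart

/-!
# Purity and flatness along a fibre at a stage of a colimit
-/

set_option autoImplicit false
set_option linter.style.haveILetI false
set_option linter.unusedSectionVars false
set_option backward.isDefEq.respectTransparency false
set_option backward.isDefEq.respectTransparency.types false
set_option maxHeartbeats 2000000

universe u

open TensorProduct Groth.Agent.ZClosLib

namespace Groth.Agent.RG

attribute [local instance] Algebra.TensorProduct.rightAlgebra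

/-- Primes over the same prime come from a prime of the tensor product. -/
theorem exists_prime_tensor_both {R : Type u} [CommRing R] (B S : Type u) [CommRing B] [Algebra R B] [CommRing S]
    [Algebra R S] (p : Ideal B) [p.IsPrime] (q : Ideal S) [q.IsPrime]
    (h : q.comap (algebraMap R S) = p.comap (algebraMap R B)) :
    ∃ r : Ideal (B ⊗[R] S), r.IsPrime ∧ r.comap (algebraMap B (B ⊗[R] S)) = p ∧
      r.comap (algebraMap S (B ⊗[R] S)) = q := by
  let P := p.comap (algebraMap R B)
  let F := P.ResidueField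
  let K₁ := p.ResidueField
  let K₂ := q.ResidueField
  let _ : Algebra F K₁ := (Ideal.ResidueField.map P p (algebraMap R B) rfl).toAlgebra
  let _ : Algebra F K₂ := (Ideal.ResidueField.map P q (algebraMap R S) h.symm).toAlgebra
  have : IsScalarTower R F K₁ := IsScalarTower.of_algebraMap_eq fun r => by
    rw [IsScalarTower.algebraMap_apply R B K₁]
    exact (Ideal.ResidueField.map_algebraMap P p (algebraMap R B) rfl r).symm
  have : IsScalarTower R F K₂ := IsScalarTower.of_algebraMap_eq fun r => by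
    rw [IsScalarTower.algebraMap_apply R S K₂]
    exact (Ideal.ResidueField.map_algebraMap P q (algebraMap R S) h.symm r).symm
  let f : B ⊗[R] S →ₐ[R] K₁ ⊗[F] K₂ := Algebra.TensorProduct.lift
    (((Algebra.TensorProduct.includeLeft : K₁ →ₐ[F] K₁ ⊗[F] K₂).restrictScalars R).comp
      (IsScalarTower.toAlgHom R B K₁))
    (((Algebra.TensorProduct.includeRight : K₂ →ₐ[F] K₁ ⊗[F] K₂).restrictScalars R).comp
      (IsScalarTower.toAlgHom R S K₂)) fun _ _ => .all _ _
  haveI : Nontrivial (K₁ ⊗[F] K₂) :=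
    Algebra.TensorProduct.nontrivial_of_algebraMap_injective_of_isDomain F K₁ K₂
      (algebraMap F K₁).injective (algebraMap F K₂).injective
  obtain ⟨m, hm⟩ := Ideal.exists_maximal (K₁ ⊗[F] K₂)
  refine ⟨m.comap f.toRingHom, inferInstance, ?_, ?_⟩
  swap
  · ext s
    have e : f (algebraMap S (B ⊗[R] S) s) =
        (Algebra.TensorProduct.includeRight : K₂ →ₐ[F] K₁ ⊗[F] K₂) (algebraMap S K₂ s) := by
      show f ((1 : B) ⊗ₜ[R] s) = _
      simp [f]
    rw [Ideal.mem_comap, Ideal.mem_comap]
    show f (algebraMap S (B ⊗[R] S) s) ∈ m ↔ _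
    rw [e]
    constructor
    · intro hs
      by_contra hne
      have hu : IsUnit (algebraMap S K₂ s) :=
        isUnit_iff_ne_zero.mpr (fun h0 => hne (Ideal.algebraMap_residueField_eq_zero.mp h0))
      exact hm.ne_top (m.eq_top_of_isUnit_mem hs (hu.map _))
    · intro hs
      rw [Ideal.algebraMap_residueField_eq_zero.mpr hs, map_zero]
      exact m.zero_mem
  ext b
  have e : f (algebraMap B (B ⊗[R] S) b) =
      (Algebra.TensorProduct.includeLeft : K₁ →ₐ[F] K₁ ⊗[F] K₂) (algebraMap B K₁ b) := by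
    simp [f, Algebra.TensorProduct.algebraMap_apply]
  rw [Ideal.mem_comap, Ideal.mem_comap]
  show f (algebraMap B (B ⊗[R] S) b) ∈ m ↔ _
  rw [e]
  constructor
  · intro hb
    by_contra hne
    have hu : IsUnit (algebraMap B K₁ b) :=
      isUnit_iff_ne_zero.mpr (fun h0 => hne (Ideal.algebraMap_residueField_eq_zero.mp h0))
    exact hm.ne_top (m.eq_top_of_isUnit_mem hb (hu.map _))
  · intro hb
    rw [Ideal.algebraMap_residueField_eq_zero.mpr hb, map_zero]
    exact m.zero_mem

/-- Flatness along a fibre after a base change. -/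
theorem flatAt_fibre_baseChange {R C S CS : Type u} [CommRing R] [CommRing C] [CommRing S] [CommRing CS]
    [Algebra R C] [Algebra R S] [Algebra R CS] [Algebra C CS] [Algebra S CS] [IsScalarTower R C CS] [IsScalarTower R S CS]
    [Algebra.IsPushout R C S CS] {M : Type u} [AddCommGroup M] [Module S M] [Module R M] [IsScalarTower R S M]
    {MC : Type u} [AddCommGroup MC] [Module CS MC] [Module S MC] [IsScalarTower S CS MC] [Module C MC] [IsScalarTower C CS MC]
    (f : M →ₗ[S] MC) (hf : IsBaseChange CS f) {p : Ideal R} [p.IsPrime]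
    (hflat : ∀ (q : Ideal S) [q.IsPrime], q.LiesOver p → FlatCA.FlatAt R q M) (pC : Ideal C) [pC.IsPrime] [pC.LiesOver p]
    (q : Ideal CS) [q.IsPrime] (hq : q.LiesOver pC) : FlatCA.FlatAt C q MC := by
  refine flatAt_congr q hf.equiv (FlatSpread.flatAt_baseChange (A := R) (A' := C) q ?_)
  refine hflat _ ⟨?_⟩
  rw [Ideal.under_def, Ideal.comap_comap, ← IsScalarTower.algebraMap_eq R S CS, IsScalarTower.algebraMap_eq R C CS,
    ← Ideal.comap_comap, ← Ideal.under_def (A := C) q, ← hq.over]
  exact Ideal.LiesOver.over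

variable {R : Type u} [CommRing R] {S : Type u} [CommRing S] [Algebra R S] [Algebra.FinitePresentation R S]
  (M : Type u) [AddCommGroup M] [Module S M] [Module R M] [IsScalarTower R S M] [Module.FinitePresentation S M]
  {ι : Type u} [Preorder ι] {G : ι → Type u} [∀ i, CommRing (G i)] [∀ i, Algebra R (G i)]
  {A : Type u} [CommRing A] [Algebra R A] [∀ i, Algebra (G i) A] [∀ i, IsScalarTower R (G i) A]
  (g : ∀ i j, i ≤ j → G i →ₐ[R] G j) (hcolim : FlatCA.IsDirectedColimitRing G (fun i j h => (g i j h).toRingHom) A)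

include hcolim in
/-- Purity along a fibre descends to a stage, the module being flat along the fibre. -/
theorem exists_stage_pure (p : Ideal A) [p.IsPrime]
    (hflat : ∀ (q : Ideal S) [q.IsPrime], q.LiesOver (p.comap (algebraMap R A)) → FlatCA.FlatAt R q M)
    {T : Type u} [CommRing T] [Algebra A T] [Algebra S T] [Algebra R T] [IsScalarTower R A T] [IsScalarTower R S T]
    [Algebra.IsPushout R A S T]
    (N : Type u) [AddCommGroup N] [Module T N] [Module S N] [IsScalarTower S T N] [Module A N] [IsScalarTower A T N]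
    (f : M →ₗ[S] N) (hf : IsBaseChange T f) (hpure : FlatCA.IsPureAlong A T N p) :
    ∃ k, ∀ (Sk Mk : Type u) [CommRing Sk] [Algebra (G k) Sk] [Algebra S Sk] [Algebra R Sk] [IsScalarTower R (G k) Sk]
      [IsScalarTower R S Sk] [Algebra.IsPushout R (G k) S Sk] [AddCommGroup Mk] [Module Sk Mk] [Module S Mk]
      [IsScalarTower S Sk Mk] [Module (G k) Mk] [IsScalarTower (G k) Sk Mk] (fk : M →ₗ[S] Mk), IsBaseChange Sk fk →
      FlatCA.IsPureAlong (G k) Sk Mk (p.comap (algebraMap (G k) A)) := by
  let p₀ := p.comap (algebraMap R A)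
  haveI : p.LiesOver p₀ := ⟨rfl⟩
  obtain ⟨R', S', _, _, _, _, _, _, _, _, p', _, het, hS', hcov₀, hproj⟩ := exists_etale_cover_proj M p₀ hflat
  haveI := het.1; haveI := het.2.1; haveI := hS'
  haveI : Algebra.IsPushout R S R' (R' ⊗[R] S) := Algebra.IsPushout.symm inferInstance
  haveI : Algebra.Etale S (R' ⊗[R] S) := Algebra.Etale.of_equiv (Algebra.IsPushout.equiv R S R' (R' ⊗[R] S))
  let φ : R' ⊗[R] S →ₐ[R] S' :=
    Algebra.TensorProduct.lift (IsScalarTower.toAlgHom R R' S') (IsScalarTower.toAlgHom R S S') fun _ _ => Commute.all _ _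
  letI : Algebra (R' ⊗[R] S) S' := φ.toRingHom.toAlgebra
  haveI : IsScalarTower R' (R' ⊗[R] S) S' := IsScalarTower.of_algebraMap_eq (R := R') (S := R' ⊗[R] S) (A := S') fun a => by
    show _ = φ (a ⊗ₜ[R] (1 : S))
    simp [φ]
  haveI : IsScalarTower S (R' ⊗[R] S) S' := IsScalarTower.of_algebraMap_eq (R := S) (S := R' ⊗[R] S) (A := S') fun a => by
    show _ = φ ((1 : R') ⊗ₜ[R] a)
    simp [φ]
  haveI : Algebra.Etale (R' ⊗[R] S) S' := Algebra.Etale.of_restrictScalars S (R' ⊗[R] S) S'
  let fW : M →ₗ[S] (R' ⊗[R] S) ⊗[S] M := TensorProduct.mk S (R' ⊗[R] S) M 1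
  have hfW : IsBaseChange (R' ⊗[R] S) fW := TensorProduct.isBaseChange S M _
  let fS : (R' ⊗[R] S) ⊗[S] M →ₗ[R' ⊗[R] S] S' ⊗[S] M := hfW.lift (TensorProduct.mk S S' M 1)
  have hfS : IsBaseChange S' fS := IsBaseChange.of_comp hfW (by rw [hfW.lift_comp]; exact TensorProduct.isBaseChange S M S')
  obtain ⟨n, h, himage⟩ := exists_image_elems (R' ⊗[R] S) S'
  obtain ⟨E, _, fE, hE⟩ := PrimeSpectrum.exists_range_eq_of_isConstructible
    (RelAssGen.isConstructible_injP_fp (A := R') (M := (R' ⊗[R] S) ⊗[S] M) h).compl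
  -- the point at infinity
  haveI : Algebra.IsPushout R R' A (A ⊗[R] R') := Algebra.IsPushout.symm inferInstance
  obtain ⟨P, _, hPA, hPR⟩ := exists_prime_over (R := R) (R' := R') (S := A) (S' := A ⊗[R] R') p₀ p' het.2.2 p
  haveI : Algebra.FiniteType A T := PurityBC.finiteType_of_isPushout R S A T (h := Algebra.IsPushout.symm inferInstance)
  haveI : Module.Finite T N := Module.Finite.equiv hf.equiv
  have hinf := (pure_iff_injP fW hfW fS hfS hproj h himage het hcov₀ A T N f hf p
    (fun q _ hq => flatAt_fibre_baseChange f hf hflat p q hq) P hPA.over.symm hPR.over.symm).1 hpure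
  obtain ⟨k, hk⟩ := exists_stage_avoid g hcolim R' P fE fun t _ htP y hy hyt => by
    have hmem : (⟨t.comap (algebraMap R' (A ⊗[R] R')), inferInstance⟩ : PrimeSpectrum R') ∈
        Set.range (PrimeSpectrum.comap fE) := ⟨⟨y, hy⟩, PrimeSpectrum.ext hyt⟩
    rw [hE] at hmem
    exact hmem (hinf t htP)
  refine ⟨k, fun Sk Mk _ _ _ _ _ _ _ _ _ _ _ _ _ fk hfk => ?_⟩
  let pk := p.comap (algebraMap (G k) A)
  haveI : pk.LiesOver p₀ := ⟨by rw [Ideal.under_def, Ideal.comap_comap, ← IsScalarTower.algebraMap_eq]⟩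
  haveI : Module.Finite Sk Mk := Module.Finite.equiv hfk.equiv
  have hPk : (P.comap (stageMap A R' k)).comap (algebraMap (G k) (G k ⊗[R] R')) = pk := by
    rw [show pk = p.comap (algebraMap (G k) A) from rfl, show p = P.comap (algebraMap A (A ⊗[R] R')) from hPA.over]
    ext x
    simp only [Ideal.mem_comap, Algebra.TensorProduct.algebraMap_apply, stageMap, Algebra.TensorProduct.map_tmul,
      AlgHom.id_apply, IsScalarTower.coe_toAlgHom', Algebra.algebraMap_self, RingHom.id_apply]
  have hPk' : (P.comap (stageMap A R' k)).comap (algebraMap R' (G k ⊗[R] R')) = p' := by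
    rw [show p' = P.comap (algebraMap R' (A ⊗[R] R')) from hPR.over]
    ext x
    simp only [Ideal.mem_comap]
    show stageMap A R' k ((1 : G k) ⊗ₜ[R] x) ∈ P ↔ (1 : A) ⊗ₜ[R] x ∈ P
    simp [stageMap]
  refine (pure_iff_injP fW hfW fS hfS hproj h himage het hcov₀ (G k) Sk Mk fk hfk pk
    (fun q _ hq => flatAt_fibre_baseChange fk hfk hflat pk q hq) (P.comap (stageMap A R' k)) hPk hPk').2 fun t _ htP => ?_
  by_contra hne
  have hmem : (⟨t.comap (algebraMap R' (G k ⊗[R] R')), inferInstance⟩ : PrimeSpectrum R') ∈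
      Set.range (PrimeSpectrum.comap fE) := by rw [hE]; exact hne
  obtain ⟨y, hy⟩ := hmem
  exact hk t htP y.asIdeal y.isPrime (congrArg PrimeSpectrum.asIdeal hy)

end Groth.Agent.RG
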