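import Groth.Agent.RG.DescPureMain
import Groth.Agent.FlatModel.Open
import Groth.Agent.FlatModel.Spread

/-!
# Models at stages; flatness along a fibre descends
-/

set_option autoImplicit false
set_option linter.style.haveILetI false
set_option linter.unusedSectionVars false
set_option backward.isDefEq.respectTransparency false
set_option backward.isDefEq.respectTransparency.types false
set_option maxHeartbeats 2000000

universe u

open TensorProduct

namespace Groth.Agent.RG

attribute [local instance] Algebra.TensorProduct.rightAlgebra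

/-- A model over an intermediate ring. -/
theorem exists_mid_model (R C A S T : Type u) [CommRing R] [CommRing C] [CommRing A] [CommRing S] [CommRing T]
    [Algebra R C] [Algebra R A] [Algebra C A] [IsScalarTower R C A] [Algebra R S] [Algebra.FinitePresentation R S]
    [Algebra A T] [Algebra S T] [Algebra R T] [Algebra C T] [IsScalarTower R A T] [IsScalarTower R S T] [IsScalarTower C A T]
    [Algebra.IsPushout R A S T]
    (M : Type u) [AddCommGroup M] [Module S M] [Module.FinitePresentation S M]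
    {N : Type u} [AddCommGroup N] [Module T N] [Module S N] [IsScalarTower S T N] (f : M →ₗ[S] N) (hf : IsBaseChange T f) :
    ∃ (Sc Mc : Type u) (_ : CommRing Sc) (_ : Algebra C Sc) (_ : Algebra S Sc) (_ : Algebra R Sc)
      (_ : IsScalarTower R C Sc) (_ : IsScalarTower R S Sc) (_ : Algebra Sc T) (_ : IsScalarTower C Sc T)
      (_ : IsScalarTower S Sc T)
      (_ : AddCommGroup Mc) (_ : Module Sc Mc) (_ : Module S Mc) (_ : IsScalarTower S Sc Mc) (_ : Module C Mc)
      (_ : IsScalarTower C Sc Mc) (_ : Module Sc N) (_ : IsScalarTower Sc T N)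
      (fc : M →ₗ[S] Mc) (f' : Mc →ₗ[Sc] N),
      Algebra.IsPushout R C S Sc ∧ IsBaseChange Sc fc ∧ Algebra.IsPushout C A Sc T ∧ IsBaseChange T f' ∧
      Algebra.FinitePresentation C Sc ∧ Module.FinitePresentation Sc Mc := by
  haveI : IsScalarTower R C T := IsScalarTower.of_algebraMap_eq (R := R) (S := C) (A := T) fun a => by
    rw [IsScalarTower.algebraMap_apply R A T, IsScalarTower.algebraMap_apply R C A, ← IsScalarTower.algebraMap_apply C A T]
  let φ : C ⊗[R] S →ₐ[R] T :=
    Algebra.TensorProduct.lift (IsScalarTower.toAlgHom R C T) (IsScalarTower.toAlgHom R S T) fun _ _ => Commute.all _ _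
  letI : Algebra (C ⊗[R] S) T := φ.toRingHom.toAlgebra
  haveI : IsScalarTower C (C ⊗[R] S) T := IsScalarTower.of_algebraMap_eq (R := C) (S := C ⊗[R] S) (A := T) fun a => by
    show _ = φ (a ⊗ₜ[R] (1 : S))
    simp [φ]
  haveI : IsScalarTower S (C ⊗[R] S) T := IsScalarTower.of_algebraMap_eq (R := S) (S := C ⊗[R] S) (A := T) fun a => by
    show _ = φ ((1 : C) ⊗ₜ[R] a)
    simp [φ]
  haveI hpo : Algebra.IsPushout C A (C ⊗[R] S) T :=
    (Algebra.IsPushout.comp_iff R C S (C ⊗[R] S) (T := A) (T' := T)).1 inferInstance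
  letI : Module (C ⊗[R] S) N := Module.compHom N (algebraMap (C ⊗[R] S) T)
  haveI : IsScalarTower (C ⊗[R] S) T N := IsScalarTower.of_algebraMap_smul fun _ _ => rfl
  haveI : IsScalarTower S (C ⊗[R] S) N := IsScalarTower.of_algebraMap_smul fun a z => by
    show algebraMap (C ⊗[R] S) T (algebraMap S (C ⊗[R] S) a) • z = a • z
    rw [← IsScalarTower.algebraMap_apply S (C ⊗[R] S) T, algebraMap_smul]
  let fc : M →ₗ[S] (C ⊗[R] S) ⊗[S] M := TensorProduct.mk S (C ⊗[R] S) M 1
  have hfc : IsBaseChange (C ⊗[R] S) fc := TensorProduct.isBaseChange S M _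
  let f' : (C ⊗[R] S) ⊗[S] M →ₗ[C ⊗[R] S] N := hfc.lift f
  have hf' : IsBaseChange T f' := IsBaseChange.of_comp hfc (by rw [hfc.lift_comp]; exact hf)
  exact ⟨C ⊗[R] S, (C ⊗[R] S) ⊗[S] M, inferInstance, inferInstance, inferInstance, inferInstance, inferInstance,
    inferInstance, inferInstance, inferInstance, inferInstance, inferInstance, inferInstance, inferInstance, inferInstance,
    inferInstance, inferInstance, inferInstance, inferInstance, fc, f', inferInstance, hfc, hpo, hf', inferInstance,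
    inferInstance⟩

/-- Flatness on a basic open of a stage passes to the later stages. -/
theorem flatAt_of_stage {R S : Type u} [CommRing R] [CommRing S] [Algebra R S]
    (M : Type u) [AddCommGroup M] [Module S M]
    {C C' SC SC' : Type u} [CommRing C] [CommRing C'] [CommRing SC] [CommRing SC']
    [Algebra R C] [Algebra R C'] [Algebra C C'] [IsScalarTower R C C']
    [Algebra C SC] [Algebra S SC] [Algebra R SC] [IsScalarTower R C SC] [IsScalarTower R S SC] [Algebra.IsPushout R C S SC]
    [Algebra C' SC'] [Algebra S SC'] [Algebra R SC'] [IsScalarTower R C' SC'] [IsScalarTower R S SC']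
    [Algebra.IsPushout R C' S SC'] [Algebra C SC'] [IsScalarTower C C' SC'] [IsScalarTower R C SC']
    [Algebra SC SC'] [IsScalarTower C SC SC'] [IsScalarTower S SC SC']
    {MC' : Type u} [AddCommGroup MC'] [Module SC' MC'] [Module S MC'] [IsScalarTower S SC' MC'] [Module C' MC']
    [IsScalarTower C' SC' MC'] (f : M →ₗ[S] MC') (hf : IsBaseChange SC' f) {t : S}
    (h : FlatSpread.Good C (SC ⊗[S] M) (algebraMap S SC t))
    (q : Ideal SC') [q.IsPrime] (ht : algebraMap S SC' t ∉ q) : FlatCA.FlatAt C' q MC' := by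
  haveI : IsScalarTower R SC SC' := IsScalarTower.of_algebraMap_eq fun a => by
    rw [IsScalarTower.algebraMap_apply R S SC, ← IsScalarTower.algebraMap_apply S SC SC',
      ← IsScalarTower.algebraMap_apply R S SC']
  haveI : Algebra.IsPushout C C' SC SC' :=
    (Algebra.IsPushout.comp_iff R C S SC (T := C') (T' := SC')).1 inferInstance
  have ht' : algebraMap SC SC' (algebraMap S SC t) ∉ q := by rwa [← IsScalarTower.algebraMap_apply S SC SC']
  exact flatAt_congr q hf.equiv (flatAt_congr q (AlgebraTensorModule.cancelBaseChange S SC SC' SC' M)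
    (FlatSpread.Good.baseChange (A := C) (A' := C') (T := SC) (T' := SC') h q ht'))

/-- Finitely many basic opens of flatness cover a fibre. -/
theorem exists_flat_cover {A T : Type u} [CommRing A] [CommRing T] [Algebra A T] [Algebra.FinitePresentation A T]
    (N : Type u) [AddCommGroup N] [Module T N] [Module A N] [IsScalarTower A T N] [Module.FinitePresentation T N]
    (p : Ideal A) [p.IsPrime] (hflat : ∀ (q : Ideal T) [q.IsPrime], q.LiesOver p → FlatCA.FlatAt A q N) :
    ∃ s : Finset T, (∀ g ∈ s, FlatSpread.Good A N g) ∧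
      ∀ (q : Ideal T) [q.IsPrime], q.LiesOver p → ∃ g ∈ s, g ∉ q := by
  classical
  let e := PrimeSpectrum.primesOverOrderIsoFiber A T p
  let inc : T →+* p.Fiber T := (Algebra.TensorProduct.includeRight : T →ₐ[A] p.Fiber T).toRingHom
  have hc : ∀ ξ : PrimeSpectrum (p.Fiber T), (e.symm ξ).1 = ξ.asIdeal.comap inc := fun ξ => rfl
  have h1 : ∀ ξ : PrimeSpectrum (p.Fiber T), ∃ g : T, FlatSpread.Good A N g ∧ inc g ∉ ξ.asIdeal := by
    intro ξ
    haveI := (e.symm ξ).2.1
    haveI := (e.symm ξ).2.2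
    obtain ⟨g, hg, hflatg⟩ := FlatModel.exists_flat_nhd N (e.symm ξ).1 (hflat _ inferInstance)
    exact ⟨g, fun Q _ hQ => hflatg Q.primeCompl hQ, fun hh => hg ((hc ξ).ge hh)⟩
  choose g hgood hg using h1
  obtain ⟨t, ht⟩ := isCompact_univ.elim_finite_subcover
    (fun ξ => (PrimeSpectrum.basicOpen (inc (g ξ)) : Set (PrimeSpectrum (p.Fiber T))))
    (fun ξ => (PrimeSpectrum.basicOpen _).isOpen) fun ξ _ => Set.mem_iUnion.2 ⟨ξ, hg ξ⟩
  refine ⟨t.image g, fun x hx => ?_, fun q _ hq => ?_⟩
  · obtain ⟨ξ, -, rfl⟩ := Finset.mem_image.1 hx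
    exact hgood ξ
  · obtain ⟨ξ, hξ, hmem⟩ := Set.mem_iUnion₂.1 (ht (Set.mem_univ (e ⟨q, ‹_›, hq⟩)))
    refine ⟨g ξ, Finset.mem_image_of_mem g hξ, fun hh => hmem ?_⟩
    have : (e.symm (e ⟨q, ‹_›, hq⟩)).1 = (e ⟨q, ‹_›, hq⟩).asIdeal.comap inc := hc _
    rw [OrderIso.symm_apply_apply] at this
    exact this.le hh

variable {R : Type u} [CommRing R] {S : Type u} [CommRing S] [Algebra R S] [Algebra.FinitePresentation R S]
  (M : Type u) [AddCommGroup M] [Module S M] [Module R M] [IsScalarTower R S M] [Module.FinitePresentation S M]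
  {ι : Type u} [Preorder ι] {G : ι → Type u} [∀ i, CommRing (G i)] [∀ i, Algebra R (G i)]
  {A : Type u} [CommRing A] [Algebra R A] [∀ i, Algebra (G i) A] [∀ i, IsScalarTower R (G i) A]
  (g : ∀ i j, i ≤ j → G i →ₐ[R] G j) (hcolim : FlatCA.IsDirectedColimitRing G (fun i j h => (g i j h).toRingHom) A)

include g hcolim in
/-- Flatness along a fibre descends to a stage. -/
theorem exists_stage_flat {T : Type u} [CommRing T] [Algebra A T] [Algebra S T] [Algebra R T] [IsScalarTower R A T]
    [IsScalarTower R S T] [Algebra.IsPushout R A S T]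
    (N : Type u) [AddCommGroup N] [Module T N] [Module S N] [IsScalarTower S T N] [Module A N] [IsScalarTower A T N]
    (f : M →ₗ[S] N) (hf : IsBaseChange T f) (p : Ideal A) [p.IsPrime] (s : Finset S)
    (hgood : ∀ x ∈ s, FlatSpread.Good A N (algebraMap S T x))
    (hcov : ∀ (q : Ideal T) [q.IsPrime], q.LiesOver p → ∃ x ∈ s, algebraMap S T x ∉ q) :
    ∃ k, ∀ (Sk Mk : Type u) [CommRing Sk] [Algebra (G k) Sk] [Algebra S Sk] [Algebra R Sk] [IsScalarTower R (G k) Sk]
      [IsScalarTower R S Sk] [Algebra.IsPushout R (G k) S Sk] [AddCommGroup Mk] [Module Sk Mk] [Module S Mk]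
      [IsScalarTower S Sk Mk] [Module (G k) Mk] [IsScalarTower (G k) Sk Mk] (fk : M →ₗ[S] Mk), IsBaseChange Sk fk →
      ∀ (q : Ideal Sk) [q.IsPrime], q.LiesOver (p.comap (algebraMap (G k) A)) → FlatCA.FlatAt (G k) q Mk := by
  classical
  obtain ⟨hdir, hne, -⟩ := id hcolim
  haveI : IsDirected ι (· ≤ ·) := hdir
  haveI := hne
  have hg' : ∀ x ∈ s, ∃ k, ∀ (Tk : Type u) [CommRing Tk] [Algebra R Tk] [Algebra (G k) Tk] [Algebra S Tk]
      [IsScalarTower R (G k) Tk] [IsScalarTower R S Tk] [Algebra.IsPushout R (G k) S Tk],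
      FlatSpread.Good (G k) (Tk ⊗[S] M) (algebraMap S Tk x) := fun x hx =>
    FlatSpread.exists_stage_good M G g A hcolim x (FlatSpread.Good.congr hf.equiv.symm (hgood x hx))
  choose kf hkf using hg'
  obtain ⟨k, hk⟩ := Finset.exists_le (s.attach.image fun x : {x // x ∈ s} => kf x.1 x.2)
  refine ⟨k, fun Sk Mk _ _ _ _ _ _ _ _ _ _ _ _ _ fk hfk q _ hq => ?_⟩
  haveI := hq
  letI : Algebra Sk T := (Algebra.pushoutDesc (R := R) (S := G k) (R' := S) Sk
    ((IsScalarTower.toAlgHom R A T).comp (IsScalarTower.toAlgHom R (G k) A)) (IsScalarTower.toAlgHom R S T)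
    fun _ _ => mul_comm _ _).toRingHom.toAlgebra
  letI : Algebra (G k) T := ((algebraMap A T).comp (algebraMap (G k) A)).toAlgebra
  haveI : IsScalarTower (G k) A T := IsScalarTower.of_algebraMap_eq' rfl
  haveI : IsScalarTower (G k) Sk T := IsScalarTower.of_algebraMap_eq (R := G k) (S := Sk) (A := T) fun a => by
    simp only [RingHom.algebraMap_toAlgebra, AlgHom.toRingHom_eq_coe, RingHom.coe_coe, RingHom.coe_comp,
      Function.comp_apply, Algebra.pushoutDesc_left, AlgHom.coe_comp, IsScalarTower.coe_toAlgHom']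
  haveI : IsScalarTower S Sk T := IsScalarTower.of_algebraMap_eq (R := S) (S := Sk) (A := T) fun a => by
    simp only [RingHom.algebraMap_toAlgebra (R := Sk), AlgHom.toRingHom_eq_coe, RingHom.coe_coe,
      Algebra.pushoutDesc_right, IsScalarTower.coe_toAlgHom']
  haveI hpo : Algebra.IsPushout (G k) A Sk T :=
    (Algebra.IsPushout.comp_iff R (G k) S Sk (T := A) (T' := T)).1 inferInstance
  obtain ⟨r, hr, hrA, hrS⟩ := exists_prime_tensor_both (R := G k) A Sk p q hq.over.symm
  haveI := hr
  let e := Algebra.IsPushout.equiv (G k) A Sk T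
  haveI : (r.comap e.symm).LiesOver p := ⟨by
    rw [Ideal.under_def, ← hrA]
    ext a
    simp only [Ideal.mem_comap, AlgEquiv.commutes]⟩
  obtain ⟨x, hx, hxq⟩ := hcov (r.comap e.symm) inferInstance
  have hxq' : algebraMap S Sk x ∉ q := fun hh => hxq (by
    rw [IsScalarTower.algebraMap_apply S Sk T, Ideal.mem_comap]
    rw [← hrS, Ideal.mem_comap] at hh
    have e1 : e ((1 : A) ⊗ₜ[G k] algebraMap S Sk x) = algebraMap Sk T (algebraMap S Sk x) :=
      (Algebra.IsPushout.equiv_tmul _ _ _ _ _ _).trans (by simp)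
    rw [← e1, AlgEquiv.symm_apply_apply]
    exact hh)
  have hle : kf x hx ≤ k := hk _ (Finset.mem_image.2 ⟨⟨x, hx⟩, Finset.mem_attach _ _, rfl⟩)
  letI : Algebra (G (kf x hx)) (G k) := (g _ _ hle).toRingHom.toAlgebra
  haveI : IsScalarTower R (G (kf x hx)) (G k) := IsScalarTower.of_algebraMap_eq fun a => ((g _ _ hle).commutes a).symm
  letI : Algebra (G (kf x hx)) Sk := ((algebraMap (G k) Sk).comp (g _ _ hle).toRingHom).toAlgebra
  haveI : IsScalarTower (G (kf x hx)) (G k) Sk := IsScalarTower.of_algebraMap_eq' rfl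
  haveI : IsScalarTower R (G (kf x hx)) Sk := IsScalarTower.of_algebraMap_eq fun a => by
    rw [IsScalarTower.algebraMap_apply (G (kf x hx)) (G k) Sk, ← IsScalarTower.algebraMap_apply R (G (kf x hx)) (G k),
      ← IsScalarTower.algebraMap_apply R (G k) Sk]
  let φ : G (kf x hx) ⊗[R] S →ₐ[R] Sk :=
    Algebra.TensorProduct.lift (IsScalarTower.toAlgHom R (G (kf x hx)) Sk) (IsScalarTower.toAlgHom R S Sk)
      fun _ _ => Commute.all _ _
  letI : Algebra (G (kf x hx) ⊗[R] S) Sk := φ.toRingHom.toAlgebra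
  haveI : IsScalarTower (G (kf x hx)) (G (kf x hx) ⊗[R] S) Sk :=
    IsScalarTower.of_algebraMap_eq (R := G (kf x hx)) (S := G (kf x hx) ⊗[R] S) (A := Sk) fun a => by
      show _ = φ (a ⊗ₜ[R] (1 : S))
      simp [φ]
  haveI : IsScalarTower S (G (kf x hx) ⊗[R] S) Sk :=
    IsScalarTower.of_algebraMap_eq (R := S) (S := G (kf x hx) ⊗[R] S) (A := Sk) fun a => by
      show _ = φ ((1 : G (kf x hx)) ⊗ₜ[R] a)
      simp [φ]
  exact flatAt_of_stage (R := R) (S := S) (C := G (kf x hx)) (C' := G k) (SC := G (kf x hx) ⊗[R] S) M fk hfk (hkf x hx _) q hxq'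

end Groth.Agent.RG
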