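import Groth.Agent.RG.Criterion
import Mathlib.RingTheory.Filtration
import Mathlib.RingTheory.FiniteLength
import Mathlib.RingTheory.HopkinsLevitzki

/-!
# Flatness detected at the associated points of the closed fibre, Noetherian case
-/

set_option autoImplicit false
set_option linter.style.haveILetI false
set_option linter.unusedSectionVars false
set_option backward.isDefEq.respectTransparency false
set_option maxHeartbeats 1000000

universe u

open TensorProduct IsLocalRing

namespace Groth.Agent.RG

variable {R S : Type u} [CommRing R] [CommRing S] [Algebra R S]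
  {N : Type u} [AddCommGroup N] [Module S N] [Module R N] [IsScalarTower R S N]

theorem rTensor_comm_smul {L L' : Type u} [AddCommGroup L] [Module R L] [AddCommGroup L'] [Module R L']
    (f : L →ₗ[R] L') (s : S) (z : N ⊗[R] L) : f.lTensor N (s • z) = s • f.lTensor N z :=
  (AlgebraTensorModule.lTensor S N f).map_smul s z

/-- Killed at a point. -/
def DiesAt (q : Ideal S) {X : Type u} [AddCommGroup X] [Module S X] (x : X) : Prop := ∃ s, s ∉ q ∧ s • x = 0

/-- Injectivity survives at a point of flatness. -/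
theorem diesAt_of_injective (b : Ideal S) [b.IsPrime] (h : FlatCA.FlatAt R b N) {L L' : Type u} [AddCommGroup L]
    [Module R L] [AddCommGroup L'] [Module R L'] (f : L →ₗ[R] L') (hf : Function.Injective f) {z : N ⊗[R] L}
    (hz : DiesAt b (f.lTensor N z)) : DiesAt b z := by
  obtain ⟨s, hs, hz⟩ := hz
  rw [← rTensor_comm_smul] at hz
  let l : N →ₗ[S] LocalizedModule b.primeCompl N := LocalizedModule.mkLinearMap b.primeCompl N
  let lL := AlgebraTensorModule.rTensor R L l
  haveI : Module.Flat R (LocalizedModule b.primeCompl N) := h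
  have h1 : lL (s • z) = 0 := by
    apply Module.Flat.lTensor_preserves_injective_linearMap (M := LocalizedModule b.primeCompl N) f hf
    rw [map_zero]
    have := congrArg (AlgebraTensorModule.rTensor R L' l) hz
    rw [map_zero] at this
    rw [← this]
    exact DFunLike.congr_fun ((LinearMap.lTensor_comp_rTensor (f := l.restrictScalars R) (g := f)).trans
      (LinearMap.rTensor_comp_lTensor (f := l.restrictScalars R) (g := f)).symm) (s • z)
  obtain ⟨t, ht⟩ := (IsLocalizedModule.eq_zero_iff b.primeCompl lL).1 h1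
  refine ⟨(t : S) * s, fun h => ((inferInstance : b.IsPrime).mem_or_mem h).elim t.2 hs, ?_⟩
  rw [mul_smul]
  exact ht

theorem lTensor_surj_of_surj {L L' : Type u} [AddCommGroup L] [Module R L] [AddCommGroup L'] [Module R L']
    (f : L →ₗ[R] L') (hf : Function.Surjective f) : Function.Surjective (f.lTensor N) :=
  LinearMap.lTensor_surjective N hf

variable [IsLocalRing R]

/-- Modules of finite length are detected at the given points. -/
theorem diesAt_of_detect (q : Ideal S) [q.IsPrime] (B : Set (Ideal S)) (hB : ∀ b ∈ B, b.IsPrime ∧ b ≤ q)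
    (hflat : ∀ b ∈ B, ∀ [b.IsPrime], FlatCA.FlatAt R b N)
    (hdet : ∀ x : N ⊗[R] (R ⧸ maximalIdeal R), (∀ b ∈ B, DiesAt b x) → DiesAt q x)
    (L : Type u) [AddCommGroup L] [Module R L] (hL : IsFiniteLength R L) :
    ∀ z : N ⊗[R] L, (∀ b ∈ B, DiesAt b z) → DiesAt q z := by
  induction hL with
  | @of_subsingleton M _ _ _ =>
    intro z hz
    clear hz
    have : z = 0 := by
      induction z using TensorProduct.induction_on with
      | zero => rfl
      | tmul n m => rw [Subsingleton.elim m 0, tmul_zero]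
      | add a b ha hb => rw [ha, hb, add_zero]
    exact ⟨1, fun h => ‹q.IsPrime›.ne_top (q.eq_top_iff_one.2 h), by rw [this, smul_zero]⟩
  | @of_simple_quotient M _ _ K hsimple _ ih =>
    intro z hz
    obtain ⟨m, hm, ⟨e⟩⟩ := isSimpleModule_iff_quot_maximal.1 hsimple
    obtain rfl : m = maximalIdeal R := IsLocalRing.eq_maximalIdeal hm
    let π : M →ₗ[R] R ⧸ maximalIdeal R := e.toLinearMap ∘ₗ K.mkQ
    have hπ : DiesAt q (π.lTensor N z) := hdet _ fun b hb => by
      obtain ⟨s, hs, hsz⟩ := hz b hb
      exact ⟨s, hs, by rw [← rTensor_comm_smul, hsz, map_zero]⟩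
    obtain ⟨s, hs, hsz⟩ := hπ
    rw [← rTensor_comm_smul] at hsz
    have hex : Function.Exact K.subtype π := fun x => by
      show e (K.mkQ x) = 0 ↔ _
      rw [e.map_eq_zero_iff, Submodule.mkQ_apply, Submodule.Quotient.mk_eq_zero]
      simp
    obtain ⟨w, hw⟩ := (lTensor_exact N hex (e.surjective.comp K.mkQ_surjective) (s • z)).1 hsz
    have hwq : DiesAt q w := ih w fun b hb => by
      haveI := (hB b hb).1
      refine diesAt_of_injective b (hflat b hb) K.subtype (Submodule.injective_subtype K) ?_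
      obtain ⟨t, ht, htz⟩ := hz b hb
      exact ⟨t, ht, by rw [hw, smul_comm, htz, smul_zero]⟩
    obtain ⟨t, ht, htw⟩ := hwq
    refine ⟨t * s, fun h => (‹q.IsPrime›.mem_or_mem h).elim ht hs, ?_⟩
    rw [mul_smul, ← hw, ← rTensor_comm_smul, htw, map_zero]

/-- Flatness detected at the given points. -/
theorem flatAt_of_detect [IsNoetherianRing R] [IsNoetherianRing S] [Module.Finite S N] (q : Ideal S) [q.IsPrime]
    (hq : (maximalIdeal R).map (algebraMap R S) ≤ q)
    (B : Set (Ideal S)) (hB : ∀ b ∈ B, b.IsPrime ∧ b ≤ q) (hflat : ∀ b ∈ B, ∀ [b.IsPrime], FlatCA.FlatAt R b N)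
    (hdet : ∀ x : N ⊗[R] (R ⧸ maximalIdeal R), (∀ b ∈ B, DiesAt b x) → DiesAt q x) :
    FlatCA.FlatAt R q N := by
  rw [FlatCA.FlatAt, FlatModel.flat_localized_iff q.primeCompl (LocalizedModule.mkLinearMap q.primeCompl N)]
  intro J y hy
  let m := maximalIdeal R
  obtain ⟨k, hk⟩ := m.exists_pow_inf_eq_pow_smul (J : Submodule R R)
  haveI : Module.Finite R J := Module.Finite.iff_fg.2 (IsNoetherian.noetherian _)
  haveI : Module.Finite S (N ⊗[R] J) := by
    obtain ⟨d, f, hf⟩ := Module.Finite.exists_fin' R J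
    haveI : Module.Finite S (N ⊗[R] (Fin d → R)) :=
      Module.Finite.equiv (TensorProduct.piScalarRight R S N (Fin d)).symm
    exact Module.Finite.of_surjective (AlgebraTensorModule.lTensor S N f) (LinearMap.lTensor_surjective N hf)
  let Sq := Localization.AtPrime q
  let f : N ⊗[R] J →ₗ[S] LocalizedModule q.primeCompl (N ⊗[R] J) :=
    LocalizedModule.mkLinearMap q.primeCompl (N ⊗[R] J)
  suffices hf0 : f y = 0 by
    obtain ⟨s, hs⟩ := (IsLocalizedModule.eq_zero_iff q.primeCompl f).1 hf0
    exact ⟨s, s.2, hs⟩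
  haveI : Module.Finite Sq (LocalizedModule q.primeCompl (N ⊗[R] J)) :=
    Module.Finite.of_isLocalizedModule q.primeCompl f
  haveI : IsNoetherianRing Sq := IsLocalization.isNoetherianRing q.primeCompl Sq inferInstance
  let I : Ideal Sq := ((maximalIdeal R).map (algebraMap R S)).map (algebraMap S Sq)
  have hI : I ≠ ⊤ := fun h => by
    have := (Ideal.map_mono (f := algebraMap S Sq) hq)
    rw [show ((maximalIdeal R).map (algebraMap R S)).map (algebraMap S Sq) = ⊤ from h, top_le_iff,
      Localization.AtPrime.map_eq_maximalIdeal] at this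
    exact (maximalIdeal.isMaximal Sq).ne_top this
  rw [← Submodule.mem_bot Sq, ← I.iInf_pow_smul_eq_bot_of_isLocalRing hI, Submodule.mem_iInf]
  intro i
  let n := i + k
  let Jn : Submodule R J := (m ^ n • (⊤ : Submodule R R) : Submodule R R).comap (Submodule.subtype J)
  let L := J ⧸ Jn
  let g : L →ₗ[R] R ⧸ (m ^ n • (⊤ : Submodule R R)) := Submodule.mapQ Jn _ (Submodule.subtype J) le_rfl
  have hg : Function.Injective g := by
    rw [injective_iff_map_eq_zero]
    intro x hx
    obtain ⟨x, rfl⟩ := Submodule.Quotient.mk_surjective _ x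
    rw [Submodule.mapQ_apply, Submodule.Quotient.mk_eq_zero] at hx
    exact (Submodule.Quotient.mk_eq_zero _).2 hx
  have hfl : IsFiniteLength R L := by
    refine isFiniteLength_iff_isNoetherian_isArtinian.2 ⟨inferInstance, ?_⟩
    have hn : m ^ n • (⊤ : Submodule R R) = m ^ n := by simp
    haveI : IsArtinian R (R ⧸ m ^ n) := by
      by_cases htop : m ^ n = ⊤
      · haveI : Subsingleton (R ⧸ m ^ n) := Ideal.Quotient.subsingleton_iff.2 htop
        infer_instance
      · haveI : Nontrivial (R ⧸ m ^ n) := Ideal.Quotient.nontrivial_iff.2 htop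
        haveI : IsLocalRing (R ⧸ m ^ n) := IsLocalRing.of_surjective' (Ideal.Quotient.mk _) Ideal.Quotient.mk_surjective
        haveI : IsArtinianRing (R ⧸ m ^ n) := (isArtinianRing_iff_isNilpotent_maximalIdeal _).2 ⟨n, by
          have hle : maximalIdeal (R ⧸ m ^ n) ≤ m.map (Ideal.Quotient.mk (m ^ n)) := fun x hx => by
            obtain ⟨x, rfl⟩ := Ideal.Quotient.mk_surjective x
            exact Ideal.mem_map_of_mem _ ((mem_maximalIdeal x).2 fun hu => hx (hu.map _))
          refine le_bot_iff.1 ((Ideal.pow_right_mono hle n).trans ?_)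
          rw [← Ideal.map_pow, Ideal.map_quotient_self]⟩
        exact isArtinian_of_surjective_algebraMap (M := R ⧸ m ^ n) (R := R ⧸ m ^ n) (S := R) Ideal.Quotient.mk_surjective
    haveI : IsArtinian R (R ⧸ (m ^ n • (⊤ : Submodule R R))) :=
      isArtinian_of_linearEquiv (Submodule.quotEquivOfEq _ _ hn).symm
    exact isArtinian_of_injective g hg
  have hz0 : g.lTensor N (Jn.mkQ.lTensor N y) = 0 := by
    rw [← LinearMap.comp_apply, ← LinearMap.lTensor_comp,
      show g ∘ₗ Jn.mkQ = (m ^ n • (⊤ : Submodule R R)).mkQ ∘ₗ Submodule.subtype J from LinearMap.ext fun _ => rfl,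
      LinearMap.lTensor_comp, LinearMap.comp_apply, hy, map_zero]
  obtain ⟨s, hs, hsz⟩ := diesAt_of_detect q B hB hflat hdet L hfl (Jn.mkQ.lTensor N y) fun b hb => by
    haveI := (hB b hb).1
    exact diesAt_of_injective b (hflat b hb) g hg
      ⟨1, fun h => (hB b hb).1.ne_top (b.eq_top_iff_one.2 h), by rw [hz0, smul_zero]⟩
  rw [← rTensor_comm_smul] at hsz
  obtain ⟨w, hw⟩ := (lTensor_exact N (LinearMap.exact_subtype_mkQ Jn) Jn.mkQ_surjective (s • y)).1 hsz
  have hJn : Jn ≤ m ^ i • (⊤ : Submodule R J) := by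
    intro x hx
    have hx' : (x : R) ∈ m ^ n • (⊤ : Submodule R R) ⊓ (J : Submodule R R) := ⟨hx, x.2⟩
    rw [hk n (Nat.le_add_left _ _), show n - k = i from Nat.add_sub_cancel i k] at hx'
    refine (Submodule.mem_smul_top_iff (m ^ i) J x).2 (Submodule.smul_mono le_rfl inf_le_right hx')
  have hmem : ∀ w : N ⊗[R] Jn, f (Jn.subtype.lTensor N w) ∈ I ^ i • (⊤ : Submodule Sq _) := by
    intro w
    induction w using TensorProduct.induction_on with
    | zero => rw [map_zero, map_zero]; exact zero_mem _
    | add a b ha hb => rw [map_add, map_add]; exact add_mem ha hb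
    | tmul a x =>
      rw [LinearMap.lTensor_tmul, Submodule.subtype_apply]
      refine Submodule.smul_induction_on (p := fun x' : J => f (a ⊗ₜ x') ∈ I ^ i • (⊤ : Submodule Sq _))
        (hJn x.2) (fun r hr x' _ => ?_) fun x₁ x₂ h₁ h₂ => ?_
      · show f (a ⊗ₜ[R] (r • x')) ∈ _
        rw [TensorProduct.tmul_smul, ← algebraMap_smul S r, map_smul, ← algebraMap_smul Sq (algebraMap R S r)]
        exact Submodule.smul_mem_smul
          (by rw [← Ideal.map_pow, ← Ideal.map_pow]; exact Ideal.mem_map_of_mem _ (Ideal.mem_map_of_mem _ hr))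
          Submodule.mem_top
      · show f (a ⊗ₜ[R] (x₁ + x₂)) ∈ _
        rw [TensorProduct.tmul_add, map_add]; exact add_mem h₁ h₂
  have h1 : algebraMap S Sq s • f y ∈ I ^ i • (⊤ : Submodule Sq _) := by
    rw [algebraMap_smul, ← map_smul, ← hw]
    exact hmem w
  obtain ⟨v, hv⟩ := (IsLocalization.map_units Sq (⟨s, hs⟩ : q.primeCompl)).exists_left_inv
  have := Submodule.smul_mem _ v h1
  rwa [← mul_smul, hv, one_smul] at this

end Groth.Agent.RG
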