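import Groth.Agent.RG.DevTransport

/-!
# Base change of recursive dévissages with trivial residue extension
-/

set_option autoImplicit false
set_option linter.style.haveILetI false
set_option linter.unusedSectionVars false
set_option backward.isDefEq.respectTransparency false
set_option backward.isDefEq.respectTransparency.types false
set_option maxHeartbeats 1000000

universe u

open TensorProduct

namespace Groth.Agent.RG

attribute [local instance] Algebra.TensorProduct.rightAlgebra

/-- The extended prime is prime. -/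
theorem isPrime_map_of_smooth {R D : Type u} [CommRing R] [CommRing D] [Algebra R D] {n : ℕ}
    (hsm : FlatCA.SmoothRelDim n R D) (hirr : FlatCA.GeomIrredFibres R D) (p : Ideal R) [p.IsPrime] :
    (p.map (algebraMap R D)).IsPrime ∧ (p.map (algebraMap R D)).LiesOver p := by
  haveI := smooth_of_smoothRelDim hsm
  exact (domFib_of_smooth_geomIrred hirr).prime_map p

/-- The rings of a base changed step. -/
theorem step_baseChange {R S : Type u} [CommRing R] [CommRing S] [Algebra R S] {N : Type u} [AddCommGroup N] [Module S N]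
    {p : Ideal R} [p.IsPrime] {q : Ideal S} [q.IsPrime] (σ : Step R S N p q)
    (R' : Type u) [CommRing R'] [Algebra R R'] (p' : Ideal R') [p'.IsPrime] [hp' : p'.LiesOver p]
    (hκ : Function.Bijective (Ideal.ResidueField.mapₐ p p' (Algebra.ofId R R') hp'.over))
    (S' : Type u) [CommRing S'] [Algebra R' S'] [Algebra R S'] [Algebra S S'] [IsScalarTower R R' S']
    [IsScalarTower R S S'] [Algebra.IsPushout R R' S S'] (q' : Ideal S') [q'.IsPrime] [q'.LiesOver q] [q'.LiesOver p'] :
    ∃ (C' D' : Type u) (_ : CommRing C') (_ : CommRing D') (_ : Algebra R' C') (_ : Algebra R' D')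
        (_ : Algebra S' C') (_ : IsScalarTower R' S' C') (_ : Algebra D' C') (_ : IsScalarTower R' D' C')
        (_ : Algebra σ.C C') (_ : Algebra σ.D D') (_ : Algebra R D') (_ : IsScalarTower R R' D')
        (_ : IsScalarTower R σ.D D') (_ : Algebra.IsPushout R R' σ.D D')
        (_ : Algebra S C') (_ : IsScalarTower S S' C') (_ : IsScalarTower S σ.C C') (_ : Algebra σ.D C')
        (_ : IsScalarTower σ.D D' C') (_ : IsScalarTower σ.D σ.C C')
        (_ : Algebra.IsPushout S S' σ.C C') (_ : Algebra.IsPushout σ.D D' σ.C C')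
        (z' : Ideal C') (y' : Ideal D') (_ : z'.IsPrime) (_ : y'.IsPrime) (_ : z'.LiesOver q') (_ : z'.LiesOver y')
        (_ : y'.LiesOver p') (_ : y'.LiesOver σ.y) (_ : (p'.map (algebraMap R' D')).IsPrime)
        (_ : (p'.map (algebraMap R' D')).LiesOver (p.map (algebraMap R σ.D)))
        (_ : FlatCA.SmoothRelDim σ.n R' D') (_ : FlatCA.GeomIrredFibres R' D'),
        (∀ (z₁ : Ideal C') [z₁.IsPrime], z₁.LiesOver y' → z₁ = z') ∧ FlatCA.PurelyTranscendental p' y' := by
  let C' := R' ⊗[R] σ.C
  let D' := R' ⊗[R] σ.D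
  haveI : IsScalarTower R σ.C C' := inferInstance
  haveI : IsScalarTower R σ.D D' := inferInstance
  let μ : S' →ₐ[R'] C' := (Algebra.TensorProduct.map (AlgHom.id R' R') (IsScalarTower.toAlgHom R S σ.C)).comp
    (Algebra.IsPushout.equiv R R' S S').symm.toAlgHom
  let ν : D' →ₐ[R'] C' := Algebra.TensorProduct.map (AlgHom.id R' R') (IsScalarTower.toAlgHom R σ.D σ.C)
  letI : Algebra S' C' := μ.toRingHom.toAlgebra
  haveI : IsScalarTower R' S' C' := .of_algebraMap_eq fun r => (μ.commutes r).symm
  letI : Algebra D' C' := ν.toRingHom.toAlgebra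
  haveI : IsScalarTower R' D' C' := .of_algebraMap_eq fun r => (ν.commutes r).symm
  letI : Algebra S C' := ((algebraMap σ.C C').comp (algebraMap S σ.C)).toAlgebra
  haveI : IsScalarTower S σ.C C' := .of_algebraMap_eq' rfl
  haveI : IsScalarTower S S' C' := .of_algebraMap_eq fun s => by
    show (1 : R') ⊗ₜ[R] algebraMap S σ.C s = μ (algebraMap S S' s)
    refine Eq.trans ?_ (congrArg (Algebra.TensorProduct.map (AlgHom.id R' R') (IsScalarTower.toAlgHom R S σ.C))
      (Algebra.IsPushout.equiv_symm_algebraMap_right (R := R) (S := R') (R' := S) (S' := S') s)).symm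
    exact (Algebra.TensorProduct.map_tmul (AlgHom.id R' R') (IsScalarTower.toAlgHom R S σ.C) (1 : R') s).symm
  letI : Algebra σ.D C' := ((algebraMap σ.C C').comp (algebraMap σ.D σ.C)).toAlgebra
  haveI : IsScalarTower σ.D σ.C C' := .of_algebraMap_eq' rfl
  haveI : IsScalarTower σ.D D' C' := .of_algebraMap_eq fun d => by
    show (1 : R') ⊗ₜ[R] algebraMap σ.D σ.C d = ν ((1 : R') ⊗ₜ[R] d)
    exact (Algebra.TensorProduct.map_tmul (AlgHom.id R' R') (IsScalarTower.toAlgHom R σ.D σ.C) (1 : R') d).symm
  haveI : Algebra.IsPushout S S' σ.C C' := Algebra.IsPushout.symm (isPushout_of_base R R' S S' σ.C C')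
  haveI : Algebra.IsPushout σ.D D' σ.C C' := Algebra.IsPushout.symm (isPushout_of_base R R' σ.D D' σ.C C')
  haveI : σ.z.LiesOver p := Ideal.LiesOver.trans σ.z σ.y p
  obtain ⟨z', hz', hz'z, hz'p⟩ := exists_prime_over (S := σ.C) (S' := C') p p' hκ σ.z
  haveI := hz'
  haveI := hz'z
  haveI := hz'p
  let y' := z'.comap (algebraMap D' C')
  haveI : y'.LiesOver p' := ⟨by
    rw [Ideal.under_def, Ideal.comap_comap, ← IsScalarTower.algebraMap_eq R' D' C', ← Ideal.under_def]
    exact hz'p.over⟩
  haveI : z'.LiesOver y' := ⟨rfl⟩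
  haveI : y'.LiesOver σ.y := ⟨by
    rw [Ideal.under_def, Ideal.comap_comap, ← IsScalarTower.algebraMap_eq σ.D D' C',
      IsScalarTower.algebraMap_eq σ.D σ.C C', ← Ideal.comap_comap, ← Ideal.under_def (A := σ.C), ← hz'z.over]
    exact Ideal.LiesOver.over⟩
  haveI : (z'.comap (algebraMap S' C')).LiesOver p' := ⟨by
    rw [Ideal.under_def, Ideal.comap_comap, ← IsScalarTower.algebraMap_eq R' S' C', ← Ideal.under_def]
    exact hz'p.over⟩
  haveI : (z'.comap (algebraMap S' C')).LiesOver q := ⟨by
    rw [Ideal.under_def, Ideal.comap_comap, ← IsScalarTower.algebraMap_eq S S' C',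
      IsScalarTower.algebraMap_eq S σ.C C', ← Ideal.comap_comap, ← Ideal.under_def (A := σ.C), ← hz'z.over]
    exact Ideal.LiesOver.over⟩
  haveI : q.LiesOver p := ⟨by
    have h := congrArg (Ideal.comap (algebraMap R S)) (Ideal.LiesOver.over (P := σ.z) (p := q))
    rw [Ideal.under_def (A := S) σ.z, Ideal.comap_comap, ← IsScalarTower.algebraMap_eq R S σ.C] at h
    exact (Ideal.LiesOver.over (P := σ.z) (p := p)).trans h.symm⟩
  haveI hz'q : z'.LiesOver q' := ⟨(eq_of_liesOver (S := S) (S' := S') p p' hκ q (z'.comap (algebraMap S' C')) q').symm⟩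
  have hsm' := smoothRelDim_baseChange R R' σ.D D' σ.smooth
  have hirr' := geomIrredFibres_baseChange R R' σ.D D' σ.irred
  haveI hP' := (isPrime_map_of_smooth hsm' hirr' p').1
  haveI := (isPrime_map_of_smooth σ.smooth σ.irred p).2
  obtain ⟨Q, hQ, hQP, hQp⟩ := exists_prime_over (S := σ.D) (S' := D') p p' hκ (p.map (algebraMap R σ.D))
  haveI hPP := σ.liesOver_map_of_exists D' ⟨Q, hQ, hQP, hQp⟩
  refine ⟨C', D', inferInstance, inferInstance, inferInstance, inferInstance, inferInstance, inferInstance,
    inferInstance, inferInstance, inferInstance, inferInstance, inferInstance, inferInstance, inferInstance,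
    inferInstance, inferInstance, inferInstance, inferInstance, inferInstance, inferInstance, inferInstance,
    inferInstance, inferInstance, z', y', inferInstance, inferInstance, hz'q, inferInstance, inferInstance,
    inferInstance, hP', hPP, hsm', hirr', fun z₁ _ hz₁ => ?_,
    purelyTranscendental_baseChange (S := σ.D) (S' := D') p p' hκ σ.y y' σ.pure⟩
  haveI := hz₁
  haveI : z₁.LiesOver p' := Ideal.LiesOver.trans z₁ y' p'
  haveI : (z₁.comap (algebraMap σ.C C')).LiesOver σ.y := ⟨by
    rw [Ideal.under_def, Ideal.comap_comap, ← IsScalarTower.algebraMap_eq σ.D σ.C C',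
      IsScalarTower.algebraMap_eq σ.D D' C', ← Ideal.comap_comap, ← Ideal.under_def (A := D') z₁, ← hz₁.over]
    exact Ideal.LiesOver.over⟩
  haveI : z₁.LiesOver σ.z := ⟨(σ.uniq (z₁.comap (algebraMap σ.C C')) inferInstance).symm⟩
  exact eq_of_liesOver (S := σ.C) (S' := C') p p' hκ σ.z z₁ z'

/-- Dévissages are stable under base change with trivial residue extension. -/
theorem DevAt.baseChange {R : Type u} [CommRing R] {p : Ideal R} [p.IsPrime] {S : Type u} [CommRing S] [Algebra R S]
    {N : Type u} [AddCommGroup N] [Module S N] {q : Ideal S} [q.IsPrime] (h : DevAt R p S N q)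
    (R' : Type u) [CommRing R'] [Algebra R R'] (p' : Ideal R') [p'.IsPrime] [hp' : p'.LiesOver p]
    (hκ : Function.Bijective (Ideal.ResidueField.mapₐ p p' (Algebra.ofId R R') hp'.over))
    (S' : Type u) [CommRing S'] [Algebra R' S'] [Algebra R S'] [Algebra S S'] [IsScalarTower R R' S']
    [IsScalarTower R S S'] [Algebra.IsPushout R R' S S']
    (N' : Type u) [AddCommGroup N'] [Module S' N'] [Module S N'] [IsScalarTower S S' N'] (f : N →ₗ[S] N')
    (hf : IsBaseChange S' f) (q' : Ideal S') [q'.IsPrime] [q'.LiesOver q] [q'.LiesOver p'] :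
    DevAt R' p' S' N' q' := by
  induction h generalizing S' N' q' with
  | @last S _ _ N _ _ q _ σ hs =>
    obtain ⟨C', D', _, _, _, _, _, _, _, _, _, _, _, _, _, _, _, _, _, _, _, _, _, _, z', y', _, _, _, _, _, _, _, hPP, hsm, hirr, hu, hpure⟩ := step_baseChange σ R' p' hκ S' q'
    exact .last (σ.transport f hf C' D' z' y' hsm hirr hu hpure) (σ.surjective_transport f hf C' D' z' y' hsm hirr hu hpure hs)
  | @cons S _ _ N _ _ q _ σ _ ih =>
    obtain ⟨C', D', _, _, _, _, _, _, _, _, _, _, _, _, _, _, _, _, _, _, _, _, _, _, z', y', _, _, _, _, _, _, _, hPP, hsm, hirr, hu, hpure⟩ :=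
      step_baseChange σ R' p' hκ S' q'
    exact DevAt.cons_transport σ f C' D' z' y' (fun Q' _ _ _ _ g hg => ih D' Q' g hg y') hf hsm hirr hu hpure

end Groth.Agent.RG
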