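import Groth.Agent.RG.OneStep
import Groth.Agent.Synt29.Descent
import Groth.Prelude.Def_FlatCA

/-!
# Base change of one-step dévissages
-/

set_option autoImplicit false
set_option linter.style.haveILetI false
set_option linter.unusedSectionVars false
set_option backward.isDefEq.respectTransparency false
set_option maxHeartbeats 1000000

universe u

open TensorProduct AlgebraicGeometry CategoryTheory CategoryTheory.Limits

namespace Groth.Agent.RG

attribute [local instance] Algebra.TensorProduct.rightAlgebra

section

variable (R R' A A' : Type u) [CommRing R] [CommRing R'] [CommRing A] [CommRing A'] [Algebra R R'] [Algebra R A]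
  [Algebra R' A'] [Algebra R A'] [Algebra A A'] [IsScalarTower R R' A'] [IsScalarTower R A A']
  [Algebra.IsPushout R R' A A']

theorem isPullback_SpecMap_pushout :
    IsPullback (Spec.map (CommRingCat.ofHom (algebraMap A A'))) (Spec.map (CommRingCat.ofHom (algebraMap R' A')))
      (Spec.map (CommRingCat.ofHom (algebraMap R A))) (Spec.map (CommRingCat.ofHom (algebraMap R R'))) :=
  (isPullback_SpecMap_of_isPushout _ _ _ _ (CommRingCat.isPushout_of_isPushout R R' A A')).flip

theorem smoothRelDim_baseChange {n : ℕ} (h : FlatCA.SmoothRelDim n R A) : FlatCA.SmoothRelDim n R' A' := by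
  haveI := AlgebraicGeometry.smoothOfRelativeDimension_isStableUnderBaseChange n
  exact MorphismProperty.of_isPullback (isPullback_SpecMap_pushout R R' A A') h

theorem geomIrredFibres_baseChange (h : FlatCA.GeomIrredFibres R A) : FlatCA.GeomIrredFibres R' A' :=
  MorphismProperty.of_isPullback (P := @GeometricallyIrreducible) (isPullback_SpecMap_pushout R R' A A') h

variable (B B' : Type u) [CommRing B] [CommRing B'] [Algebra R B] [Algebra R' B'] [Algebra R B'] [Algebra B B']
  [IsScalarTower R R' B'] [IsScalarTower R B B'] [Algebra.IsPushout R R' B B'] [Algebra A B] [IsScalarTower R A B]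
  [Algebra A' B'] [IsScalarTower R' A' B'] [Algebra A B'] [IsScalarTower A A' B'] [IsScalarTower A B B']

include R R'

/-- A pushout of pushouts over the base. -/
theorem isPushout_of_base : Algebra.IsPushout A B A' B' := by
  haveI : IsScalarTower R A B' := IsScalarTower.of_algebraMap_eq fun r => by
    rw [IsScalarTower.algebraMap_apply R B B', IsScalarTower.algebraMap_apply R A B,
      IsScalarTower.algebraMap_apply A B B']
  haveI : IsScalarTower R A' B' := IsScalarTower.of_algebraMap_eq fun r => by
    rw [IsScalarTower.algebraMap_apply R R' B', IsScalarTower.algebraMap_apply R' A' B',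
      ← IsScalarTower.algebraMap_apply R R' A']
  haveI : Algebra.IsPushout R A R' A' := Algebra.IsPushout.symm inferInstance
  exact (Algebra.IsPushout.comp_iff (R := R) (S := A) (R' := R') (S' := A') (T := B) (T' := B')).1
    (Algebra.IsPushout.symm inferInstance)

theorem surjective_baseChange (h : Function.Surjective (algebraMap A B)) : Function.Surjective (algebraMap A' B') := by
  haveI := (isPushout_of_base R R' A A' B B').symm
  have h1 : Function.Surjective (algebraMap A' (A' ⊗[A] B)) := by
    rw [show (algebraMap A' (A' ⊗[A] B) : A' → A' ⊗[A] B) = fun a => a ⊗ₜ 1 from rfl]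
    intro t
    induction t using TensorProduct.induction_on with
    | zero => exact ⟨0, by simp⟩
    | tmul a b =>
      obtain ⟨c, rfl⟩ := h b
      exact ⟨c • a, by show (c • a) ⊗ₜ[A] (1 : B) = _; rw [TensorProduct.smul_tmul, Algebra.smul_def, mul_one]⟩
    | add s t hs ht =>
      obtain ⟨a, rfl⟩ := hs
      obtain ⟨b, rfl⟩ := ht
      exact ⟨a + b, TensorProduct.add_tmul _ _ _⟩
  intro b
  let e := Algebra.IsPushout.equiv A A' B B'
  obtain ⟨a, ha⟩ := h1 (e.symm b)
  exact ⟨a, by rw [← e.commutes, ha, e.apply_symm_apply]⟩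

theorem finitePresentation_baseChange [Algebra.FinitePresentation A B] : Algebra.FinitePresentation A' B' := by
  haveI := (isPushout_of_base R R' A A' B B').symm
  exact Algebra.FinitePresentation.equiv (Algebra.IsPushout.equiv A A' B B')

theorem finite_baseChange [Module.Finite A B] : Module.Finite A' B' := by
  haveI := (isPushout_of_base R R' A A' B B').symm
  exact Module.Finite.equiv (Algebra.IsPushout.equiv A A' B B').toLinearEquiv

/-- Modules identified over the smaller ring stay identified after base change. -/
theorem nonempty_equiv_baseChange (N : Type u) [AddCommGroup N] [Module A N] (G : Type u) [AddCommGroup G]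
    [Module B G] [Module A G] [IsScalarTower A B G] (e : N ≃ₗ[A] G)
    (N' : Type u) [AddCommGroup N'] [Module A' N'] [Module A N'] [IsScalarTower A A' N'] (f : N →ₗ[A] N')
    (hf : IsBaseChange A' f) (G' : Type u) [AddCommGroup G'] [Module B' G'] [Module A' G'] [IsScalarTower A' B' G']
    [Module B G'] [IsScalarTower B B' G'] (g : G →ₗ[B] G') (hg : IsBaseChange B' g) :
    Nonempty (N' ≃ₗ[A'] G') := by
  haveI := isPushout_of_base R R' A A' B B'
  haveI := (isPushout_of_base R R' A A' B B').symm
  exact ⟨hf.equiv.symm ≪≫ₗ LinearEquiv.baseChange A A' N G e ≪≫ₗ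
    (Algebra.IsPushout.cancelBaseChange A A' B B' G).symm ≪≫ₗ hg.equiv.restrictScalars A'⟩

end

/-- The dimension of the support of a base change of a finite module. -/
theorem supportDim_tensor_quotient {A S : Type u} [CommRing A] [CommRing S] [Algebra S A] (N : Type u)
    [AddCommGroup N] [Module S N] [Module.Finite S N] :
    Module.supportDim A (A ⊗[S] N) = ringKrullDim (A ⧸ (Module.annihilator S N).map (algebraMap S A)) := by
  rw [← Module.supportDim_quotient_eq_ringKrullDim]
  have h : Module.support A (A ⊗[S] N) = Module.support A (A ⧸ (Module.annihilator S N).map (algebraMap S A)) := by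
    ext x
    rw [QCoh.mem_support_baseChange (TensorProduct.isBaseChange S N A) x, Module.support_eq_zeroLocus,
      Module.support_eq_zeroLocus, Ideal.annihilator_quotient, PrimeSpectrum.mem_zeroLocus, PrimeSpectrum.mem_zeroLocus]
    exact (Ideal.map_le_iff_le_comap (K := x.asIdeal)).symm
  unfold Module.supportDim
  rw [h]

section

variable {R S : Type u} [CommRing R] [CommRing S] [Algebra R S]

theorem ringKrullDim_tensor_quotient (k : Type u) [CommRing k] [Algebra R k] (I : Ideal S) :
    ringKrullDim ((k ⊗[R] S) ⧸ I.map (algebraMap S (k ⊗[R] S))) = ringKrullDim (k ⊗[R] (S ⧸ I)) := by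
  let m := Algebra.TensorProduct.map (AlgHom.id R k) (Ideal.Quotient.mkₐ R I)
  have hm : Function.Surjective m :=
    TensorProduct.map_surjective Function.surjective_id Ideal.Quotient.mk_surjective
  have hk : RingHom.ker m = I.map (algebraMap S (k ⊗[R] S)) := by
    refine (Algebra.TensorProduct.lTensor_ker (A := k) (Ideal.Quotient.mkₐ R I) Ideal.Quotient.mk_surjective).trans ?_
    rw [show RingHom.ker (Ideal.Quotient.mkₐ R I) = I from Ideal.mk_ker]
    rfl
  rw [← hk]
  exact ringKrullDim_eq_of_ringEquiv (RingHom.quotientKerEquivOfSurjective (f := m.toRingHom) hm)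

theorem supportDim_fiberMod (p : Ideal R) [p.IsPrime] (N : Type u) [AddCommGroup N] [Module S N] [Module R N]
    [IsScalarTower R S N] [Module.Finite S N] :
    Module.supportDim (p.Fiber S) (FlatCA.fiberMod p S N) =
      ringKrullDim (p.ResidueField ⊗[R] (S ⧸ Module.annihilator S N)) := by
  show Module.supportDim (p.Fiber S) ((p.Fiber S) ⊗[S] N) = _
  rw [supportDim_tensor_quotient, ringKrullDim_tensor_quotient]

variable {R' S' : Type u} [CommRing R'] [CommRing S'] [Algebra R R'] [Algebra R' S'] [Algebra R S'] [Algebra S S']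
  [IsScalarTower R R' S'] [IsScalarTower R S S'] [Algebra.IsPushout R R' S S']

/-- The dimension of the support of the fibre does not change under base change. -/
theorem supportDim_fiberMod_baseChange [Algebra.FiniteType R S] (N : Type u) [AddCommGroup N] [Module S N]
    [Module R N] [IsScalarTower R S N] [Module.Finite S N] (p : Ideal R) [p.IsPrime] (p' : Ideal R') [p'.IsPrime]
    [hp' : p'.LiesOver p] (N' : Type u) [AddCommGroup N'] [Module S' N'] [Module R' N'] [IsScalarTower R' S' N']
    [Module S N'] [IsScalarTower S S' N'] (f : N →ₗ[S] N') (hf : IsBaseChange S' f) :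
    Module.supportDim (p'.Fiber S') (FlatCA.fiberMod p' S' N') = Module.supportDim (p.Fiber S) (FlatCA.fiberMod p S N) := by
  rw [supportDim_fiberMod p N]
  show Module.supportDim (p'.Fiber S') ((p'.Fiber S') ⊗[S'] N') = _
  let k := p.ResidueField
  let k' := p'.ResidueField
  letI : Algebra k k' := (Ideal.ResidueField.mapₐ p p' (Algebra.ofId R R') hp'.over).toRingHom.toAlgebra
  haveI : IsScalarTower R k k' := IsScalarTower.of_algebraMap_eq fun r => by
    rw [IsScalarTower.algebraMap_apply R R' k']
    exact (Ideal.ResidueField.map_algebraMap p p' (Algebra.ofId R R').toRingHom hp'.over r).symm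
  let I := Module.annihilator S N
  haveI : Module.Finite S' N' := Module.Finite.equiv hf.equiv
  letI : Algebra S (p'.Fiber S') := ((algebraMap S' (p'.Fiber S')).comp (algebraMap S S')).toAlgebra
  haveI : IsScalarTower S S' (p'.Fiber S') := IsScalarTower.of_algebraMap_eq fun _ => rfl
  haveI : Module.Finite (p'.Fiber S') ((p'.Fiber S') ⊗[S'] N') := inferInstance
  rw [Module.supportDim_eq_of_equiv (LinearEquiv.baseChange S' (p'.Fiber S') _ _ hf.equiv.symm),
    Module.supportDim_eq_of_equiv (AlgebraTensorModule.cancelBaseChange S S' (p'.Fiber S') (p'.Fiber S') N),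
    supportDim_tensor_quotient]
  haveI : Algebra.IsPushout R R' S S' := inferInstance
  let σ : (k' ⊗[R'] S') ≃ₐ[k'] (k' ⊗[R] S) :=
    (Algebra.TensorProduct.congr AlgEquiv.refl (Algebra.IsPushout.equiv R R' S S').symm).trans
      (Algebra.TensorProduct.cancelBaseChange R R' k' k' S)
  have hσ : ∀ s : S, σ (algebraMap S (k' ⊗[R'] S') s) = algebraMap S (k' ⊗[R] S) s := fun s => by
    show σ ((1 : k') ⊗ₜ[R'] algebraMap S S' s) = (1 : k') ⊗ₜ[R] s
    simp [σ, Algebra.IsPushout.equiv_symm_algebraMap_right]
  have hI : (I.map (algebraMap S (k' ⊗[R'] S'))).map σ = I.map (algebraMap S (k' ⊗[R] S)) := by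
    show Ideal.map σ.toRingEquiv.toRingHom _ = _
    rw [Ideal.map_map]
    exact congrArg (Ideal.map · I) (RingHom.ext hσ)
  refine (ringKrullDim_eq_of_ringEquiv (Ideal.quotientEquiv _ _ σ.toRingEquiv hI.symm)).trans ?_
  rw [ringKrullDim_tensor_quotient]
  let ε : (k' ⊗[k] (k ⊗[R] (S ⧸ I))) ≃ₐ[k'] (k' ⊗[R] (S ⧸ I)) :=
    Algebra.TensorProduct.cancelBaseChange R k k' k' (S ⧸ I)
  rcases subsingleton_or_nontrivial (k ⊗[R] (S ⧸ I)) with h | h
  · haveI : Subsingleton (k' ⊗[R] (S ⧸ I)) := ε.symm.toEquiv.subsingleton
    rw [ringKrullDim_eq_bot_of_subsingleton, ringKrullDim_eq_bot_of_subsingleton]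
  · rw [← ringKrullDim_eq_of_ringEquiv (R := k' ⊗[k] (k ⊗[R] (S ⧸ I))) ε.toRingEquiv]
    exact Synt29.ringKrullDim_tensor_field k k' (k ⊗[R] (S ⧸ I))

end

end Groth.Agent.RG
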