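import Groth.Agent.RG.DevTransport
import Groth.Agent.RG.StepBC
import Groth.Agent.RG.SmoothDom
import Groth.Agent.RG.DescPureMain

/-!
# Base change of complete dévissages
-/

set_option autoImplicit false
set_option linter.style.haveILetI false
set_option linter.unusedSectionVars false
set_option backward.isDefEq.respectTransparency false
set_option backward.isDefEq.respectTransparency.types false
set_option maxHeartbeats 2000000

universe u

open TensorProduct

namespace Groth.Agent.RG

attribute [local instance] Algebra.TensorProduct.rightAlgebra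

/-- The prime of the fibre after a base change of a smooth algebra with irreducible fibres. -/
theorem bc_prime {R B : Type u} [CommRing R] [CommRing B] [Algebra R B] (hsm : Algebra.Smooth R B)
    (hirr : FlatCA.GeomIrredFibres R B) (p : Ideal R) [p.IsPrime]
    {R' D' : Type u} [CommRing R'] [CommRing D'] [Algebra R R'] [Algebra R' D'] [Algebra B D'] [Algebra R D']
    [IsScalarTower R R' D'] [IsScalarTower R B D'] [Algebra.IsPushout R R' B D'] (p' : Ideal R') [p'.IsPrime]
    [hp' : p'.LiesOver p] :
    Algebra.Smooth R' D' ∧ FlatCA.GeomIrredFibres R' D' ∧ (p'.map (algebraMap R' D')).IsPrime ∧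
      (p'.map (algebraMap R' D')).LiesOver (p.map (algebraMap R B)) := by
  haveI := hsm
  haveI hsm' : Algebra.Smooth R' D' := Algebra.Smooth.of_equiv (Algebra.IsPushout.equiv R R' B D')
  have hirr' := geomIrredFibres_baseChange R R' B D' hirr
  obtain ⟨hP, hPl⟩ := (domFib_of_smooth_geomIrred hirr).prime_map p
  haveI := hP
  obtain ⟨r, hr, hr1, hr2⟩ := exists_prime_tensor_both (R := R) R' B p' (p.map (algebraMap R B))
    (hPl.over.symm.trans hp'.over)
  haveI := hr
  let e := Algebra.IsPushout.equiv R R' B D'
  have hQR : (r.comap e.symm).comap (algebraMap R' D') = p' := by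
    rw [← hr1]
    ext a
    simp only [Ideal.mem_comap, AlgEquiv.commutes]
  have hQB : (r.comap e.symm).comap (algebraMap B D') = p.map (algebraMap R B) := by
    rw [← hr2]
    ext b
    simp only [Ideal.mem_comap]
    show e.symm (algebraMap B D' b) ∈ r ↔ _
    rw [Algebra.IsPushout.equiv_symm_algebraMap_right]
    rfl
  refine ⟨hsm', hirr', ((domFib_of_smooth_geomIrred hirr').prime_map p').1, ⟨le_antisymm ?_ ?_⟩⟩
  · rw [Ideal.map_le_iff_le_comap]
    intro a ha
    show algebraMap B D' (algebraMap R B a) ∈ p'.map (algebraMap R' D')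
    rw [← IsScalarTower.algebraMap_apply, IsScalarTower.algebraMap_apply R R' D']
    exact Ideal.mem_map_of_mem _ ((SetLike.ext_iff.1 hp'.over a).1 ha)
  · have hle : p'.map (algebraMap R' D') ≤ r.comap e.symm := Ideal.map_le_iff_le_comap.2 hQR.ge
    exact (Ideal.comap_mono hle).trans hQB.le

section Head

variable {R R' S S' A B C' D' N N' M G' : Type u}
  [CommRing R] [CommRing R'] [CommRing S] [CommRing S'] [CommRing A] [CommRing B] [CommRing C'] [CommRing D']
  [Algebra R R'] [Algebra R S] [Algebra R' S'] [Algebra R S'] [Algebra S S'] [IsScalarTower R R' S']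
  [IsScalarTower R S S'] [Algebra.IsPushout R R' S S']
  [Algebra R A] [Algebra R B] [Algebra B A] [IsScalarTower R B A] [Algebra S A] [IsScalarTower R S A]
  [Algebra R' C'] [Algebra R C'] [IsScalarTower R R' C'] [Algebra A C'] [IsScalarTower R A C']
  [Algebra.IsPushout R R' A C']
  [Algebra R' D'] [Algebra R D'] [IsScalarTower R R' D'] [Algebra B D'] [IsScalarTower R B D']
  [Algebra.IsPushout R R' B D']
  [Algebra D' C'] [IsScalarTower R' D' C'] [Algebra B C'] [IsScalarTower B D' C'] [IsScalarTower B A C']
  [Algebra S' C'] [IsScalarTower R' S' C'] [Algebra S C'] [IsScalarTower S S' C'] [IsScalarTower S A C']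
  [AddCommGroup N] [Module S N] [AddCommGroup N'] [Module S' N'] [Module S N'] [IsScalarTower S S' N']
  [AddCommGroup M] [Module A M] [Module B M] [IsScalarTower B A M] [Module S M] [IsScalarTower S A M]
  [AddCommGroup G'] [Module C' G'] [Module A G'] [IsScalarTower A C' G'] [Module D' G'] [IsScalarTower D' C' G']
  [Module B G'] [IsScalarTower B D' G'] [IsScalarTower B A G']
  [Module S' G'] [IsScalarTower S' C' G'] [Module S G'] [IsScalarTower S S' G'] [IsScalarTower S A G']

include R R'

/-- The module of a base changed step is a base change over the smooth algebra. -/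
theorem isBaseChange_head (g : M →ₗ[A] G') (hg : IsBaseChange C' g) : IsBaseChange D' (g.restrictScalars B) := by
  haveI := (isPushout_of_base R R' B D' A C').symm
  haveI := isPushout_of_base R R' B D' A C'
  exact isBaseChange_restrict (B := B) (B' := D') g hg

/-- The first module of a base changed dévissage is the base changed module. -/
theorem exists_head_iso (f : N →ₗ[S] N') (hf : IsBaseChange S' f) (ι : N ≃ₗ[S] M) (g : M →ₗ[A] G')
    (hg : IsBaseChange C' g) : ∃ e : N' ≃ₗ[S'] G', ∀ x, e (f x) = g (ι x) := by
  haveI := (isPushout_of_base R R' S S' A C').symm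
  haveI := isPushout_of_base R R' S S' A C'
  have h0 : IsBaseChange S' ((g.restrictScalars S).comp ι.toLinearMap) :=
    (isBaseChange_restrict (B := S) (B' := S') g hg).comp_equiv ι
  refine ⟨hf.equiv.symm ≪≫ₗ h0.equiv, fun x => ?_⟩
  show h0.equiv (hf.equiv.symm (f x)) = _
  rw [IsBaseChange.equiv_symm_apply, IsBaseChange.equiv_tmul, one_smul]
  rfl

end Head

variable {R : Type u} [CommRing R] (R' : Type u) [CommRing R'] [Algebra R R']

section Concrete

variable (A B : Type u) [CommRing A] [CommRing B] [Algebra R A] [Algebra R B] [Algebra B A] [IsScalarTower R B A]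

/-- The map of base changes. -/
@[reducible] noncomputable def bcAlg : Algebra (R' ⊗[R] B) (R' ⊗[R] A) :=
  (Algebra.TensorProduct.map (AlgHom.id R' R') (IsScalarTower.toAlgHom R B A)).toRingHom.toAlgebra

theorem bcAlg_tower : letI := bcAlg (R := R) R' A B; IsScalarTower R' (R' ⊗[R] B) (R' ⊗[R] A) :=
  letI := bcAlg (R := R) R' A B
  IsScalarTower.of_algebraMap_eq (R := R') (S := R' ⊗[R] B) (A := R' ⊗[R] A) fun x =>
    ((Algebra.TensorProduct.map (AlgHom.id R' R') (IsScalarTower.toAlgHom R B A)).commutes x).symm

/-- The map of a smooth algebra to the base change of the algebra above it. -/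
@[reducible] noncomputable def bcAlgR : Algebra B (R' ⊗[R] A) :=
  ((algebraMap A (R' ⊗[R] A)).comp (algebraMap B A)).toAlgebra

theorem bcAlgR_tower₁ : letI := bcAlgR (R := R) R' A B; IsScalarTower B A (R' ⊗[R] A) :=
  letI := bcAlgR (R := R) R' A B
  IsScalarTower.of_algebraMap_eq' rfl

theorem bcAlgR_tower₂ : letI := bcAlg (R := R) R' A B; letI := bcAlgR (R := R) R' A B;
    IsScalarTower B (R' ⊗[R] B) (R' ⊗[R] A) :=
  letI := bcAlg (R := R) R' A B
  letI := bcAlgR (R := R) R' A B
  IsScalarTower.of_algebraMap_eq (R := B) (S := R' ⊗[R] B) (A := R' ⊗[R] A) fun b =>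
    (Algebra.TensorProduct.map_tmul (AlgHom.id R' R') (IsScalarTower.toAlgHom R B A) (1 : R') b).symm

variable (S S' : Type u) [CommRing S] [CommRing S'] [Algebra R S] [Algebra R' S'] [Algebra R S'] [Algebra S S']
  [IsScalarTower R R' S'] [IsScalarTower R S S'] [Algebra.IsPushout R R' S S'] [Algebra S A] [IsScalarTower R S A]

/-- The map from a model of the base change. -/
@[reducible] noncomputable def bcAlgS : Algebra S' (R' ⊗[R] A) :=
  ((Algebra.TensorProduct.map (AlgHom.id R' R') (IsScalarTower.toAlgHom R S A)).comp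
    (Algebra.IsPushout.equiv R R' S S').symm.toAlgHom).toRingHom.toAlgebra

theorem bcAlgS_tower₁ : letI := bcAlgS (R := R) R' A S S'; IsScalarTower R' S' (R' ⊗[R] A) :=
  letI := bcAlgS (R := R) R' A S S'
  IsScalarTower.of_algebraMap_eq (R := R') (S := S') (A := R' ⊗[R] A) fun x =>
    (((Algebra.TensorProduct.map (AlgHom.id R' R') (IsScalarTower.toAlgHom R S A)).comp
      (Algebra.IsPushout.equiv R R' S S').symm.toAlgHom).commutes x).symm

theorem bcAlgS_tower₂ : letI := bcAlgS (R := R) R' A S S'; letI := bcAlgR (R := R) R' A S;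
    IsScalarTower S S' (R' ⊗[R] A) :=
  letI := bcAlgS (R := R) R' A S S'
  letI := bcAlgR (R := R) R' A S
  IsScalarTower.of_algebraMap_eq (R := S) (S := S') (A := R' ⊗[R] A) fun s => by
    show (1 : R') ⊗ₜ[R] algebraMap S A s = Algebra.TensorProduct.map (AlgHom.id R' R') (IsScalarTower.toAlgHom R S A)
      ((Algebra.IsPushout.equiv R R' S S').symm (algebraMap S S' s))
    rw [Algebra.IsPushout.equiv_symm_algebraMap_right]
    exact (Algebra.TensorProduct.map_tmul (AlgHom.id R' R') (IsScalarTower.toAlgHom R S A) (1 : R') s).symm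

end Concrete

end Groth.Agent.RG
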