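import Groth.Agent.RG.DevBaseChange

/-!
# Base change of complete dévissages: the recursion
-/

set_option autoImplicit false
set_option linter.style.haveILetI false
set_option linter.unusedSectionVars false
set_option backward.isDefEq.respectTransparency false
set_option backward.isDefEq.respectTransparency.types false
set_option maxHeartbeats 4000000

universe u

open TensorProduct

namespace Groth.Agent.RG

attribute [local instance] Algebra.TensorProduct.rightAlgebra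

variable {R : Type u} [CommRing R]

/-- A model of the base changed dévissage. -/
def HasBaseChangedDevissage {S : Type u} [CommRing S] [Algebra R S] {N : Type u} [AddCommGroup N] [Module S N]
    {p : Ideal R} [p.IsPrime] (𝒟 : FlatCA.CompleteDevissage R S N p)
    {R' : Type u} [CommRing R'] [Algebra R R'] (p' : Ideal R') [p'.IsPrime]
    (S' : Type u) [CommRing S'] [Algebra R' S'] [Algebra R S'] [Algebra S S'] [IsScalarTower R R' S']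
    [IsScalarTower R S S']
    {N' : Type u} [AddCommGroup N'] [Module S' N'] [Module S N'] [IsScalarTower S S' N'] (f : N →ₗ[S] N') : Prop :=
    ∃ (𝒟' : FlatCA.CompleteDevissage R' S' N' p')
      (aA : ∀ i : Fin 𝒟.n, Algebra (𝒟.A i) (𝒟'.A i)) (rA : ∀ i : Fin 𝒟.n, Algebra R (𝒟'.A i))
      (_t1 : ∀ i : Fin 𝒟.n, IsScalarTower R (R') (𝒟'.A i)) (_t2 : ∀ i : Fin 𝒟.n, IsScalarTower R (𝒟.A i) (𝒟'.A i))
      (aB : ∀ i : Fin 𝒟.n, Algebra (𝒟.B i) (𝒟'.B i)) (rB : ∀ i : Fin 𝒟.n, Algebra R (𝒟'.B i))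
      (_t3 : ∀ i : Fin 𝒟.n, IsScalarTower R (R') (𝒟'.B i)) (_t4 : ∀ i : Fin 𝒟.n, IsScalarTower R (𝒟.B i) (𝒟'.B i))
      (bA : ∀ i : Fin 𝒟.n, Algebra (𝒟.B i) (𝒟'.A i)) (_t5 : ∀ i : Fin 𝒟.n, IsScalarTower (𝒟.B i) (𝒟.A i) (𝒟'.A i))
      (_t6 : ∀ i : Fin 𝒟.n, IsScalarTower (𝒟.B i) (𝒟'.B i) (𝒟'.A i))
      (bA' : ∀ i : Fin 𝒟.n, Algebra (𝒟.B i) (𝒟'.A (i + 1)))
      (_t7 : ∀ i : Fin 𝒟.n, IsScalarTower (𝒟.B i) (𝒟'.B i) (𝒟'.A (i + 1)))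
      (sA : Algebra S (𝒟'.A 0)) (_t8 : IsScalarTower S (S') (𝒟'.A 0))
      (mA : ∀ i : Fin 𝒟.n, Module (𝒟.A i) (𝒟'.M i)) (_t9 : ∀ i : Fin 𝒟.n, IsScalarTower (𝒟.A i) (𝒟'.A i) (𝒟'.M i))
      (gM : ∀ i : Fin 𝒟.n, 𝒟.M i →ₗ[𝒟.A i] 𝒟'.M i),
      𝒟'.n = 𝒟.n ∧ 𝒟'.r = 𝒟.r ∧
      (letI := aA ⟨0, 𝒟.pos⟩; IsScalarTower S (𝒟.A 0) (𝒟'.A 0)) ∧
      (∀ x : N, 𝒟'.isoN (f x) = gM ⟨0, 𝒟.pos⟩ (𝒟.isoN x)) ∧
      (∀ (i : Fin 𝒟.n) (h : (i : ℕ) + 1 < 𝒟.n),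
        letI := aA ⟨i + 1, h⟩; IsScalarTower (𝒟.B i) (𝒟.A (i + 1)) (𝒟'.A (i + 1))) ∧
      ∀ i : Fin 𝒟.n,
        Algebra.IsPushout R R' (𝒟.A i) (𝒟'.A i) ∧ Algebra.IsPushout R R' (𝒟.B i) (𝒟'.B i) ∧
        IsBaseChange (𝒟'.A i) (gM i) ∧
        LinearMap.range (𝒟'.α i) =
          Submodule.span (𝒟'.B i) ((gM i) '' (LinearMap.range (𝒟.α i) : Set (𝒟.M i)))

/-- The steps after the first. -/
@[reducible] noncomputable def devTail {S : Type u} [CommRing S] [Algebra R S] {N : Type u} [AddCommGroup N] [Module S N]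
    {p : Ideal R} [p.IsPrime] (𝒟 : FlatCA.CompleteDevissage R S N p) {m : ℕ} (hm : 𝒟.n = m + 2) :
    FlatCA.CompleteDevissage R (𝒟.B 0) (𝒟.M 1) p where
  n := m + 1
  pos := Nat.succ_pos _
  A := fun i => 𝒟.A (i + 1)
  B := fun i => 𝒟.B (i + 1)
  M := fun i => 𝒟.M (i + 1)
  r := fun i => 𝒟.r (i + 1)
  cA := fun i => 𝒟.cA (i + 1)
  cB := fun i => 𝒟.cB (i + 1)
  aRA := fun i => 𝒟.aRA (i + 1)
  aRB := fun i => 𝒟.aRB (i + 1)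
  aBA := fun i => 𝒟.aBA (i + 1)
  tRBA := fun i => 𝒟.tRBA (i + 1)
  aSA := 𝒟.aBA' 0
  tRSA := 𝒟.tRBA' 0
  aBA' := fun i => 𝒟.aBA' (i + 1)
  tRBA' := fun i => 𝒟.tRBA' (i + 1)
  gM := fun i => 𝒟.gM (i + 1)
  mAM := fun i => 𝒟.mAM (i + 1)
  mBM := fun i => 𝒟.mBM (i + 1)
  tBAM := fun i => 𝒟.tBAM (i + 1)
  mRM := fun i => 𝒟.mRM (i + 1)
  tRBM := fun i => 𝒟.tRBM (i + 1)
  mSM := 𝒟.mB'M 0
  tSAM := 𝒟.tB'AM 0
  mB'M := fun i => 𝒟.mB'M (i + 1)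
  tB'AM := fun i => 𝒟.tB'AM (i + 1)
  hp := fun i => 𝒟.hp (i + 1)
  α := fun i => 𝒟.α (i + 1)
  surjSA := 𝒟.surjBA' 0 (by omega)
  fpSA := 𝒟.fpBA' 0 (by omega)
  surjBA' := fun i hi => 𝒟.surjBA' (i + 1) (by omega)
  fpBA' := fun i hi => 𝒟.fpBA' (i + 1) (by omega)
  finiteBA := fun i hi => 𝒟.finiteBA (i + 1) (by omega)
  smooth := fun i hi => 𝒟.smooth (i + 1) (by omega)
  geomIrred := fun i hi => 𝒟.geomIrred (i + 1) (by omega)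
  finiteM := fun i hi => 𝒟.finiteM (i + 1) (by omega)
  isoN := LinearEquiv.refl _ _
  isoCoker := fun i hi => 𝒟.isoCoker (i + 1) (by omega)
  fibreIso := fun i hi => 𝒟.fibreIso (i + 1) (by omega)
  cokerLast := by
    have key : ∀ j, j = 𝒟.n - 1 → Function.Surjective (𝒟.α j) := fun j hj => hj ▸ 𝒟.cokerLast
    exact key (m + 1 - 1 + 1) (by omega)

variable {p : Ideal R} [p.IsPrime] {R' : Type u} [CommRing R'] [Algebra R R'] (p' : Ideal R') [p'.IsPrime]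
  [hp' : p'.LiesOver p]
  {S : Type u} [CommRing S] [Algebra R S] {N : Type u} [AddCommGroup N] [Module S N]
  (𝒟 : FlatCA.CompleteDevissage R S N p)
  {S' : Type u} [CommRing S'] [Algebra R' S'] [Algebra R S'] [Algebra S S'] [IsScalarTower R R' S']
  [IsScalarTower R S S'] [Algebra.IsPushout R R' S S']
  {N' : Type u} [AddCommGroup N'] [Module S' N'] [Module S N'] [IsScalarTower S S' N'] (f : N →ₗ[S] N')
  (hf : IsBaseChange S' f)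

include hf

/-- A dévissage with one step. -/
theorem hasBC_one (hn : 𝒟.n = 1) : HasBaseChangedDevissage 𝒟 p' S' f := by
  haveI := hp'
  letI : Algebra S (R' ⊗[R] 𝒟.A 0) := bcAlgR (R := R) R' (𝒟.A 0) S
  haveI : IsScalarTower S (𝒟.A 0) (R' ⊗[R] 𝒟.A 0) := bcAlgR_tower₁ (R := R) R' (𝒟.A 0) S
  letI : Algebra S' (R' ⊗[R] 𝒟.A 0) := bcAlgS (R := R) R' (𝒟.A 0) S S'
  haveI : IsScalarTower R' S' (R' ⊗[R] 𝒟.A 0) := bcAlgS_tower₁ (R := R) R' (𝒟.A 0) S S'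
  haveI : IsScalarTower S S' (R' ⊗[R] 𝒟.A 0) := bcAlgS_tower₂ (R := R) R' (𝒟.A 0) S S'
  letI : Algebra (𝒟.B 0) (R' ⊗[R] 𝒟.A 0) := bcAlgR (R := R) R' (𝒟.A 0) (𝒟.B 0)
  haveI : IsScalarTower (𝒟.B 0) (𝒟.A 0) (R' ⊗[R] 𝒟.A 0) := bcAlgR_tower₁ (R := R) R' (𝒟.A 0) (𝒟.B 0)
  letI : Algebra (R' ⊗[R] 𝒟.B 0) (R' ⊗[R] 𝒟.A 0) := bcAlg (R := R) R' (𝒟.A 0) (𝒟.B 0)
  haveI : IsScalarTower R' (R' ⊗[R] 𝒟.B 0) (R' ⊗[R] 𝒟.A 0) := bcAlg_tower (R := R) R' (𝒟.A 0) (𝒟.B 0)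
  haveI : IsScalarTower (𝒟.B 0) (R' ⊗[R] 𝒟.B 0) (R' ⊗[R] 𝒟.A 0) := bcAlgR_tower₂ (R := R) R' (𝒟.A 0) (𝒟.B 0)
  let G' := (R' ⊗[R] 𝒟.A 0) ⊗[𝒟.A 0] 𝒟.M 0
  letI : Module (R' ⊗[R] 𝒟.B 0) G' := Module.compHom G' (algebraMap (R' ⊗[R] 𝒟.B 0) (R' ⊗[R] 𝒟.A 0))
  haveI tG : IsScalarTower (R' ⊗[R] 𝒟.B 0) (R' ⊗[R] 𝒟.A 0) G' := IsScalarTower.of_algebraMap_smul fun _ _ => rfl
  letI : Module (𝒟.B 0) G' := Module.compHom G' (algebraMap (𝒟.B 0) (R' ⊗[R] 𝒟.A 0))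
  haveI : IsScalarTower (𝒟.B 0) (R' ⊗[R] 𝒟.B 0) G' := IsScalarTower.of_algebraMap_smul fun b (z : G') => by
    show algebraMap (R' ⊗[R] 𝒟.B 0) (R' ⊗[R] 𝒟.A 0) (algebraMap (𝒟.B 0) (R' ⊗[R] 𝒟.B 0) b) • z = algebraMap (𝒟.B 0) (R' ⊗[R] 𝒟.A 0) b • z
    rw [← IsScalarTower.algebraMap_apply]
  haveI : IsScalarTower (𝒟.B 0) (𝒟.A 0) G' := IsScalarTower.of_algebraMap_smul fun b (z : G') => by
    show algebraMap (𝒟.B 0) (𝒟.A 0) b • z = algebraMap (𝒟.B 0) (R' ⊗[R] 𝒟.A 0) b • z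
    rw [IsScalarTower.algebraMap_apply (𝒟.B 0) (𝒟.A 0) (R' ⊗[R] 𝒟.A 0)]
    exact (algebraMap_smul (R' ⊗[R] 𝒟.A 0) (algebraMap (𝒟.B 0) (𝒟.A 0) b) z).symm
  letI : Module S' G' := Module.compHom G' (algebraMap S' (R' ⊗[R] 𝒟.A 0))
  haveI : IsScalarTower S' (R' ⊗[R] 𝒟.A 0) G' := IsScalarTower.of_algebraMap_smul fun _ _ => rfl
  letI : Module S G' := Module.compHom G' (algebraMap S (R' ⊗[R] 𝒟.A 0))
  haveI : IsScalarTower S S' G' := IsScalarTower.of_algebraMap_smul fun b (z : G') => by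
    show algebraMap S' (R' ⊗[R] 𝒟.A 0) (algebraMap S S' b) • z = algebraMap S (R' ⊗[R] 𝒟.A 0) b • z
    rw [← IsScalarTower.algebraMap_apply]
  haveI : IsScalarTower S (𝒟.A 0) G' := IsScalarTower.of_algebraMap_smul fun b (z : G') => by
    show algebraMap S (𝒟.A 0) b • z = algebraMap S (R' ⊗[R] 𝒟.A 0) b • z
    rw [IsScalarTower.algebraMap_apply S (𝒟.A 0) (R' ⊗[R] 𝒟.A 0)]
    exact (algebraMap_smul (R' ⊗[R] 𝒟.A 0) (algebraMap S (𝒟.A 0) b) z).symm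
  let mR : Module R' G' := inferInstance
  haveI tR : IsScalarTower R' (R' ⊗[R] 𝒟.B 0) G' := IsScalarTower.of_algebraMap_smul fun a (z : G') => by
    show algebraMap (R' ⊗[R] 𝒟.B 0) (R' ⊗[R] 𝒟.A 0) (algebraMap R' (R' ⊗[R] 𝒟.B 0) a) • z = a • z
    rw [← IsScalarTower.algebraMap_apply R' (R' ⊗[R] 𝒟.B 0) (R' ⊗[R] 𝒟.A 0), algebraMap_smul]
  let gA : 𝒟.M 0 →ₗ[𝒟.A 0] G' := TensorProduct.mk (𝒟.A 0) (R' ⊗[R] 𝒟.A 0) (𝒟.M 0) 1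
  have hgA : IsBaseChange (R' ⊗[R] 𝒟.A 0) gA := TensorProduct.isBaseChange (𝒟.A 0) (𝒟.M 0) _
  have hgB : IsBaseChange (R' ⊗[R] 𝒟.B 0) (gA.restrictScalars (𝒟.B 0)) :=
    isBaseChange_head (R := R) (R' := R') gA hgA
  obtain ⟨e₀, he₀⟩ := exists_head_iso (R := R) (R' := R') f hf 𝒟.isoN gA hgA
  have h0 : 0 < 𝒟.n := 𝒟.pos
  obtain ⟨hsm', hirr', hP', hPl⟩ := bc_prime (R' := R') (D' := R' ⊗[R] 𝒟.B 0) (𝒟.smooth 0 h0) (𝒟.geomIrred 0 h0) p p'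
  haveI := hP'; haveI := hPl
  have hsurj : Function.Surjective (algebraMap S' (R' ⊗[R] 𝒟.A 0)) :=
    surjective_baseChange R R' S S' (𝒟.A 0) (R' ⊗[R] 𝒟.A 0) 𝒟.surjSA
  haveI := 𝒟.fpSA
  have hfp : Algebra.FinitePresentation S' (R' ⊗[R] 𝒟.A 0) :=
    finitePresentation_baseChange R R' S S' (𝒟.A 0) (R' ⊗[R] 𝒟.A 0)
  haveI := 𝒟.finiteBA 0 h0
  have hfin : Module.Finite (R' ⊗[R] 𝒟.B 0) (R' ⊗[R] 𝒟.A 0) :=
    finite_baseChange R R' (𝒟.B 0) (R' ⊗[R] 𝒟.B 0) (𝒟.A 0) (R' ⊗[R] 𝒟.A 0)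
  haveI := 𝒟.finiteM 0 h0
  have hfinM : Module.Finite (R' ⊗[R] 𝒟.A 0) G' := inferInstance
  let α' := baseFree (D' := R' ⊗[R] 𝒟.B 0) (gA.restrictScalars (𝒟.B 0)) (𝒟.α 0)
  have hfib := bijective_baseFree (gA.restrictScalars (𝒟.B 0)) (𝒟.α 0) hgB (p.map (algebraMap R (𝒟.B 0)))
    (p'.map (algebraMap R' (R' ⊗[R] 𝒟.B 0))) (𝒟.fibreIso 0 h0)
  have hlast : Function.Surjective α' := surjective_baseFree _ _ hgB (by
    have key : ∀ j, j = 𝒟.n - 1 → Function.Surjective (𝒟.α j) := fun j hj => hj ▸ 𝒟.cokerLast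
    exact key 0 (by omega))
  let K := (p'.map (algebraMap R' (R' ⊗[R] 𝒟.B 0))).ResidueField
  have hK : (p'.map (algebraMap R' K)).IsPrime := by
    have e : p'.map (algebraMap R' K) = ⊥ := by
      rw [eq_bot_iff, Ideal.map_le_iff_le_comap]
      intro a ha
      rw [Ideal.mem_comap, Ideal.mem_bot, IsScalarTower.algebraMap_apply R' (R' ⊗[R] 𝒟.B 0) K,
        Ideal.algebraMap_residueField_eq_zero]
      exact Ideal.mem_map_of_mem _ ha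
    rw [e]
    exact Ideal.isPrime_bot
  let 𝒟' : FlatCA.CompleteDevissage R' S' N' p' :=
  { n := 1
    pos := Nat.one_pos
    A := fun | 0 => R' ⊗[R] 𝒟.A 0 | _ + 1 => K
    B := fun | 0 => R' ⊗[R] 𝒟.B 0 | _ + 1 => K
    M := fun | 0 => G' | _ + 1 => PUnit
    r := 𝒟.r
    cA := fun | 0 => inferInstance | _ + 1 => inferInstance
    cB := fun | 0 => inferInstance | _ + 1 => inferInstance
    aRA := fun | 0 => inferInstance | _ + 1 => inferInstance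
    aRB := fun | 0 => inferInstance | _ + 1 => inferInstance
    aBA := fun | 0 => bcAlg (R := R) R' (𝒟.A 0) (𝒟.B 0) | _ + 1 => Algebra.id K
    tRBA := fun | 0 => bcAlg_tower (R := R) R' (𝒟.A 0) (𝒟.B 0) | _ + 1 => IsScalarTower.of_algebraMap_eq fun _ => rfl
    aSA := bcAlgS (R := R) R' (𝒟.A 0) S S'
    tRSA := bcAlgS_tower₁ (R := R) R' (𝒟.A 0) S S'
    aBA' := fun | 0 => (inferInstance : Algebra (R' ⊗[R] 𝒟.B 0) K) | _ + 1 => Algebra.id K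
    tRBA' := fun | 0 => (inferInstance : IsScalarTower R' (R' ⊗[R] 𝒟.B 0) K) | _ + 1 => IsScalarTower.of_algebraMap_eq fun _ => rfl
    gM := fun | 0 => inferInstance | _ + 1 => inferInstance
    mAM := fun | 0 => inferInstance | _ + 1 => inferInstance
    mBM := fun | 0 => (inferInstance : Module (R' ⊗[R] 𝒟.B 0) G') | _ + 1 => inferInstance
    tBAM := fun | 0 => tG | _ + 1 => ⟨fun _ _ _ => rfl⟩
    mRM := fun | 0 => mR | _ + 1 => inferInstance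
    tRBM := fun | 0 => tR | _ + 1 => ⟨fun _ _ _ => rfl⟩
    mSM := (inferInstance : Module S' G')
    tSAM := (inferInstance : IsScalarTower S' (R' ⊗[R] 𝒟.A 0) G')
    mB'M := fun | 0 => inferInstance | _ + 1 => inferInstance
    tB'AM := fun | 0 => ⟨fun _ _ _ => rfl⟩ | _ + 1 => ⟨fun _ _ _ => rfl⟩
    hp := fun | 0 => hP' | _ + 1 => hK
    α := fun | 0 => α' | _ + 1 => 0
    surjSA := hsurj
    fpSA := hfp
    surjBA' := fun i hi => absurd hi (by omega)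
    fpBA' := fun i hi => absurd hi (by omega)
    finiteBA := fun i hi => match i, hi with | 0, _ => hfin | i + 1, hi => absurd hi (by omega)
    smooth := fun i hi => match i, hi with | 0, _ => hsm' | i + 1, hi => absurd hi (by omega)
    geomIrred := fun i hi => match i, hi with | 0, _ => hirr' | i + 1, hi => absurd hi (by omega)
    finiteM := fun i hi => match i, hi with | 0, _ => hfinM | i + 1, hi => absurd hi (by omega)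
    isoN := e₀
    isoCoker := fun i hi => absurd hi (by omega)
    fibreIso := fun i hi => match i, hi with | 0, _ => hfib | i + 1, hi => absurd hi (by omega)
    cokerLast := hlast }
  letI : Algebra (𝒟.B 0) K := ((algebraMap (R' ⊗[R] 𝒟.B 0) K).comp (algebraMap (𝒟.B 0) (R' ⊗[R] 𝒟.B 0))).toAlgebra
  haveI tK : IsScalarTower (𝒟.B 0) (R' ⊗[R] 𝒟.B 0) K := IsScalarTower.of_algebraMap_eq' rfl
  have no : ∀ {j : ℕ}, j + 1 < 𝒟.n → False := fun h => by omega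
  refine ⟨𝒟', fun | ⟨0, _⟩ => (inferInstance : Algebra (𝒟.A 0) (R' ⊗[R] 𝒟.A 0)) | ⟨_ + 1, h⟩ => (no h).elim,
    fun | ⟨0, _⟩ => (inferInstance : Algebra R (R' ⊗[R] 𝒟.A 0)) | ⟨_ + 1, h⟩ => (no h).elim,
    fun | ⟨0, _⟩ => (inferInstance : IsScalarTower R R' (R' ⊗[R] 𝒟.A 0)) | ⟨_ + 1, h⟩ => (no h).elim,
    fun | ⟨0, _⟩ => (inferInstance : IsScalarTower R (𝒟.A 0) (R' ⊗[R] 𝒟.A 0)) | ⟨_ + 1, h⟩ => (no h).elim,
    fun | ⟨0, _⟩ => (inferInstance : Algebra (𝒟.B 0) (R' ⊗[R] 𝒟.B 0)) | ⟨_ + 1, h⟩ => (no h).elim,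
    fun | ⟨0, _⟩ => (inferInstance : Algebra R (R' ⊗[R] 𝒟.B 0)) | ⟨_ + 1, h⟩ => (no h).elim,
    fun | ⟨0, _⟩ => (inferInstance : IsScalarTower R R' (R' ⊗[R] 𝒟.B 0)) | ⟨_ + 1, h⟩ => (no h).elim,
    fun | ⟨0, _⟩ => (inferInstance : IsScalarTower R (𝒟.B 0) (R' ⊗[R] 𝒟.B 0)) | ⟨_ + 1, h⟩ => (no h).elim,
    fun | ⟨0, _⟩ => bcAlgR (R := R) R' (𝒟.A 0) (𝒟.B 0) | ⟨_ + 1, h⟩ => (no h).elim,
    fun | ⟨0, _⟩ => bcAlgR_tower₁ (R := R) R' (𝒟.A 0) (𝒟.B 0) | ⟨_ + 1, h⟩ => (no h).elim,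
    fun | ⟨0, _⟩ => bcAlgR_tower₂ (R := R) R' (𝒟.A 0) (𝒟.B 0) | ⟨_ + 1, h⟩ => (no h).elim,
    fun | ⟨0, _⟩ => (inferInstance : Algebra (𝒟.B 0) K) | ⟨_ + 1, h⟩ => (no h).elim,
    fun | ⟨0, _⟩ => tK | ⟨_ + 1, h⟩ => (no h).elim,
    bcAlgR (R := R) R' (𝒟.A 0) S, bcAlgS_tower₂ (R := R) R' (𝒟.A 0) S S',
    fun | ⟨0, _⟩ => (inferInstance : Module (𝒟.A 0) G') | ⟨_ + 1, h⟩ => (no h).elim,
    fun | ⟨0, _⟩ => (inferInstance : IsScalarTower (𝒟.A 0) (R' ⊗[R] 𝒟.A 0) G') | ⟨_ + 1, h⟩ => (no h).elim,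
    fun | ⟨0, _⟩ => gA | ⟨_ + 1, h⟩ => (no h).elim,
    hn.symm, rfl, bcAlgR_tower₁ (R := R) R' (𝒟.A 0) S, he₀, fun i h => (no h).elim, ?_⟩
  rintro ⟨_ | j, hj⟩
  · exact ⟨(inferInstance : Algebra.IsPushout R R' (𝒟.A 0) (R' ⊗[R] 𝒟.A 0)),
      (inferInstance : Algebra.IsPushout R R' (𝒟.B 0) (R' ⊗[R] 𝒟.B 0)), hgA, range_baseFree _ _⟩
  · exact (no hj).elim

/-- A dévissage with a tail. -/
theorem hasBC_cons {m : ℕ} (hm : 𝒟.n = m + 2)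
    (ih : ∀ (N'' : Type u) [AddCommGroup N''] [Module (R' ⊗[R] 𝒟.B 0) N''] [Module (𝒟.B 0) N'']
      [IsScalarTower (𝒟.B 0) (R' ⊗[R] 𝒟.B 0) N''] (g : 𝒟.M 1 →ₗ[𝒟.B 0] N''), IsBaseChange (R' ⊗[R] 𝒟.B 0) g →
      HasBaseChangedDevissage (devTail 𝒟 hm) p' (R' ⊗[R] 𝒟.B 0) g) :
    HasBaseChangedDevissage 𝒟 p' S' f := by
  haveI := hp'
  letI : Algebra S (R' ⊗[R] 𝒟.A 0) := bcAlgR (R := R) R' (𝒟.A 0) S
  haveI : IsScalarTower S (𝒟.A 0) (R' ⊗[R] 𝒟.A 0) := bcAlgR_tower₁ (R := R) R' (𝒟.A 0) S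
  letI : Algebra S' (R' ⊗[R] 𝒟.A 0) := bcAlgS (R := R) R' (𝒟.A 0) S S'
  haveI : IsScalarTower R' S' (R' ⊗[R] 𝒟.A 0) := bcAlgS_tower₁ (R := R) R' (𝒟.A 0) S S'
  haveI : IsScalarTower S S' (R' ⊗[R] 𝒟.A 0) := bcAlgS_tower₂ (R := R) R' (𝒟.A 0) S S'
  letI : Algebra (𝒟.B 0) (R' ⊗[R] 𝒟.A 0) := bcAlgR (R := R) R' (𝒟.A 0) (𝒟.B 0)
  haveI : IsScalarTower (𝒟.B 0) (𝒟.A 0) (R' ⊗[R] 𝒟.A 0) := bcAlgR_tower₁ (R := R) R' (𝒟.A 0) (𝒟.B 0)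
  letI : Algebra (R' ⊗[R] 𝒟.B 0) (R' ⊗[R] 𝒟.A 0) := bcAlg (R := R) R' (𝒟.A 0) (𝒟.B 0)
  haveI : IsScalarTower R' (R' ⊗[R] 𝒟.B 0) (R' ⊗[R] 𝒟.A 0) := bcAlg_tower (R := R) R' (𝒟.A 0) (𝒟.B 0)
  haveI : IsScalarTower (𝒟.B 0) (R' ⊗[R] 𝒟.B 0) (R' ⊗[R] 𝒟.A 0) := bcAlgR_tower₂ (R := R) R' (𝒟.A 0) (𝒟.B 0)
  let G' := (R' ⊗[R] 𝒟.A 0) ⊗[𝒟.A 0] 𝒟.M 0
  letI : Module (R' ⊗[R] 𝒟.B 0) G' := Module.compHom G' (algebraMap (R' ⊗[R] 𝒟.B 0) (R' ⊗[R] 𝒟.A 0))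
  haveI tG : IsScalarTower (R' ⊗[R] 𝒟.B 0) (R' ⊗[R] 𝒟.A 0) G' := IsScalarTower.of_algebraMap_smul fun _ _ => rfl
  letI : Module (𝒟.B 0) G' := Module.compHom G' (algebraMap (𝒟.B 0) (R' ⊗[R] 𝒟.A 0))
  haveI : IsScalarTower (𝒟.B 0) (R' ⊗[R] 𝒟.B 0) G' := IsScalarTower.of_algebraMap_smul fun b (z : G') => by
    show algebraMap (R' ⊗[R] 𝒟.B 0) (R' ⊗[R] 𝒟.A 0) (algebraMap (𝒟.B 0) (R' ⊗[R] 𝒟.B 0) b) • z = algebraMap (𝒟.B 0) (R' ⊗[R] 𝒟.A 0) b • z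
    rw [← IsScalarTower.algebraMap_apply]
  haveI : IsScalarTower (𝒟.B 0) (𝒟.A 0) G' := IsScalarTower.of_algebraMap_smul fun b (z : G') => by
    show algebraMap (𝒟.B 0) (𝒟.A 0) b • z = algebraMap (𝒟.B 0) (R' ⊗[R] 𝒟.A 0) b • z
    rw [IsScalarTower.algebraMap_apply (𝒟.B 0) (𝒟.A 0) (R' ⊗[R] 𝒟.A 0)]
    exact (algebraMap_smul (R' ⊗[R] 𝒟.A 0) (algebraMap (𝒟.B 0) (𝒟.A 0) b) z).symm
  letI : Module S' G' := Module.compHom G' (algebraMap S' (R' ⊗[R] 𝒟.A 0))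
  haveI : IsScalarTower S' (R' ⊗[R] 𝒟.A 0) G' := IsScalarTower.of_algebraMap_smul fun _ _ => rfl
  letI : Module S G' := Module.compHom G' (algebraMap S (R' ⊗[R] 𝒟.A 0))
  haveI : IsScalarTower S S' G' := IsScalarTower.of_algebraMap_smul fun b (z : G') => by
    show algebraMap S' (R' ⊗[R] 𝒟.A 0) (algebraMap S S' b) • z = algebraMap S (R' ⊗[R] 𝒟.A 0) b • z
    rw [← IsScalarTower.algebraMap_apply]
  haveI : IsScalarTower S (𝒟.A 0) G' := IsScalarTower.of_algebraMap_smul fun b (z : G') => by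
    show algebraMap S (𝒟.A 0) b • z = algebraMap S (R' ⊗[R] 𝒟.A 0) b • z
    rw [IsScalarTower.algebraMap_apply S (𝒟.A 0) (R' ⊗[R] 𝒟.A 0)]
    exact (algebraMap_smul (R' ⊗[R] 𝒟.A 0) (algebraMap S (𝒟.A 0) b) z).symm
  let mR : Module R' G' := inferInstance
  haveI tR : IsScalarTower R' (R' ⊗[R] 𝒟.B 0) G' := IsScalarTower.of_algebraMap_smul fun a (z : G') => by
    show algebraMap (R' ⊗[R] 𝒟.B 0) (R' ⊗[R] 𝒟.A 0) (algebraMap R' (R' ⊗[R] 𝒟.B 0) a) • z = a • z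
    rw [← IsScalarTower.algebraMap_apply R' (R' ⊗[R] 𝒟.B 0) (R' ⊗[R] 𝒟.A 0), algebraMap_smul]
  let gA : 𝒟.M 0 →ₗ[𝒟.A 0] G' := TensorProduct.mk (𝒟.A 0) (R' ⊗[R] 𝒟.A 0) (𝒟.M 0) 1
  have hgA : IsBaseChange (R' ⊗[R] 𝒟.A 0) gA := TensorProduct.isBaseChange (𝒟.A 0) (𝒟.M 0) _
  have hgB : IsBaseChange (R' ⊗[R] 𝒟.B 0) (gA.restrictScalars (𝒟.B 0)) :=
    isBaseChange_head (R := R) (R' := R') gA hgA
  obtain ⟨e₀, he₀⟩ := exists_head_iso (R := R) (R' := R') f hf 𝒟.isoN gA hgA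
  have h0 : 0 < 𝒟.n := 𝒟.pos
  obtain ⟨hsm', hirr', hP', hPl⟩ := bc_prime (R' := R') (D' := R' ⊗[R] 𝒟.B 0) (𝒟.smooth 0 h0) (𝒟.geomIrred 0 h0) p p'
  haveI := hP'; haveI := hPl
  have hsurj : Function.Surjective (algebraMap S' (R' ⊗[R] 𝒟.A 0)) :=
    surjective_baseChange R R' S S' (𝒟.A 0) (R' ⊗[R] 𝒟.A 0) 𝒟.surjSA
  haveI := 𝒟.fpSA
  have hfp : Algebra.FinitePresentation S' (R' ⊗[R] 𝒟.A 0) :=
    finitePresentation_baseChange R R' S S' (𝒟.A 0) (R' ⊗[R] 𝒟.A 0)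
  haveI := 𝒟.finiteBA 0 h0
  have hfin : Module.Finite (R' ⊗[R] 𝒟.B 0) (R' ⊗[R] 𝒟.A 0) :=
    finite_baseChange R R' (𝒟.B 0) (R' ⊗[R] 𝒟.B 0) (𝒟.A 0) (R' ⊗[R] 𝒟.A 0)
  haveI := 𝒟.finiteM 0 h0
  have hfinM : Module.Finite (R' ⊗[R] 𝒟.A 0) G' := inferInstance
  let α' := baseFree (D' := R' ⊗[R] 𝒟.B 0) (gA.restrictScalars (𝒟.B 0)) (𝒟.α 0)
  have hfib := bijective_baseFree (gA.restrictScalars (𝒟.B 0)) (𝒟.α 0) hgB (p.map (algebraMap R (𝒟.B 0)))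
    (p'.map (algebraMap R' (R' ⊗[R] 𝒟.B 0))) (𝒟.fibreIso 0 h0)
  let gQ : 𝒟.M 1 →ₗ[𝒟.B 0] (G' ⧸ LinearMap.range α') :=
    (cokerMap (D' := R' ⊗[R] 𝒟.B 0) (gA.restrictScalars (𝒟.B 0)) (𝒟.α 0)).comp (𝒟.isoCoker 0 (by omega)).symm.toLinearMap
  have hgQ : IsBaseChange (R' ⊗[R] 𝒟.B 0) gQ :=
    (isBaseChange_cokerMap _ _ hgB).comp_equiv (𝒟.isoCoker 0 (by omega)).symm
  obtain ⟨T, taA, trA, tt1, tt2, taB, trB, tt3, tt4, tbA, tt5, tt6, tbA', tt7, tsA, tt8, tmA, tt9, tgM,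
    htn, htr, ht0, -, htstep, htall⟩ := ih _ gQ hgQ
  have htn' : T.n = m + 1 := htn
  let 𝒟' : FlatCA.CompleteDevissage R' S' N' p' :=
  { n := m + 2
    pos := Nat.succ_pos _
    A := fun | 0 => R' ⊗[R] 𝒟.A 0 | i + 1 => T.A i
    B := fun | 0 => R' ⊗[R] 𝒟.B 0 | i + 1 => T.B i
    M := fun | 0 => G' | i + 1 => T.M i
    r := fun | 0 => 𝒟.r 0 | i + 1 => T.r i
    cA := fun | 0 => inferInstance | i + 1 => T.cA i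
    cB := fun | 0 => inferInstance | i + 1 => T.cB i
    aRA := fun | 0 => inferInstance | i + 1 => T.aRA i
    aRB := fun | 0 => inferInstance | i + 1 => T.aRB i
    aBA := fun | 0 => bcAlg (R := R) R' (𝒟.A 0) (𝒟.B 0) | i + 1 => T.aBA i
    tRBA := fun | 0 => bcAlg_tower (R := R) R' (𝒟.A 0) (𝒟.B 0) | i + 1 => T.tRBA i
    aSA := bcAlgS (R := R) R' (𝒟.A 0) S S'
    tRSA := bcAlgS_tower₁ (R := R) R' (𝒟.A 0) S S'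
    aBA' := fun | 0 => T.aSA | i + 1 => T.aBA' i
    tRBA' := fun | 0 => T.tRSA | i + 1 => T.tRBA' i
    gM := fun | 0 => inferInstance | i + 1 => T.gM i
    mAM := fun | 0 => inferInstance | i + 1 => T.mAM i
    mBM := fun | 0 => (inferInstance : Module (R' ⊗[R] 𝒟.B 0) G') | i + 1 => T.mBM i
    tBAM := fun | 0 => tG | i + 1 => T.tBAM i
    mRM := fun | 0 => mR | i + 1 => T.mRM i
    tRBM := fun | 0 => tR | i + 1 => T.tRBM i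
    mSM := (inferInstance : Module S' G')
    tSAM := (inferInstance : IsScalarTower S' (R' ⊗[R] 𝒟.A 0) G')
    mB'M := fun | 0 => T.mSM | i + 1 => T.mB'M i
    tB'AM := fun | 0 => T.tSAM | i + 1 => T.tB'AM i
    hp := fun | 0 => hP' | i + 1 => T.hp i
    α := fun | 0 => α' | i + 1 => T.α i
    surjSA := hsurj
    fpSA := hfp
    surjBA' := fun i hi => match i, hi with | 0, _ => T.surjSA | i + 1, hi => T.surjBA' i (by omega)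
    fpBA' := fun i hi => match i, hi with | 0, _ => T.fpSA | i + 1, hi => T.fpBA' i (by omega)
    finiteBA := fun i hi => match i, hi with | 0, _ => hfin | i + 1, hi => T.finiteBA i (by omega)
    smooth := fun i hi => match i, hi with | 0, _ => hsm' | i + 1, hi => T.smooth i (by omega)
    geomIrred := fun i hi => match i, hi with | 0, _ => hirr' | i + 1, hi => T.geomIrred i (by omega)
    finiteM := fun i hi => match i, hi with | 0, _ => hfinM | i + 1, hi => T.finiteM i (by omega)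
    isoN := e₀
    isoCoker := fun i hi => match i, hi with
      | 0, _ => T.isoN
      | i + 1, hi => T.isoCoker i (by omega)
    fibreIso := fun i hi => match i, hi with
      | 0, _ => hfib
      | i + 1, hi => T.fibreIso i (by omega)
    cokerLast := by
      have key : ∀ j, j = T.n - 1 → Function.Surjective (T.α j) := fun j hj => hj ▸ T.cokerLast
      exact key m (by omega) }
  have hlt : ∀ {j : ℕ}, j + 1 < 𝒟.n → j < (devTail 𝒟 hm).n := fun h => by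
    show _ < m + 1
    omega
  refine ⟨𝒟', fun | ⟨0, _⟩ => (inferInstance : Algebra (𝒟.A 0) (R' ⊗[R] 𝒟.A 0)) | ⟨j + 1, h⟩ => taA ⟨j, hlt h⟩,
    fun | ⟨0, _⟩ => (inferInstance : Algebra R (R' ⊗[R] 𝒟.A 0)) | ⟨j + 1, h⟩ => trA ⟨j, hlt h⟩,
    fun | ⟨0, _⟩ => (inferInstance : IsScalarTower R R' (R' ⊗[R] 𝒟.A 0)) | ⟨j + 1, h⟩ => tt1 ⟨j, hlt h⟩,
    fun | ⟨0, _⟩ => (inferInstance : IsScalarTower R (𝒟.A 0) (R' ⊗[R] 𝒟.A 0)) | ⟨j + 1, h⟩ => tt2 ⟨j, hlt h⟩,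
    fun | ⟨0, _⟩ => (inferInstance : Algebra (𝒟.B 0) (R' ⊗[R] 𝒟.B 0)) | ⟨j + 1, h⟩ => taB ⟨j, hlt h⟩,
    fun | ⟨0, _⟩ => (inferInstance : Algebra R (R' ⊗[R] 𝒟.B 0)) | ⟨j + 1, h⟩ => trB ⟨j, hlt h⟩,
    fun | ⟨0, _⟩ => (inferInstance : IsScalarTower R R' (R' ⊗[R] 𝒟.B 0)) | ⟨j + 1, h⟩ => tt3 ⟨j, hlt h⟩,
    fun | ⟨0, _⟩ => (inferInstance : IsScalarTower R (𝒟.B 0) (R' ⊗[R] 𝒟.B 0)) | ⟨j + 1, h⟩ => tt4 ⟨j, hlt h⟩,
    fun | ⟨0, _⟩ => bcAlgR (R := R) R' (𝒟.A 0) (𝒟.B 0) | ⟨j + 1, h⟩ => tbA ⟨j, hlt h⟩,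
    fun | ⟨0, _⟩ => bcAlgR_tower₁ (R := R) R' (𝒟.A 0) (𝒟.B 0) | ⟨j + 1, h⟩ => tt5 ⟨j, hlt h⟩,
    fun | ⟨0, _⟩ => bcAlgR_tower₂ (R := R) R' (𝒟.A 0) (𝒟.B 0) | ⟨j + 1, h⟩ => tt6 ⟨j, hlt h⟩,
    fun | ⟨0, _⟩ => tsA | ⟨j + 1, h⟩ => tbA' ⟨j, hlt h⟩,
    fun | ⟨0, _⟩ => tt8 | ⟨j + 1, h⟩ => tt7 ⟨j, hlt h⟩,
    bcAlgR (R := R) R' (𝒟.A 0) S, bcAlgS_tower₂ (R := R) R' (𝒟.A 0) S S',
    fun | ⟨0, _⟩ => (inferInstance : Module (𝒟.A 0) G') | ⟨j + 1, h⟩ => tmA ⟨j, hlt h⟩,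
    fun | ⟨0, _⟩ => (inferInstance : IsScalarTower (𝒟.A 0) (R' ⊗[R] 𝒟.A 0) G') | ⟨j + 1, h⟩ => tt9 ⟨j, hlt h⟩,
    fun | ⟨0, _⟩ => gA | ⟨j + 1, h⟩ => tgM ⟨j, hlt h⟩,
    hm.symm, funext fun | 0 => rfl | j + 1 => congrFun htr j, bcAlgR_tower₁ (R := R) R' (𝒟.A 0) S, he₀, ?_, ?_⟩
  · rintro ⟨_ | j, hj⟩ h
    · exact ht0
    · exact htstep ⟨j, hlt hj⟩ (hlt h)
  · rintro ⟨_ | j, hj⟩
    · exact ⟨(inferInstance : Algebra.IsPushout R R' (𝒟.A 0) (R' ⊗[R] 𝒟.A 0)),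
        (inferInstance : Algebra.IsPushout R R' (𝒟.B 0) (R' ⊗[R] 𝒟.B 0)), hgA, range_baseFree _ _⟩
    · obtain ⟨h1, h2, h3, h4⟩ := htall ⟨j, hlt hj⟩
      exact ⟨h1, h2, h3, h4⟩

omit hf in
/-- The base change of a complete dévissage. -/
theorem hasBaseChangedDevissage (hf : IsBaseChange S' f) : HasBaseChangedDevissage 𝒟 p' S' f := by
  suffices key : ∀ (n : ℕ) (S : Type u) [CommRing S] [Algebra R S] (N : Type u) [AddCommGroup N] [Module S N]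
      (𝒟 : FlatCA.CompleteDevissage R S N p), 𝒟.n = n + 1 →
      ∀ (S' : Type u) [CommRing S'] [Algebra R' S'] [Algebra R S'] [Algebra S S'] [IsScalarTower R R' S']
        [IsScalarTower R S S'] [Algebra.IsPushout R R' S S']
        (N' : Type u) [AddCommGroup N'] [Module S' N'] [Module S N'] [IsScalarTower S S' N'] (f : N →ₗ[S] N'),
        IsBaseChange S' f → HasBaseChangedDevissage 𝒟 p' S' f from
    key (𝒟.n - 1) S N 𝒟 (by have := 𝒟.pos; omega) S' N' f hf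
  intro n
  induction n with
  | zero => intro S _ _ N _ _ 𝒟 hn S' _ _ _ _ _ _ _ N' _ _ _ _ f hf; exact hasBC_one p' 𝒟 f hf hn
  | succ m ih =>
    intro S _ _ N _ _ 𝒟 hn S' _ _ _ _ _ _ _ N' _ _ _ _ f hf
    exact hasBC_cons p' 𝒟 f hf hn fun N'' _ _ _ _ g hg => ih (𝒟.B 0) (𝒟.M 1) (devTail 𝒟 hn) rfl (R' ⊗[R] 𝒟.B 0) N'' g hg

end Groth.Agent.RG
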