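import Groth.Agent.RG.DevStep

/-!
# Recursive dévissages give complete dévissages
-/

set_option autoImplicit false
set_option linter.style.haveILetI false
set_option linter.unusedSectionVars false
set_option backward.isDefEq.respectTransparency false
set_option backward.isDefEq.respectTransparency.types false
set_option maxHeartbeats 1000000

universe u

open TensorProduct

namespace Groth.Agent.RG

variable {R S : Type u} [CommRing R] [CommRing S] [Algebra R S] {N : Type u} [AddCommGroup N] [Module S N]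
  {p : Ideal R} [p.IsPrime] {q : Ideal S} [q.IsPrime]

theorem Step.isPrime_map_residueField (σ : Step R S N p q) :
    (p.map (algebraMap R σ.y.ResidueField)).IsPrime := by
  have : p.map (algebraMap R σ.y.ResidueField) = ⊥ := by
    rw [eq_bot_iff, Ideal.map_le_iff_le_comap]
    intro a ha
    rw [Ideal.mem_comap, Ideal.mem_bot, IsScalarTower.algebraMap_apply R σ.D σ.y.ResidueField,
      Ideal.algebraMap_residueField_eq_zero]
    exact (SetLike.ext_iff.1 (Ideal.LiesOver.over (P := σ.y) (p := p)) a).1 ha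
  rw [this]
  exact Ideal.isPrime_bot

theorem Step.liesOver_bot (σ : Step R S N p q) : (⊥ : Ideal σ.y.ResidueField).LiesOver p := by
  refine ⟨Ideal.ext fun a => ?_⟩
  rw [Ideal.under_def, Ideal.mem_comap, Ideal.mem_bot, IsScalarTower.algebraMap_apply R σ.D σ.y.ResidueField,
    Ideal.algebraMap_residueField_eq_zero]
  exact SetLike.ext_iff.1 (Ideal.LiesOver.over (P := σ.y) (p := p)) a

/-- The module structure over the base. -/
@[reducible] noncomputable def Step.modR (σ : Step R S N p q) : Module R σ.G := Module.compHom σ.G (algebraMap R σ.D)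

theorem Step.modR_tower (σ : Step R S N p q) : letI := σ.modR; IsScalarTower R σ.D σ.G :=
  letI := σ.modR
  IsScalarTower.of_algebraMap_smul fun _ _ => rfl

/-- A dévissage with one step. -/
@[reducible] noncomputable def Step.toComplete (σ : Step R S N p q) (h : Function.Surjective σ.α) :
    FlatCA.CompleteDevissage R S N p where
  n := 1
  pos := Nat.one_pos
  A := fun | 0 => σ.C | _ + 1 => σ.y.ResidueField
  B := fun | 0 => σ.D | _ + 1 => σ.y.ResidueField
  M := fun | 0 => σ.G | _ + 1 => PUnit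
  r := fun | 0 => σ.r | _ + 1 => 0
  cA := fun | 0 => σ.cC | _ + 1 => inferInstance
  cB := fun | 0 => σ.cD | _ + 1 => inferInstance
  aRA := fun | 0 => σ.aRC | _ + 1 => inferInstance
  aRB := fun | 0 => σ.aRD | _ + 1 => inferInstance
  aBA := fun | 0 => σ.aDC | _ + 1 => Algebra.id σ.y.ResidueField
  tRBA := fun | 0 => σ.tRDC | _ + 1 => IsScalarTower.of_algebraMap_eq fun _ => rfl
  aSA := σ.aSC
  tRSA := σ.tRSC
  aBA' := fun | 0 => (inferInstance : Algebra σ.D σ.y.ResidueField) | _ + 1 => Algebra.id σ.y.ResidueField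
  tRBA' := fun | 0 => (inferInstance : IsScalarTower R σ.D σ.y.ResidueField) | _ + 1 => IsScalarTower.of_algebraMap_eq fun _ => rfl
  gM := fun | 0 => σ.gG | _ + 1 => inferInstance
  mAM := fun | 0 => σ.mCG | _ + 1 => inferInstance
  mBM := fun | 0 => σ.mDG | _ + 1 => inferInstance
  tBAM := fun | 0 => σ.tDCG | _ + 1 => ⟨fun _ _ _ => rfl⟩
  mRM := fun | 0 => σ.modR | _ + 1 => inferInstance
  tRBM := fun | 0 => σ.modR_tower | _ + 1 => ⟨fun _ _ _ => rfl⟩
  mSM := σ.mSG
  tSAM := σ.tSCG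
  mB'M := fun | 0 => inferInstance | _ + 1 => inferInstance
  tB'AM := fun | 0 => ⟨fun _ _ _ => rfl⟩ | _ + 1 => ⟨fun _ _ _ => rfl⟩
  hp := fun | 0 => σ.hP | _ + 1 => σ.isPrime_map_residueField
  α := fun | 0 => σ.α | _ + 1 => 0
  surjSA := σ.surj
  fpSA := σ.fp
  surjBA' := fun i hi => absurd (show i + 1 < 1 from hi) (by omega)
  fpBA' := fun i hi => absurd (show i + 1 < 1 from hi) (by omega)
  finiteBA := fun i hi => match i, hi with | 0, _ => σ.finC | i + 1, hi => absurd (show i + 1 < 1 from hi) (by omega)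
  smooth := fun i hi => match i, hi with | 0, _ => smooth_of_smoothRelDim σ.smooth | i + 1, hi => absurd (show i + 1 < 1 from hi) (by omega)
  geomIrred := fun i hi => match i, hi with | 0, _ => σ.irred | i + 1, hi => absurd (show i + 1 < 1 from hi) (by omega)
  finiteM := fun i hi => match i, hi with | 0, _ => σ.finG | i + 1, hi => absurd (show i + 1 < 1 from hi) (by omega)
  isoN := σ.iso
  isoCoker := fun i hi => absurd (show i + 1 < 1 from hi) (by omega)
  fibreIso := fun i hi => match i, hi with | 0, _ => σ.fibre | i + 1, hi => absurd (show i + 1 < 1 from hi) (by omega)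
  cokerLast := h

/-- A dévissage with one more step. -/
@[reducible] noncomputable def Step.consComplete (σ : Step R S N p q) (𝒟 : FlatCA.CompleteDevissage R σ.D σ.Q p) :
    FlatCA.CompleteDevissage R S N p where
  n := 𝒟.n + 1
  pos := Nat.succ_pos _
  A := fun | 0 => σ.C | i + 1 => 𝒟.A i
  B := fun | 0 => σ.D | i + 1 => 𝒟.B i
  M := fun | 0 => σ.G | i + 1 => 𝒟.M i
  r := fun | 0 => σ.r | i + 1 => 𝒟.r i
  cA := fun | 0 => σ.cC | i + 1 => 𝒟.cA i
  cB := fun | 0 => σ.cD | i + 1 => 𝒟.cB i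
  aRA := fun | 0 => σ.aRC | i + 1 => 𝒟.aRA i
  aRB := fun | 0 => σ.aRD | i + 1 => 𝒟.aRB i
  aBA := fun | 0 => σ.aDC | i + 1 => 𝒟.aBA i
  tRBA := fun | 0 => σ.tRDC | i + 1 => 𝒟.tRBA i
  aSA := σ.aSC
  tRSA := σ.tRSC
  aBA' := fun | 0 => 𝒟.aSA | i + 1 => 𝒟.aBA' i
  tRBA' := fun | 0 => 𝒟.tRSA | i + 1 => 𝒟.tRBA' i
  gM := fun | 0 => σ.gG | i + 1 => 𝒟.gM i
  mAM := fun | 0 => σ.mCG | i + 1 => 𝒟.mAM i
  mBM := fun | 0 => σ.mDG | i + 1 => 𝒟.mBM i
  tBAM := fun | 0 => σ.tDCG | i + 1 => 𝒟.tBAM i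
  mRM := fun | 0 => σ.modR | i + 1 => 𝒟.mRM i
  tRBM := fun | 0 => σ.modR_tower | i + 1 => 𝒟.tRBM i
  mSM := σ.mSG
  tSAM := σ.tSCG
  mB'M := fun | 0 => 𝒟.mSM | i + 1 => 𝒟.mB'M i
  tB'AM := fun | 0 => 𝒟.tSAM | i + 1 => 𝒟.tB'AM i
  hp := fun | 0 => σ.hP | i + 1 => 𝒟.hp i
  α := fun | 0 => σ.α | i + 1 => 𝒟.α i
  surjSA := σ.surj
  fpSA := σ.fp
  surjBA' := fun i hi => match i, hi with | 0, _ => 𝒟.surjSA | i + 1, hi => 𝒟.surjBA' i (Nat.lt_of_succ_lt_succ hi)
  fpBA' := fun i hi => match i, hi with | 0, _ => 𝒟.fpSA | i + 1, hi => 𝒟.fpBA' i (Nat.lt_of_succ_lt_succ hi)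
  finiteBA := fun i hi => match i, hi with | 0, _ => σ.finC | i + 1, hi => 𝒟.finiteBA i (Nat.lt_of_succ_lt_succ hi)
  smooth := fun i hi => match i, hi with
    | 0, _ => smooth_of_smoothRelDim σ.smooth
    | i + 1, hi => 𝒟.smooth i (Nat.lt_of_succ_lt_succ hi)
  geomIrred := fun i hi => match i, hi with | 0, _ => σ.irred | i + 1, hi => 𝒟.geomIrred i (Nat.lt_of_succ_lt_succ hi)
  finiteM := fun i hi => match i, hi with | 0, _ => σ.finG | i + 1, hi => 𝒟.finiteM i (Nat.lt_of_succ_lt_succ hi)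
  isoN := σ.iso
  isoCoker := fun i hi => match i, hi with
    | 0, _ => 𝒟.isoN
    | i + 1, hi => 𝒟.isoCoker i (Nat.lt_of_succ_lt_succ hi)
  fibreIso := fun i hi => match i, hi with | 0, _ => σ.fibre | i + 1, hi => 𝒟.fibreIso i (Nat.lt_of_succ_lt_succ hi)
  cokerLast := by
    have key : ∀ j, j = 𝒟.n - 1 → Function.Surjective (𝒟.α j) := fun j hj => hj ▸ 𝒟.cokerLast
    have hn := 𝒟.pos
    generalize hm : 𝒟.n + 1 - 1 = j
    match j, hm with
    | 0, hm => omega
    | j + 1, hm => exact key j (by omega)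

theorem DevAt.has {R : Type u} [CommRing R] {p : Ideal R} [p.IsPrime] {S : Type u} [CommRing S] [Algebra R S]
    {N : Type u} [AddCommGroup N] [Module S N] {q : Ideal S} [q.IsPrime] (h : DevAt R p S N q) :
    FlatCA.HasCompleteDevissageAt R S N p q := by
  induction h with
  | last σ h =>
    refine ⟨σ.toComplete h, ⟨
      { qB := fun | 0 => σ.y | _ + 1 => ⊥
        qA := fun | 0 => σ.z | _ + 1 => ⊥
        hqB := fun | 0 => σ.hy | _ + 1 => Ideal.isPrime_bot
        hqA := fun | 0 => σ.hz | _ + 1 => Ideal.isPrime_bot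
        overB := fun | 0 => σ.yp | _ + 1 => σ.liesOver_bot
        overA := fun | 0 => σ.zy | _ + 1 => ⟨rfl⟩
        pureTrans := fun i hi => match i, hi with | 0, _ => σ.pure | i + 1, hi => absurd (show i + 1 < 1 from hi) (by omega)
        uniq := fun i hi => match i, hi with | 0, _ => σ.uniq | i + 1, hi => absurd (show i + 1 < 1 from hi) (by omega)
        q0 := (Ideal.LiesOver.over (P := σ.z) (p := _)).symm
        qStep := fun i hi => absurd (show i + 1 < 1 from hi) (by omega)
        d := fun _ => σ.n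
        relDim := fun i hi => match i, hi with | 0, _ => σ.smooth | i + 1, hi => absurd (show i + 1 < 1 from hi) (by omega)
        locDim := fun i hi => match i, hi with
          | 0, _ => exists_locDim_of_pos σ.smooth p σ.G σ.pos σ.α σ.fibre σ.y
          | i + 1, hi => absurd (show i + 1 < 1 from hi) (by omega) }⟩⟩
  | cons σ _ ih =>
    obtain ⟨𝒟, ⟨𝒜⟩⟩ := ih
    exact ⟨σ.consComplete 𝒟, ⟨
      { qB := fun | 0 => σ.y | i + 1 => 𝒜.qB i
        qA := fun | 0 => σ.z | i + 1 => 𝒜.qA i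
        hqB := fun | 0 => σ.hy | i + 1 => 𝒜.hqB i
        hqA := fun | 0 => σ.hz | i + 1 => 𝒜.hqA i
        overB := fun | 0 => σ.yp | i + 1 => 𝒜.overB i
        overA := fun | 0 => σ.zy | i + 1 => 𝒜.overA i
        pureTrans := fun i hi => match i, hi with
          | 0, _ => σ.pure
          | i + 1, hi => 𝒜.pureTrans i (Nat.lt_of_succ_lt_succ hi)
        uniq := fun i hi => match i, hi with
          | 0, _ => σ.uniq
          | i + 1, hi => 𝒜.uniq i (Nat.lt_of_succ_lt_succ hi)
        q0 := (Ideal.LiesOver.over (P := σ.z) (p := _)).symm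
        qStep := fun i hi => match i, hi with
          | 0, _ => 𝒜.q0
          | i + 1, hi => 𝒜.qStep i (Nat.lt_of_succ_lt_succ hi)
        d := fun | 0 => σ.n | i + 1 => 𝒜.d i
        relDim := fun i hi => match i, hi with
          | 0, _ => σ.smooth
          | i + 1, hi => 𝒜.relDim i (Nat.lt_of_succ_lt_succ hi)
        locDim := fun i hi => match i, hi with
          | 0, _ => exists_locDim_of_pos σ.smooth p σ.G σ.pos σ.α σ.fibre σ.y
          | i + 1, hi => 𝒜.locDim i (Nat.lt_of_succ_lt_succ hi) }⟩⟩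

end Groth.Agent.RG
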