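import Groth.Agent.RG.ElemFlat
import Groth.Agent.FlatModel.FibreEss
import Mathlib.RingTheory.Localization.BaseChange

/-!
# Flatness at a point under base change of the base
-/

set_option autoImplicit false
set_option linter.style.haveILetI false
set_option linter.unusedSectionVars false
set_option backward.isDefEq.respectTransparency false
set_option backward.isDefEq.respectTransparency.types false
set_option maxHeartbeats 1000000

universe u

open TensorProduct

namespace Groth.Agent.RG

/-- Flatness at a prime is stable under base change of the base ring. -/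
theorem flatAt_baseChange_base {R A S C : Type u} [CommRing R] [CommRing A] [CommRing S] [CommRing C] [Algebra R A]
    [Algebra R S] [Algebra A C] [Algebra S C] [Algebra R C] [IsScalarTower R A C] [IsScalarTower R S C]
    [Algebra.IsPushout R A S C] (M : Type u) [AddCommGroup M] [Module S M] [Module R M] [IsScalarTower R S M]
    (q : Ideal S) [q.IsPrime] (x : Ideal C) [x.IsPrime] [x.LiesOver q] (h : FlatCA.FlatAt R q M) :
    FlatCA.FlatAt A x (C ⊗[S] M) := by
  let L := LocalizedModule q.primeCompl M
  haveI : Module.Flat R L := h
  let g : M →ₗ[S] L := LocalizedModule.mkLinearMap q.primeCompl M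
  let g' : C ⊗[S] M →ₗ[C] C ⊗[S] L := g.baseChange C
  haveI : IsLocalizedModule q.primeCompl (g'.restrictScalars S) := by
    haveI h1 := IsLocalizedModule.rTensor (R := S) (A := S) (N := C) (S := q.primeCompl) (g := g)
    haveI h2 := IsLocalizedModule.of_linearEquiv_right (S := q.primeCompl) (f := AlgebraTensorModule.rTensor S C g)
      (e := TensorProduct.comm S C M)
    haveI h3 := IsLocalizedModule.of_linearEquiv (S := q.primeCompl) (f :=
      AlgebraTensorModule.rTensor S C g ∘ₗ (TensorProduct.comm S C M).toLinearMap) (e := TensorProduct.comm S L C)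
    convert h3 using 1
    refine TensorProduct.ext' fun c m => ?_
    rfl
  haveI : IsLocalizedModule (Algebra.algebraMapSubmonoid C q.primeCompl) g' :=
    IsLocalizedModule.of_restrictScalars q.primeCompl g'
  haveI : Module.Flat A (C ⊗[S] L) :=
    Module.Flat.of_linearEquiv (Algebra.IsPushout.cancelBaseChange R A S C L)
  refine FlatModel.flat_localized_mono (Algebra.algebraMapSubmonoid C q.primeCompl) x.primeCompl ?_ g'
    (LocalizedModule.mkLinearMap x.primeCompl (C ⊗[S] M))
  rintro _ ⟨s, hs, rfl⟩
  exact ⟨1, by rw [one_mul]; exact fun hm => hs ((SetLike.ext_iff.1 (Ideal.LiesOver.over (P := x) (p := q)) s).2 hm)⟩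

end Groth.Agent.RG
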