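import Groth.Agent.RG.DevExists
import Groth.Agent.RG.EtalePieces
import Groth.Agent.RG.FlatBC
import Groth.Agent.S1253
import Groth.Agent.S1231

/-!
# Pieces over which a flat module becomes free
-/

set_option autoImplicit false
set_option linter.style.haveILetI false
set_option linter.unusedSectionVars false
set_option backward.isDefEq.respectTransparency false
set_option backward.isDefEq.respectTransparency.types false
set_option maxHeartbeats 1000000

universe u

open TensorProduct

namespace Groth.Agent.RG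

attribute [local instance] Algebra.TensorProduct.rightAlgebra

/-- The module becomes finitely presented and free over every local neighbourhood with trivial residue extension. -/
def FreePiece {R S : Type u} [CommRing R] [CommRing S] [Algebra R S] (N : Type u) [AddCommGroup N] [Module S N]
    {p : Ideal R} [p.IsPrime] (π : Piece R S p) : Prop :=
  ∀ (A : Type u) [CommRing A] [IsLocalRing A] [Algebra π.R' A] [ho : (IsLocalRing.maximalIdeal A).LiesOver π.p'],
    Function.Bijective (Ideal.ResidueField.mapₐ π.p' (IsLocalRing.maximalIdeal A) (Algebra.ofId π.R' A) ho.over) →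
    Module.FinitePresentation (π.S' ⊗[π.R'] A) ((π.S' ⊗[π.R'] A) ⊗[S] N) ∧
      Module.Free A ((π.S' ⊗[π.R'] A) ⊗[S] N)

/-- Flatness at a point gives a free piece around it. -/
theorem exists_free_piece {R S : Type u} [CommRing R] [CommRing S] [Algebra R S] [Algebra.FinitePresentation R S]
    (N : Type u) [AddCommGroup N] [Module S N] [Module R N] [IsScalarTower R S N] [Module.Finite S N]
    (p : Ideal R) [p.IsPrime] (q : Ideal S) [q.IsPrime] [q.LiesOver p] (hflat : FlatCA.FlatAt R q N) :
    ∃ π : Piece R S p, FlatCA.IsEtaleNhd S π.S' q π.q' ∧ FreePiece N π := by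
  by_cases hqs : (⟨q, inferInstance⟩ : PrimeSpectrum S) ∈ Module.support S N
  swap
  · rw [Module.support_eq_zeroLocus, PrimeSpectrum.mem_zeroLocus, Set.not_subset] at hqs
    obtain ⟨h, hh, hhq⟩ := hqs
    let S₁ := Localization.Away h
    haveI hq₁ := (map_away_isPrime (A₁ := S₁) h q hhq).1
    haveI : (q.map (algebraMap S S₁)).LiesOver q := ⟨(map_away_isPrime (A₁ := S₁) h q hhq).2.symm⟩
    haveI : (q.map (algebraMap S S₁)).LiesOver p := Ideal.LiesOver.trans _ q p
    haveI : Algebra.Etale S S₁ := Algebra.Etale.of_isLocalizationAway h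
    refine ⟨{ R' := R, S' := S₁, p' := p, nhd := isEtaleNhd_refl R p, q' := q.map (algebraMap S S₁) },
      isEtaleNhd_away h q _, fun A _ _ _ _ _ => ?_⟩
    haveI : Subsingleton ((S₁ ⊗[R] A) ⊗[S] N) := subsingleton_of_forall_eq 0 fun z => by
      induction z using TensorProduct.induction_on with
      | zero => rfl
      | tmul a m =>
        have hu : IsUnit (algebraMap S (S₁ ⊗[R] A) h) := by
          rw [IsScalarTower.algebraMap_apply S S₁ (S₁ ⊗[R] A)]
          exact (IsLocalization.Away.algebraMap_isUnit (S := S₁) h).map _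
        refine hu.smul_eq_zero.1 ?_
        rw [algebraMap_smul, ← TensorProduct.tmul_smul, Module.mem_annihilator.1 hh m, TensorProduct.tmul_zero]
      | add a b ha hb => rw [ha, hb, add_zero]
    exact ⟨Module.finitePresentation_of_projective _ _, Module.Free.of_subsingleton _ _⟩
  obtain ⟨x, hxq, hx⟩ := exists_fibre_point p q N hqs
  obtain ⟨R', S', _, _, _, _, _, _, _, _, p', q', _, _, hR, hS, ho, hdev⟩ := devAfterEtale N p q ⟨x, hx, hxq⟩
  haveI := hR.1
  haveI := hS.1
  haveI := ho
  obtain ⟨hqo, -⟩ := hS.2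
  haveI := hqo
  refine ⟨{ R' := R', S' := S', p' := p', nhd := hR, q' := q' }, hS, fun A _ _ _ hA hκ => ?_⟩
  haveI := hA
  let C := S' ⊗[R'] A
  haveI : Algebra.IsPushout R' A S' C := Algebra.IsPushout.symm inferInstance
  haveI : IsScalarTower R' A C := inferInstance
  obtain ⟨Q, _, hQq, hQA⟩ :=
    exists_prime_over (R := R') (R' := A) (S := S') (S' := C) p' (IsLocalRing.maximalIdeal A) hκ q'
  haveI := hQq
  haveI := hQA
  haveI : Algebra.FinitePresentation R S' := Algebra.FinitePresentation.trans R S S'
  haveI : Algebra.FinitePresentation R' S' :=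
    Algebra.FinitePresentation.of_restrict_scalars_finitePresentation R R' S'
  haveI : Algebra.FinitePresentation A C := Algebra.FinitePresentation.equiv (Algebra.IsPushout.equiv R' A S' C)
  haveI : IsScalarTower R R' (S' ⊗[S] N) := inferInstance
  have h1 : FlatCA.FlatAt R q' (S' ⊗[S] N) :=
    flat_localized_baseChange (W := q.primeCompl) (V := q'.primeCompl)
      (fun w hw hw' => hw ((SetLike.ext_iff.1 hqo.over w).2 hw')) hflat
  have h2 : FlatCA.FlatAt R' q' (S' ⊗[S] N) :=
    (Groth.Agent.S1231.result (R := R) (T := R') (C := S') (S' ⊗[S] N) q').1.1 h1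
  have h3 : FlatCA.FlatAt A Q (C ⊗[S'] (S' ⊗[S] N)) := flatAt_baseChange_base (S' ⊗[S] N) q' Q h2
  have hbc := hdev.baseChange A (IsLocalRing.maximalIdeal A) hκ C (C ⊗[S'] (S' ⊗[S] N))
    (TensorProduct.mk S' C (S' ⊗[S] N) 1) (TensorProduct.isBaseChange _ _ _) Q
  obtain ⟨D, hD⟩ := hbc.has
  obtain ⟨hfp, hfree, -⟩ := Groth.Agent.S1253.result (R := A) (S := C) (C ⊗[S'] (S' ⊗[S] N)) Q h3 D hD
  let e : (C ⊗[S'] (S' ⊗[S] N)) ≃ₗ[C] C ⊗[S] N := AlgebraTensorModule.cancelBaseChange S S' C C N
  haveI := hfp
  haveI := hfree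
  exact ⟨Module.FinitePresentation.of_equiv e, Module.Free.of_equiv (e.restrictScalars A)⟩

end Groth.Agent.RG
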