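import Groth.Agent.RG.DevStep
import Groth.Agent.RG.ElemFlat
import Groth.Agent.RG.Devissage
import Groth.Agent.S1223

/-!
# Elements outside the point of a dévissage are universally regular
-/

set_option autoImplicit false
set_option linter.style.haveILetI false
set_option linter.unusedSectionVars false
set_option backward.isDefEq.respectTransparency false
set_option backward.isDefEq.respectTransparency.types false
set_option maxHeartbeats 1000000

universe u

open TensorProduct IsLocalRing

namespace Groth.Agent.RG

/-- Multiplication by `c` is universally injective. -/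
def UnivReg (R : Type u) {S : Type u} [CommRing R] [CommRing S] [Algebra R S] (M : Type u) [AddCommGroup M]
    [Module S M] [Module R M] [IsScalarTower R S M] (c : S) : Prop :=
  ∀ (X : Type u) [AddCommGroup X] [Module R X] (z : M ⊗[R] X), c • z = 0 → z = 0

theorem rTensor_injective_of_univInj' {R M N : Type u} [CommRing R] [AddCommGroup M] [AddCommGroup N] [Module R M]
    [Module R N] {f : M →ₗ[R] N} (h : FlatCA.UnivInj R f) (X : Type u) [AddCommGroup X] [Module R X] :
    Function.Injective (f.rTensor X) := by
  intro a b hab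
  apply (TensorProduct.comm R M X).injective
  apply h X
  rw [← LinearMap.comm_comp_rTensor_comp_comm_eq] at *
  simpa using hab

/-- A smooth algebra with irreducible fibres. -/
theorem univReg_of_notMem {R' : Type u} [CommRing R'] [IsLocalRing R'] {D : Type u} [CommRing D] [Algebra R' D] [Algebra.FinitePresentation R' D]
    [Module.Flat R' D] (hd : DomFib R' D) (P : Ideal D) [P.IsPrime] (hP : P = (maximalIdeal R').map (algebraMap R' D))
    {e : D} (he : e ∉ P) (r : ℕ) : UnivReg R' (Fin r → D) e := by
  classical
  intro X _ _ z hz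
  let T := Localization.AtPrime P
  let loc : D →ₗ[D] T := Algebra.linearMap D T
  have hloc : Function.Injective ((loc.restrictScalars R').rTensor X) :=
    rTensor_injective_of_univInj' (univInj_toLocalization hd P hP T) X
  let π : Fin r → ((Fin r → D) ⊗[R'] X →ₗ[D] D ⊗[R'] X) := fun i =>
    AlgebraTensorModule.rTensor R' X (LinearMap.proj i : (Fin r → D) →ₗ[D] D)
  have hi : ∀ i, π i z = 0 := fun i => by
    apply hloc
    rw [map_zero]
    have h1 : e • π i z = 0 := by rw [← map_smul, hz, map_zero]
    have h2 : e • (AlgebraTensorModule.rTensor R' X loc (π i z)) = 0 := by rw [← map_smul, h1, map_zero]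
    rw [← algebraMap_smul T e] at h2
    exact (IsLocalization.map_units T (⟨e, he⟩ : P.primeCompl)).smul_eq_zero.1 h2
  apply (TensorProduct.piLeft R' X fun _ : Fin r => D).injective
  rw [map_zero]
  funext i
  have hpi : ∀ w : (Fin r → D) ⊗[R'] X, TensorProduct.piLeft R' X (fun _ : Fin r => D) w i = π i w := fun w => by
    induction w using TensorProduct.induction_on with
    | zero => rw [map_zero, map_zero]; rfl
    | tmul v x => simp [π]
    | add a b ha hb => rw [map_add, map_add, Pi.add_apply, ha, hb]
  exact (hpi z).trans (hi i)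

/-- Complete dévissages over a local base: everything outside the point is universally regular. -/
theorem DevAt.regular {R : Type u} [CommRing R] [IsLocalRing R] {S : Type u} [CommRing S] [Algebra R S]
    {N : Type u} [AddCommGroup N] [Module S N] {q : Ideal S} [q.IsPrime] (h : DevAt R (maximalIdeal R) S N q) :
    ∀ [Module R N] [IsScalarTower R S N], FlatCA.FlatAt R q N → ∀ c : S, c ∉ q → UnivReg R N c := by
  have key : ∀ {S : Type u} [CommRing S] [Algebra R S] {N : Type u} [AddCommGroup N] [Module S N] [Module R N]
      [IsScalarTower R S N] {q : Ideal S} [q.IsPrime] (σ : Step R S N (maximalIdeal R) q),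
      FlatCA.FlatAt R q N → (∀ [Module R σ.Q] [IsScalarTower R σ.D σ.Q], FlatCA.FlatAt R σ.y σ.Q → ∀ d : σ.D, d ∉ σ.y → UnivReg R σ.Q d) →
      ∀ c : S, c ∉ q → UnivReg R N c := by
    intro S _ _ N _ _ _ _ q _ σ hflat hQ c hc X _ _ z hz
    letI : Module R σ.G := Module.compHom σ.G (algebraMap R σ.D)
    haveI : IsScalarTower R σ.D σ.G := IsScalarTower.of_algebraMap_smul fun _ _ => rfl
    haveI : IsScalarTower R σ.C σ.G := IsScalarTower.of_algebraMap_smul fun a x => by
      rw [IsScalarTower.algebraMap_apply R σ.D σ.C, algebraMap_smul]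
      rfl
    haveI : IsScalarTower R S σ.G := IsScalarTower.of_algebraMap_smul fun a x => by
      rw [← algebraMap_smul σ.C (algebraMap R S a) x, ← IsScalarTower.algebraMap_apply, algebraMap_smul]
    haveI := smooth_of_smoothRelDim σ.smooth
    have hd := domFib_of_smooth_geomIrred σ.irred
    have hz' : FlatCA.FlatAt R σ.z σ.G :=
      (flatAt_comap_iff σ.surj σ.z q (Ideal.LiesOver.over (P := σ.z) (p := q)).symm).2 (flatAt_congr q σ.iso hflat)
    obtain ⟨hu, hflatQ⟩ := step_local hd ((maximalIdeal R).map (algebraMap R σ.D)) rfl σ.y inferInstance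
      (flatAt_of_unique σ.z σ.y (fun Q hQ hQy => σ.uniq Q hQy) hz') σ.α σ.fibre
    have hcz : algebraMap S σ.C c ∉ σ.z := fun h => hc ((SetLike.ext_iff.1 (Ideal.LiesOver.over (P := σ.z) (p := q)) c).2 h)
    obtain ⟨e, he, b, hb⟩ := exists_mul_eq_algebraMap σ.y σ.z (fun Q hQ' hQy => σ.uniq Q hQy) hcz
    obtain ⟨s, rfl⟩ := σ.surj b
    have heg : ∀ g : σ.G, e • g = (s * c) • g := fun g => by
      rw [← algebraMap_smul σ.C e g, hb, ← map_mul, algebraMap_smul]
    let ε : N ⊗[R] X ≃ₗ[S] σ.G ⊗[R] X := AlgebraTensorModule.congr σ.iso (LinearEquiv.refl R X)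
    have hew : ∀ w : σ.G ⊗[R] X, e • w = (s * c) • w := fun w => by
      induction w using TensorProduct.induction_on with
      | zero => rw [smul_zero, smul_zero]
      | tmul g x => rw [TensorProduct.smul_tmul', TensorProduct.smul_tmul', heg]
      | add a b ha hb => rw [smul_add, smul_add, ha, hb]
    have hw : e • ε z = 0 := by rw [hew, mul_smul, ← map_smul, hz, map_zero, smul_zero]
    let mk : σ.G →ₗ[σ.D] σ.Q := (LinearMap.range σ.α).mkQ
    have h1 : e • AlgebraTensorModule.rTensor R X mk (ε z) = 0 := by rw [← map_smul, hw, map_zero]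
    have h2 := hQ hflatQ e he X _ h1
    have hex : Function.Exact (AlgebraTensorModule.rTensor R X σ.α) (AlgebraTensorModule.rTensor R X mk) :=
      rTensor_exact X (f := σ.α.restrictScalars R) (g := mk.restrictScalars R)
        (fun w => LinearMap.exact_map_mkQ_range σ.α w)
        (Submodule.mkQ_surjective _)
    obtain ⟨v, hv⟩ := (hex _).1 h2
    have hinj : Function.Injective (AlgebraTensorModule.rTensor R X σ.α) := rTensor_injective_of_univInj' hu X
    have heP : e ∉ (maximalIdeal R).map (algebraMap R σ.D) := fun h => he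
      (Ideal.map_le_iff_le_comap.2 (Ideal.LiesOver.over (P := σ.y) (p := maximalIdeal R)).le h)
    have hv0 : v = 0 := univReg_of_notMem hd _ rfl heP σ.r X v (hinj (by rw [map_smul, hv, hw, map_zero]))
    have h3 : ε z = 0 := by rw [← hv, hv0, map_zero]
    exact ε.map_eq_zero_iff.1 h3
  induction h with
  | last σ hs =>
    intro _ _ hflat
    refine key σ hflat ?_
    intro _ _ _ d _ X _ _ z _
    haveI : Subsingleton σ.Q := Submodule.Quotient.subsingleton_iff.2 (LinearMap.range_eq_top.2 hs)
    haveI : Subsingleton (σ.Q ⊗[R] X) := subsingleton_of_forall_eq 0 fun w => by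
      induction w using TensorProduct.induction_on with
      | zero => rfl
      | tmul g x => rw [Subsingleton.elim g 0, TensorProduct.zero_tmul]
      | add a b ha hb => rw [ha, hb, add_zero]
    exact Subsingleton.elim _ _
  | cons σ _ ih =>
    intro _ _ hflat
    refine key σ hflat ?_
    intro _ _ hQ
    exact ih hQ

end Groth.Agent.RG
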