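import Groth.Agent.RG.DevStep
import Groth.Agent.RG.ElemFlat

/-!
# The special fibre of a dévissage is saturated at its point
-/

set_option autoImplicit false
set_option linter.style.haveILetI false
set_option linter.unusedSectionVars false
set_option backward.isDefEq.respectTransparency false
set_option backward.isDefEq.respectTransparency.types false
set_option maxHeartbeats 1000000

universe u

open TensorProduct

namespace Groth.Agent.RG

/-- Elements killed modulo the point of the base by something outside the prime die. -/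
theorem DevAt.sat {R : Type u} [CommRing R] {p : Ideal R} [p.IsPrime] {S : Type u} [CommRing S] [Algebra R S]
    {N : Type u} [AddCommGroup N] [Module S N] {q : Ideal S} [q.IsPrime] (h : DevAt R p S N q) :
    ∀ c : S, c ∉ q → ∀ z : N, c • z ∈ p.map (algebraMap R S) • (⊤ : Submodule S N) →
      z ∈ p.map (algebraMap R S) • (⊤ : Submodule S N) := by
  have key : ∀ {S : Type u} [CommRing S] [Algebra R S] {N : Type u} [AddCommGroup N] [Module S N] {q : Ideal S}
      [q.IsPrime] (σ : Step R S N p q),
      (∀ d : σ.D, d ∉ σ.y → ∀ z : σ.Q, d • z ∈ p.map (algebraMap R σ.D) • (⊤ : Submodule σ.D σ.Q) →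
        z ∈ p.map (algebraMap R σ.D) • (⊤ : Submodule σ.D σ.Q)) →
      ∀ c : S, c ∉ q → ∀ z : N, c • z ∈ p.map (algebraMap R S) • (⊤ : Submodule S N) →
        z ∈ p.map (algebraMap R S) • (⊤ : Submodule S N) := by
    intro S _ _ N _ _ q _ σ hQ c hc z hz
    let P := p.map (algebraMap R σ.D)
    -- membership in the two submodules
    have hbase : ∀ {T : Type u} [CommRing T] [Algebra R T] {M : Type u} [AddCommGroup M] [Module T M] (K : AddSubgroup M),
        (∀ a ∈ p, ∀ m : M, algebraMap R T a • m ∈ K) → ∀ m ∈ p.map (algebraMap R T) • (⊤ : Submodule T M), m ∈ K := by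
      intro T _ _ M _ _ K hK m hm
      refine Submodule.smul_induction_on hm (fun r hr m _ => ?_) fun a b ha hb => K.add_mem ha hb
      induction hr using Submodule.span_induction generalizing m with
      | mem _ ha => obtain ⟨a, ha, rfl⟩ := ha; exact hK a ha m
      | zero => rw [zero_smul]; exact K.zero_mem
      | add a b _ _ ha hb => rw [add_smul]; exact K.add_mem (ha m trivial) (hb m trivial)
      | smul t a _ ha => rw [smul_eq_mul, mul_comm, mul_smul]; exact ha (t • m) trivial
    have hSD : ∀ (a : R) (g : σ.G), algebraMap R S a • g = algebraMap R σ.D a • g := fun a g => by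
      rw [← algebraMap_smul σ.C (algebraMap R S a) g, ← algebraMap_smul σ.C (algebraMap R σ.D a) g,
        ← IsScalarTower.algebraMap_apply, ← IsScalarTower.algebraMap_apply]
    have hto : ∀ n : N, n ∈ p.map (algebraMap R S) • (⊤ : Submodule S N) → σ.iso n ∈ P • (⊤ : Submodule σ.D σ.G) :=
      hbase ((P • (⊤ : Submodule σ.D σ.G)).toAddSubgroup.comap σ.iso.toAddMonoidHom) fun a ha n => by
        show σ.iso (algebraMap R S a • n) ∈ P • (⊤ : Submodule σ.D σ.G)
        rw [map_smul, hSD]
        exact Submodule.smul_mem_smul (Ideal.mem_map_of_mem _ ha) trivial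
    have hfrom : ∀ g : σ.G, g ∈ P • (⊤ : Submodule σ.D σ.G) → σ.iso.symm g ∈ p.map (algebraMap R S) • (⊤ : Submodule S N) :=
      hbase ((p.map (algebraMap R S) • (⊤ : Submodule S N)).toAddSubgroup.comap σ.iso.symm.toAddMonoidHom) fun a ha g => by
        show σ.iso.symm (algebraMap R σ.D a • g) ∈ p.map (algebraMap R S) • (⊤ : Submodule S N)
        rw [← hSD, map_smul]
        exact Submodule.smul_mem_smul (Ideal.mem_map_of_mem _ ha) trivial
    have hcz : algebraMap S σ.C c ∉ σ.z := fun h => hc ((SetLike.ext_iff.1 (Ideal.LiesOver.over (P := σ.z) (p := q)) c).2 h)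
    obtain ⟨e, he, b, hb⟩ := exists_mul_eq_algebraMap σ.y σ.z (fun Q hQ' hQy => σ.uniq Q hQy) hcz
    obtain ⟨s, hs⟩ := σ.surj b
    let g := σ.iso z
    have hcb : e • g = s • (c • g) := by
      rw [← algebraMap_smul σ.C e g, hb, ← algebraMap_smul σ.C c g, ← algebraMap_smul σ.C s, hs, smul_smul, mul_comm]
    have heg : e • g ∈ P • (⊤ : Submodule σ.D σ.G) := by
      rw [hcb, ← map_smul, ← map_smul]
      exact hto _ (Submodule.smul_mem _ s hz)
    -- the cokernel
    have hmk : Submodule.map (LinearMap.range σ.α).mkQ (P • (⊤ : Submodule σ.D σ.G)) = P • (⊤ : Submodule σ.D σ.Q) := by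
      rw [Submodule.map_smul'', Submodule.map_top, Submodule.range_mkQ]
    have hq : (LinearMap.range σ.α).mkQ g ∈ P • (⊤ : Submodule σ.D σ.Q) := by
      refine hQ e he _ ?_
      rw [← map_smul, ← hmk]
      exact Submodule.mem_map_of_mem heg
    rw [← hmk] at hq
    obtain ⟨g₁, hg₁, hg₁g⟩ := hq
    obtain ⟨v, hv⟩ : g - g₁ ∈ LinearMap.range σ.α := by
      rw [← Submodule.Quotient.mk_eq_zero, Submodule.Quotient.mk_sub, sub_eq_zero]
      exact hg₁g.symm
    have hev : σ.α (e • v) ∈ P • (⊤ : Submodule σ.D σ.G) := by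
      rw [map_smul, hv, smul_sub]
      exact Submodule.sub_mem _ heg (Submodule.smul_mem _ e hg₁)
    have hzero : ∀ m ∈ P • (⊤ : Submodule σ.D σ.G), (1 : P.ResidueField) ⊗ₜ[σ.D] m = 0 := fun m hm =>
      Submodule.smul_induction_on hm (fun r hr m _ => by
        rw [TensorProduct.tmul_smul, TensorProduct.smul_tmul', Algebra.smul_def, mul_one,
          Ideal.algebraMap_residueField_eq_zero.2 hr, TensorProduct.zero_tmul])
        fun a b ha hb => by rw [TensorProduct.tmul_add, ha, hb, add_zero]
    have hv0 : (1 : P.ResidueField) ⊗ₜ[σ.D] (e • v) = 0 := by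
      apply σ.fibre.1
      rw [LinearMap.baseChange_tmul, map_zero]
      exact hzero _ hev
    have hvP : ∀ i, v i ∈ P := fun i => by
      have h1 := congrFun (congrArg (TensorProduct.piScalarRight σ.D σ.D P.ResidueField (Fin σ.r)) hv0) i
      rw [TensorProduct.piScalarRight_apply, TensorProduct.piScalarRightHom_tmul, map_zero] at h1
      have h2 : e * v i ∈ P := by
        rw [← Ideal.algebraMap_residueField_eq_zero (I := P)]
        have h3 : ((e • v) i) • (1 : P.ResidueField) = 0 := h1
        rwa [Algebra.smul_def, mul_one] at h3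
      refine ((inferInstance : P.IsPrime).mem_or_mem h2).resolve_left fun h => he ?_
      exact Ideal.map_le_iff_le_comap.2 (Ideal.LiesOver.over (P := σ.y) (p := p)).le h
    have hαv : σ.α v ∈ P • (⊤ : Submodule σ.D σ.G) := by
      rw [pi_eq_sum_univ v, map_sum]
      refine Submodule.sum_mem _ fun i _ => ?_
      rw [map_smul]
      exact Submodule.smul_mem_smul (hvP i) trivial
    have hg : g ∈ P • (⊤ : Submodule σ.D σ.G) := by
      rw [show g = σ.α v + g₁ by rw [hv, sub_add_cancel]]
      exact Submodule.add_mem _ hαv hg₁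
    have := hfrom _ hg
    rwa [LinearEquiv.symm_apply_apply] at this
  induction h with
  | last σ hs =>
    refine key σ fun d _ z _ => ?_
    haveI : Subsingleton σ.Q := Submodule.Quotient.subsingleton_iff.2 (LinearMap.range_eq_top.2 hs)
    rw [Subsingleton.elim z 0]
    exact Submodule.zero_mem _
  | cons σ _ ih => exact key σ ih

end Groth.Agent.RG
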