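import Groth.Agent.RG.DevBC

/-!
# Standard shrinkings of recursive dévissages
-/

set_option autoImplicit false
set_option linter.style.haveILetI false
set_option linter.unusedSectionVars false
set_option backward.isDefEq.respectTransparency false
set_option backward.isDefEq.respectTransparency.types false
set_option maxHeartbeats 1000000

universe u

open TensorProduct

namespace Groth.Agent.RG

/-- Residue fields of localisations do not change pure transcendence. -/
theorem purelyTranscendental_away {R D R₁ D₁ : Type u} [CommRing R] [CommRing D] [CommRing R₁] [CommRing D₁]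
    [Algebra R D] [Algebra R R₁] [Algebra D D₁] [Algebra R₁ D₁] [Algebra R D₁] [IsScalarTower R R₁ D₁]
    [IsScalarTower R D D₁] (g : R) [IsLocalization.Away g R₁] (w : D) [IsLocalization.Away w D₁]
    (p : Ideal R) [p.IsPrime] (y : Ideal D) [y.IsPrime] [y.LiesOver p] (p₁ : Ideal R₁) [p₁.IsPrime]
    [hp₁ : p₁.LiesOver p] (y₁ : Ideal D₁) [y₁.IsPrime] [hy₁ : y₁.LiesOver y] [y₁.LiesOver p₁]
    (h : FlatCA.PurelyTranscendental p y) : FlatCA.PurelyTranscendental p₁ y₁ := by
  refine PT.purelyTranscendental p₁ y₁ ((PT.of_purelyTranscendental p y h).congr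
    (RingEquiv.ofBijective (Ideal.ResidueField.map p p₁ (algebraMap R R₁) hp₁.over)
      ((RingHom.surjectiveOnStalks_of_isLocalization (Submonoid.powers g) R₁).residueFieldMap_bijective p p₁ hp₁.over))
    (RingEquiv.ofBijective (Ideal.ResidueField.map y y₁ (algebraMap D D₁) hy₁.over)
      ((RingHom.surjectiveOnStalks_of_isLocalization (Submonoid.powers w) D₁).residueFieldMap_bijective y y₁ hy₁.over))
    fun x => ?_)
  refine RingHom.congr_fun (f := (Ideal.ResidueField.map y y₁ (algebraMap D D₁) hy₁.over).comp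
      (Ideal.ResidueField.mapₐ p y (Algebra.ofId R D) _).toRingHom)
    (g := (Ideal.ResidueField.mapₐ p₁ y₁ (Algebra.ofId R₁ D₁) _).toRingHom.comp
      (Ideal.ResidueField.map p p₁ (algebraMap R R₁) hp₁.over)) ?_ x
  refine Ideal.ResidueField.ringHom_ext (RingHom.ext fun r => ?_)
  show Ideal.ResidueField.map y y₁ _ _ (Ideal.ResidueField.map p y _ _ (algebraMap R p.ResidueField r)) =
    Ideal.ResidueField.map p₁ y₁ _ _ (Ideal.ResidueField.map p p₁ _ _ (algebraMap R p.ResidueField r))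
  rw [Ideal.ResidueField.map_algebraMap, Ideal.ResidueField.map_algebraMap, Ideal.ResidueField.map_algebraMap,
    Ideal.ResidueField.map_algebraMap]
  exact congrArg (algebraMap D₁ y₁.ResidueField)
    ((IsScalarTower.algebraMap_apply R D D₁ r).symm.trans (IsScalarTower.algebraMap_apply R R₁ D₁ r))

/-- A standard shrinking of a step. -/
theorem step_shrink {R S : Type u} [CommRing R] [CommRing S] [Algebra R S] {N : Type u} [AddCommGroup N] [Module S N]
    {p : Ideal R} [p.IsPrime] {q : Ideal S} [q.IsPrime] (σ : Step R S N p q) (g : R) (_hg : g ∉ p) (hX : S) (hY : σ.D)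
    (hXY : algebraMap S σ.C hX = algebraMap σ.D σ.C hY) (hyY : hY ∉ σ.y) (hgY : algebraMap R σ.D g ∣ hY)
    (hne : ∀ t : PrimeSpectrum R, g ∉ t.asIdeal →
      ∃ Q : PrimeSpectrum σ.D, hY ∉ Q.asIdeal ∧ PrimeSpectrum.comap (algebraMap R σ.D) Q = t)
    (R₁ : Type u) [CommRing R₁] [Algebra R R₁] [IsLocalization.Away g R₁]
    (S₁ : Type u) [CommRing S₁] [Algebra S S₁] [Algebra R₁ S₁] [Algebra R S₁] [IsScalarTower R R₁ S₁]
    [IsScalarTower R S S₁] [IsLocalization.Away hX S₁]
    (p₁ : Ideal R₁) [p₁.IsPrime] [p₁.LiesOver p] (q₁ : Ideal S₁) [q₁.IsPrime] [q₁.LiesOver q] [q₁.LiesOver p₁] :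
    ∃ (C₁ D₁ : Type u) (_ : CommRing C₁) (_ : CommRing D₁) (_ : Algebra R₁ C₁) (_ : Algebra R₁ D₁)
      (_ : Algebra S₁ C₁) (_ : IsScalarTower R₁ S₁ C₁) (_ : Algebra D₁ C₁) (_ : IsScalarTower R₁ D₁ C₁)
      (_ : Algebra σ.C C₁) (_ : Algebra σ.D D₁) (_ : Algebra R D₁) (_ : IsScalarTower R R₁ D₁)
      (_ : IsScalarTower R σ.D D₁) (_ : IsLocalization.Away hY D₁)
      (_ : Algebra S C₁) (_ : IsScalarTower S S₁ C₁) (_ : IsScalarTower S σ.C C₁) (_ : Algebra σ.D C₁)
      (_ : IsScalarTower σ.D D₁ C₁) (_ : IsScalarTower σ.D σ.C C₁)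
      (_ : Algebra.IsPushout S S₁ σ.C C₁) (_ : Algebra.IsPushout σ.D D₁ σ.C C₁)
      (z₁ : Ideal C₁) (y₁ : Ideal D₁) (_ : z₁.IsPrime) (_ : y₁.IsPrime) (_ : z₁.LiesOver q₁) (_ : z₁.LiesOver y₁)
      (_ : y₁.LiesOver p₁) (_ : y₁.LiesOver σ.y) (_ : (p₁.map (algebraMap R₁ D₁)).IsPrime)
      (_ : (p₁.map (algebraMap R₁ D₁)).LiesOver (p.map (algebraMap R σ.D)))
      (_ : FlatCA.SmoothRelDim σ.n R₁ D₁) (_ : FlatCA.GeomIrredFibres R₁ D₁),
      (∀ (z₂ : Ideal C₁) [z₂.IsPrime], z₂.LiesOver y₁ → z₂ = z₁) ∧ FlatCA.PurelyTranscendental p₁ y₁ := by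
  let hZ := algebraMap σ.D σ.C hY
  have hzZ : hZ ∉ σ.z := fun hm => hyY ((SetLike.ext_iff.1 (Ideal.LiesOver.over (P := σ.z) (p := σ.y)) _).2 hm)
  have hgY' : IsUnit (algebraMap R (Localization.Away hY) g) := by
    rw [IsScalarTower.algebraMap_apply R σ.D (Localization.Away hY)]
    exact isUnit_of_dvd_unit (map_dvd _ hgY) (IsLocalization.Away.algebraMap_isUnit hY)
  have hgZ' : IsUnit (algebraMap R (Localization.Away hZ) g) := by
    rw [IsScalarTower.algebraMap_apply R σ.C (Localization.Away hZ), IsScalarTower.algebraMap_apply R σ.D σ.C]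
    exact isUnit_of_dvd_unit (map_dvd _ (map_dvd _ hgY)) (IsLocalization.Away.algebraMap_isUnit hZ)
  have hXZ' : IsUnit (algebraMap S (Localization.Away hZ) hX) := by
    rw [IsScalarTower.algebraMap_apply S σ.C (Localization.Away hZ), hXY]
    exact IsLocalization.Away.algebraMap_isUnit hZ
  have hYZ' : IsUnit (algebraMap σ.D (Localization.Away hZ) hY) := by
    rw [IsScalarTower.algebraMap_apply σ.D σ.C (Localization.Away hZ)]
    exact IsLocalization.Away.algebraMap_isUnit hZ
  letI a2 : Algebra R₁ (Localization.Away hZ) := (IsLocalization.Away.lift g hgZ').toAlgebra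
  haveI : IsScalarTower R R₁ (Localization.Away hZ) :=
    IsScalarTower.of_algebraMap_eq fun r => (IsLocalization.Away.lift_eq g hgZ' r).symm
  letI a3 : Algebra R₁ (Localization.Away hY) := (IsLocalization.Away.lift g hgY').toAlgebra
  haveI : IsScalarTower R R₁ (Localization.Away hY) :=
    IsScalarTower.of_algebraMap_eq fun r => (IsLocalization.Away.lift_eq g hgY' r).symm
  letI a4 : Algebra S₁ (Localization.Away hZ) := (IsLocalization.Away.lift hX hXZ').toAlgebra
  haveI : IsScalarTower S S₁ (Localization.Away hZ) :=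
    IsScalarTower.of_algebraMap_eq fun r => (IsLocalization.Away.lift_eq hX hXZ' r).symm
  haveI : IsScalarTower R₁ S₁ (Localization.Away hZ) :=
    IsScalarTower.of_algebraMap_eq' (IsLocalization.ringHom_ext (Submonoid.powers g) (RingHom.ext fun r => by
      simp only [RingHom.comp_apply, ← IsScalarTower.algebraMap_apply]
      rw [IsScalarTower.algebraMap_apply R S S₁, ← IsScalarTower.algebraMap_apply S S₁ (Localization.Away hZ),
        IsScalarTower.algebraMap_apply S σ.C (Localization.Away hZ), ← IsScalarTower.algebraMap_apply R S σ.C,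
        ← IsScalarTower.algebraMap_apply R σ.C (Localization.Away hZ)]))
  letI a6 : Algebra (Localization.Away hY) (Localization.Away hZ) := (IsLocalization.Away.lift hY hYZ').toAlgebra
  haveI : IsScalarTower σ.D (Localization.Away hY) (Localization.Away hZ) :=
    IsScalarTower.of_algebraMap_eq fun r => (IsLocalization.Away.lift_eq hY hYZ' r).symm
  haveI : IsScalarTower R₁ (Localization.Away hY) (Localization.Away hZ) :=
    IsScalarTower.of_algebraMap_eq' (IsLocalization.ringHom_ext (Submonoid.powers g) (RingHom.ext fun r => by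
      simp only [RingHom.comp_apply, ← IsScalarTower.algebraMap_apply]
      rw [IsScalarTower.algebraMap_apply R σ.D (Localization.Away hY),
        ← IsScalarTower.algebraMap_apply σ.D (Localization.Away hY) (Localization.Away hZ),
        IsScalarTower.algebraMap_apply σ.D σ.C (Localization.Away hZ), ← IsScalarTower.algebraMap_apply R σ.D σ.C,
        ← IsScalarTower.algebraMap_apply R σ.C (Localization.Away hZ)]))
  haveI : IsLocalization (Algebra.algebraMapSubmonoid σ.C (Submonoid.powers hX)) (Localization.Away hZ) := by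
    rw [Algebra.algebraMapSubmonoid_powers, hXY]; infer_instance
  haveI : Algebra.IsPushout S S₁ σ.C (Localization.Away hZ) :=
    (Algebra.isPushout_of_isLocalization (Submonoid.powers hX) S₁ σ.C (Localization.Away hZ)).symm
  haveI : IsLocalization (Algebra.algebraMapSubmonoid σ.C (Submonoid.powers hY)) (Localization.Away hZ) := by
    rw [Algebra.algebraMapSubmonoid_powers]; infer_instance
  haveI : Algebra.IsPushout σ.D (Localization.Away hY) σ.C (Localization.Away hZ) :=
    (Algebra.isPushout_of_isLocalization (Submonoid.powers hY) (Localization.Away hY) σ.C (Localization.Away hZ)).symm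
  haveI hz₁ := (map_away_isPrime (A₁ := Localization.Away hZ) hZ σ.z hzZ).1
  have hz₁c := (map_away_isPrime (A₁ := Localization.Away hZ) hZ σ.z hzZ).2
  haveI hy₁ := (map_away_isPrime (A₁ := Localization.Away hY) hY σ.y hyY).1
  have hy₁c := (map_away_isPrime (A₁ := Localization.Away hY) hY σ.y hyY).2
  let z₁ := σ.z.map (algebraMap σ.C (Localization.Away hZ))
  let y₁ := σ.y.map (algebraMap σ.D (Localization.Away hY))
  haveI hyo : y₁.LiesOver p₁ := ⟨by
    refine congrArg PrimeSpectrum.asIdeal (PrimeSpectrum.localization_comap_injective R₁ (Submonoid.powers g)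
      (a₁ := (⟨p₁, inferInstance⟩ : PrimeSpectrum R₁))
      (a₂ := PrimeSpectrum.comap (algebraMap R₁ (Localization.Away hY)) ⟨y₁, hy₁⟩) (PrimeSpectrum.ext ?_))
    simp only [PrimeSpectrum.comap_asIdeal]
    rw [Ideal.comap_comap, ← IsScalarTower.algebraMap_eq R R₁ (Localization.Away hY),
      IsScalarTower.algebraMap_eq R σ.D (Localization.Away hY), ← Ideal.comap_comap, hy₁c, ← Ideal.under_def,
      ← Ideal.under_def, ← Ideal.LiesOver.over (P := p₁) (p := p)]
    exact Ideal.LiesOver.over⟩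
  haveI : y₁.LiesOver σ.y := ⟨hy₁c.symm⟩
  have hzS : z₁.comap (algebraMap S₁ (Localization.Away hZ)) = q₁ := congrArg PrimeSpectrum.asIdeal
    (PrimeSpectrum.localization_comap_injective S₁ (Submonoid.powers hX)
      (a₁ := PrimeSpectrum.comap (algebraMap S₁ (Localization.Away hZ)) ⟨z₁, hz₁⟩) (a₂ := ⟨q₁, inferInstance⟩)
      (PrimeSpectrum.ext (by
        simp only [PrimeSpectrum.comap_asIdeal]
        rw [Ideal.comap_comap, ← IsScalarTower.algebraMap_eq S S₁ (Localization.Away hZ),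
          IsScalarTower.algebraMap_eq S σ.C (Localization.Away hZ), ← Ideal.comap_comap, hz₁c, ← Ideal.under_def,
          ← Ideal.under_def, ← Ideal.LiesOver.over (P := q₁) (p := q)]
        exact (Ideal.LiesOver.over (P := σ.z) (p := q)).symm)))
  have hzD : z₁.comap (algebraMap (Localization.Away hY) (Localization.Away hZ)) = y₁ := congrArg PrimeSpectrum.asIdeal
    (PrimeSpectrum.localization_comap_injective (Localization.Away hY) (Submonoid.powers hY)
      (a₁ := PrimeSpectrum.comap (algebraMap (Localization.Away hY) (Localization.Away hZ)) ⟨z₁, hz₁⟩) (a₂ := ⟨y₁, hy₁⟩)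
      (PrimeSpectrum.ext (by
        simp only [PrimeSpectrum.comap_asIdeal]
        rw [hy₁c, Ideal.comap_comap, ← IsScalarTower.algebraMap_eq σ.D (Localization.Away hY) (Localization.Away hZ),
          IsScalarTower.algebraMap_eq σ.D σ.C (Localization.Away hZ), ← Ideal.comap_comap, hz₁c]
        exact (Ideal.LiesOver.over (P := σ.z) (p := σ.y)).symm)))
  have hsm' : FlatCA.SmoothRelDim σ.n R₁ (Localization.Away hY) := smoothRelDim_away σ.smooth g hY
  have hirr' : FlatCA.GeomIrredFibres R₁ (Localization.Away hY) := geomIrredFibres_away σ.irred g hY hne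
  haveI hP' := (isPrime_map_of_smooth hsm' hirr' p₁).1
  have hPy : p.map (algebraMap R σ.D) ≤ σ.y :=
    Ideal.map_le_iff_le_comap.2 (Ideal.LiesOver.over (P := σ.y) (p := p)).le
  have hPQ := map_away_isPrime (A₁ := Localization.Away hY) hY (p.map (algebraMap R σ.D)) fun h => hyY (hPy h)
  haveI hPP : (p₁.map (algebraMap R₁ (Localization.Away hY))).LiesOver (p.map (algebraMap R σ.D)) :=
    σ.liesOver_map_of_exists (Localization.Away hY) ⟨_, hPQ.1, ⟨hPQ.2.symm⟩, ⟨by
      haveI := (isPrime_map_of_smooth σ.smooth σ.irred p).2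
      haveI := hPQ.1
      refine congrArg PrimeSpectrum.asIdeal (PrimeSpectrum.localization_comap_injective R₁ (Submonoid.powers g)
        (a₁ := (⟨p₁, inferInstance⟩ : PrimeSpectrum R₁))
        (a₂ := PrimeSpectrum.comap (algebraMap R₁ (Localization.Away hY)) ⟨_, hPQ.1⟩) (PrimeSpectrum.ext ?_))
      simp only [PrimeSpectrum.comap_asIdeal]
      rw [Ideal.comap_comap, ← IsScalarTower.algebraMap_eq R R₁ (Localization.Away hY),
        IsScalarTower.algebraMap_eq R σ.D (Localization.Away hY), ← Ideal.comap_comap, hPQ.2, ← Ideal.under_def,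
        ← Ideal.under_def, ← Ideal.LiesOver.over (P := p₁) (p := p)]
      exact Ideal.LiesOver.over⟩⟩
  refine ⟨Localization.Away hZ, Localization.Away hY, inferInstance, inferInstance, inferInstance, inferInstance,
    inferInstance, inferInstance, inferInstance, inferInstance, inferInstance, inferInstance, inferInstance,
    inferInstance, inferInstance, inferInstance, inferInstance, inferInstance, inferInstance, inferInstance,
    inferInstance, inferInstance, inferInstance, inferInstance, z₁, y₁, hz₁, hy₁, ⟨hzS.symm⟩, ⟨hzD.symm⟩, hyo,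
    inferInstance, hP', hPP, hsm', hirr', fun z₂ _ hz₂ => ?_, purelyTranscendental_away g hY p σ.y p₁ y₁ σ.pure⟩
  have h2 : (z₂.comap (algebraMap σ.C (Localization.Away hZ))).LiesOver σ.y := ⟨by
    rw [Ideal.under_def, Ideal.comap_comap, ← IsScalarTower.algebraMap_eq σ.D σ.C (Localization.Away hZ),
      IsScalarTower.algebraMap_eq σ.D (Localization.Away hY) (Localization.Away hZ),
      ← Ideal.comap_comap, ← Ideal.under_def (A := Localization.Away hY) z₂, ← hz₂.over, hy₁c]⟩
  exact congrArg PrimeSpectrum.asIdeal (PrimeSpectrum.localization_comap_injective (Localization.Away hZ)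
    (Submonoid.powers hZ) (a₁ := ⟨z₂, inferInstance⟩) (a₂ := ⟨z₁, hz₁⟩)
    (PrimeSpectrum.ext ((σ.uniq _ h2).trans hz₁c.symm)))

/-- Every element outside the point gives a shrinking inside its standard open. -/
theorem DevAt.shrink {R : Type u} [CommRing R] {p : Ideal R} [p.IsPrime] {S : Type u} [CommRing S] [Algebra R S]
    {N : Type u} [AddCommGroup N] [Module S N] {q : Ideal S} [q.IsPrime] (h : DevAt R p S N q) (u : S) (hu : u ∉ q) :
    ∃ g ∉ p, ∃ hX ∉ q, u ∣ hX ∧ ∀ g' ∉ p, g ∣ g' →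
      ∀ (R₁ : Type u) [CommRing R₁] [Algebra R R₁] [IsLocalization.Away g' R₁]
        (S₁ : Type u) [CommRing S₁] [Algebra S S₁] [Algebra R₁ S₁] [Algebra R S₁] [IsScalarTower R R₁ S₁]
        [IsScalarTower R S S₁] [IsLocalization.Away (hX * algebraMap R S g') S₁]
        (p₁ : Ideal R₁) [p₁.IsPrime] [p₁.LiesOver p] (q₁ : Ideal S₁) [q₁.IsPrime] [q₁.LiesOver q] [q₁.LiesOver p₁]
        (N₁ : Type u) [AddCommGroup N₁] [Module S₁ N₁] [Module S N₁] [IsScalarTower S S₁ N₁] (f : N →ₗ[S] N₁),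
        IsBaseChange S₁ f → DevAt R₁ p₁ S₁ N₁ q₁ := by
  -- lift a standard open of the smooth algebra
  have outer : ∀ {S : Type u} [CommRing S] [Algebra R S] {N : Type u} [AddCommGroup N] [Module S N] {q : Ideal S}
      [q.IsPrime] (σ : Step R S N p q) (u : S) (_ : u ∉ q),
      ∃ w₀ ∉ σ.y, ∀ h₁ ∉ σ.y, w₀ ∣ h₁ → ∃ g₂ ∉ p, ∃ hX ∉ q, u ∣ hX ∧
        algebraMap S σ.C hX = algebraMap σ.D σ.C h₁ ∧ ∀ g', g₂ ∣ g' → ∀ t : PrimeSpectrum R, g' ∉ t.asIdeal →
          ∃ Q : PrimeSpectrum σ.D, h₁ * algebraMap R σ.D g' ∉ Q.asIdeal ∧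
            PrimeSpectrum.comap (algebraMap R σ.D) Q = t := by
    intro S _ _ N _ _ q _ σ u hu
    haveI : Algebra.IsIntegral σ.D σ.C := Algebra.IsIntegral.of_finite σ.D σ.C
    haveI := smooth_of_smoothRelDim σ.smooth
    have huz : algebraMap S σ.C u ∉ σ.z := fun hm =>
      hu ((SetLike.ext_iff.1 (Ideal.LiesOver.over (P := σ.z) (p := q)) u).2 hm)
    obtain ⟨w, hw, t, ht⟩ := IntBC.exists_mul_eq_algebraMap σ.y σ.z
      (fun Q hQ hQy => σ.uniq Q ⟨hQy.symm⟩) (algebraMap S σ.C u) huz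
    refine ⟨w, hw, fun h₁ hh₁ hdvd => ?_⟩
    obtain ⟨b, rfl⟩ := hdvd
    obtain ⟨g₂, hg₂, hne⟩ := exists_fibres_meet p σ.y hh₁
    obtain ⟨t', ht'⟩ := σ.surj (t * algebraMap σ.D σ.C b)
    have himg : algebraMap S σ.C (u * t') = algebraMap σ.D σ.C (w * b) := by
      rw [map_mul, ht', ← mul_assoc, ht, map_mul]
    refine ⟨g₂, hg₂, u * t', fun hm => hh₁ ?_, dvd_mul_right _ _, himg, fun g' hg' x hx => ?_⟩
    · have := (SetLike.ext_iff.1 (Ideal.LiesOver.over (P := σ.z) (p := q)) _).1 hm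
      rw [Ideal.under_def, Ideal.mem_comap, himg] at this
      exact (SetLike.ext_iff.1 (Ideal.LiesOver.over (P := σ.z) (p := σ.y)) _).2 this
    · obtain ⟨c, rfl⟩ := hg'
      obtain ⟨Q, hQ, hQt⟩ := hne x fun h => hx (x.asIdeal.mul_mem_right c h)
      refine ⟨Q, fun hm => (Q.2.mem_or_mem hm).elim (fun h => hQ (Q.asIdeal.mul_mem_right _ h)) fun h => hx ?_, hQt⟩
      rw [← hQt]
      exact h
  induction h with
  | @last S _ _ N _ _ q _ σ hs =>
    obtain ⟨w, hw, H⟩ := outer σ u hu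
    obtain ⟨g₂, hg₂, hX, hqX, hdvd, himg, hne⟩ := H w hw dvd_rfl
    refine ⟨g₂, hg₂, hX, hqX, hdvd, fun g' hg' hdg R₁ _ _ _ S₁ _ _ _ _ _ _ _ p₁ _ _ q₁ _ _ _ N₁ _ _ _ _ f hf => ?_⟩
    have hgy : algebraMap R σ.D g' ∉ σ.y := fun hm =>
      hg' ((SetLike.ext_iff.1 (Ideal.LiesOver.over (P := σ.y) (p := p)) g').2 hm)
    obtain ⟨C₁, D₁, _, _, _, _, _, _, _, _, _, _, _, _, _, _, _, _, _, _, _, _, _, _, z₁, y₁, _, _, _, _, _, _, _, hPP, hsm, hirr, huq, hpure⟩ :=
      step_shrink σ g' hg' (hX * algebraMap R S g') (w * algebraMap R σ.D g')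
        (by rw [map_mul, map_mul, himg, ← IsScalarTower.algebraMap_apply, ← IsScalarTower.algebraMap_apply])
        (fun hm => ((inferInstance : σ.y.IsPrime).mem_or_mem hm).elim hw hgy) (dvd_mul_left _ _)
        (fun t ht => hne g' hdg t ht) R₁ S₁ p₁ q₁
    exact .last (σ.transport f hf C₁ D₁ z₁ y₁ hsm hirr huq hpure) (σ.surjective_transport f hf C₁ D₁ z₁ y₁ hsm hirr huq hpure hs)
  | @cons S _ _ N _ _ q _ σ _ ih =>
    obtain ⟨w, hw, H⟩ := outer σ u hu
    obtain ⟨g₁, hg₁, h₁, hh₁, hdvd₁, hinner⟩ := ih w hw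
    obtain ⟨g₂, hg₂, hX, hqX, hdvd, himg, hne⟩ := H h₁ hh₁ hdvd₁
    refine ⟨g₁ * g₂, fun hm => ((inferInstance : p.IsPrime).mem_or_mem hm).elim hg₁ hg₂, hX, hqX, hdvd,
      fun g' hg' hdg R₁ _ _ _ S₁ _ _ _ _ _ _ _ p₁ _ _ q₁ _ _ _ N₁ _ _ _ _ f hf => ?_⟩
    have hgy : algebraMap R σ.D g' ∉ σ.y := fun hm =>
      hg' ((SetLike.ext_iff.1 (Ideal.LiesOver.over (P := σ.y) (p := p)) g').2 hm)
    obtain ⟨C₁, D₁, _, _, _, _, _, _, _, _, _, _, _, _, _, _, _, _, _, _, _, _, _, _, z₁, y₁, _, _, _, _, _, _, _, hPP, hsm, hirr, huq, hpure⟩ :=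
      step_shrink σ g' hg' (hX * algebraMap R S g') (h₁ * algebraMap R σ.D g')
        (by rw [map_mul, map_mul, himg, ← IsScalarTower.algebraMap_apply, ← IsScalarTower.algebraMap_apply])
        (fun hm => ((inferInstance : σ.y.IsPrime).mem_or_mem hm).elim hh₁ hgy) (dvd_mul_left _ _)
        (fun t ht => hne g' ((dvd_mul_left g₂ g₁).trans hdg) t ht) R₁ S₁ p₁ q₁
    exact DevAt.cons_transport σ f C₁ D₁ z₁ y₁
      (fun Q' _ _ _ _ gQ hgQ => hinner g' hg' ((dvd_mul_right g₁ g₂).trans hdg) R₁ D₁ p₁ y₁ Q' gQ hgQ)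
      hf hsm hirr huq hpure

end Groth.Agent.RG
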