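import Groth.Agent.RG.DevShrinkRec

/-!
# Standard shrinkings of complete dévissages at a point
-/

set_option autoImplicit false
set_option linter.style.haveILetI false
set_option linter.unusedSectionVars false
set_option backward.isDefEq.respectTransparency false
set_option backward.isDefEq.respectTransparency.types false
set_option maxHeartbeats 2000000

universe u

open TensorProduct

namespace Groth.Agent.RG

variable {R : Type u} [CommRing R] {p : Ideal R} [p.IsPrime] {g : R}
  {R₁ : Type u} [CommRing R₁] [Algebra R R₁] [IsLocalization.Away g R₁] (p₁ : Ideal R₁) [p₁.IsPrime]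
  [hp₁ : p₁.LiesOver p]

/-- A shrinking exists for compatible elements. -/
theorem hasShrunkDevissage {S : Type u} [CommRing S] [Algebra R S] {N : Type u} [AddCommGroup N] [Module S N]
    (𝒟 : FlatCA.CompleteDevissage R S N p) {hX : S} {b : ∀ i, 𝒟.B i} (hd : ShrinkData 𝒟 g hX b)
    {S₁ : Type u} [CommRing S₁] [Algebra R₁ S₁] [Algebra R S₁] [Algebra S S₁] [IsScalarTower R R₁ S₁]
    [IsScalarTower R S S₁] [IsLocalization.Away hX S₁]
    {N₁ : Type u} [AddCommGroup N₁] [Module S₁ N₁] [Module S N₁] [IsScalarTower S S₁ N₁] (f : N →ₗ[S] N₁)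
    (hf : IsBaseChange S₁ f) : HasShrunkDevissage 𝒟 b p₁ S₁ f := by
  suffices key : ∀ (n : ℕ) (S : Type u) [CommRing S] [Algebra R S] (N : Type u) [AddCommGroup N] [Module S N]
      (𝒟 : FlatCA.CompleteDevissage R S N p) (hX : S) (b : ∀ i, 𝒟.B i), 𝒟.n = n + 1 → ShrinkData 𝒟 g hX b →
      ∀ (S₁ : Type u) [CommRing S₁] [Algebra R₁ S₁] [Algebra R S₁] [Algebra S S₁] [IsScalarTower R R₁ S₁]
        [IsScalarTower R S S₁] [IsLocalization.Away hX S₁]
        (N₁ : Type u) [AddCommGroup N₁] [Module S₁ N₁] [Module S N₁] [IsScalarTower S S₁ N₁] (f : N →ₗ[S] N₁),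
        IsBaseChange S₁ f → HasShrunkDevissage 𝒟 b p₁ S₁ f from
    key (𝒟.n - 1) S N 𝒟 hX b (by have := 𝒟.pos; omega) hd S₁ N₁ f hf
  clear hd hf f
  intro n
  induction n with
  | zero =>
    intro S _ _ N _ _ 𝒟 hX b hn hd S₁ _ _ _ _ _ _ _ N₁ _ _ _ _ f hf
    have hgB : IsUnit (algebraMap R (Localization.Away (b 0)) g) := by
      rw [IsScalarTower.algebraMap_apply R (𝒟.B 0) (Localization.Away (b 0))]
      exact isUnit_of_dvd_unit (map_dvd _ (hd.dvd 0 𝒟.pos)) (IsLocalization.Away.algebraMap_isUnit (b 0))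
    let a := algebraMap (𝒟.B 0) (𝒟.A 0) (b 0)
    have hbA : IsUnit (algebraMap (𝒟.B 0) (Localization.Away a) (b 0)) := by
      rw [IsScalarTower.algebraMap_apply (𝒟.B 0) (𝒟.A 0) (Localization.Away a)]
      exact IsLocalization.Away.algebraMap_isUnit a
    have hgA : IsUnit (algebraMap R (Localization.Away a) g) := by
      rw [IsScalarTower.algebraMap_apply R (𝒟.B 0) (Localization.Away a)]
      exact isUnit_of_dvd_unit (map_dvd _ (hd.dvd 0 𝒟.pos)) hbA
    have hXA : IsUnit (algebraMap S (Localization.Away a) hX) := by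
      rw [IsScalarTower.algebraMap_apply S (𝒟.A 0) (Localization.Away a), hd.imgX]
      exact IsLocalization.Away.algebraMap_isUnit a
    letI := awayAlg g R₁ (Localization.Away (b 0)) hgB
    haveI := awayAlg_tower g R₁ (Localization.Away (b 0)) hgB
    letI := awayAlg g R₁ (Localization.Away a) hgA
    haveI := awayAlg_tower g R₁ (Localization.Away a) hgA
    letI := awayAlg (b 0) (Localization.Away (b 0)) (Localization.Away a) hbA
    haveI := awayAlg_tower (b 0) (Localization.Away (b 0)) (Localization.Away a) hbA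
    haveI : IsScalarTower R (Localization.Away (b 0)) (Localization.Away a) := IsScalarTower.to₁₃₄ R (𝒟.B 0) _ _
    haveI : IsScalarTower R₁ (Localization.Away (b 0)) (Localization.Away a) :=
      tower_of_away g R₁ (Localization.Away (b 0)) (Localization.Away a)
    letI := awayAlg hX S₁ (Localization.Away a) hXA
    haveI := awayAlg_tower hX S₁ (Localization.Away a) hXA
    haveI : IsScalarTower R S₁ (Localization.Away a) := IsScalarTower.to₁₃₄ R S _ _
    haveI : IsScalarTower R₁ S₁ (Localization.Away a) := tower_of_away g R₁ S₁ (Localization.Away a)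
    let G₀ := (Localization.Away a) ⊗[𝒟.A 0] 𝒟.M 0
    letI : Module (Localization.Away (b 0)) G₀ :=
      Module.compHom G₀ (algebraMap (Localization.Away (b 0)) (Localization.Away a))
    haveI : IsScalarTower (Localization.Away (b 0)) (Localization.Away a) G₀ :=
      IsScalarTower.of_algebraMap_smul fun _ _ => rfl
    haveI : IsScalarTower (𝒟.B 0) (Localization.Away a) G₀ := inferInstance
    haveI : IsScalarTower (𝒟.B 0) (Localization.Away (b 0)) G₀ :=
      IsScalarTower.to₁₂₄ (𝒟.B 0) (Localization.Away (b 0)) (Localization.Away a) G₀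
    haveI : IsScalarTower (𝒟.B 0) (𝒟.A 0) G₀ :=
      IsScalarTower.to₁₂₄ (𝒟.B 0) (𝒟.A 0) (Localization.Away a) G₀
    letI : Module S₁ G₀ := Module.compHom G₀ (algebraMap S₁ (Localization.Away a))
    haveI : IsScalarTower S₁ (Localization.Away a) G₀ := IsScalarTower.of_algebraMap_smul fun _ _ => rfl
    haveI : IsScalarTower S (Localization.Away a) G₀ := inferInstance
    haveI : IsScalarTower S S₁ G₀ := IsScalarTower.to₁₂₄ S S₁ (Localization.Away a) G₀
    haveI : IsScalarTower S (𝒟.A 0) G₀ := IsScalarTower.to₁₂₄ S (𝒟.A 0) (Localization.Away a) G₀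
    letI : Module R₁ G₀ := Module.compHom G₀ (algebraMap R₁ (Localization.Away a))
    haveI : IsScalarTower R₁ (Localization.Away a) G₀ := IsScalarTower.of_algebraMap_smul fun _ _ => rfl
    haveI : IsScalarTower R₁ (Localization.Away (b 0)) G₀ :=
      IsScalarTower.to₁₂₄ R₁ (Localization.Away (b 0)) (Localization.Away a) G₀
    exact shr_one (B₀ := Localization.Away (b 0)) (A₀ := Localization.Away a) p₁ 𝒟 f
      (TensorProduct.mk (𝒟.A 0) (Localization.Away a) (𝒟.M 0) 1) hd hf (TensorProduct.isBaseChange (𝒟.A 0) (𝒟.M 0) _) hn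
  | succ m ih =>
    intro S _ _ N _ _ 𝒟 hX b hn hd S₁ _ _ _ _ _ _ _ N₁ _ _ _ _ f hf
    have hgB : IsUnit (algebraMap R (Localization.Away (b 0)) g) := by
      rw [IsScalarTower.algebraMap_apply R (𝒟.B 0) (Localization.Away (b 0))]
      exact isUnit_of_dvd_unit (map_dvd _ (hd.dvd 0 𝒟.pos)) (IsLocalization.Away.algebraMap_isUnit (b 0))
    let a := algebraMap (𝒟.B 0) (𝒟.A 0) (b 0)
    have hbA : IsUnit (algebraMap (𝒟.B 0) (Localization.Away a) (b 0)) := by
      rw [IsScalarTower.algebraMap_apply (𝒟.B 0) (𝒟.A 0) (Localization.Away a)]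
      exact IsLocalization.Away.algebraMap_isUnit a
    have hgA : IsUnit (algebraMap R (Localization.Away a) g) := by
      rw [IsScalarTower.algebraMap_apply R (𝒟.B 0) (Localization.Away a)]
      exact isUnit_of_dvd_unit (map_dvd _ (hd.dvd 0 𝒟.pos)) hbA
    have hXA : IsUnit (algebraMap S (Localization.Away a) hX) := by
      rw [IsScalarTower.algebraMap_apply S (𝒟.A 0) (Localization.Away a), hd.imgX]
      exact IsLocalization.Away.algebraMap_isUnit a
    letI := awayAlg g R₁ (Localization.Away (b 0)) hgB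
    haveI := awayAlg_tower g R₁ (Localization.Away (b 0)) hgB
    letI := awayAlg g R₁ (Localization.Away a) hgA
    haveI := awayAlg_tower g R₁ (Localization.Away a) hgA
    letI := awayAlg (b 0) (Localization.Away (b 0)) (Localization.Away a) hbA
    haveI := awayAlg_tower (b 0) (Localization.Away (b 0)) (Localization.Away a) hbA
    haveI : IsScalarTower R (Localization.Away (b 0)) (Localization.Away a) := IsScalarTower.to₁₃₄ R (𝒟.B 0) _ _
    haveI : IsScalarTower R₁ (Localization.Away (b 0)) (Localization.Away a) :=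
      tower_of_away g R₁ (Localization.Away (b 0)) (Localization.Away a)
    letI := awayAlg hX S₁ (Localization.Away a) hXA
    haveI := awayAlg_tower hX S₁ (Localization.Away a) hXA
    haveI : IsScalarTower R S₁ (Localization.Away a) := IsScalarTower.to₁₃₄ R S _ _
    haveI : IsScalarTower R₁ S₁ (Localization.Away a) := tower_of_away g R₁ S₁ (Localization.Away a)
    let G₀ := (Localization.Away a) ⊗[𝒟.A 0] 𝒟.M 0
    letI : Module (Localization.Away (b 0)) G₀ :=
      Module.compHom G₀ (algebraMap (Localization.Away (b 0)) (Localization.Away a))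
    haveI : IsScalarTower (Localization.Away (b 0)) (Localization.Away a) G₀ :=
      IsScalarTower.of_algebraMap_smul fun _ _ => rfl
    haveI : IsScalarTower (𝒟.B 0) (Localization.Away a) G₀ := inferInstance
    haveI : IsScalarTower (𝒟.B 0) (Localization.Away (b 0)) G₀ :=
      IsScalarTower.to₁₂₄ (𝒟.B 0) (Localization.Away (b 0)) (Localization.Away a) G₀
    haveI : IsScalarTower (𝒟.B 0) (𝒟.A 0) G₀ :=
      IsScalarTower.to₁₂₄ (𝒟.B 0) (𝒟.A 0) (Localization.Away a) G₀
    letI : Module S₁ G₀ := Module.compHom G₀ (algebraMap S₁ (Localization.Away a))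
    haveI : IsScalarTower S₁ (Localization.Away a) G₀ := IsScalarTower.of_algebraMap_smul fun _ _ => rfl
    haveI : IsScalarTower S (Localization.Away a) G₀ := inferInstance
    haveI : IsScalarTower S S₁ G₀ := IsScalarTower.to₁₂₄ S S₁ (Localization.Away a) G₀
    haveI : IsScalarTower S (𝒟.A 0) G₀ := IsScalarTower.to₁₂₄ S (𝒟.A 0) (Localization.Away a) G₀
    letI : Module R₁ G₀ := Module.compHom G₀ (algebraMap R₁ (Localization.Away a))
    haveI : IsScalarTower R₁ (Localization.Away a) G₀ := IsScalarTower.of_algebraMap_smul fun _ _ => rfl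
    haveI : IsScalarTower R₁ (Localization.Away (b 0)) G₀ :=
      IsScalarTower.to₁₂₄ R₁ (Localization.Away (b 0)) (Localization.Away a) G₀
    exact shr_cons (B₀ := Localization.Away (b 0)) (A₀ := Localization.Away a) p₁ 𝒟 f
      (TensorProduct.mk (𝒟.A 0) (Localization.Away a) (𝒟.M 0) 1) hd hf (TensorProduct.isBaseChange (𝒟.A 0) (𝒟.M 0) _) hn
      fun N'' _ _ _ _ φ hφ => ih (𝒟.B 0) (𝒟.M 1) (devTail 𝒟 hn) (b 0) (fun i => b (i + 1)) rfl (hd.tail hn)
        (Localization.Away (b 0)) N'' φ hφ

end Groth.Agent.RG
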