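import Groth.Agent.RG.DevShrinkDatum

/-!
# Standard shrinkings of complete dévissages: the elements
-/

set_option autoImplicit false
set_option linter.style.haveILetI false
set_option linter.unusedSectionVars false
set_option backward.isDefEq.respectTransparency false
set_option backward.isDefEq.respectTransparency.types false
set_option linter.unusedVariables false
set_option maxHeartbeats 2000000

universe u

open TensorProduct

namespace Groth.Agent.RG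

variable {R S : Type u} [CommRing R] [CommRing S] [Algebra R S] {N : Type u} [AddCommGroup N] [Module S N]
  {p : Ideal R} [p.IsPrime] {q : Ideal S} [q.IsPrime] {𝒟 : FlatCA.CompleteDevissage R S N p}
  (𝒜 : FlatCA.CompleteDevissageAt R S N p q 𝒟)

/-- Elements of the smooth algebras outside the points, from the index `j` on, with compatible images. -/
def Chain (j : ℕ) (c : ∀ i, 𝒟.B i) : Prop :=
  (∀ i, j ≤ i → i < 𝒟.n → c i ∉ 𝒜.qB i) ∧
    ∀ i, j ≤ i → i + 1 < 𝒟.n →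
      algebraMap (𝒟.B i) (𝒟.A (i + 1)) (c i) = algebraMap (𝒟.B (i + 1)) (𝒟.A (i + 1)) (c (i + 1))

theorem notMem_qA {i : ℕ} {c : 𝒟.B i} (h : c ∉ 𝒜.qB i) : algebraMap (𝒟.B i) (𝒟.A i) c ∉ 𝒜.qA i := fun hm => by
  haveI := 𝒜.overA
  exact h ((SetLike.ext_iff.1 (Ideal.LiesOver.over (P := 𝒜.qA i) (p := 𝒜.qB i)) _).2 hm)

theorem chain_cons {j : ℕ} (hj : j + 1 < 𝒟.n) {c : ∀ i, 𝒟.B i} (hc : Chain 𝒜 (j + 1) c) (y : 𝒟.B j)
    (hy : algebraMap (𝒟.B j) (𝒟.A (j + 1)) y = algebraMap (𝒟.B (j + 1)) (𝒟.A (j + 1)) (c (j + 1))) :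
    Chain 𝒜 j (Function.update c j y) := by
  have hyB : y ∉ 𝒜.qB j := fun hm => notMem_qA 𝒜 (hc.1 (j + 1) le_rfl hj) (by
    rw [← hy, ← Ideal.mem_comap, 𝒜.qStep j hj]
    exact hm)
  constructor
  · intro i hji hi
    rcases eq_or_lt_of_le hji with rfl | hlt
    · rwa [Function.update_self]
    · rw [Function.update_of_ne (Nat.ne_of_gt hlt)]
      exact hc.1 i hlt hi
  · intro i hji hi
    rcases eq_or_lt_of_le hji with rfl | hlt
    · rw [Function.update_self, Function.update_of_ne (Nat.succ_ne_self j)]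
      exact hy
    · rw [Function.update_of_ne (Nat.ne_of_gt hlt), Function.update_of_ne (by omega)]
      exact hc.2 i hlt hi

/-- A chain ending in a given element. -/
theorem exists_chain_last (w : 𝒟.B (𝒟.n - 1)) (hw : w ∉ 𝒜.qB (𝒟.n - 1)) :
    ∃ c : ∀ i, 𝒟.B i, Chain 𝒜 0 c ∧ c (𝒟.n - 1) = w := by
  classical
  have key : ∀ k j, j + k + 1 = 𝒟.n → ∃ c : ∀ i, 𝒟.B i, Chain 𝒜 j c ∧ c (𝒟.n - 1) = w := by
    intro k
    induction k with
    | zero =>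
      intro j hj
      refine ⟨Function.update (fun _ => 1) (𝒟.n - 1) w, ⟨fun i hji hi => ?_, fun i hji hi => absurd hi (by omega)⟩,
        Function.update_self _ _ _⟩
      obtain rfl : i = 𝒟.n - 1 := by omega
      rwa [Function.update_self]
    | succ k ih =>
      intro j hj
      obtain ⟨c, hc, hcw⟩ := ih (j + 1) (by omega)
      obtain ⟨y, hy⟩ := 𝒟.surjBA' j (by omega) (algebraMap (𝒟.B (j + 1)) (𝒟.A (j + 1)) (c (j + 1)))
      exact ⟨_, chain_cons 𝒜 (by omega) hc y hy, by rw [Function.update_of_ne (by omega)]; exact hcw⟩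
  exact key (𝒟.n - 1) 0 (by have := 𝒟.pos; omega)

/-- A chain inside a given standard open of the source. -/
theorem exists_chain_inside (u : S) (hu : u ∉ q) :
    ∃ (c : ∀ i, 𝒟.B i) (y : S), Chain 𝒜 0 c ∧ algebraMap S (𝒟.A 0) (u * y) = algebraMap (𝒟.B 0) (𝒟.A 0) (c 0) := by
  classical
  haveI := 𝒜.hqA
  haveI := 𝒜.hqB
  haveI := 𝒜.overA
  have hstep : ∀ i, i < 𝒟.n → ∀ a : 𝒟.A i, a ∉ 𝒜.qA i →
      ∃ w : 𝒟.B i, w ∉ 𝒜.qB i ∧ ∃ t : 𝒟.A i, a * t = algebraMap (𝒟.B i) (𝒟.A i) w := by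
    intro i hi a ha
    haveI := 𝒟.finiteBA i hi
    haveI : Algebra.IsIntegral (𝒟.B i) (𝒟.A i) := Algebra.IsIntegral.of_finite (𝒟.B i) (𝒟.A i)
    exact IntBC.exists_mul_eq_algebraMap (𝒜.qB i) (𝒜.qA i) (fun Q hQ hQy => 𝒜.uniq i hi Q ⟨hQy.symm⟩) a ha
  have key : ∀ k j, j + k + 1 = 𝒟.n → ∀ v : 𝒟.B j, v ∉ 𝒜.qB j →
      ∃ c : ∀ i, 𝒟.B i, Chain 𝒜 j c ∧ v ∣ c j := by
    intro k
    induction k with
    | zero =>
      intro j hj v hv
      refine ⟨Function.update (fun _ => 1) j v, ⟨fun i hji hi => ?_, fun i hji hi => absurd hi (by omega)⟩,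
        by rw [Function.update_self]⟩
      obtain rfl : i = j := by omega
      rwa [Function.update_self]
    | succ k ih =>
      intro j hj v hv
      have hva : algebraMap (𝒟.B j) (𝒟.A (j + 1)) v ∉ 𝒜.qA (j + 1) := fun hm => hv (by
        rw [← 𝒜.qStep j (by omega)]
        exact hm)
      obtain ⟨w, hw, t, ht⟩ := hstep (j + 1) (by omega) _ hva
      obtain ⟨c, hc, x, hx⟩ := ih (j + 1) (by omega) w hw
      obtain ⟨y, hy⟩ := 𝒟.surjBA' j (by omega) (t * algebraMap (𝒟.B (j + 1)) (𝒟.A (j + 1)) x)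
      refine ⟨_, chain_cons 𝒜 (by omega) hc (v * y) ?_, by rw [Function.update_self]; exact dvd_mul_right v y⟩
      rw [hx, map_mul, map_mul, hy, ← mul_assoc, ht]
  have hua : algebraMap S (𝒟.A 0) u ∉ 𝒜.qA 0 := fun hm => hu (by rw [← 𝒜.q0]; exact hm)
  obtain ⟨w, hw, t, ht⟩ := hstep 0 𝒟.pos _ hua
  obtain ⟨c, hc, x, hx⟩ := key (𝒟.n - 1) 0 (by have := 𝒟.pos; omega) w hw
  obtain ⟨y, hy⟩ := 𝒟.surjSA (t * algebraMap (𝒟.B 0) (𝒟.A 0) x)
  exact ⟨c, y, hc, by rw [hx, map_mul, map_mul, hy, ← mul_assoc, ht]⟩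

/-- The data of a shrinking from a chain. -/
theorem exists_shrinkData {c : ∀ i, 𝒟.B i} (hc : Chain 𝒜 0 c) {h₀ : S}
    (h : algebraMap S (𝒟.A 0) h₀ = algebraMap (𝒟.B 0) (𝒟.A 0) (c 0)) :
    ∃ g ∉ p, h₀ * algebraMap R S g ∉ q ∧
      ShrinkData 𝒟 g (h₀ * algebraMap R S g) (fun i => c i * algebraMap R (𝒟.B i) g) ∧
      ∀ i, i < 𝒟.n → c i * algebraMap R (𝒟.B i) g ∉ 𝒜.qB i := by
  classical
  haveI := 𝒜.hqA
  haveI := 𝒜.hqB
  haveI := 𝒜.overA
  haveI := 𝒜.overB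
  have hloc : ∀ i, ∃ g ∉ p, i < 𝒟.n → ∀ t : PrimeSpectrum R, g ∉ t.asIdeal →
      ∃ Q : PrimeSpectrum (𝒟.B i), c i ∉ Q.asIdeal ∧ PrimeSpectrum.comap (algebraMap R (𝒟.B i)) Q = t := by
    intro i
    by_cases hi : i < 𝒟.n
    swap
    · exact ⟨1, fun h1 => (inferInstance : p.IsPrime).ne_top ((Ideal.eq_top_iff_one p).2 h1), fun h' => absurd h' hi⟩
    haveI := 𝒟.smooth i hi
    obtain ⟨g, hg, hne⟩ := exists_fibres_meet p (𝒜.qB i) (hc.1 i (Nat.zero_le i) hi)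
    refine ⟨g, hg, fun _ t ht => ?_⟩
    obtain ⟨Q, hQ, hQt⟩ := hne t ht
    exact ⟨Q, fun hm => hQ (Q.asIdeal.mul_mem_right _ hm), hQt⟩
  choose gf hgf hfib using hloc
  let g := ∏ i ∈ Finset.range 𝒟.n, gf i
  have hg : g ∉ p := fun hm => by
    obtain ⟨i, -, hi⟩ := ((inferInstance : p.IsPrime).prod_mem_iff).1 hm
    exact hgf i hi
  have hgB : ∀ i, algebraMap R (𝒟.B i) g ∉ 𝒜.qB i := fun i hm =>
    hg ((SetLike.ext_iff.1 (Ideal.LiesOver.over (P := 𝒜.qB i) (p := p)) g).2 hm)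
  have hb : ∀ i, i < 𝒟.n → c i * algebraMap R (𝒟.B i) g ∉ 𝒜.qB i := fun i hi hm =>
    ((inferInstance : (𝒜.qB i).IsPrime).mem_or_mem hm).elim (hc.1 i (Nat.zero_le i) hi) (hgB i)
  have hX0 : algebraMap S (𝒟.A 0) (h₀ * algebraMap R S g) =
      algebraMap (𝒟.B 0) (𝒟.A 0) (c 0 * algebraMap R (𝒟.B 0) g) := by
    rw [map_mul, map_mul, h, ← IsScalarTower.algebraMap_apply, ← IsScalarTower.algebraMap_apply]
  refine ⟨g, hg, fun hm => ?_, ⟨hX0, fun i hi => ?_, dvd_mul_left _ _, fun i _ => dvd_mul_left _ _,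
    fun i hi => ⟨𝒜.qB i, inferInstance, inferInstance, hb i hi⟩, fun i hi t ht => ?_⟩, hb⟩
  · refine notMem_qA 𝒜 (hb 0 𝒟.pos) ?_
    rw [← hX0, ← Ideal.mem_comap, 𝒜.q0]
    exact hm
  · show algebraMap (𝒟.B i) (𝒟.A (i + 1)) (c i * algebraMap R (𝒟.B i) g) =
      algebraMap (𝒟.B (i + 1)) (𝒟.A (i + 1)) (c (i + 1) * algebraMap R (𝒟.B (i + 1)) g)
    rw [map_mul, map_mul, hc.2 i (Nat.zero_le i) hi, ← IsScalarTower.algebraMap_apply, ← IsScalarTower.algebraMap_apply]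
  · have hgi : gf i ∉ t.asIdeal := fun hm => ht (by
      show g ∈ t.asIdeal
      exact Ideal.mem_of_dvd _ (Finset.dvd_prod_of_mem gf (Finset.mem_range.2 hi)) hm)
    obtain ⟨Q, hQ, hQt⟩ := hfib i hi t hgi
    refine ⟨Q, fun hm => (Q.2.mem_or_mem hm).elim hQ fun h' => ht ?_, hQt⟩
    rw [← hQt]
    exact h'

end Groth.Agent.RG
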