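import Groth.Agent.RG.DevShrinkAt
import Groth.Agent.RG.StepShrinkAway

/-!
# Standard shrinkings of complete dévissages at a point: the datum
-/

set_option autoImplicit false
set_option linter.style.haveILetI false
set_option linter.unusedSectionVars false
set_option backward.isDefEq.respectTransparency false
set_option backward.isDefEq.respectTransparency.types false
set_option linter.unusedVariables false
set_option maxHeartbeats 2000000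

universe u

open TensorProduct

namespace Groth.Agent.RG

attribute [local instance] Algebra.TensorProduct.rightAlgebra

/-- Primes of a standard open with the same trace agree. -/
theorem eq_of_away {A A₁ : Type u} [CommRing A] [CommRing A₁] [Algebra A A₁] (a : A) [IsLocalization.Away a A₁]
    (P Q : Ideal A₁) [P.IsPrime] [Q.IsPrime] (h : P.comap (algebraMap A A₁) = Q.comap (algebraMap A A₁)) : P = Q :=
  congrArg PrimeSpectrum.asIdeal (PrimeSpectrum.localization_comap_injective A₁ (Submonoid.powers a)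
    (a₁ := (⟨P, inferInstance⟩ : PrimeSpectrum A₁)) (a₂ := ⟨Q, inferInstance⟩) (PrimeSpectrum.ext h))

/-- A prime over the point lies over its prime in the localised base. -/
theorem liesOver_away {R R₁ A₁ : Type u} [CommRing R] [CommRing R₁] [CommRing A₁] [Algebra R R₁] [Algebra R₁ A₁]
    [Algebra R A₁] [IsScalarTower R R₁ A₁] (g : R) [IsLocalization.Away g R₁] (p : Ideal R) (p₁ : Ideal R₁) [p₁.IsPrime]
    [hp₁ : p₁.LiesOver p] (Q : Ideal A₁) [Q.IsPrime] (h : Q.comap (algebraMap R A₁) = p) : Q.LiesOver p₁ := ⟨by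
  refine eq_of_away g p₁ (Q.comap (algebraMap R₁ A₁)) ?_
  rw [Ideal.comap_comap, ← IsScalarTower.algebraMap_eq R R₁ A₁, h]
  exact hp₁.over.symm⟩

/-- Shrinking keeps the local dimension of the support at a point in the open. -/
theorem exists_fibre_point_away {R S R₁ S₁ : Type u} [CommRing R] [CommRing S] [Algebra R S] [CommRing R₁] [CommRing S₁]
    [Algebra R R₁] [Algebra R₁ S₁] [Algebra R S₁] [Algebra S S₁] [IsScalarTower R R₁ S₁] [IsScalarTower R S S₁]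
    (g : R) [IsLocalization.Away g R₁] (hX : S) [IsLocalization.Away hX S₁]
    (p : Ideal R) [p.IsPrime] (p₁ : Ideal R₁) [p₁.IsPrime] [p₁.LiesOver p]
    (N : Type u) [AddCommGroup N] [Module S N] [Module R N] [IsScalarTower R S N] [Module.Finite S N]
    (N₁ : Type u) [AddCommGroup N₁] [Module S₁ N₁] [Module R₁ N₁] [IsScalarTower R₁ S₁ N₁] [Module S N₁]
    [IsScalarTower S S₁ N₁] [Module.Finite S₁ N₁] (f : N →ₗ[S] N₁) (hf : IsBaseChange S₁ f)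
    (q : Ideal S) [q.IsPrime] [q.LiesOver p] (q₁ : Ideal S₁) [q₁.IsPrime] [q₁.LiesOver p₁] [q₁.LiesOver q]
    {n : WithBot ℕ∞}
    (h1 : ∃ (ξ : PrimeSpectrum (p.Fiber S)) (hξ : ξ ∈ Module.support (p.Fiber S) (FlatCA.fiberMod p S N)),
      ξ.asIdeal = FlatCA.fiberIdeal p q ∧
      FlatMor.localDim (Module.support (p.Fiber S) (FlatCA.fiberMod p S N)) ⟨ξ, hξ⟩ = n) :
    ∃ (ξ : PrimeSpectrum (p₁.Fiber S₁)) (hξ : ξ ∈ Module.support (p₁.Fiber S₁) (FlatCA.fiberMod p₁ S₁ N₁)),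
      ξ.asIdeal = FlatCA.fiberIdeal p₁ q₁ ∧
      FlatMor.localDim (Module.support (p₁.Fiber S₁) (FlatCA.fiberMod p₁ S₁ N₁)) ⟨ξ, hξ⟩ = n := by
  obtain ⟨hq, hloc⟩ := (exists_fibre_point_iff p N q n).1 h1
  have hq₁q : PrimeSpectrum.comap (algebraMap S S₁) ⟨q₁, inferInstance⟩ = ⟨q, inferInstance⟩ :=
    PrimeSpectrum.ext (Ideal.LiesOver.over (P := q₁) (p := q)).symm
  have hq₁ : (⟨q₁, inferInstance⟩ : PrimeSpectrum S₁) ∈ suppOver S₁ p₁ N₁ :=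
    (comap_mem_suppOver_iff p N g hX p₁ N₁ f hf _).1 (hq₁q ▸ hq)
  refine (exists_fibre_point_iff p₁ N₁ q₁ n).2 ⟨hq₁, ?_⟩
  rw [localDim_openEmbedding (isOpenEmbedding_suppOverMap p N g hX p₁ N₁ f hf) ⟨_, hq₁⟩, ← hloc]
  exact congrArg _ (Subtype.ext hq₁q)

/-- A standard shrinking of a complete dévissage at a point, from the elements. -/
theorem exists_shrinking
    (R S : Type u) [CommRing R] [CommRing S] [Algebra R S]
    (N : Type u) [AddCommGroup N] [Module S N]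
    (p : Ideal R) [p.IsPrime] (q : Ideal S) [q.IsPrime] (𝒟 : FlatCA.CompleteDevissage R S N p)
    (𝒜 : FlatCA.CompleteDevissageAt R S N p q 𝒟)
    (g : R) (hg : g ∉ p) (hX : S) (hqX : hX ∉ q) (b₀ : ∀ i, 𝒟.B i) (hd : ShrinkData 𝒟 g hX b₀)
    (hb : ∀ i, i < 𝒟.n → b₀ i ∉ 𝒜.qB i) :
      ∃ (_ : Algebra (Localization.Away g) (Localization.Away hX)) (_ : IsScalarTower R (Localization.Away g) (Localization.Away hX))
        (_ : Module (Localization.Away g) (LocalizedModule (Submonoid.powers hX) N)) (_ : IsScalarTower (Localization.Away g) (Localization.Away hX) (LocalizedModule (Submonoid.powers hX) N))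
        (_ : (Ideal.map (algebraMap R (Localization.Away g)) p).IsPrime) (_ : (Ideal.map (algebraMap S (Localization.Away hX)) q).IsPrime)
        (𝒟' : FlatCA.CompleteDevissage (Localization.Away g) (Localization.Away hX) (LocalizedModule (Submonoid.powers hX) N) (Ideal.map (algebraMap R (Localization.Away g)) p))
        (𝒜' : FlatCA.CompleteDevissageAt (Localization.Away g) (Localization.Away hX) (LocalizedModule (Submonoid.powers hX) N) (Ideal.map (algebraMap R (Localization.Away g)) p) (Ideal.map (algebraMap S (Localization.Away hX)) q) 𝒟')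
        (a : ∀ i : Fin 𝒟.n, 𝒟.A i) (b : ∀ i : Fin 𝒟.n, 𝒟.B i)
      (aA : ∀ i : Fin 𝒟.n, Algebra (𝒟.A i) (𝒟'.A i)) (rA : ∀ i : Fin 𝒟.n, Algebra R (𝒟'.A i))
      (_t1 : ∀ i : Fin 𝒟.n, IsScalarTower R (Localization.Away g) (𝒟'.A i)) (_t2 : ∀ i : Fin 𝒟.n, IsScalarTower R (𝒟.A i) (𝒟'.A i))
      (aB : ∀ i : Fin 𝒟.n, Algebra (𝒟.B i) (𝒟'.B i)) (rB : ∀ i : Fin 𝒟.n, Algebra R (𝒟'.B i))
      (_t3 : ∀ i : Fin 𝒟.n, IsScalarTower R (Localization.Away g) (𝒟'.B i)) (_t4 : ∀ i : Fin 𝒟.n, IsScalarTower R (𝒟.B i) (𝒟'.B i))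
      (bA : ∀ i : Fin 𝒟.n, Algebra (𝒟.B i) (𝒟'.A i)) (_t5 : ∀ i : Fin 𝒟.n, IsScalarTower (𝒟.B i) (𝒟.A i) (𝒟'.A i))
      (_t6 : ∀ i : Fin 𝒟.n, IsScalarTower (𝒟.B i) (𝒟'.B i) (𝒟'.A i))
      (bA' : ∀ i : Fin 𝒟.n, Algebra (𝒟.B i) (𝒟'.A (i + 1)))
      (_t7 : ∀ i : Fin 𝒟.n, IsScalarTower (𝒟.B i) (𝒟'.B i) (𝒟'.A (i + 1)))
      (sA : Algebra S (𝒟'.A 0)) (_t8 : IsScalarTower S (Localization.Away hX) (𝒟'.A 0))
      (mA : ∀ i : Fin 𝒟.n, Module (𝒟.A i) (𝒟'.M i)) (_t9 : ∀ i : Fin 𝒟.n, IsScalarTower (𝒟.A i) (𝒟'.A i) (𝒟'.M i))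
      (gM : ∀ i : Fin 𝒟.n, 𝒟.M i →ₗ[𝒟.A i] 𝒟'.M i),
        𝒟'.n = 𝒟.n ∧ 𝒟'.r = 𝒟.r ∧ 𝒜'.d = 𝒜.d ∧
        (letI := aA ⟨0, 𝒟.pos⟩; IsScalarTower S (𝒟.A 0) (𝒟'.A 0)) ∧
      (∀ x : N, 𝒟'.isoN (LocalizedModule.mkLinearMap (Submonoid.powers hX) N x) = gM ⟨0, 𝒟.pos⟩ (𝒟.isoN x)) ∧
      (∀ (i : Fin 𝒟.n) (h : (i : ℕ) + 1 < 𝒟.n),
        letI := aA ⟨i + 1, h⟩; IsScalarTower (𝒟.B i) (𝒟.A (i + 1)) (𝒟'.A (i + 1))) ∧
      (∀ i : Fin 𝒟.n, b i = b₀ i) ∧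
        ∀ i : Fin 𝒟.n,
          a i ∉ 𝒜.qA i ∧ b i ∉ 𝒜.qB i ∧
          IsLocalization.Away (a i) (𝒟'.A i) ∧ IsLocalization.Away (b i) (𝒟'.B i) ∧
          IsLocalizedModule (Submonoid.powers (a i)) (gM i) ∧
          (𝒜'.qA i).LiesOver (𝒜.qA i) ∧ (𝒜'.qB i).LiesOver (𝒜.qB i) ∧
          LinearMap.range (𝒟'.α i) =
            Submodule.span (𝒟'.B i) ((gM i) '' (LinearMap.range (𝒟.α i) : Set (𝒟.M i))) := by
  classical
  have hgX : IsUnit (algebraMap R (Localization.Away hX) g) := by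
    rw [IsScalarTower.algebraMap_apply R S (Localization.Away hX)]
    exact isUnit_of_dvd_unit (map_dvd _ hd.dvdX) (IsLocalization.Away.algebraMap_isUnit hX)
  letI a1 := awayAlg g (Localization.Away g) (Localization.Away hX) hgX
  haveI t1 := awayAlg_tower g (Localization.Away g) (Localization.Away hX) hgX
  letI m1 : Module (Localization.Away g) (LocalizedModule (Submonoid.powers hX) N) :=
    Module.compHom _ (algebraMap (Localization.Away g) (Localization.Away hX))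
  haveI tm : IsScalarTower (Localization.Away g) (Localization.Away hX) (LocalizedModule (Submonoid.powers hX) N) :=
    IsScalarTower.of_algebraMap_smul fun _ _ => rfl
  obtain ⟨hp₁, hp₁c⟩ := map_away_isPrime (A₁ := Localization.Away g) g p hg
  obtain ⟨hq₁, hq₁c⟩ := map_away_isPrime (A₁ := Localization.Away hX) hX q hqX
  haveI := hp₁
  haveI := hq₁
  let p₁ := p.map (algebraMap R (Localization.Away g))
  let q₁ := q.map (algebraMap S (Localization.Away hX))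
  haveI hp₁o : p₁.LiesOver p := ⟨hp₁c.symm⟩
  obtain ⟨𝒟', aA, rA, u1, u2, aB, rB, u3, u4, bA, u5, u6, bA', u7, sA, u8, mA, u9, gM, hn, hr, htail, ht0, hN, hstep, hall⟩ :=
    hasShrunkDevissage p₁ 𝒟 hd (S₁ := Localization.Away hX) (LocalizedModule.mkLinearMap (Submonoid.powers hX) N)
      (IsLocalizedModule.isBaseChange (Submonoid.powers hX) _ _)
  haveI := 𝒜.hqA
  haveI := 𝒜.hqB
  haveI := 𝒜.overA
  haveI := 𝒜.overB
  let a : ∀ i : Fin 𝒟.n, 𝒟.A i := fun i => algebraMap (𝒟.B i) (𝒟.A i) (b₀ i)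
  have ha : ∀ i : Fin 𝒟.n, a i ∉ 𝒜.qA i := fun i hm =>
    hb i i.2 ((SetLike.ext_iff.1 (Ideal.LiesOver.over (P := 𝒜.qA i) (p := 𝒜.qB i)) _).2 hm)
  have hexA : ∀ i, ∃ (Q : Ideal (𝒟'.A i)) (P : Ideal (𝒟'.B i)), Q.IsPrime ∧ P.IsPrime ∧ P.LiesOver p₁ ∧
      Q.LiesOver P ∧ ∀ h : i < 𝒟.n,
        (letI := aA ⟨i, h⟩; Q.LiesOver (𝒜.qA i)) ∧ (letI := aB ⟨i, h⟩; P.LiesOver (𝒜.qB i)) := by
    intro i
    by_cases h : i < 𝒟.n
    swap
    · obtain ⟨P, Q, hP, hQ, hPo, hQP⟩ := htail i (not_lt.1 h)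
      exact ⟨Q, P, hQ, hP, hPo, hQP, fun h' => absurd h' h⟩
    obtain ⟨j, rfl⟩ : ∃ j : Fin 𝒟.n, (j : ℕ) = i := ⟨⟨i, h⟩, rfl⟩
    haveI : IsLocalization.Away (a j) (𝒟'.A j) := (hall j).1
    obtain ⟨hQ, hQc⟩ := map_away_isPrime (A₁ := 𝒟'.A j) (a j) (𝒜.qA j) (ha j)
    haveI := hQ
    let Q := (𝒜.qA j).map (algebraMap (𝒟.A j) (𝒟'.A j))
    have hQB : (Q.comap (algebraMap (𝒟'.B j) (𝒟'.A j))).comap (algebraMap (𝒟.B j) (𝒟'.B j)) = 𝒜.qB j := by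
      rw [Ideal.comap_comap, ← IsScalarTower.algebraMap_eq (𝒟.B j) (𝒟'.B j) (𝒟'.A j),
        IsScalarTower.algebraMap_eq (𝒟.B j) (𝒟.A j) (𝒟'.A j), ← Ideal.comap_comap, hQc]
      exact (Ideal.LiesOver.over (P := 𝒜.qA j) (p := 𝒜.qB j)).symm
    refine ⟨Q, Q.comap (algebraMap (𝒟'.B j) (𝒟'.A j)), hQ, inferInstance, ?_, ⟨rfl⟩,
      fun _ => ⟨⟨hQc.symm⟩, ⟨hQB.symm⟩⟩⟩
    refine liesOver_away g p p₁ _ ?_
    rw [IsScalarTower.algebraMap_eq R (𝒟.B j) (𝒟'.B j), ← Ideal.comap_comap, hQB]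
    exact (Ideal.LiesOver.over (P := 𝒜.qB j) (p := p)).symm
  choose qA qB hqA hqB hqBp hqAB hover using hexA
  haveI := hqA
  haveI := hqB
  haveI := hqBp
  haveI := hqAB
  have hlt : ∀ {i}, i < 𝒟'.n → i < 𝒟.n := fun h => hn ▸ h
  refine ⟨a1, t1, m1, tm, hp₁, hq₁, 𝒟',
    { qB := qB
      qA := qA
      pureTrans := fun i hi => ?_
      uniq := fun i hi Q _ hQ => ?_
      q0 := ?_
      qStep := fun i hi => ?_
      d := 𝒜.d
      relDim := fun i hi => ?_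
      locDim := fun i hi => ?_ },
    a, fun i => b₀ i, aA, rA, u1, u2, aB, rB, u3, u4, bA, u5, u6, bA', u7, sA, u8, mA, u9, gM, hn, hr, rfl, ht0, hN, hstep,
    fun _ => rfl, fun i => ⟨ha i, hb i i.2, (hall i).1, (hall i).2.1, ?_, (hover i i.2).1, (hover i i.2).2, (hall i).2.2.2⟩⟩
  · obtain ⟨j, rfl⟩ : ∃ j : Fin 𝒟.n, (j : ℕ) = i := ⟨⟨i, hlt hi⟩, rfl⟩
    haveI := (hover j j.2).2
    haveI := (hall j).2.1
    exact purelyTranscendental_away (D := 𝒟.B j) (D₁ := 𝒟'.B j) g (b₀ j) p (𝒜.qB j) p₁ (qB j) (𝒜.pureTrans j j.2)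
  · obtain ⟨j, rfl⟩ : ∃ j : Fin 𝒟.n, (j : ℕ) = i := ⟨⟨i, hlt hi⟩, rfl⟩
    haveI : IsLocalization.Away (a j) (𝒟'.A j) := (hall j).1
    haveI := hQ
    haveI := (hover j j.2).1
    haveI := (hover j j.2).2
    haveI : (Q.comap (algebraMap (𝒟.A j) (𝒟'.A j))).LiesOver (𝒜.qB j) := ⟨by
      rw [Ideal.under_def, Ideal.comap_comap, ← IsScalarTower.algebraMap_eq (𝒟.B j) (𝒟.A j) (𝒟'.A j),
        IsScalarTower.algebraMap_eq (𝒟.B j) (𝒟'.B j) (𝒟'.A j), ← Ideal.comap_comap,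
        ← Ideal.under_def (A := 𝒟'.B j) Q, ← hQ.over, ← Ideal.under_def]
      exact Ideal.LiesOver.over⟩
    exact eq_of_away (a j) Q (qA j) ((𝒜.uniq j j.2 (Q.comap (algebraMap (𝒟.A j) (𝒟'.A j))) inferInstance).trans
      (Ideal.LiesOver.over (P := qA j) (p := 𝒜.qA j)))
  · letI := aA ⟨0, 𝒟.pos⟩
    haveI := ht0
    haveI := (hover 0 𝒟.pos).1
    refine eq_of_away hX _ q₁ ?_
    rw [hq₁c, Ideal.comap_comap, ← IsScalarTower.algebraMap_eq S (Localization.Away hX) (𝒟'.A 0),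
      IsScalarTower.algebraMap_eq S (𝒟.A 0) (𝒟'.A 0), ← Ideal.comap_comap, ← Ideal.under_def (A := 𝒟.A 0),
      ← (hover 0 𝒟.pos).1.over, 𝒜.q0]
  · obtain ⟨j, rfl⟩ : ∃ j : Fin 𝒟.n, (j : ℕ) = i := ⟨⟨i, hlt (Nat.lt_of_succ_lt hi)⟩, rfl⟩
    letI := aA ⟨j + 1, hlt hi⟩
    haveI := hstep j (hlt hi)
    haveI := (hall j).2.1
    haveI := (hover (j + 1) (hlt hi)).1
    haveI := (hover j j.2).2
    refine eq_of_away (b₀ j) _ (qB j) ?_
    rw [Ideal.comap_comap, ← IsScalarTower.algebraMap_eq (𝒟.B j) (𝒟'.B j) (𝒟'.A (j + 1)),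
      IsScalarTower.algebraMap_eq (𝒟.B j) (𝒟.A (j + 1)) (𝒟'.A (j + 1)), ← Ideal.comap_comap,
      ← Ideal.under_def (A := 𝒟.A (j + 1)), ← (hover (j + 1) (hlt hi)).1.over, 𝒜.qStep j (hlt hi)]
    exact (hover j j.2).2.over
  · obtain ⟨j, rfl⟩ : ∃ j : Fin 𝒟.n, (j : ℕ) = i := ⟨⟨i, hlt hi⟩, rfl⟩
    haveI := (hall j).2.1
    exact smoothRelDim_away (D := 𝒟.B j) (D₁ := 𝒟'.B j) (𝒜.relDim j j.2) g (b₀ j)
  · obtain ⟨j, rfl⟩ : ∃ j : Fin 𝒟.n, (j : ℕ) = i := ⟨⟨i, hlt hi⟩, rfl⟩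
    haveI := (hall j).2.1
    haveI : IsLocalization.Away (a j) (𝒟'.A j) := (hall j).1
    haveI : IsLocalization.Away (algebraMap (𝒟.B j) (𝒟.A j) (b₀ j)) (𝒟'.A j) := (hall j).1
    haveI := (hover j j.2).2
    haveI : Algebra.IsPushout (𝒟.B j) (𝒟'.B j) (𝒟.A j) (𝒟'.A j) :=
      isPushout_of_away_map (b₀ j) (algebraMap (𝒟.B j) (𝒟.A j) (b₀ j)) rfl (𝒟'.B j) (𝒟'.A j)
    haveI : Algebra.IsPushout (𝒟.B j) (𝒟.A j) (𝒟'.B j) (𝒟'.A j) := Algebra.IsPushout.symm inferInstance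
    haveI := 𝒟.finiteBA j j.2
    haveI := 𝒟.finiteM j j.2
    haveI : Module.Finite (𝒟.B j) (𝒟.M j) := Module.Finite.trans (𝒟.A j) (𝒟.M j)
    letI : Module (𝒟.B j) (𝒟'.M j) := Module.compHom _ (algebraMap (𝒟.B j) (𝒟'.B j))
    haveI : IsScalarTower (𝒟.B j) (𝒟'.B j) (𝒟'.M j) := IsScalarTower.of_algebraMap_smul fun _ _ => rfl
    haveI : IsScalarTower (𝒟.B j) (𝒟.A j) (𝒟'.M j) := IsScalarTower.of_algebraMap_smul fun b x => by
      show algebraMap (𝒟.B j) (𝒟.A j) b • x = algebraMap (𝒟.B j) (𝒟'.B j) b • x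
      rw [← algebraMap_smul (𝒟'.A j) (algebraMap (𝒟.B j) (𝒟.A j) b) x, ← IsScalarTower.algebraMap_apply,
        IsScalarTower.algebraMap_apply (𝒟.B j) (𝒟'.B j) (𝒟'.A j), algebraMap_smul]
    have hfb := isBaseChange_restrict (B := 𝒟.B j) (B' := 𝒟'.B j) (gM j) (hall j).2.2.1
    haveI : Module.Finite (𝒟'.B j) (𝒟'.M j) := Module.Finite.equiv hfb.equiv
    exact exists_fibre_point_away (S := 𝒟.B j) (S₁ := 𝒟'.B j) g (b₀ j) p p₁ (𝒟.M j) (𝒟'.M j)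
      ((gM j).restrictScalars (𝒟.B j)) hfb (𝒜.qB j) (qB j) (𝒜.locDim j j.2)
  · haveI := (hall i).1
    exact (isLocalizedModule_iff_isBaseChange (Submonoid.powers (a i)) (𝒟'.A i) (gM i)).2 (hall i).2.2.1

end Groth.Agent.RG
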