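import Groth.Prelude.Def_Hens2
import Mathlib.AlgebraicGeometry.Geometrically.Connected
import Mathlib.AlgebraicGeometry.Morphisms.Etale
import Mathlib.AlgebraicGeometry.Geometrically.Reduced

/-!
# Elementary étale neighbourhoods and geometric connectedness of open subschemes
-/

set_option autoImplicit false
set_option backward.isDefEq.respectTransparency false
set_option backward.isDefEq.respectTransparency.types false

open AlgebraicGeometry CategoryTheory CategoryTheory.Limits

namespace Groth.Agent.RG.GC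

universe u

theorem isEtaleNbhd_comp {U' U S : Scheme.{u}} {g : U ⟶ S} {g' : U' ⟶ U} {u' : U'} {u : U} {s : S}
    (hg : Hens2.IsEtaleNbhd g u s) (hg' : Hens2.IsEtaleNbhd g' u' u) :
    Hens2.IsEtaleNbhd (g' ≫ g) u' s := by
  have := hg.etale
  have := hg'.etale
  have hu : g' u' = u := hg'.base_eq
  refine ⟨inferInstance, ?_, ?_⟩
  · show (g' ≫ g) u' = s
    rw [Scheme.Hom.comp_apply, hu]
    exact hg.base_eq
  · rw [Scheme.residueFieldMap_comp]
    refine hg'.residue_bijective.comp ?_
    subst hu
    exact hg.residue_bijective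

theorem isEtaleNbhd_openImmersion {U S : Scheme.{u}} (g : U ⟶ S) [IsOpenImmersion g] (u : U) (s : S)
    (h : g u = s) : Hens2.IsEtaleNbhd g u s :=
  ⟨inferInstance, h, ConcreteCategory.bijective_of_isIso (g.residueFieldMap u)⟩

theorem isConnected_preimage_iff {Z Z' : Scheme.{u}} (V : Z.Opens) (p : Z' ⟶ Z) :
    ConnectedSpace ↥(pullback p V.ι) ↔ _root_.IsConnected (p ⁻¹' (V : Set Z)) := by
  rw [(pullbackRestrictIsoRestrict p V).hom.homeomorph.connectedSpace_iff, isConnected_iff_connectedSpace]
  exact Iff.rfl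

theorem geometricallyConnected_opens_iff {Z S : Scheme.{u}} (h : Z ⟶ S) (V : Z.Opens) :
    GeometricallyConnected (V.ι ≫ h) ↔
      ∀ (K : Type u) [Field K] (x : Spec (CommRingCat.of K) ⟶ S),
        _root_.IsConnected (pullback.fst h x ⁻¹' (V : Set Z)) := by
  rw [geometricallyConnected_iff, geometrically_iff_of_isClosedUnderIsomorphisms]
  refine forall_congr' fun K => forall_congr' fun _ => forall_congr' fun x => ?_
  rw [← (pullbackRightPullbackFstIso h x V.ι).hom.homeomorph.connectedSpace_iff,
    (pullbackSymmetry V.ι (pullback.fst h x)).hom.homeomorph.connectedSpace_iff, isConnected_preimage_iff]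

theorem connectedSpace_fiber_bc {Y S S' : Scheme.{u}} (h : Y ⟶ S) (g : S' ⟶ S) (t : S') (s : S) (ht : g t = s)
    (hconn : ∀ (K : Type u) [Field K] (x : Spec (CommRingCat.of K) ⟶ S), (∀ a, x a = s) →
      ConnectedSpace ↥(pullback h x)) :
    _root_.IsConnected ((pullback.snd h g) ⁻¹' {t}) := by
  have h1 : ConnectedSpace ↥(pullback h (S'.fromSpecResidueField t ≫ g)) :=
    hconn (S'.residueField t) _ fun a => by
      exact (congrArg g (Scheme.fromSpecResidueField_apply t a)).trans ht
  haveI : ConnectedSpace ↥((pullback.snd h g).fiber t) :=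
    (pullbackLeftPullbackSndIso h g (S'.fromSpecResidueField t)).hom.homeomorph.connectedSpace_iff.mpr h1
  rw [← Scheme.Hom.range_fiberι, ← Set.image_univ]
  exact isConnected_univ.image _ ((pullback.snd h g).fiberι t).continuous.continuousOn

theorem geometricallyReduced_comp_openImmersion {U X S : Scheme.{u}} (j : U ⟶ X) [IsOpenImmersion j]
    (f : X ⟶ S) [GeometricallyReduced f] : GeometricallyReduced (j ≫ f) := by
  refine ⟨geometrically_iff_of_isClosedUnderIsomorphisms.mpr fun K _ y => ?_⟩
  haveI : AlgebraicGeometry.IsReduced (pullback f y) :=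
    pullback_of_geometrically (GeometricallyReduced.geometrically_isReduced (f := f)) K y
  haveI : AlgebraicGeometry.IsReduced (pullback j (pullback.fst f y)) :=
    isReduced_of_isOpenImmersion (pullback.snd j (pullback.fst f y))
  exact isReduced_of_isOpenImmersion (pullbackRightPullbackFstIso f y j).inv

theorem isPullback_comp_mono {P A B C D : Scheme.{u}} {p : P ⟶ A} {q : P ⟶ B} {a : A ⟶ C} {b : B ⟶ C}
    (h : IsPullback p q a b) (m : C ⟶ D) [Mono m] : IsPullback p q (a ≫ m) (b ≫ m) :=
  have key : ∀ s : PullbackCone (a ≫ m) (b ≫ m), s.fst ≫ a = s.snd ≫ b := fun s => by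
    rw [← cancel_mono m, Category.assoc, Category.assoc]
    exact s.condition
  ⟨⟨by rw [← Category.assoc, ← Category.assoc, h.w]⟩,
    ⟨PullbackCone.IsLimit.mk _ (fun s => h.lift s.fst s.snd (key s)) (fun s => h.lift_fst _ _ _)
      (fun s => h.lift_snd _ _ _)
      (fun s l h₁ h₂ => h.hom_ext (h₁.trans (h.lift_fst _ _ _).symm) (h₂.trans (h.lift_snd _ _ _).symm))⟩⟩

theorem range_of_isPullback {P A B C : Scheme.{u}} {p : P ⟶ A} {q : P ⟶ B} {a : A ⟶ C} {b : B ⟶ C}
    (h : IsPullback p q a b) : Set.range q = b ⁻¹' Set.range a := by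
  refine subset_antisymm ?_ fun y hy => ?_
  · rintro _ ⟨x, rfl⟩
    exact ⟨p x, by rw [← Scheme.Hom.comp_apply, h.w, Scheme.Hom.comp_apply]⟩
  · obtain ⟨x, hx⟩ := hy
    obtain ⟨w, -, hw⟩ := Scheme.Pullback.exists_preimage_pullback (f := a) (g := b) x y hx
    exact ⟨h.isoPullback.inv w, by rw [← Scheme.Hom.comp_apply, h.isoPullback_inv_snd]; exact hw⟩

end Groth.Agent.RG.GC
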