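import Groth.Agent.RG.StepSpace
import Groth.Agent.RG.GCBase
import Groth.Agent.IntBC.Branch
import Mathlib.RingTheory.Spectrum.Prime.Chevalley

/-!
# Standard shrinkings of one-step dévissages
-/

set_option autoImplicit false
set_option linter.style.haveILetI false
set_option linter.unusedSectionVars false
set_option backward.isDefEq.respectTransparency false
set_option backward.isDefEq.respectTransparency.types false
set_option maxHeartbeats 1000000

universe u

open TensorProduct AlgebraicGeometry CategoryTheory CategoryTheory.Limits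

namespace Groth.Agent.RG

/-- A ring is a base change of itself along an identity. -/
theorem isPushout_self (A A₁ : Type u) [CommRing A] [CommRing A₁] [Algebra A A₁] : Algebra.IsPushout A A₁ A A₁ :=
  ⟨IsBaseChange.linearMap A A₁⟩

/-- Over a localisation of the base an algebra is its own base change. -/
theorem isPushout_of_away (R R₁ A₁ : Type u) [CommRing R] [CommRing R₁] [CommRing A₁] [Algebra R R₁] [Algebra R₁ A₁]
    [Algebra R A₁] [IsScalarTower R R₁ A₁] (g : R) [IsLocalization.Away g R₁] :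
    Algebra.IsPushout R R₁ A₁ A₁ := by
  haveI : IsLocalization (Algebra.algebraMapSubmonoid A₁ (Submonoid.powers g)) A₁ :=
    IsLocalization.self (by
      rintro _ ⟨_, ⟨k, rfl⟩, rfl⟩
      show IsUnit (algebraMap R A₁ (g ^ k))
      rw [IsScalarTower.algebraMap_apply R R₁ A₁, map_pow]
      exact ((IsLocalization.Away.algebraMap_isUnit g).pow k).map _)
  exact (Algebra.isPushout_of_isLocalization (Submonoid.powers g) R₁ A₁ A₁).symm

/-- A localisation of a smooth algebra at one element is smooth of the same relative dimension. -/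
theorem smoothRelDim_away {R D : Type u} [CommRing R] [CommRing D] [Algebra R D] {n : ℕ}
    (h : FlatCA.SmoothRelDim n R D) {R₁ D₁ : Type u} [CommRing R₁] [CommRing D₁] [Algebra R R₁] [Algebra R₁ D₁]
    [Algebra R D₁] [Algebra D D₁] [IsScalarTower R R₁ D₁] [IsScalarTower R D D₁] (g : R) [IsLocalization.Away g R₁]
    (w : D) [IsLocalization.Away w D₁] : FlatCA.SmoothRelDim n R₁ D₁ := by
  haveI := isPushout_of_away R R₁ D₁ g
  refine smoothRelDim_baseChange R R₁ D₁ D₁ ?_
  haveI : IsOpenImmersion (Spec.map (CommRingCat.ofHom (algebraMap D D₁))) := IsOpenImmersion.of_isLocalization w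
  show SmoothOfRelativeDimension n (Spec.map (CommRingCat.ofHom (algebraMap R D₁)))
  rw [IsScalarTower.algebraMap_eq R D D₁, CommRingCat.ofHom_comp, Spec.map_comp]
  exact IsZariskiLocalAtSource.comp (P := @SmoothOfRelativeDimension n) h _

/-- An open subscheme meeting every fibre keeps geometrically irreducible fibres. -/
theorem geometricallyIrreducible_open {Y₁ Y S₁ S : Scheme.{u}} {h₁ : Y₁ ⟶ S₁} {h : Y ⟶ S} {j : Y₁ ⟶ Y} {e : S₁ ⟶ S}
    [IsOpenImmersion j] [Mono e] [GeometricallyIrreducible h] (hcomm : h₁ ≫ e = j ≫ h)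
    (hne : ∀ s : S₁, ∃ y : Y₁, h₁ y = s) : GeometricallyIrreducible h₁ := by
  refine ⟨fun K _ x Z fst snd hsq => ?_⟩
  have hsq' : IsPullback fst snd (j ≫ h) (x ≫ e) := hcomm ▸ GC.isPullback_comp_mono hsq e
  let P := pullback h (x ≫ e)
  haveI : IrreducibleSpace P := GeometricallyIrreducible.geometrically_irreducibleSpace
    (f := h) (x ≫ e) _ _ (IsPullback.of_hasPullback h (x ≫ e))
  let θ : Z ⟶ P := pullback.lift (fst ≫ j) snd (by rw [Category.assoc]; exact hsq'.w)
  have hθ : IsPullback fst θ j (pullback.fst h (x ≫ e)) :=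
    IsPullback.of_bot (h₁₁ := fst) (v₁₁ := θ) (by simpa [θ] using hsq') (by simp [θ])
      (IsPullback.of_hasPullback h (x ≫ e))
  haveI : IsOpenImmersion θ := MorphismProperty.of_isPullback (P := @IsOpenImmersion) hθ inferInstance
  haveI : Nonempty Z := by
    obtain ⟨y, hy⟩ := hne (x (IsLocalRing.closedPoint K))
    obtain ⟨t, -, -⟩ := Scheme.Pullback.exists_preimage_pullback (f := h₁) (g := x) y (IsLocalRing.closedPoint K) hy
    exact ⟨hsq.isoPullback.inv t⟩
  have hirr : IsPreirreducible (Set.range θ) :=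
    (PreirreducibleSpace.isPreirreducible_univ (X := P)).open_subset θ.isOpenEmbedding.isOpen_range (Set.subset_univ _)
  haveI : IrreducibleSpace (Set.range θ) := Subtype.irreducibleSpace ⟨Set.range_nonempty _, hirr⟩
  exact θ.isOpenEmbedding.isEmbedding.toHomeomorph.irreducibleSpace_iff.2 inferInstance

/-- The fibres of a standard open meeting all of them stay geometrically irreducible. -/
theorem geomIrredFibres_away {R D : Type u} [CommRing R] [CommRing D] [Algebra R D]
    (h : FlatCA.GeomIrredFibres R D) {R₁ D₁ : Type u} [CommRing R₁] [CommRing D₁] [Algebra R R₁] [Algebra R₁ D₁]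
    [Algebra R D₁] [Algebra D D₁] [IsScalarTower R R₁ D₁] [IsScalarTower R D D₁] (g : R) [IsLocalization.Away g R₁]
    (w : D) [IsLocalization.Away w D₁]
    (hne : ∀ t : PrimeSpectrum R, g ∉ t.asIdeal →
      ∃ Q : PrimeSpectrum D, w ∉ Q.asIdeal ∧ PrimeSpectrum.comap (algebraMap R D) Q = t) :
    FlatCA.GeomIrredFibres R₁ D₁ := by
  haveI : IsOpenImmersion (Spec.map (CommRingCat.ofHom (algebraMap D D₁))) := IsOpenImmersion.of_isLocalization w
  haveI : IsOpenImmersion (Spec.map (CommRingCat.ofHom (algebraMap R R₁))) := IsOpenImmersion.of_isLocalization g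
  haveI : GeometricallyIrreducible (Spec.map (CommRingCat.ofHom (algebraMap R D))) := h
  refine geometricallyIrreducible_open (j := Spec.map (CommRingCat.ofHom (algebraMap D D₁)))
    (h := Spec.map (CommRingCat.ofHom (algebraMap R D))) (e := Spec.map (CommRingCat.ofHom (algebraMap R R₁))) ?_ ?_
  · rw [← Spec.map_comp, ← Spec.map_comp, ← CommRingCat.ofHom_comp, ← CommRingCat.ofHom_comp,
      ← IsScalarTower.algebraMap_eq, ← IsScalarTower.algebraMap_eq]
  · intro s
    have hgs : g ∉ (PrimeSpectrum.comap (algebraMap R R₁) s).asIdeal := fun hg =>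
      s.2.ne_top (Ideal.eq_top_of_isUnit_mem _ hg (IsLocalization.Away.algebraMap_isUnit g))
    obtain ⟨Q, hQw, hQ⟩ := hne _ hgs
    obtain ⟨Q₁, rfl⟩ : Q ∈ Set.range (PrimeSpectrum.comap (algebraMap D D₁)) := by
      rw [PrimeSpectrum.localization_away_comap_range D₁ w]; exact hQw
    refine ⟨Q₁, PrimeSpectrum.localization_comap_injective R₁ (Submonoid.powers g) ?_⟩
    rw [← hQ]
    show PrimeSpectrum.comap _ (PrimeSpectrum.comap (algebraMap R₁ D₁) Q₁) = _
    rw [← PrimeSpectrum.comap_comp_apply, ← PrimeSpectrum.comap_comp_apply, ← IsScalarTower.algebraMap_eq,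
      ← IsScalarTower.algebraMap_eq]

/-- A standard open around a point of a smooth algebra meets the fibres near the base point. -/
theorem exists_fibres_meet {R D : Type u} [CommRing R] [CommRing D] [Algebra R D] [Module.Flat R D]
    [Algebra.FinitePresentation R D] (p : Ideal R) [p.IsPrime] (y : Ideal D) [y.IsPrime] [y.LiesOver p] {w : D}
    (hw : w ∉ y) :
    ∃ g ∉ p, ∀ t : PrimeSpectrum R, g ∉ t.asIdeal →
      ∃ Q : PrimeSpectrum D, w * algebraMap R D g ∉ Q.asIdeal ∧ PrimeSpectrum.comap (algebraMap R D) Q = t := by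
  have hopen := PrimeSpectrum.isOpenMap_comap_of_hasGoingDown_of_finitePresentation (R := R) (S := D) _
    (PrimeSpectrum.isOpen_basicOpen (a := w))
  obtain ⟨_, ⟨g, rfl⟩, hpg, hsub⟩ := PrimeSpectrum.isTopologicalBasis_basic_opens.exists_subset_of_mem_open
    (a := (⟨p, inferInstance⟩ : PrimeSpectrum R))
    (show (⟨p, inferInstance⟩ : PrimeSpectrum R) ∈ PrimeSpectrum.comap (algebraMap R D) '' (PrimeSpectrum.basicOpen w) from
      ⟨⟨y, inferInstance⟩, hw, PrimeSpectrum.ext (Ideal.LiesOver.over (P := y) (p := p)).symm⟩) hopen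
  refine ⟨g, hpg, fun t ht => ?_⟩
  obtain ⟨Q, hQw, hQt⟩ := hsub (show t ∈ (PrimeSpectrum.basicOpen g : Set (PrimeSpectrum R)) from ht)
  refine ⟨Q, fun hm => (Q.2.mem_or_mem hm).elim hQw fun hg => ht ?_, hQt⟩
  rw [← hQt]
  exact hg

/-- Points of a standard open. -/
theorem map_away_isPrime {A A₁ : Type u} [CommRing A] [CommRing A₁] [Algebra A A₁] (a : A) [IsLocalization.Away a A₁]
    (P : Ideal A) [P.IsPrime] (ha : a ∉ P) :
    (P.map (algebraMap A A₁)).IsPrime ∧ (P.map (algebraMap A A₁)).comap (algebraMap A A₁) = P := by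
  have hd : Disjoint (Submonoid.powers a : Set A) P :=
    (Ideal.disjoint_powers_iff_notMem _ (Ideal.IsPrime.isRadical ‹P.IsPrime›)).2 ha
  exact ⟨IsLocalization.isPrime_of_isPrime_disjoint (Submonoid.powers a) A₁ P ‹_› hd,
    IsLocalization.comap_map_of_isPrime_disjoint (Submonoid.powers a) A₁ ‹_› hd⟩

variable {R S C D R₁ S₁ C₁ D₁ : Type u} [CommRing R] [CommRing S] [CommRing C] [CommRing D] [CommRing R₁] [CommRing S₁]
  [CommRing C₁] [CommRing D₁] [Algebra R S] [Algebra R C] [Algebra R D] [Algebra S C] [Algebra D C]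
  [IsScalarTower R S C] [IsScalarTower R D C]
  [Algebra R R₁] [Algebra S S₁] [Algebra C C₁] [Algebra D D₁] [Algebra R₁ S₁] [Algebra R₁ C₁] [Algebra R₁ D₁]
  [Algebra S₁ C₁] [Algebra D₁ C₁] [IsScalarTower R₁ S₁ C₁] [IsScalarTower R₁ D₁ C₁]
  [Algebra R S₁] [IsScalarTower R R₁ S₁] [IsScalarTower R S S₁]
  [Algebra R D₁] [IsScalarTower R R₁ D₁] [IsScalarTower R D D₁]
  [Algebra S C₁] [IsScalarTower S S₁ C₁] [IsScalarTower S C C₁]
  [Algebra D C₁] [IsScalarTower D D₁ C₁] [IsScalarTower D C C₁]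

/-- Standard shrinking of a pointed one-step dévissage. -/
theorem oneStep_shrink [Algebra.FiniteType R S]
    (N : Type u) [AddCommGroup N] [Module S N] [Module R N] [IsScalarTower R S N] [Module.Finite S N]
    (p : Ideal R) [p.IsPrime] (q : Ideal S) [q.IsPrime] [q.LiesOver p]
    (G : Type u) [AddCommGroup G] [Module C G] [Module S G] [IsScalarTower S C G] {n : ℕ}
    (h : FlatCA.IsOneStepDevissage R S N p C D G n)
    (z : Ideal C) [z.IsPrime] (y : Ideal D) [y.IsPrime] [z.LiesOver q] [z.LiesOver y] [y.LiesOver p]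
    (h1 : ∃ (ξ : PrimeSpectrum (p.Fiber S)) (hξ : ξ ∈ Module.support (p.Fiber S) (FlatCA.fiberMod p S N)),
      ξ.asIdeal = FlatCA.fiberIdeal p q ∧
      FlatMor.localDim (Module.support (p.Fiber S) (FlatCA.fiberMod p S N)) ⟨ξ, hξ⟩ = n)
    (h3 : ∀ (z₁ : Ideal C) [z₁.IsPrime], z₁.LiesOver y → z₁ = z)
    (h4 : FlatCA.PurelyTranscendental p y)
    (g : R) (hX : S) (hY : D) (hZ : C) [IsLocalization.Away g R₁] [IsLocalization.Away hX S₁]
    [IsLocalization.Away hY D₁] [IsLocalization.Away hZ C₁]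
    (hXZ : algebraMap S C hX = hZ) (hYZ : algebraMap D C hY = hZ)
    (hne : ∀ t : PrimeSpectrum R, g ∉ t.asIdeal →
      ∃ Q : PrimeSpectrum D, hY ∉ Q.asIdeal ∧ PrimeSpectrum.comap (algebraMap R D) Q = t)
    (N₁ : Type u) [AddCommGroup N₁] [Module S₁ N₁] [Module R₁ N₁] [IsScalarTower R₁ S₁ N₁] [Module S N₁]
    [IsScalarTower S S₁ N₁] (f : N →ₗ[S] N₁) (hf : IsBaseChange S₁ f)
    (G₁ : Type u) [AddCommGroup G₁] [Module C₁ G₁] [Module S₁ G₁] [IsScalarTower S₁ C₁ G₁] [Module C G₁]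
    [IsScalarTower C C₁ G₁] (γ : G →ₗ[C] G₁) (hγ : IsBaseChange C₁ γ)
    (p₁ : Ideal R₁) [p₁.IsPrime] (q₁ : Ideal S₁) [q₁.IsPrime] (z₁ : Ideal C₁) [z₁.IsPrime] (y₁ : Ideal D₁) [y₁.IsPrime]
    [hp₁ : p₁.LiesOver p] (hq₁ : q₁.comap (algebraMap S S₁) = q) (hz₁ : z₁.comap (algebraMap C C₁) = z)
    (hy₁ : y₁.comap (algebraMap D D₁) = y) [y₁.LiesOver p₁] :
    FlatCA.IsOneStepDevissage R₁ S₁ N₁ p₁ C₁ D₁ G₁ n ∧
    (∃ (ξ : PrimeSpectrum (p₁.Fiber S₁)) (hξ : ξ ∈ Module.support (p₁.Fiber S₁) (FlatCA.fiberMod p₁ S₁ N₁)),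
      ξ.asIdeal = FlatCA.fiberIdeal p₁ q₁ ∧
      FlatMor.localDim (Module.support (p₁.Fiber S₁) (FlatCA.fiberMod p₁ S₁ N₁)) ⟨ξ, hξ⟩ = n) ∧
    z₁.LiesOver q₁ ∧ z₁.LiesOver y₁ ∧
    (∀ (z₂ : Ideal C₁) [z₂.IsPrime], z₂.LiesOver y₁ → z₂ = z₁) ∧
    FlatCA.PurelyTranscendental p₁ y₁ := by
  obtain ⟨⟨e⟩, hsurj, hfp, hfin, hG, hsm, hirr, hdim⟩ := h
  haveI := hfp
  haveI := hfin
  haveI := hG
  haveI : Module.Finite S₁ N₁ := Module.Finite.equiv hf.equiv
  haveI := isPushout_self S S₁
  haveI := isPushout_self D D₁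
  haveI : IsLocalization (Algebra.algebraMapSubmonoid C (Submonoid.powers hX)) C₁ := by
    rw [Algebra.algebraMapSubmonoid_powers, hXZ]; infer_instance
  haveI hSC : Algebra.IsPushout S S₁ C C₁ := (Algebra.isPushout_of_isLocalization (Submonoid.powers hX) S₁ C C₁).symm
  haveI : IsLocalization (Algebra.algebraMapSubmonoid C (Submonoid.powers hY)) C₁ := by
    rw [Algebra.algebraMapSubmonoid_powers, hYZ]; infer_instance
  haveI hDC : Algebra.IsPushout D D₁ C C₁ := (Algebra.isPushout_of_isLocalization (Submonoid.powers hY) D₁ C C₁).symm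
  haveI hq₁p : q₁.LiesOver p₁ := ⟨by
    refine congrArg PrimeSpectrum.asIdeal (PrimeSpectrum.localization_comap_injective R₁ (Submonoid.powers g)
      (a₁ := (⟨p₁, inferInstance⟩ : PrimeSpectrum R₁))
      (a₂ := PrimeSpectrum.comap (algebraMap R₁ S₁) (⟨q₁, inferInstance⟩ : PrimeSpectrum S₁)) (PrimeSpectrum.ext ?_))
    simp only [PrimeSpectrum.comap_asIdeal]
    rw [Ideal.comap_comap, ← IsScalarTower.algebraMap_eq R R₁ S₁, IsScalarTower.algebraMap_eq R S S₁,
      ← Ideal.comap_comap, hq₁, ← Ideal.under_def, ← Ideal.under_def, ← Ideal.LiesOver.over (P := p₁) (p := p),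
      ← Ideal.LiesOver.over (P := q) (p := p)]⟩
  haveI : q₁.LiesOver q := ⟨hq₁.symm⟩
  obtain ⟨hd₁, hl₁⟩ := supportDim_shrink p N g hX p₁ N₁ f hf q q₁ hdim h1
  have hzS : z₁.comap (algebraMap S₁ C₁) = q₁ := congrArg PrimeSpectrum.asIdeal
    (PrimeSpectrum.localization_comap_injective S₁ (Submonoid.powers hX)
      (a₁ := PrimeSpectrum.comap (algebraMap S₁ C₁) ⟨z₁, inferInstance⟩) (a₂ := ⟨q₁, inferInstance⟩) (PrimeSpectrum.ext (by
        simp only [PrimeSpectrum.comap_asIdeal]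
        rw [hq₁, Ideal.comap_comap, ← IsScalarTower.algebraMap_eq S S₁ C₁, IsScalarTower.algebraMap_eq S C C₁,
          ← Ideal.comap_comap, hz₁]
        exact (Ideal.LiesOver.over (P := z) (p := q)).symm)))
  have hzD : z₁.comap (algebraMap D₁ C₁) = y₁ := congrArg PrimeSpectrum.asIdeal
    (PrimeSpectrum.localization_comap_injective D₁ (Submonoid.powers hY)
      (a₁ := PrimeSpectrum.comap (algebraMap D₁ C₁) ⟨z₁, inferInstance⟩) (a₂ := ⟨y₁, inferInstance⟩) (PrimeSpectrum.ext (by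
        simp only [PrimeSpectrum.comap_asIdeal]
        rw [hy₁, Ideal.comap_comap, ← IsScalarTower.algebraMap_eq D D₁ C₁, IsScalarTower.algebraMap_eq D C C₁,
          ← Ideal.comap_comap, hz₁]
        exact (Ideal.LiesOver.over (P := z) (p := y)).symm)))
  refine ⟨⟨nonempty_equiv_baseChange S S₁ S S₁ C C₁ N G e N₁ f hf G₁ γ hγ,
    surjective_baseChange S S₁ S S₁ C C₁ hsurj, finitePresentation_baseChange S S₁ S S₁ C C₁,
    finite_baseChange D D₁ D D₁ C C₁, Module.Finite.equiv hγ.equiv, smoothRelDim_away hsm g hY,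
    geomIrredFibres_away hirr g hY hne, hd₁⟩, hl₁, ⟨hzS.symm⟩, ⟨hzD.symm⟩, fun z₂ _ hz₂ => ?_, ?_⟩
  · have h2 : (z₂.comap (algebraMap C C₁)).LiesOver y := ⟨by
      rw [Ideal.under_def, Ideal.comap_comap, ← IsScalarTower.algebraMap_eq D C C₁, IsScalarTower.algebraMap_eq D D₁ C₁,
        ← Ideal.comap_comap, ← Ideal.under_def (A := D₁) z₂, ← hz₂.over, hy₁]⟩
    exact congrArg PrimeSpectrum.asIdeal (PrimeSpectrum.localization_comap_injective C₁ (Submonoid.powers hZ)
      (a₁ := ⟨z₂, inferInstance⟩) (a₂ := ⟨z₁, inferInstance⟩) (PrimeSpectrum.ext ((h3 _ h2).trans hz₁.symm)))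
  · haveI : y₁.LiesOver y := ⟨hy₁.symm⟩
    refine PT.purelyTranscendental p₁ y₁ ((PT.of_purelyTranscendental p y h4).congr
      (RingEquiv.ofBijective (Ideal.ResidueField.map p p₁ (algebraMap R R₁) hp₁.over)
        ((RingHom.surjectiveOnStalks_of_isLocalization (Submonoid.powers g) R₁).residueFieldMap_bijective p p₁ hp₁.over))
      (RingEquiv.ofBijective (Ideal.ResidueField.map y y₁ (algebraMap D D₁) hy₁.symm)
        ((RingHom.surjectiveOnStalks_of_isLocalization (Submonoid.powers hY) D₁).residueFieldMap_bijective y y₁ hy₁.symm))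
      fun x => ?_)
    refine RingHom.congr_fun (f := (Ideal.ResidueField.map y y₁ (algebraMap D D₁) hy₁.symm).comp
        (Ideal.ResidueField.mapₐ p y (Algebra.ofId R D) _).toRingHom)
      (g := (Ideal.ResidueField.mapₐ p₁ y₁ (Algebra.ofId R₁ D₁) _).toRingHom.comp
        (Ideal.ResidueField.map p p₁ (algebraMap R R₁) hp₁.over)) ?_ x
    refine Ideal.ResidueField.ringHom_ext (RingHom.ext fun r => ?_)
    show Ideal.ResidueField.map y y₁ _ _ (Ideal.ResidueField.map p y _ _ (algebraMap R p.ResidueField r)) =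
      Ideal.ResidueField.map p₁ y₁ _ _ (Ideal.ResidueField.map p p₁ _ _ (algebraMap R p.ResidueField r))
    rw [Ideal.ResidueField.map_algebraMap, Ideal.ResidueField.map_algebraMap, Ideal.ResidueField.map_algebraMap,
      Ideal.ResidueField.map_algebraMap]
    exact congrArg (algebraMap D₁ y₁.ResidueField)
      ((IsScalarTower.algebraMap_apply R D D₁ r).symm.trans (IsScalarTower.algebraMap_apply R R₁ D₁ r))

end Groth.Agent.RG
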