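import Groth.Agent.RG.Criterion
import Groth.Agent.RG.SmoothDom
import Groth.Agent.EGA41Lib.IntDim
import Groth.Agent.Lib.SmoothEquidim
import Mathlib.RingTheory.KrullDimension.Module

/-!
# Dimensions in a one step dévissage
-/

set_option autoImplicit false
set_option linter.style.haveILetI false
set_option linter.unusedSectionVars false
set_option backward.isDefEq.respectTransparency false
set_option maxHeartbeats 1000000

universe u

open TensorProduct AlgebraicGeometry CategoryTheory CategoryTheory.Limits

namespace Groth.Agent.RG

/-- The support dimension does not change along a finite algebra. -/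
theorem supportDim_eq_of_finite {A B M : Type u} [CommRing A] [CommRing B] [Algebra A B] [Module.Finite A B]
    [AddCommGroup M] [Module B M] [Module A M] [IsScalarTower A B M] [Module.Finite B M] :
    Module.supportDim A M = Module.supportDim B M := by
  haveI : Module.Finite A M := Module.Finite.trans B M
  rw [Module.supportDim_eq_ringKrullDim_quotient_annihilator, Module.supportDim_eq_ringKrullDim_quotient_annihilator]
  have hann : Module.annihilator A M = (Module.annihilator B M).comap (algebraMap A B) := by
    ext a
    simp [Module.mem_annihilator]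
  letI : Algebra (A ⧸ Module.annihilator A M) (B ⧸ Module.annihilator B M) :=
    (Ideal.quotientMap (Module.annihilator B M) (algebraMap A B) hann.le).toAlgebra
  haveI : IsScalarTower A (A ⧸ Module.annihilator A M) (B ⧸ Module.annihilator B M) :=
    IsScalarTower.of_algebraMap_eq fun _ => rfl
  haveI : Module.Finite A (B ⧸ Module.annihilator B M) :=
    Module.Finite.of_surjective (Ideal.Quotient.mkₐ A (Module.annihilator B M)).toLinearMap Ideal.Quotient.mk_surjective
  haveI : Module.Finite (A ⧸ Module.annihilator A M) (B ⧸ Module.annihilator B M) :=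
    Module.Finite.of_restrictScalars_finite A _ _
  haveI : Algebra.IsIntegral (A ⧸ Module.annihilator A M) (B ⧸ Module.annihilator B M) := Algebra.IsIntegral.of_finite _ _
  exact (EGA41Lib.ringKrullDim_eq_of_integral (Ideal.quotientMap_injective' (H := hann.le) hann.ge)).symm

attribute [local instance] Algebra.TensorProduct.rightAlgebra in
/-- The support dimension of a fibre module does not change along a finite algebra. -/
theorem supportDim_fibre_eq {R S C : Type u} [CommRing R] [CommRing S] [Algebra R S] [CommRing C] [Algebra S C]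
    [Algebra R C] [IsScalarTower R S C] [Module.Finite S C] (G : Type u) [AddCommGroup G] [Module C G] [Module S G]
    [IsScalarTower S C G] [Module.Finite C G] (p : Ideal R) [p.IsPrime] :
    Module.supportDim (p.Fiber S) (FlatCA.fiberMod p S G) = Module.supportDim (p.Fiber C) (FlatCA.fiberMod p C G) := by
  letI : Algebra (p.Fiber S) (p.Fiber C) :=
    (Algebra.TensorProduct.map (AlgHom.id R p.ResidueField) (IsScalarTower.toAlgHom R S C)).toRingHom.toAlgebra
  haveI : IsScalarTower p.ResidueField (p.Fiber S) (p.Fiber C) := IsScalarTower.of_algebraMap_eq fun k => by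
    show _ = Algebra.TensorProduct.map (AlgHom.id R p.ResidueField) (IsScalarTower.toAlgHom R S C) (k ⊗ₜ[R] (1 : S))
    rw [Algebra.TensorProduct.map_tmul, map_one]
    rfl
  letI : Algebra S (p.Fiber C) := ((algebraMap C (p.Fiber C)).comp (algebraMap S C)).toAlgebra
  haveI : IsScalarTower R S (p.Fiber C) := IsScalarTower.of_algebraMap_eq fun a => by
    show _ = algebraMap C (p.Fiber C) (algebraMap S C (algebraMap R S a))
    rw [← IsScalarTower.algebraMap_apply R S C, ← IsScalarTower.algebraMap_apply R C (p.Fiber C)]
  haveI : IsScalarTower S (p.Fiber S) (p.Fiber C) := IsScalarTower.of_algebraMap_eq fun s => by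
    show _ = Algebra.TensorProduct.map (AlgHom.id R p.ResidueField) (IsScalarTower.toAlgHom R S C) ((1 : p.ResidueField) ⊗ₜ[R] s)
    rw [Algebra.TensorProduct.map_tmul, map_one]
    rfl
  haveI : IsScalarTower S C (p.Fiber C) := IsScalarTower.of_algebraMap_eq fun s => rfl
  haveI hp : Algebra.IsPushout S C (p.Fiber S) (p.Fiber C) :=
    (Algebra.IsPushout.comp_iff (R := R) (S := S) (R' := p.ResidueField) (S' := p.Fiber S) (T := C) (T' := p.Fiber C)).1
      inferInstance
  haveI := hp.symm
  haveI : Module.Finite (p.Fiber S) (p.Fiber C) :=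
    Module.Finite.equiv (Algebra.IsPushout.equiv S (p.Fiber S) C (p.Fiber C)).toLinearEquiv
  let e : (p.Fiber C ⊗[C] G) ≃ₗ[p.Fiber S] (p.Fiber S ⊗[S] G) :=
    Algebra.IsPushout.cancelBaseChange S (p.Fiber S) C (p.Fiber C) G
  show Module.supportDim (p.Fiber S) (p.Fiber S ⊗[S] G) = Module.supportDim (p.Fiber C) (p.Fiber C ⊗[C] G)
  rw [← supportDim_eq_of_finite (A := p.Fiber S) (B := p.Fiber C), Module.supportDim_eq_of_equiv e]

/-- A fibre of a smooth algebra of relative dimension `n` has dimension at most `n`. -/
theorem ringKrullDim_fibre_le {R D : Type u} [CommRing R] [CommRing D] [Algebra R D] {n : ℕ}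
    (h : FlatCA.SmoothRelDim n R D) (p : Ideal R) [p.IsPrime] : ringKrullDim (p.Fiber D) ≤ (n : WithBot ℕ∞) := by
  let f : Spec (.of (p.Fiber D)) ⟶ Spec (.of p.ResidueField) :=
    Spec.map (CommRingCat.ofHom (algebraMap p.ResidueField (p.Fiber D)))
  have hsq : IsPullback (Spec.map (CommRingCat.ofHom (Algebra.TensorProduct.includeRight (R := R) (A := p.ResidueField) (B := D)).toRingHom))
      f (Spec.map (CommRingCat.ofHom (algebraMap R D))) (Spec.map (CommRingCat.ofHom (algebraMap R p.ResidueField))) :=
    (isPullback_SpecMap_of_isPushout _ _ _ _ (CommRingCat.isPushout_tensorProduct R p.ResidueField D)).flip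
  haveI := AlgebraicGeometry.smoothOfRelativeDimension_isStableUnderBaseChange n
  haveI : SmoothOfRelativeDimension n f := MorphismProperty.of_isPullback hsq h
  haveI := SmoothEquidim.locallyOfFiniteType f n
  have h1 := ExtShCodim.topologicalKrullDim_le f n (SmoothEquidim.dim_component f n)
  exact (PrimeSpectrum.topologicalKrullDim_eq_ringKrullDim (p.Fiber D)).ge.trans h1

/-- In a domain of dimension at most `n`, a module killed by a nonzero element has smaller dimension. -/
theorem supportDim_lt {A M : Type u} [CommRing A] [IsDomain A] [AddCommGroup M] [Module A M] [Module.Finite A M]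
    {n : ℕ} (hA : ringKrullDim A ≤ (n : WithBot ℕ∞)) {a : A} (ha : a ≠ 0) (hM : a ∈ Module.annihilator A M) :
    Module.supportDim A M < (n : WithBot ℕ∞) := by
  rw [Module.supportDim_eq_ringKrullDim_quotient_annihilator]
  have h1 := ringKrullDim_quotient_succ_le_of_nonZeroDivisor (mem_nonZeroDivisors_of_ne_zero ha)
  have h2 : ringKrullDim (A ⧸ Module.annihilator A M) ≤ ringKrullDim (A ⧸ Ideal.span {a}) :=
    ringKrullDim_le_of_surjective (Ideal.Quotient.factor ((Ideal.span_singleton_le_iff_mem _).2 hM))
      (Ideal.Quotient.factor_surjective _)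
  have h3 : ringKrullDim (A ⧸ Module.annihilator A M) + 1 ≤ (n : WithBot ℕ∞) :=
    ((add_le_add_left h2 1).trans h1).trans hA
  generalize ringKrullDim (A ⧸ Module.annihilator A M) = x at h3 ⊢
  induction x using WithBot.recBotCoe with
  | bot => exact WithBot.bot_lt_coe _
  | coe x =>
    induction x using ENat.recTopCoe with
    | top =>
      have h4 : (⊤ : ℕ∞) + 1 ≤ (n : ℕ∞) := WithBot.coe_le_coe.1 h3
      simp at h4
    | coe k =>
      have h4 : k + 1 ≤ n := by exact_mod_cast h3
      exact_mod_cast (by omega : k < n)

end Groth.Agent.RG
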