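import Groth.Agent.RG.ElemFlat
import Groth.Agent.FTDescent.FP
import Mathlib.RingTheory.Finiteness.ModuleFinitePresentation
import Mathlib.RingTheory.Localization.BaseChange

/-!
# Finite presentation under an étale neighbourhood and a finite map
-/

set_option autoImplicit false
set_option linter.style.haveILetI false
set_option linter.unusedSectionVars false
set_option backward.isDefEq.respectTransparency false
set_option maxHeartbeats 1000000

universe u

open TensorProduct

namespace Groth.Agent.RG

/-- The localisation of `M` at `W` is finitely presented. -/
def FPAt {A : Type u} [CommRing A] (W : Submonoid A) (M : Type u) [AddCommGroup M] [Module A M] : Prop :=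
  Module.FinitePresentation (Localization W) (Localization W ⊗[A] M)

theorem fpAt_iff_localizedModule {A : Type u} [CommRing A] (W : Submonoid A) (M : Type u) [AddCommGroup M] [Module A M] :
    Module.FinitePresentation (Localization W) (LocalizedModule W M) ↔ FPAt W M :=
  ⟨fun h => haveI := h; Module.FinitePresentation.of_equiv (LocalizedModule.equivTensorProduct W M),
    fun h => haveI : Module.FinitePresentation (Localization W) (Localization W ⊗[A] M) := h
      Module.FinitePresentation.of_equiv (LocalizedModule.equivTensorProduct W M).symm⟩

theorem fp_tensor_trans {A M : Type u} [CommRing A] [AddCommGroup M] [Module A M] (T T' : Type u) [CommRing T]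
    [CommRing T'] [Algebra A T] [Algebra A T'] [Algebra T T'] [IsScalarTower A T T']
    [Module.FinitePresentation T (T ⊗[A] M)] : Module.FinitePresentation T' (T' ⊗[A] M) :=
  Module.FinitePresentation.of_equiv (AlgebraTensorModule.cancelBaseChange A T T' T' M)

theorem fpAt_iff_of_isLocalization {A : Type u} [CommRing A] (W : Submonoid A) {M : Type u} [AddCommGroup M] [Module A M]
    (T : Type u) [CommRing T] [Algebra A T] [IsLocalization W T] :
    FPAt W M ↔ Module.FinitePresentation T (T ⊗[A] M) := by
  constructor
  · intro h
    letI : Algebra (Localization W) T := (IsLocalization.algEquiv W (Localization W) T).toAlgHom.toRingHom.toAlgebra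
    haveI : IsScalarTower A (Localization W) T :=
      IsScalarTower.of_algebraMap_eq fun a => ((IsLocalization.algEquiv W (Localization W) T).commutes a).symm
    haveI : Module.FinitePresentation (Localization W) (Localization W ⊗[A] M) := h
    exact fp_tensor_trans (Localization W) T
  · intro h
    letI : Algebra T (Localization W) := (IsLocalization.algEquiv W T (Localization W)).toAlgHom.toRingHom.toAlgebra
    haveI : IsScalarTower A T (Localization W) :=
      IsScalarTower.of_algebraMap_eq fun a => ((IsLocalization.algEquiv W T (Localization W)).commutes a).symm
    exact fp_tensor_trans T (Localization W)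

theorem FPAt.congr {A : Type u} [CommRing A] {W : Submonoid A} {M M' : Type u} [AddCommGroup M] [Module A M]
    [AddCommGroup M'] [Module A M'] (e : M ≃ₗ[A] M') (h : FPAt W M) : FPAt W M' := by
  haveI : Module.FinitePresentation (Localization W) (Localization W ⊗[A] M) := h
  exact Module.FinitePresentation.of_equiv (LinearEquiv.baseChange A (Localization W) M M' e)

/-- Finite presentation is kept by base change. -/
theorem FPAt.baseChange {S S' : Type u} [CommRing S] [CommRing S'] [Algebra S S'] {W : Submonoid S}
    {V : Submonoid S'} {N : Type u} [AddCommGroup N] [Module S N]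
    (hWV : ∀ w ∈ W, IsUnit (algebraMap S (Localization V) w)) (h : FPAt W N) : FPAt V (S' ⊗[S] N) := by
  letI : Algebra (Localization W) (Localization V) :=
    (IsLocalization.lift (M := W) (g := algebraMap S (Localization V)) fun w => hWV w w.2).toAlgebra
  haveI : IsScalarTower S (Localization W) (Localization V) :=
    IsScalarTower.of_algebraMap_eq fun s => (IsLocalization.lift_eq _ s).symm
  haveI : Module.FinitePresentation (Localization W) (Localization W ⊗[S] N) := h
  haveI := fp_tensor_trans (A := S) (M := N) (Localization W) (Localization V)
  exact Module.FinitePresentation.of_equiv (AlgebraTensorModule.cancelBaseChange S S' (Localization V) (Localization V) N).symm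

/-- Finite presentation at a smaller submonoid gives it at a larger one. -/
theorem FPAt.mono {S : Type u} [CommRing S] {W V : Submonoid S} {N : Type u} [AddCommGroup N] [Module S N]
    (hWV : ∀ w ∈ W, ∃ v ∈ V, w ∣ v) (h : FPAt W N) : FPAt V N :=
  (h.baseChange (S' := S) (V := V) fun w hw => by
    obtain ⟨v, hv, hd⟩ := hWV w hw
    exact isUnit_of_dvd_unit (map_dvd _ hd) (IsLocalization.map_units _ (⟨v, hv⟩ : V))).congr (TensorProduct.lid S N)

/-- Finite presentation descends along a flat map covering the localisation. -/
theorem FPAt.descend {S S' : Type u} [CommRing S] [CommRing S'] [Algebra S S'] [Module.Flat S S'] {W : Submonoid S}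
    {V : Submonoid S'} {N : Type u} [AddCommGroup N] [Module S N]
    (hWV : ∀ w ∈ W, IsUnit (algebraMap S (Localization V) w))
    (hcov : ∀ (Q : Ideal S) [Q.IsPrime], Disjoint (W : Set S) Q →
      ∃ Q' : Ideal S', Q'.IsPrime ∧ Disjoint (V : Set S') Q' ∧ Q'.comap (algebraMap S S') = Q)
    (h : FPAt V (S' ⊗[S] N)) : FPAt W N := by
  haveI : Module.FinitePresentation (Localization V) (Localization V ⊗[S'] (S' ⊗[S] N)) := h
  haveI : Module.FinitePresentation (Localization V) (Localization V ⊗[S] N) :=
    Module.FinitePresentation.of_equiv (AlgebraTensorModule.cancelBaseChange S S' (Localization V) (Localization V) N)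
  letI : Algebra (Localization W) (Localization V) :=
    (IsLocalization.lift (M := W) (g := algebraMap S (Localization V)) fun w => hWV w w.2).toAlgebra
  haveI : IsScalarTower S (Localization W) (Localization V) :=
    IsScalarTower.of_algebraMap_eq fun s => (IsLocalization.lift_eq _ s).symm
  haveI : Module.Flat S' (Localization V) := IsLocalization.flat _ V
  haveI : Module.Flat S (Localization V) := Module.Flat.trans S S' _
  haveI : Module.Flat (Localization W) (Localization V) :=
    (Module.flat_iff_of_isLocalization (Localization W) W (Localization V)).2 inferInstance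
  haveI : Module.FinitePresentation (Localization V) (Localization V ⊗[Localization W] (Localization W ⊗[S] N)) :=
    Module.FinitePresentation.of_equiv
      (AlgebraTensorModule.cancelBaseChange S (Localization W) (Localization V) (Localization V) N).symm
  refine FTDescent.finitePresentation_of_forall_baseChange (A := Localization W) (fun _ : Unit => Localization V)
    (fun P => ?_) fun _ => inferInstance
  obtain ⟨hPp, hPd⟩ := (IsLocalization.isPrime_iff_isPrime_disjoint W (Localization W) P.asIdeal).1 P.isPrime
  haveI := hPp
  obtain ⟨Q', hQ', hQ'd, hQ'c⟩ := hcov (P.asIdeal.under S) hPd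
  refine ⟨(), ⟨Q'.map (algebraMap S' (Localization V)),
    IsLocalization.isPrime_of_isPrime_disjoint V (Localization V) Q' hQ' hQ'd⟩, PrimeSpectrum.ext ?_⟩
  have h1 : (Q'.map (algebraMap S' (Localization V))).comap (algebraMap S' (Localization V)) = Q' :=
    IsLocalization.comap_map_of_isPrime_disjoint V (Localization V) hQ' hQ'd
  rw [PrimeSpectrum.comap_asIdeal, ← IsLocalization.map_comap W (Localization W) (Ideal.comap _ _),
    ← IsLocalization.map_comap W (Localization W) P.asIdeal, Ideal.under_def, Ideal.comap_comap, ← IsScalarTower.algebraMap_eq,
    IsScalarTower.algebraMap_eq S S' (Localization V), ← Ideal.comap_comap, h1, hQ'c, Ideal.under_def]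

/-- For a finite, finitely presented algebra, finite presentation can be tested on either side. -/
theorem fpAt_finite_iff {A C : Type u} [CommRing A] [CommRing C] [Algebra A C] [Module.Finite A C]
    [Algebra.FinitePresentation A C] {G : Type u} [AddCommGroup G] [Module C G] [Module A G] [IsScalarTower A C G]
    [Module.Finite C G] (W : Submonoid A) (V : Submonoid C) (h₁ : ∀ w ∈ W, algebraMap A C w ∈ V)
    (h₂ : ∀ v ∈ V, ∃ w ∈ W, v ∣ algebraMap A C w) : FPAt W G ↔ FPAt V G := by
  haveI : Module.FinitePresentation A C := Module.FinitePresentation.of_finite_of_finitePresentation A C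
  haveI : IsLocalization V (Localization (Algebra.algebraMapSubmonoid C W)) :=
    IsLocalization.of_le_of_exists_dvd (Algebra.algebraMapSubmonoid C W) V
      (by rintro _ ⟨w, hw, rfl⟩; exact h₁ w hw)
      (fun v hv => let ⟨w, hw, hd⟩ := h₂ v hv; ⟨_, ⟨w, hw, rfl⟩, hd⟩)
  haveI : IsLocalization (Algebra.algebraMapSubmonoid C W) (Localization V) :=
    IsLocalization.isLocalization_of_algEquiv (Algebra.algebraMapSubmonoid C W)
      (IsLocalization.algEquiv V (Localization (Algebra.algebraMapSubmonoid C W)) (Localization V))
  letI : Algebra (Localization W) (Localization V) :=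
    (IsLocalization.lift (M := W) (g := algebraMap A (Localization V)) fun w => by
      rw [IsScalarTower.algebraMap_apply A C (Localization V)]
      exact IsLocalization.map_units _ (⟨_, h₁ w w.2⟩ : V)).toAlgebra
  haveI : IsScalarTower A (Localization W) (Localization V) :=
    IsScalarTower.of_algebraMap_eq fun s => (IsLocalization.lift_eq _ s).symm
  haveI : Algebra.IsPushout A (Localization W) C (Localization V) :=
    (Algebra.isPushout_of_isLocalization W (Localization W) C (Localization V)).symm
  haveI : Module.FinitePresentation (Localization W) (Localization V) :=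
    Module.FinitePresentation.of_equiv (Algebra.IsPushout.equiv A (Localization W) C (Localization V)).toLinearEquiv
  let e : (Localization V ⊗[C] G) ≃ₗ[Localization W] (Localization W ⊗[A] G) :=
    Algebra.IsPushout.cancelBaseChange A (Localization W) C (Localization V) G
  constructor
  · intro h
    haveI : Module.FinitePresentation (Localization W) (Localization W ⊗[A] G) := h
    haveI : Module.FinitePresentation (Localization W) (Localization V ⊗[C] G) := Module.FinitePresentation.of_equiv e.symm
    exact fp_of_restrict (S := Localization W)
  · intro h
    haveI : Module.FinitePresentation (Localization V) (Localization V ⊗[C] G) := h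
    haveI : Module.FinitePresentation (Localization W) (Localization V ⊗[C] G) :=
      Module.FinitePresentation.trans (Localization W) _ (Localization V)
    exact Module.FinitePresentation.of_equiv e

end Groth.Agent.RG
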