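import Groth.Agent.RG.ElemExists
import Groth.Agent.RG.OneStep
import Groth.Agent.H23.TopDim
import Groth.Agent.S1250
import Groth.Agent.S1251
import Groth.Agent.ZClosLib.FibAssIdeal

/-!
# Finite presentation at a point of flatness
-/

set_option autoImplicit false
set_option linter.style.haveILetI false
set_option linter.unusedSectionVars false
set_option backward.isDefEq.respectTransparency false
set_option maxHeartbeats 1000000

universe u

open TensorProduct

namespace Groth.Agent.RG

theorem exists_localDim_eq_nat {X : Type u} [TopologicalSpace X] (x : X) {m : ℕ}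
    (h : topologicalKrullDim X ≤ (m : WithBot ℕ∞)) : ∃ n ≤ m, FlatMor.localDim X x = n := by
  have h0 : (0 : WithBot ℕ∞) ≤ FlatMor.localDim X x := le_iInf fun U => by
    haveI : Nonempty (TopologicalSpace.IrreducibleCloseds (U.1 : Set X)) :=
      ⟨⟨closure {⟨x, U.2⟩}, isIrreducible_singleton.closure, isClosed_closure⟩⟩
    exact Order.krullDim_nonneg
  have h1 : FlatMor.localDim X x ≤ (m : WithBot ℕ∞) :=
    (iInf_le_of_le ⟨⊤, trivial⟩ (topologicalKrullDim_subspace_le _ _)).trans h
  generalize FlatMor.localDim X x = d at h0 h1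
  induction d using WithBot.recBotCoe with
  | bot => exact absurd h0 (by simp)
  | coe d =>
    induction d using ENat.recTopCoe with
    | top => exact absurd (WithBot.coe_le_coe.1 h1) (by simp)
    | coe k => exact ⟨k, by exact_mod_cast h1, rfl⟩

/-- The dimension of the support is the support dimension. -/
theorem topologicalKrullDim_support (A M : Type u) [CommRing A] [AddCommGroup M] [Module A M] [Module.Finite A M] :
    topologicalKrullDim (Module.support A M) = Module.supportDim A M := by
  rw [Module.supportDim_eq_ringKrullDim_quotient_annihilator, ← PrimeSpectrum.topologicalKrullDim_eq_ringKrullDim]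
  have hemb := PrimeSpectrum.isClosedEmbedding_comap_of_surjective (A ⧸ Module.annihilator A M) _
    (Ideal.Quotient.mk_surjective (I := Module.annihilator A M))
  have hr : Set.range (PrimeSpectrum.comap (Ideal.Quotient.mk (Module.annihilator A M))) = Module.support A M := by
    rw [range_comap_of_surjective _ _ Ideal.Quotient.mk_surjective, Ideal.mk_ker, Module.support_eq_zeroLocus]
  exact (IsHomeomorph.topologicalKrullDim_eq _
    (hemb.toIsEmbedding.toHomeomorph.trans (Homeomorph.setCongr hr)).isHomeomorph).symm

variable {R D : Type u} [CommRing R] [CommRing D] [Algebra R D]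

attribute [local instance] Algebra.TensorProduct.rightAlgebra in
/-- For a flat algebra the kernel of the map to a fibre with a domain is the extended prime. -/
theorem mem_map_of_tmul_eq_zero [Module.Flat R D] (p : Ideal R) [p.IsPrime] (a : D)
    (h : (1 : p.ResidueField) ⊗ₜ[R] a = 0) : a ∈ p.map (algebraMap R D) := by
  let φ : (R ⧸ p) →ₗ[R] p.ResidueField :=
    (IsScalarTower.toAlgHom R (R ⧸ p) p.ResidueField).toLinearMap
  have hφ : Function.Injective φ := FaithfulSMul.algebraMap_injective (R ⧸ p) p.ResidueField
  have h1 : a ⊗ₜ[R] (1 : R ⧸ p) = 0 := by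
    apply Module.Flat.lTensor_preserves_injective_linearMap φ hφ
    rw [map_zero, LinearMap.lTensor_tmul]
    apply (TensorProduct.comm R D p.ResidueField).injective
    rw [map_zero, TensorProduct.comm_tmul]
    simpa [φ] using h
  rw [← Ideal.Quotient.eq_zero_iff_mem]
  apply (Algebra.TensorProduct.quotIdealMapEquivTensorQuot D p).injective
  rw [map_zero, Algebra.TensorProduct.quotIdealMapEquivTensorQuot_mk, h1]

attribute [local instance] Algebra.TensorProduct.rightAlgebra in
/-- The extension of a prime is a prime over it. -/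
theorem DomFib.prime_map [Module.Flat R D] (hd : DomFib R D) (p : Ideal R) [p.IsPrime] :
    (p.map (algebraMap R D)).IsPrime ∧ (p.map (algebraMap R D)).LiesOver p := by
  haveI : IsDomain (p.Fiber D) := hd p.ResidueField
  let ι : D →ₐ[R] p.Fiber D := Algebra.TensorProduct.includeRight
  have hP : p.map (algebraMap R D) = (⊥ : Ideal (p.Fiber D)).comap ι := by
    refine le_antisymm (Ideal.map_le_iff_le_comap.2 fun r hr => ?_) fun a ha => mem_map_of_tmul_eq_zero p a ha
    show ι (algebraMap R D r) = 0
    rw [AlgHom.commutes, IsScalarTower.algebraMap_apply R p.ResidueField (p.Fiber D),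
      Ideal.algebraMap_residueField_eq_zero.2 hr, map_zero]
  refine ⟨hP ▸ inferInstance, ⟨?_⟩⟩
  refine le_antisymm (fun r hr => Ideal.mem_map_of_mem _ hr) fun r hr => ?_
  rw [Ideal.under_def, hP, Ideal.mem_comap, Ideal.mem_comap, Ideal.mem_bot, AlgHom.commutes,
    IsScalarTower.algebraMap_apply R p.ResidueField (p.Fiber D), map_eq_zero,
    Ideal.algebraMap_residueField_eq_zero] at hr
  exact hr

attribute [local instance] Algebra.TensorProduct.rightAlgebra in
/-- The cokernel of a map bijective at the generic point of the fibre lives in smaller dimension. -/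
theorem supportDim_coker_lt [Module.Flat R D] (hd : DomFib R D) {n : ℕ} (p : Ideal R) [p.IsPrime]
    (hdim : ringKrullDim (p.Fiber D) ≤ (n : WithBot ℕ∞))
    (P : Ideal D) [P.IsPrime] (hP : P = p.map (algebraMap R D))
    {G : Type u} [AddCommGroup G] [Module D G] [Module R G] [IsScalarTower R D G] [Module.Finite D G] {r : ℕ}
    (α : (Fin r → D) →ₗ[D] G) (hfib : Function.Bijective (α.baseChange P.ResidueField)) :
    Module.supportDim (p.Fiber D) (FlatCA.fiberMod p D (G ⧸ LinearMap.range α)) < (n : WithBot ℕ∞) := by
  classical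
  obtain ⟨k, v, hv⟩ := Module.Finite.exists_fin (R := D) (M := G)
  choose s hs hsv using fun i => exists_smul_mem_range P α hfib (v i)
  let a := ∏ i, s i
  have haP : a ∉ P := fun h => by
    obtain ⟨i, -, hi⟩ := (Ideal.IsPrime.prod_mem_iff).1 h
    exact hs i hi
  have hkill : ∀ x : G ⧸ LinearMap.range α, a • x = 0 := by
    intro x
    obtain ⟨g, rfl⟩ := Submodule.mkQ_surjective _ x
    have hg : g ∈ Submodule.span D (Set.range v) := hv ▸ Submodule.mem_top
    induction hg using Submodule.span_induction with
    | mem _ h =>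
      obtain ⟨i, rfl⟩ := h
      rw [← map_smul, Submodule.mkQ_apply, Submodule.Quotient.mk_eq_zero]
      simp only [a, ← Finset.prod_erase_mul _ _ (Finset.mem_univ i), mul_smul]
      exact Submodule.smul_mem _ _ (hsv i)
    | zero => rw [map_zero, smul_zero]
    | add _ _ _ _ hb hc => rw [map_add, smul_add, hb, hc, add_zero]
    | smul c _ _ hb => rw [map_smul, smul_comm, hb, smul_zero]
  haveI : IsDomain (p.Fiber D) := hd p.ResidueField
  haveI : Module.Finite (p.Fiber D) (FlatCA.fiberMod p D (G ⧸ LinearMap.range α)) :=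
    inferInstanceAs (Module.Finite (p.Fiber D) ((p.Fiber D) ⊗[D] (G ⧸ LinearMap.range α)))
  refine supportDim_lt hdim (a := (1 : p.ResidueField) ⊗ₜ[R] a)
    (fun h => haP (hP.symm ▸ mem_map_of_tmul_eq_zero p a h)) (Module.mem_annihilator.2 fun z => ?_)
  show ((1 : p.ResidueField) ⊗ₜ[R] a) • (z : (p.Fiber D) ⊗[D] (G ⧸ LinearMap.range α)) = 0
  induction z using TensorProduct.induction_on with
  | zero => exact smul_zero _
  | add b c hb hc => rw [smul_add, hb, hc, add_zero]
  | tmul b x =>
    rw [TensorProduct.smul_tmul']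
    show (algebraMap D (p.Fiber D) a * b) ⊗ₜ[D] x = 0
    rw [← Algebra.smul_def, TensorProduct.smul_tmul, hkill, TensorProduct.tmul_zero]

/-- One step: the cokernel is flat at the point, the map injective there. -/
theorem step_flatAt [Algebra.FinitePresentation R D] [Module.Flat R D] (hd : DomFib R D) (p : Ideal R) [p.IsPrime]
    (P : Ideal D) [P.IsPrime] (hP : P = p.map (algebraMap R D)) (y : Ideal D) [y.IsPrime] [y.LiesOver p]
    {G : Type u} [AddCommGroup G] [Module D G] [Module R G] [IsScalarTower R D G] [Module.Finite D G]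
    (hflat : FlatCA.FlatAt R y G) {r : ℕ}
    (α : (Fin r → D) →ₗ[D] G) (hfib : Function.Bijective (α.baseChange P.ResidueField)) :
    Function.Injective (LocalizedModule.map y.primeCompl α) ∧ FlatCA.FlatAt R y (G ⧸ LinearMap.range α) := by
  have hPr : P.LiesOver p := hP ▸ (hd.prime_map p).2
  have hPy : P ≤ y := hP ▸ Ideal.map_le_iff_le_comap.2 (Ideal.LiesOver.over (P := y) (p := p)).le
  have hle : Algebra.algebraMapSubmonoid D p.primeCompl ≤ y.primeCompl := by
    rintro _ ⟨a, ha, rfl⟩ h
    exact ha ((SetLike.ext_iff.1 (Ideal.LiesOver.over (P := y) (p := p)) a).2 h)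
  obtain ⟨β, hβ⟩ := exists_retractions hd p P hP hPr
    (flat_localized_mono (W := y.primeCompl) (W' := P.primeCompl) (fun x hx h => hx (hPy h)) hflat) α hfib
  have h1 := univInjUpTo_of_retractions (Algebra.algebraMapSubmonoid D p.primeCompl) _
    (exists_smul_tmul_eq_zero_atPrime hd p P hPr) α β hβ
  refine ⟨(injective_localizedMap_iff _ α).2 fun x hx => ?_, flat_coker hle h1 hflat⟩
  obtain ⟨w, hw, hwx⟩ := h1.exists_smul_eq_zero hx
  exact ⟨w, hle hw, hwx⟩

/-- Finite presentation is inherited from the cokernel of a localised injection of a free module. -/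
theorem fpAt_of_coker {A : Type u} [CommRing A] (W : Submonoid A) {G : Type u} [AddCommGroup G] [Module A G] {r : ℕ}
    (α : (Fin r → A) →ₗ[A] G) (hinj : Function.Injective (LocalizedModule.map W α))
    (hQ : FPAt W (G ⧸ LinearMap.range α)) : FPAt W G := by
  rw [← fpAt_iff_localizedModule] at hQ ⊢
  haveI : Module.FinitePresentation (Localization W) (LocalizedModule W (G ⧸ LinearMap.range α)) := hQ
  haveI : Module.FinitePresentation (Localization W) (LocalizedModule W (Fin r → A)) :=
    Module.FinitePresentation.of_equiv (LocalizedModule.equivTensorProduct W (Fin r → A)).symm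
  let π := LocalizedModule.map W (LinearMap.range α).mkQ
  have hex : Function.Exact (LocalizedModule.map W α) π :=
    LocalizedModule.map_exact W _ _ (LinearMap.exact_map_mkQ_range α)
  haveI : Module.FinitePresentation (Localization W) (LinearMap.ker π) :=
    Module.FinitePresentation.of_equiv ((LinearEquiv.ofInjective _ hinj).trans
      (LinearEquiv.ofEq _ _ hex.linearMap_ker_eq.symm))
  exact Module.finitePresentation_of_ker π (LocalizedModule.map_surjective W _ (Submodule.mkQ_surjective _))

theorem fpAt_of_notMem_support {A : Type u} [CommRing A] (q : Ideal A) [q.IsPrime] {G : Type u} [AddCommGroup G]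
    [Module A G] (h : (⟨q, inferInstance⟩ : PrimeSpectrum A) ∉ Module.support A G) : FPAt q.primeCompl G := by
  rw [← fpAt_iff_localizedModule]
  haveI : Subsingleton (LocalizedModule q.primeCompl G) := Module.notMem_support_iff.1 h
  infer_instance

attribute [local instance] Algebra.TensorProduct.rightAlgebra in
theorem exists_fibre_point {S : Type u} [CommRing S] [Algebra R S] (p : Ideal R) [p.IsPrime] (q : Ideal S) [q.IsPrime]
    [q.LiesOver p] (N : Type u) [AddCommGroup N] [Module S N] [Module R N] [IsScalarTower R S N] [Module.Finite S N]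
    (h : (⟨q, inferInstance⟩ : PrimeSpectrum S) ∈ Module.support S N) :
    ∃ x : PrimeSpectrum (p.Fiber S), x.asIdeal = FlatCA.fiberIdeal p q ∧
      x ∈ Module.support (p.Fiber S) (FlatCA.fiberMod p S N) := by
  let ι : S →ₐ[R] p.Fiber S := Algebra.TensorProduct.includeRight
  let x := PrimeSpectrum.primesOverOrderIsoFiber R S p ⟨q, ‹_›, ‹_›⟩
  have hx : x.asIdeal.comap ι = q :=
    congr($((PrimeSpectrum.primesOverOrderIsoFiber R S p).symm_apply_apply ⟨q, ‹_›, ‹_›⟩).1)
  refine ⟨x, ?_, ?_⟩
  · exact ZClosLib.FibAssIdeal.eq_fiberIdeal p hx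
  · show x ∈ Module.support (p.Fiber S) ((p.Fiber S) ⊗[S] N)
    rw [QCoh.mem_support_baseChange (TensorProduct.isBaseChange S N (p.Fiber S)) x]
    convert h using 1
    exact PrimeSpectrum.ext hx

attribute [local instance] Algebra.TensorProduct.rightAlgebra in
/-- Flatness at a point implies finite presentation there. -/
theorem fpAt_of_flatAt_aux (m : ℕ) : ∀ {R S : Type u} [CommRing R] [CommRing S] [Algebra R S] [Algebra.FinitePresentation R S]
    (N : Type u) [AddCommGroup N] [Module S N] [Module R N] [IsScalarTower R S N] [Module.Finite S N]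
    (p : Ideal R) [p.IsPrime] (q : Ideal S) [q.IsPrime] [q.LiesOver p],
    Module.supportDim (p.Fiber S) (FlatCA.fiberMod p S N) < (m : WithBot ℕ∞) → FlatCA.FlatAt R q N →
    FPAt q.primeCompl N := by
  induction m using Nat.strong_induction_on with
  | _ m ih =>
    intro R S _ _ _ _ N _ _ _ _ _ p _ q _ _ hm hflat
    by_cases hq : (⟨q, inferInstance⟩ : PrimeSpectrum S) ∈ Module.support S N
    swap
    · exact fpAt_of_notMem_support q hq
    obtain ⟨x, hxq, hx⟩ := exists_fibre_point p q N hq
    haveI : Module.Finite (p.Fiber S) (FlatCA.fiberMod p S N) :=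
      inferInstanceAs (Module.Finite (p.Fiber S) ((p.Fiber S) ⊗[S] N))
    rw [← topologicalKrullDim_support] at hm
    obtain ⟨n, -, hn⟩ := exists_localDim_eq_nat
      (X := Module.support (p.Fiber S) (FlatCA.fiberMod p S N)) ⟨x, hx⟩ hm.le
    have hnm : n < m := by
      have := ((H23.TopDim.localDim_le_dim (X := Module.support (p.Fiber S) (FlatCA.fiberMod p S N)) ⟨x, hx⟩).trans_lt hm)
      rw [hn] at this
      exact_mod_cast this
    obtain ⟨E⟩ := exists_elemDevissage N p q n x hxq hx hn
    have hGflat : FlatCA.FlatAt E.R' E.y E.G := ((Groth.Agent.S1250.result N p q n E).1.out 0 2).1 hflat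
    refine (fpAt_iff_localizedModule _ _).1 (((Groth.Agent.S1251.result N p q n E).2.1.out 2 0).1 ?_)
    rw [fpAt_iff_localizedModule]
    haveI := E.finiteDC
    haveI := E.finiteG
    haveI : Module.Finite E.D E.G := Module.Finite.trans E.C E.G
    haveI : Algebra.Smooth E.R' E.D := by
      haveI := E.smooth
      haveI : AlgebraicGeometry.Smooth (AlgebraicGeometry.Spec.map (CommRingCat.ofHom (algebraMap E.R' E.D))) :=
        AlgebraicGeometry.SmoothOfRelativeDimension.smooth n _
      exact RingHom.smooth_algebraMap.mp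
        ((AlgebraicGeometry.HasRingHomProperty.Spec_iff (P := @AlgebraicGeometry.Smooth)
          (φ := CommRingCat.ofHom (algebraMap E.R' E.D))).mp inferInstance)
    haveI : Module.Flat E.R' E.D := inferInstance
    have hd := domFib_of_geomIntegral E.geomInt
    haveI := (hd.prime_map E.p').1
    obtain ⟨r, α, hα⟩ := exists_fibre_basis (E.p'.map (algebraMap E.R' E.D)) E.G
    obtain ⟨hinj, hQ⟩ := step_flatAt hd E.p' _ rfl E.y hGflat α hα
    exact fpAt_of_coker _ α hinj (ih n hnm _ E.p' E.y
      (supportDim_coker_lt hd E.p' (ringKrullDim_fibre_le E.smooth E.p') _ rfl α hα) hQ)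

end Groth.Agent.RG

namespace Groth.Agent.RG

theorem exists_ringKrullDim_lt {k A : Type u} [Field k] [CommRing A] [Algebra k A] [Algebra.FiniteType k A] :
    ∃ m : ℕ, ringKrullDim A < (m : WithBot ℕ∞) := by
  obtain ⟨n, f, hf⟩ := Algebra.FiniteType.iff_quotient_mvPolynomial''.1 ‹Algebra.FiniteType k A›
  refine ⟨n + 1, lt_of_le_of_lt (ringKrullDim_le_of_surjective f.toRingHom hf) ?_⟩
  rw [MvPolynomial.ringKrullDim_of_isNoetherianRing, ringKrullDim_eq_zero_of_field, zero_add]
  simp only [Nat.card_eq_fintype_card, Fintype.card_fin]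
  exact_mod_cast Nat.lt_succ_self n

attribute [local instance] Algebra.TensorProduct.rightAlgebra in
/-- Flatness at a point implies finite presentation there. -/
theorem fpAt_of_flatAt {R S : Type u} [CommRing R] [CommRing S] [Algebra R S] [Algebra.FinitePresentation R S]
    (N : Type u) [AddCommGroup N] [Module S N] [Module R N] [IsScalarTower R S N] [Module.Finite S N]
    (q : Ideal S) [q.IsPrime] (h : FlatCA.FlatAt R q N) : FPAt q.primeCompl N := by
  let p : Ideal R := q.under R
  haveI : q.LiesOver p := ⟨rfl⟩
  obtain ⟨m, hm⟩ := exists_ringKrullDim_lt (k := p.ResidueField) (A := p.Fiber S)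
  exact fpAt_of_flatAt_aux m N p q ((Module.supportDim_le_ringKrullDim _ _).trans_lt hm) h

end Groth.Agent.RG
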