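import Groth.Agent.RG.StepFibre
import Groth.Agent.RG.FPInduction

/-!
# The support of a fibre as a subspace of the spectrum
-/

set_option autoImplicit false
set_option linter.style.haveILetI false
set_option linter.unusedSectionVars false
set_option backward.isDefEq.respectTransparency false
set_option backward.isDefEq.respectTransparency.types false
set_option maxHeartbeats 1000000

universe u

open TensorProduct

namespace Groth.Agent.RG

attribute [local instance] Algebra.TensorProduct.rightAlgebra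


theorem localDim_openEmbedding {X Y : Type*} [TopologicalSpace X] [TopologicalSpace Y] {j : X → Y}
    (hj : Topology.IsOpenEmbedding j) (x : X) : FlatMor.localDim X x = FlatMor.localDim Y (j x) := by
  refine le_antisymm (le_iInf fun V => ?_) (le_iInf fun U => ?_)
  · refine iInf_le_of_le ⟨⟨j ⁻¹' V.1, V.1.2.preimage hj.continuous⟩, V.2⟩ ?_
    exact ((hj.isEmbedding.restrictPreimage (V.1 : Set Y)).isInducing).topologicalKrullDim_le
  · refine iInf_le_of_le ⟨⟨j '' U.1, hj.isOpenMap _ U.1.2⟩, ⟨x, U.2, rfl⟩⟩ ?_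
    exact (hj.isEmbedding.homeomorphImage (U.1 : Set X)).symm.isInducing.topologicalKrullDim_le


variable {R S : Type u} [CommRing R] [CommRing S] [Algebra R S]

/-- The support of the module above a prime of the base. -/
def suppOver (S : Type u) [CommRing S] [Algebra R S] (p : Ideal R) [p.IsPrime] (N : Type u) [AddCommGroup N] [Module S N] : Set (PrimeSpectrum S) :=
  Module.support S N ∩ PrimeSpectrum.comap (algebraMap R S) ⁻¹' {⟨p, inferInstance⟩}

variable (p : Ideal R) [p.IsPrime] (N : Type u) [AddCommGroup N] [Module S N] [Module R N] [IsScalarTower R S N]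
  [Module.Finite S N]

theorem fiber_point_comap (x : PrimeSpectrum.comap (algebraMap R S) ⁻¹' {(⟨p, inferInstance⟩ : PrimeSpectrum R)}) :
    (PrimeSpectrum.preimageHomeomorphFiber R S ⟨p, inferInstance⟩ x).asIdeal.comap
      (Algebra.TensorProduct.includeRight : S →ₐ[R] p.Fiber S) = x.1.asIdeal :=
  congr($((PrimeSpectrum.preimageHomeomorphFiber R S ⟨p, inferInstance⟩).symm_apply_apply x).1.asIdeal)

/-- The support of the fibre module is the part of the support over the prime. -/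
noncomputable def suppOverHomeo : suppOver S p N ≃ₜ Module.support (p.Fiber S) (FlatCA.fiberMod p S N) where
  toFun x := ⟨PrimeSpectrum.preimageHomeomorphFiber R S ⟨p, inferInstance⟩ ⟨x.1, x.2.2⟩, by
    show _ ∈ Module.support (p.Fiber S) ((p.Fiber S) ⊗[S] N)
    rw [QCoh.mem_support_baseChange (TensorProduct.isBaseChange S N (p.Fiber S))]
    convert x.2.1 using 1
    exact PrimeSpectrum.ext (fiber_point_comap p ⟨x.1, x.2.2⟩)⟩
  invFun y := ⟨((PrimeSpectrum.preimageHomeomorphFiber R S ⟨p, inferInstance⟩).symm y.1).1, by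
    refine ⟨?_, ((PrimeSpectrum.preimageHomeomorphFiber R S ⟨p, inferInstance⟩).symm y.1).2⟩
    have h : y.1 ∈ Module.support (p.Fiber S) ((p.Fiber S) ⊗[S] N) := y.2
    rw [QCoh.mem_support_baseChange (TensorProduct.isBaseChange S N (p.Fiber S))] at h
    exact h⟩
  left_inv x := Subtype.ext (by simp only [Homeomorph.symm_apply_apply])
  right_inv y := Subtype.ext ((PrimeSpectrum.preimageHomeomorphFiber R S ⟨p, inferInstance⟩).apply_symm_apply y.1)
  continuous_toFun := by
    refine Continuous.subtype_mk ?_ _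
    exact (PrimeSpectrum.preimageHomeomorphFiber R S ⟨p, inferInstance⟩).continuous.comp
      (continuous_subtype_val.subtype_mk _)
  continuous_invFun := by
    refine Continuous.subtype_mk ?_ _
    exact continuous_subtype_val.comp
      ((PrimeSpectrum.preimageHomeomorphFiber R S ⟨p, inferInstance⟩).symm.continuous.comp continuous_subtype_val)

theorem supportDim_eq_suppOver :
    Module.supportDim (p.Fiber S) (FlatCA.fiberMod p S N) = topologicalKrullDim (suppOver S p N) := by
  haveI : Module.Finite (p.Fiber S) (FlatCA.fiberMod p S N) :=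
    inferInstanceAs (Module.Finite (p.Fiber S) ((p.Fiber S) ⊗[S] N))
  rw [← topologicalKrullDim_support]
  exact (IsHomeomorph.topologicalKrullDim_eq _ (suppOverHomeo p N).isHomeomorph).symm

/-- The pointed dimension condition read on the spectrum. -/
theorem exists_fibre_point_iff (q : Ideal S) [q.IsPrime] [q.LiesOver p] (n : WithBot ℕ∞) :
    (∃ (ξ : PrimeSpectrum (p.Fiber S)) (hξ : ξ ∈ Module.support (p.Fiber S) (FlatCA.fiberMod p S N)),
      ξ.asIdeal = FlatCA.fiberIdeal p q ∧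
      FlatMor.localDim (Module.support (p.Fiber S) (FlatCA.fiberMod p S N)) ⟨ξ, hξ⟩ = n) ↔
    ∃ hq : (⟨q, inferInstance⟩ : PrimeSpectrum S) ∈ suppOver S p N,
      FlatMor.localDim (suppOver S p N) ⟨_, hq⟩ = n := by
  have hqp : (⟨q, inferInstance⟩ : PrimeSpectrum S) ∈
      PrimeSpectrum.comap (algebraMap R S) ⁻¹' {(⟨p, inferInstance⟩ : PrimeSpectrum R)} :=
    PrimeSpectrum.ext (Ideal.LiesOver.over (P := q) (p := p)).symm
  let x := PrimeSpectrum.preimageHomeomorphFiber R S ⟨p, inferInstance⟩ ⟨_, hqp⟩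
  have hx : x.asIdeal = FlatCA.fiberIdeal p q := ZClosLib.FibAssIdeal.eq_fiberIdeal p (fiber_point_comap p ⟨_, hqp⟩)
  constructor
  · rintro ⟨ξ, hξ, hξq, hdim⟩
    obtain rfl : x = ξ := PrimeSpectrum.ext (hx.trans hξq.symm)
    have hq : (⟨q, inferInstance⟩ : PrimeSpectrum S) ∈ suppOver S p N := by
      refine ⟨?_, hqp⟩
      have h : x ∈ Module.support (p.Fiber S) ((p.Fiber S) ⊗[S] N) := hξ
      rw [QCoh.mem_support_baseChange (TensorProduct.isBaseChange S N (p.Fiber S))] at h
      convert h using 1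
      exact PrimeSpectrum.ext (fiber_point_comap p ⟨_, hqp⟩).symm
    exact ⟨hq, by rw [← FibDim.localDim_homeomorph (suppOverHomeo p N) ⟨_, hq⟩]; exact hdim⟩
  · rintro ⟨hq, hdim⟩
    refine ⟨x, (suppOverHomeo p N ⟨_, hq⟩).2, hx, ?_⟩
    rw [← hdim, ← FibDim.localDim_homeomorph (suppOverHomeo p N) ⟨_, hq⟩]
    rfl

variable {R₁ S₁ : Type u} [CommRing R₁] [CommRing S₁] [Algebra R R₁] [Algebra R₁ S₁] [Algebra R S₁] [Algebra S S₁]
  [IsScalarTower R R₁ S₁] [IsScalarTower R S S₁] (g : R) [IsLocalization.Away g R₁] (hX : S) [IsLocalization.Away hX S₁]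
  (p₁ : Ideal R₁) [p₁.IsPrime] [p₁.LiesOver p]
  (N₁ : Type u) [AddCommGroup N₁] [Module S₁ N₁] [Module R₁ N₁] [IsScalarTower R₁ S₁ N₁] [Module S N₁]
  [IsScalarTower S S₁ N₁] (f : N →ₗ[S] N₁) (hf : IsBaseChange S₁ f)

include g hX in
theorem comap_mem_suppOver_iff (hf : IsBaseChange S₁ f) (x : PrimeSpectrum S₁) :
    PrimeSpectrum.comap (algebraMap S S₁) x ∈ suppOver S p N ↔ x ∈ suppOver S₁ p₁ N₁ := by
  haveI : Module.Finite S₁ N₁ := Module.Finite.equiv hf.equiv
  refine and_congr (QCoh.mem_support_baseChange hf x).symm ?_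
  simp only [Set.mem_preimage, Set.mem_singleton_iff, ← PrimeSpectrum.comap_comp_apply,
    ← IsScalarTower.algebraMap_eq R S S₁]
  rw [IsScalarTower.algebraMap_eq R R₁ S₁, PrimeSpectrum.comap_comp_apply]
  have hp : PrimeSpectrum.comap (algebraMap R R₁) ⟨p₁, inferInstance⟩ = ⟨p, inferInstance⟩ :=
    PrimeSpectrum.ext (Ideal.LiesOver.over (P := p₁) (p := p)).symm
  rw [← hp]
  exact (PrimeSpectrum.localization_comap_injective R₁ (Submonoid.powers g)).eq_iff

/-- The inclusion of the part of the support in a standard open. -/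
def suppOverMap (hf : IsBaseChange S₁ f) (x : suppOver S₁ p₁ N₁) : suppOver S p N :=
  ⟨PrimeSpectrum.comap (algebraMap S S₁) x.1, (comap_mem_suppOver_iff p N g hX p₁ N₁ f hf x.1).2 x.2⟩

theorem isOpenEmbedding_suppOverMap : Topology.IsOpenEmbedding (suppOverMap p N g hX p₁ N₁ f hf) := by
  have h := PrimeSpectrum.localization_away_isOpenEmbedding S₁ hX
  have hpre : PrimeSpectrum.comap (algebraMap S S₁) ⁻¹' (suppOver S p N) = suppOver S₁ p₁ N₁ :=
    Set.ext fun x => comap_mem_suppOver_iff p N g hX p₁ N₁ f hf x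
  exact (h.restrictPreimage (suppOver S p N)).comp (Homeomorph.setCongr hpre).symm.isOpenEmbedding

include g hX hf in
/-- Shrinking keeps the dimension of the support and the local dimension at a point in the open. -/
theorem supportDim_shrink [Module.Finite S₁ N₁] (q : Ideal S) [q.IsPrime] [q.LiesOver p] (q₁ : Ideal S₁) [q₁.IsPrime]
    [q₁.LiesOver p₁] [q₁.LiesOver q] {n : ℕ}
    (hdim : Module.supportDim (p.Fiber S) (FlatCA.fiberMod p S N) = n)
    (h1 : ∃ (ξ : PrimeSpectrum (p.Fiber S)) (hξ : ξ ∈ Module.support (p.Fiber S) (FlatCA.fiberMod p S N)),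
      ξ.asIdeal = FlatCA.fiberIdeal p q ∧
      FlatMor.localDim (Module.support (p.Fiber S) (FlatCA.fiberMod p S N)) ⟨ξ, hξ⟩ = n) :
    Module.supportDim (p₁.Fiber S₁) (FlatCA.fiberMod p₁ S₁ N₁) = n ∧
    ∃ (ξ : PrimeSpectrum (p₁.Fiber S₁)) (hξ : ξ ∈ Module.support (p₁.Fiber S₁) (FlatCA.fiberMod p₁ S₁ N₁)),
      ξ.asIdeal = FlatCA.fiberIdeal p₁ q₁ ∧
      FlatMor.localDim (Module.support (p₁.Fiber S₁) (FlatCA.fiberMod p₁ S₁ N₁)) ⟨ξ, hξ⟩ = n := by
  obtain ⟨hq, hloc⟩ := (exists_fibre_point_iff p N q n).1 h1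
  have hq₁q : PrimeSpectrum.comap (algebraMap S S₁) ⟨q₁, inferInstance⟩ = ⟨q, inferInstance⟩ :=
    PrimeSpectrum.ext (Ideal.LiesOver.over (P := q₁) (p := q)).symm
  have hq₁ : (⟨q₁, inferInstance⟩ : PrimeSpectrum S₁) ∈ suppOver S₁ p₁ N₁ :=
    (comap_mem_suppOver_iff p N g hX p₁ N₁ f hf _).1 (hq₁q ▸ hq)
  have hj := isOpenEmbedding_suppOverMap p N g hX p₁ N₁ f hf
  have hloc₁ : FlatMor.localDim (suppOver S₁ p₁ N₁) ⟨_, hq₁⟩ = n := by
    rw [localDim_openEmbedding hj ⟨_, hq₁⟩, ← hloc]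
    exact congrArg _ (Subtype.ext hq₁q)
  refine ⟨?_, (exists_fibre_point_iff p₁ N₁ q₁ n).2 ⟨hq₁, hloc₁⟩⟩
  rw [supportDim_eq_suppOver] at hdim ⊢
  exact le_antisymm (hdim ▸ hj.isInducing.topologicalKrullDim_le) (hloc₁ ▸ H23.TopDim.localDim_le_dim _)

end Groth.Agent.RG
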