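import Groth.Agent.RG.DevBaseChangeRec
import Groth.Agent.RG.StepShrink
import Groth.Agent.RG.StepSpace

/-!
# Standard shrinkings of complete dévissages: the pieces
-/

set_option autoImplicit false
set_option linter.style.haveILetI false
set_option linter.unusedSectionVars false
set_option backward.isDefEq.respectTransparency false
set_option backward.isDefEq.respectTransparency.types false
set_option maxHeartbeats 2000000

universe u

open TensorProduct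

namespace Groth.Agent.RG

/-- The map out of a localisation at one element. -/
@[reducible] noncomputable def awayAlg {R : Type u} [CommRing R] (g : R) (R₁ X : Type u) [CommRing R₁] [CommRing X]
    [Algebra R R₁] [IsLocalization.Away g R₁] [Algebra R X] (h : IsUnit (algebraMap R X g)) : Algebra R₁ X :=
  (IsLocalization.Away.lift g h).toAlgebra

theorem awayAlg_tower {R : Type u} [CommRing R] (g : R) (R₁ X : Type u) [CommRing R₁] [CommRing X]
    [Algebra R R₁] [IsLocalization.Away g R₁] [Algebra R X] (h : IsUnit (algebraMap R X g)) :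
    letI := awayAlg g R₁ X h; IsScalarTower R R₁ X :=
  letI := awayAlg g R₁ X h
  IsScalarTower.of_algebraMap_eq (R := R) (S := R₁) (A := X) fun r => (IsLocalization.Away.lift_eq g h r).symm

/-- Maps out of a localisation agree when they agree on the ring. -/
theorem tower_of_away {R : Type u} [CommRing R] (g : R) (R₁ Y X : Type u) [CommRing R₁] [CommRing Y] [CommRing X]
    [Algebra R R₁] [IsLocalization.Away g R₁] [Algebra R Y] [Algebra R X] [Algebra R₁ Y] [Algebra R₁ X] [Algebra Y X]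
    [IsScalarTower R R₁ Y] [IsScalarTower R R₁ X] [IsScalarTower R Y X] : IsScalarTower R₁ Y X :=
  IsScalarTower.of_algebraMap_eq' (IsLocalization.ringHom_ext (Submonoid.powers g) (RingHom.ext fun r => by
    simp only [RingHom.comp_apply, ← IsScalarTower.algebraMap_apply]))

/-- A localisation at the image of an element is a base change. -/
theorem isPushout_of_away_map {S A : Type u} [CommRing S] [CommRing A] [Algebra S A] (h : S) (a : A)
    (ha : algebraMap S A h = a) (S₁ A₁ : Type u) [CommRing S₁] [CommRing A₁] [Algebra S S₁] [Algebra A A₁]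
    [Algebra S A₁] [Algebra S₁ A₁] [IsScalarTower S A A₁] [IsScalarTower S S₁ A₁]
    [IsLocalization.Away h S₁] [IsLocalization.Away a A₁] : Algebra.IsPushout S S₁ A A₁ := by
  haveI : IsLocalization (Algebra.algebraMapSubmonoid A (Submonoid.powers h)) A₁ := by
    rw [Algebra.algebraMapSubmonoid_powers, ha]; infer_instance
  exact (Algebra.isPushout_of_isLocalization (Submonoid.powers h) S₁ A A₁).symm

/-- A standard shrinking of a complete dévissage. -/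
def HasShrunkDevissage {R S : Type u} [CommRing R] [CommRing S] [Algebra R S] {N : Type u} [AddCommGroup N] [Module S N]
    {p : Ideal R} [p.IsPrime] (𝒟 : FlatCA.CompleteDevissage R S N p) (b : ∀ i, 𝒟.B i)
    {R₁ : Type u} [CommRing R₁] [Algebra R R₁] (p₁ : Ideal R₁) [p₁.IsPrime]
    (S₁ : Type u) [CommRing S₁] [Algebra R₁ S₁] [Algebra R S₁] [Algebra S S₁] [IsScalarTower R R₁ S₁]
    [IsScalarTower R S S₁]
    {N₁ : Type u} [AddCommGroup N₁] [Module S₁ N₁] [Module S N₁] [IsScalarTower S S₁ N₁] (f : N →ₗ[S] N₁) : Prop :=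
    ∃ (𝒟' : FlatCA.CompleteDevissage R₁ S₁ N₁ p₁)
      (aA : ∀ i : Fin 𝒟.n, Algebra (𝒟.A i) (𝒟'.A i)) (rA : ∀ i : Fin 𝒟.n, Algebra R (𝒟'.A i))
      (_t1 : ∀ i : Fin 𝒟.n, IsScalarTower R R₁ (𝒟'.A i)) (_t2 : ∀ i : Fin 𝒟.n, IsScalarTower R (𝒟.A i) (𝒟'.A i))
      (aB : ∀ i : Fin 𝒟.n, Algebra (𝒟.B i) (𝒟'.B i)) (rB : ∀ i : Fin 𝒟.n, Algebra R (𝒟'.B i))
      (_t3 : ∀ i : Fin 𝒟.n, IsScalarTower R R₁ (𝒟'.B i)) (_t4 : ∀ i : Fin 𝒟.n, IsScalarTower R (𝒟.B i) (𝒟'.B i))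
      (bA : ∀ i : Fin 𝒟.n, Algebra (𝒟.B i) (𝒟'.A i)) (_t5 : ∀ i : Fin 𝒟.n, IsScalarTower (𝒟.B i) (𝒟.A i) (𝒟'.A i))
      (_t6 : ∀ i : Fin 𝒟.n, IsScalarTower (𝒟.B i) (𝒟'.B i) (𝒟'.A i))
      (bA' : ∀ i : Fin 𝒟.n, Algebra (𝒟.B i) (𝒟'.A (i + 1)))
      (_t7 : ∀ i : Fin 𝒟.n, IsScalarTower (𝒟.B i) (𝒟'.B i) (𝒟'.A (i + 1)))
      (sA : Algebra S (𝒟'.A 0)) (_t8 : IsScalarTower S S₁ (𝒟'.A 0))
      (mA : ∀ i : Fin 𝒟.n, Module (𝒟.A i) (𝒟'.M i)) (_t9 : ∀ i : Fin 𝒟.n, IsScalarTower (𝒟.A i) (𝒟'.A i) (𝒟'.M i))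
      (gM : ∀ i : Fin 𝒟.n, 𝒟.M i →ₗ[𝒟.A i] 𝒟'.M i),
      𝒟'.n = 𝒟.n ∧ 𝒟'.r = 𝒟.r ∧
      (∀ i, 𝒟.n ≤ i → ∃ (Q : Ideal (𝒟'.B i)) (P : Ideal (𝒟'.A i)),
        Q.IsPrime ∧ P.IsPrime ∧ Q.LiesOver p₁ ∧ P.LiesOver Q) ∧
      (letI := aA ⟨0, 𝒟.pos⟩; IsScalarTower S (𝒟.A 0) (𝒟'.A 0)) ∧
      (∀ x : N, 𝒟'.isoN (f x) = gM ⟨0, 𝒟.pos⟩ (𝒟.isoN x)) ∧
      (∀ (i : Fin 𝒟.n) (h : (i : ℕ) + 1 < 𝒟.n),
        letI := aA ⟨i + 1, h⟩; IsScalarTower (𝒟.B i) (𝒟.A (i + 1)) (𝒟'.A (i + 1))) ∧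
      ∀ i : Fin 𝒟.n,
        IsLocalization.Away (algebraMap (𝒟.B i) (𝒟.A i) (b i)) (𝒟'.A i) ∧ IsLocalization.Away (b i) (𝒟'.B i) ∧
        IsBaseChange (𝒟'.A i) (gM i) ∧
        LinearMap.range (𝒟'.α i) =
          Submodule.span (𝒟'.B i) ((gM i) '' (LinearMap.range (𝒟.α i) : Set (𝒟.M i)))

/-- The conditions on the elements defining a shrinking. -/
structure ShrinkData {R S : Type u} [CommRing R] [CommRing S] [Algebra R S] {N : Type u} [AddCommGroup N] [Module S N]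
    {p : Ideal R} [p.IsPrime] (𝒟 : FlatCA.CompleteDevissage R S N p) (g : R) (hX : S) (b : ∀ i, 𝒟.B i) : Prop where
  imgX : algebraMap S (𝒟.A 0) hX = algebraMap (𝒟.B 0) (𝒟.A 0) (b 0)
  imgStep : ∀ i, i + 1 < 𝒟.n →
    algebraMap (𝒟.B i) (𝒟.A (i + 1)) (b i) = algebraMap (𝒟.B (i + 1)) (𝒟.A (i + 1)) (b (i + 1))
  dvdX : algebraMap R S g ∣ hX
  dvd : ∀ i, i < 𝒟.n → algebraMap R (𝒟.B i) g ∣ b i
  mem : ∀ i, i < 𝒟.n → ∃ Q : Ideal (𝒟.B i), Q.IsPrime ∧ Q.LiesOver p ∧ b i ∉ Q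
  fibres : ∀ i, i < 𝒟.n → ∀ t : PrimeSpectrum R, g ∉ t.asIdeal →
    ∃ Q : PrimeSpectrum (𝒟.B i), b i ∉ Q.asIdeal ∧ PrimeSpectrum.comap (algebraMap R (𝒟.B i)) Q = t

/-- The data of a shrinking of the steps after the first. -/
theorem ShrinkData.tail {R S : Type u} [CommRing R] [CommRing S] [Algebra R S] {N : Type u} [AddCommGroup N] [Module S N]
    {p : Ideal R} [p.IsPrime] {𝒟 : FlatCA.CompleteDevissage R S N p} {g : R} {hX : S} {b : ∀ i, 𝒟.B i}
    (h : ShrinkData 𝒟 g hX b) {m : ℕ} (hm : 𝒟.n = m + 2) :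
    ShrinkData (devTail 𝒟 hm) g (b 0) (fun i => b (i + 1)) := by
  have hlt : ∀ {i}, i < (devTail 𝒟 hm).n → i + 1 < 𝒟.n := fun {i} hi => by
    change i < m + 1 at hi
    omega
  exact ⟨h.imgStep 0 (by omega), fun i hi => h.imgStep (i + 1) (hlt hi),
    h.dvd 0 (by omega), fun i hi => h.dvd (i + 1) (hlt hi), fun i hi => h.mem (i + 1) (hlt hi),
    fun i hi => h.fibres (i + 1) (hlt hi)⟩

variable {R : Type u} [CommRing R] {p : Ideal R} [p.IsPrime] {g : R} {R₁ : Type u} [CommRing R₁] [Algebra R R₁]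
  [IsLocalization.Away g R₁] (p₁ : Ideal R₁) [p₁.IsPrime] [hp₁ : p₁.LiesOver p]

/-- The generic point of the fibre in a standard open. -/
theorem away_prime {B B₁ : Type u} [CommRing B] [CommRing B₁] [Algebra R B] [Algebra B B₁] [Algebra R₁ B₁]
    [Algebra R B₁] [IsScalarTower R R₁ B₁] [IsScalarTower R B B₁] (b : B) [IsLocalization.Away b B₁]
    (hP : (p.map (algebraMap R B)).IsPrime) (Q : Ideal B) [hQ : Q.IsPrime] [hQp : Q.LiesOver p] (hb : b ∉ Q)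
    (g : R) [IsLocalization.Away g R₁] :
    (p₁.map (algebraMap R₁ B₁)).IsPrime ∧ (p₁.map (algebraMap R₁ B₁)).LiesOver (p.map (algebraMap R B)) ∧
      (p₁.map (algebraMap R₁ B₁)).LiesOver p₁ := by
  haveI := hP
  have hle : p.map (algebraMap R B) ≤ Q := Ideal.map_le_iff_le_comap.2 hQp.over.le
  have hmap : p₁.map (algebraMap R₁ B₁) = (p.map (algebraMap R B)).map (algebraMap B B₁) := by
    conv_lhs => rw [show p₁ = p.map (algebraMap R R₁) from
      (IsLocalization.map_comap (Submonoid.powers g) R₁ p₁).symm.trans (congrArg _ hp₁.over.symm)]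
    rw [Ideal.map_map, Ideal.map_map, ← IsScalarTower.algebraMap_eq, ← IsScalarTower.algebraMap_eq]
  obtain ⟨hprime, hcomap⟩ := map_away_isPrime (A₁ := B₁) b (p.map (algebraMap R B)) fun hm => hb (hle hm)
  have hP₁ : (p₁.map (algebraMap R₁ B₁)).IsPrime := hmap ▸ hprime
  haveI := hP₁
  refine ⟨hP₁, ⟨by rw [Ideal.under_def, hmap, hcomap]⟩, ⟨?_⟩⟩
  refine congrArg PrimeSpectrum.asIdeal (PrimeSpectrum.localization_comap_injective R₁ (Submonoid.powers g)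
    (a₁ := (⟨p₁, inferInstance⟩ : PrimeSpectrum R₁))
    (a₂ := PrimeSpectrum.comap (algebraMap R₁ B₁) ⟨_, hP₁⟩) (PrimeSpectrum.ext ?_))
  simp only [PrimeSpectrum.comap_asIdeal]
  rw [Ideal.comap_comap, ← IsScalarTower.algebraMap_eq R R₁ B₁, IsScalarTower.algebraMap_eq R B B₁,
    ← Ideal.comap_comap, hmap, hcomap, ← Ideal.under_def, ← Ideal.under_def, ← hp₁.over]
  exact le_antisymm Ideal.le_comap_map ((Ideal.comap_mono hle).trans hQp.over.ge)

end Groth.Agent.RG
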