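import Groth.Agent.RG.DevShrinkDef

/-!
# Standard shrinkings of complete dévissages: the recursion
-/

set_option autoImplicit false
set_option linter.style.haveILetI false
set_option linter.unusedSectionVars false
set_option backward.isDefEq.respectTransparency false
set_option backward.isDefEq.respectTransparency.types false
set_option maxHeartbeats 4000000

universe u

open TensorProduct

namespace Groth.Agent.RG

variable {R : Type u} [CommRing R] {p : Ideal R} [p.IsPrime] {g : R}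
  {R₁ : Type u} [CommRing R₁] [Algebra R R₁] [IsLocalization.Away g R₁] (p₁ : Ideal R₁) [p₁.IsPrime]
  [hp₁ : p₁.LiesOver p]
  {S : Type u} [CommRing S] [Algebra R S] {N : Type u} [AddCommGroup N] [Module S N]
  (𝒟 : FlatCA.CompleteDevissage R S N p) {hX : S} {b : ∀ i, 𝒟.B i}
  {S₁ : Type u} [CommRing S₁] [Algebra R₁ S₁] [Algebra R S₁] [Algebra S S₁] [IsScalarTower R R₁ S₁]
  [IsScalarTower R S S₁] [IsLocalization.Away hX S₁]
  {N₁ : Type u} [AddCommGroup N₁] [Module S₁ N₁] [Module S N₁] [IsScalarTower S S₁ N₁] (f : N →ₗ[S] N₁)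

section Head

variable {A₀ B₀ G₀ : Type u} [CommRing A₀] [CommRing B₀] [AddCommGroup G₀]
  [Algebra R₁ A₀] [Algebra R A₀] [IsScalarTower R R₁ A₀] [Algebra (𝒟.A 0) A₀] [IsScalarTower R (𝒟.A 0) A₀]
  [Algebra R₁ B₀] [Algebra R B₀] [IsScalarTower R R₁ B₀] [Algebra (𝒟.B 0) B₀] [IsScalarTower R (𝒟.B 0) B₀]
  [Algebra B₀ A₀] [IsScalarTower R₁ B₀ A₀] [Algebra (𝒟.B 0) A₀] [IsScalarTower (𝒟.B 0) (𝒟.A 0) A₀]
  [IsScalarTower (𝒟.B 0) B₀ A₀]
  [Algebra S₁ A₀] [IsScalarTower R₁ S₁ A₀] [Algebra S A₀] [IsScalarTower S S₁ A₀] [IsScalarTower S (𝒟.A 0) A₀]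
  [IsLocalization.Away (algebraMap (𝒟.B 0) (𝒟.A 0) (b 0)) A₀] [IsLocalization.Away (b 0) B₀]
  [Module A₀ G₀] [Module (𝒟.A 0) G₀] [IsScalarTower (𝒟.A 0) A₀ G₀]
  [Module B₀ G₀] [IsScalarTower B₀ A₀ G₀] [Module (𝒟.B 0) G₀] [IsScalarTower (𝒟.B 0) B₀ G₀]
  [IsScalarTower (𝒟.B 0) (𝒟.A 0) G₀]
  [Module S₁ G₀] [IsScalarTower S₁ A₀ G₀] [Module S G₀] [IsScalarTower S S₁ G₀] [IsScalarTower S (𝒟.A 0) G₀]
  [Module R₁ G₀] [IsScalarTower R₁ B₀ G₀]
  (gA : 𝒟.M 0 →ₗ[𝒟.A 0] G₀)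

include B₀ gA in
/-- The first step of a shrinking. -/
theorem shr_head (hd : ShrinkData 𝒟 g hX b) (hf : IsBaseChange S₁ f) (hgA : IsBaseChange A₀ gA) :
    IsBaseChange B₀ (gA.restrictScalars (𝒟.B 0)) ∧ (∃ e : N₁ ≃ₗ[S₁] G₀, ∀ x, e (f x) = gA (𝒟.isoN x)) ∧
    Function.Surjective (algebraMap S₁ A₀) ∧ Algebra.FinitePresentation S₁ A₀ ∧ Module.Finite B₀ A₀ ∧
    Module.Finite A₀ G₀ ∧ Algebra.Smooth R₁ B₀ ∧ FlatCA.GeomIrredFibres R₁ B₀ ∧
    (p₁.map (algebraMap R₁ B₀)).IsPrime ∧ (p₁.map (algebraMap R₁ B₀)).LiesOver (p.map (algebraMap R (𝒟.B 0))) ∧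
    (p₁.map (algebraMap R₁ B₀)).LiesOver p₁ := by
  have h0 : 0 < 𝒟.n := 𝒟.pos
  haveI hBA : Algebra.IsPushout (𝒟.B 0) B₀ (𝒟.A 0) A₀ :=
    isPushout_of_away_map (b 0) (algebraMap (𝒟.B 0) (𝒟.A 0) (b 0)) rfl B₀ A₀
  haveI hSA : Algebra.IsPushout S S₁ (𝒟.A 0) A₀ :=
    isPushout_of_away_map hX (algebraMap (𝒟.B 0) (𝒟.A 0) (b 0)) hd.imgX S₁ A₀
  haveI := hBA.symm
  haveI := hSA.symm
  have hgB : IsBaseChange B₀ (gA.restrictScalars (𝒟.B 0)) := isBaseChange_restrict (B := 𝒟.B 0) (B' := B₀) gA hgA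
  have h0S : IsBaseChange S₁ ((gA.restrictScalars S).comp 𝒟.isoN.toLinearMap) :=
    (isBaseChange_restrict (B := S) (B' := S₁) gA hgA).comp_equiv 𝒟.isoN
  haveI := isPushout_self S S₁
  haveI := isPushout_self (𝒟.B 0) B₀
  haveI := 𝒟.fpSA
  haveI := 𝒟.finiteBA 0 h0
  haveI := 𝒟.finiteM 0 h0
  obtain ⟨Q, hQ, hQp, hbQ⟩ := hd.mem 0 h0
  haveI := hQ
  haveI := hQp
  haveI := 𝒟.smooth 0 h0
  haveI : Algebra.Smooth (𝒟.B 0) B₀ := Algebra.Smooth.of_isLocalization_Away (b 0)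
  haveI : Algebra.Smooth R B₀ := Algebra.Smooth.comp R (𝒟.B 0) B₀
  haveI := isPushout_of_away R R₁ B₀ g
  obtain ⟨h1, h2, h3⟩ := away_prime p₁ (B₁ := B₀) (b 0) (𝒟.hp 0) Q hbQ g
  refine ⟨hgB, ⟨hf.equiv.symm ≪≫ₗ h0S.equiv, fun x => ?_⟩,
    surjective_baseChange S S₁ S S₁ (𝒟.A 0) A₀ 𝒟.surjSA, finitePresentation_baseChange S S₁ S S₁ (𝒟.A 0) A₀,
    finite_baseChange (𝒟.B 0) B₀ (𝒟.B 0) B₀ (𝒟.A 0) A₀, Module.Finite.equiv hgA.equiv,
    Algebra.Smooth.of_equiv (Algebra.IsPushout.equiv R R₁ B₀ B₀),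
    geomIrredFibres_away (D := 𝒟.B 0) (𝒟.geomIrred 0 h0) g (b 0) (hd.fibres 0 h0), h1, h2, h3⟩
  show h0S.equiv (hf.equiv.symm (f x)) = _
  rw [IsBaseChange.equiv_symm_apply, IsBaseChange.equiv_tmul, one_smul]
  rfl

include B₀ gA in
/-- A shrinking of a dévissage with one step. -/
theorem shr_one (hd : ShrinkData 𝒟 g hX b) (hf : IsBaseChange S₁ f) (hgA : IsBaseChange A₀ gA) (hn : 𝒟.n = 1) :
    HasShrunkDevissage 𝒟 b p₁ S₁ f := by
  obtain ⟨hgB, ⟨e₀, he₀⟩, hsurj, hfp, hfin, hfinM, hsm', hirr', hP', hPl, hPp⟩ :=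
    shr_head (B₀ := B₀) p₁ 𝒟 f gA hd hf hgA
  haveI := hP'
  haveI := hPl
  have h0 : 0 < 𝒟.n := 𝒟.pos
  let α' := baseFree (D' := B₀) (gA.restrictScalars (𝒟.B 0)) (𝒟.α 0)
  have hfib := bijective_baseFree (gA.restrictScalars (𝒟.B 0)) (𝒟.α 0) hgB (p.map (algebraMap R (𝒟.B 0)))
    (p₁.map (algebraMap R₁ B₀)) (𝒟.fibreIso 0 h0)
  have hlast : Function.Surjective α' := surjective_baseFree _ _ hgB (by
    have key : ∀ j, j = 𝒟.n - 1 → Function.Surjective (𝒟.α j) := fun j hj => hj ▸ 𝒟.cokerLast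
    exact key 0 (by omega))
  let P' := p₁.map (algebraMap R₁ B₀)
  let K := P'.ResidueField
  haveI hK : (p₁.map (algebraMap R₁ K)).IsPrime := by
    have e : p₁.map (algebraMap R₁ K) = ⊥ := by
      rw [eq_bot_iff, Ideal.map_le_iff_le_comap]
      intro a ha
      rw [Ideal.mem_comap, Ideal.mem_bot, IsScalarTower.algebraMap_apply R₁ B₀ K,
        Ideal.algebraMap_residueField_eq_zero]
      exact Ideal.mem_map_of_mem _ ha
    rw [e]
    exact Ideal.isPrime_bot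
  have hbot : (⊥ : Ideal K).LiesOver p₁ := ⟨by
    rw [Ideal.under_def, IsScalarTower.algebraMap_eq R₁ B₀ K, ← Ideal.comap_comap]
    rw [show (⊥ : Ideal K).comap (algebraMap B₀ K) = P' from P'.ker_algebraMap_residueField]
    exact hPp.over⟩
  let 𝒟' : FlatCA.CompleteDevissage R₁ S₁ N₁ p₁ :=
  { n := 1
    pos := Nat.one_pos
    A := fun | 0 => A₀ | _ + 1 => K
    B := fun | 0 => B₀ | _ + 1 => K
    M := fun | 0 => G₀ | _ + 1 => PUnit
    r := 𝒟.r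
    cA := fun | 0 => inferInstance | _ + 1 => inferInstance
    cB := fun | 0 => inferInstance | _ + 1 => inferInstance
    aRA := fun | 0 => inferInstance | _ + 1 => inferInstance
    aRB := fun | 0 => inferInstance | _ + 1 => inferInstance
    aBA := fun | 0 => (inferInstance : Algebra B₀ A₀) | _ + 1 => Algebra.id K
    tRBA := fun | 0 => (inferInstance : IsScalarTower R₁ B₀ A₀) | _ + 1 => IsScalarTower.of_algebraMap_eq fun _ => rfl
    aSA := (inferInstance : Algebra S₁ A₀)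
    tRSA := (inferInstance : IsScalarTower R₁ S₁ A₀)
    aBA' := fun | 0 => (inferInstance : Algebra B₀ K) | _ + 1 => Algebra.id K
    tRBA' := fun | 0 => (inferInstance : IsScalarTower R₁ B₀ K) | _ + 1 => IsScalarTower.of_algebraMap_eq fun _ => rfl
    gM := fun | 0 => inferInstance | _ + 1 => inferInstance
    mAM := fun | 0 => inferInstance | _ + 1 => inferInstance
    mBM := fun | 0 => (inferInstance : Module B₀ G₀) | _ + 1 => inferInstance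
    tBAM := fun | 0 => (inferInstance : IsScalarTower B₀ A₀ G₀) | _ + 1 => ⟨fun _ _ _ => rfl⟩
    mRM := fun | 0 => inferInstance | _ + 1 => inferInstance
    tRBM := fun | 0 => (inferInstance : IsScalarTower R₁ B₀ G₀) | _ + 1 => ⟨fun _ _ _ => rfl⟩
    mSM := (inferInstance : Module S₁ G₀)
    tSAM := (inferInstance : IsScalarTower S₁ A₀ G₀)
    mB'M := fun | 0 => inferInstance | _ + 1 => inferInstance
    tB'AM := fun | 0 => ⟨fun _ _ _ => rfl⟩ | _ + 1 => ⟨fun _ _ _ => rfl⟩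
    hp := fun | 0 => hP' | _ + 1 => hK
    α := fun | 0 => α' | _ + 1 => 0
    surjSA := hsurj
    fpSA := hfp
    surjBA' := fun i hi => absurd hi (by omega)
    fpBA' := fun i hi => absurd hi (by omega)
    finiteBA := fun i hi => match i, hi with | 0, _ => hfin | i + 1, hi => absurd hi (by omega)
    smooth := fun i hi => match i, hi with | 0, _ => hsm' | i + 1, hi => absurd hi (by omega)
    geomIrred := fun i hi => match i, hi with | 0, _ => hirr' | i + 1, hi => absurd hi (by omega)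
    finiteM := fun i hi => match i, hi with | 0, _ => hfinM | i + 1, hi => absurd hi (by omega)
    isoN := e₀
    isoCoker := fun i hi => absurd hi (by omega)
    fibreIso := fun i hi => match i, hi with | 0, _ => hfib | i + 1, hi => absurd hi (by omega)
    cokerLast := hlast }
  letI : Algebra (𝒟.B 0) K := ((algebraMap B₀ K).comp (algebraMap (𝒟.B 0) B₀)).toAlgebra
  haveI tK : IsScalarTower (𝒟.B 0) B₀ K := IsScalarTower.of_algebraMap_eq' rfl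
  have no : ∀ {j : ℕ}, j + 1 < 𝒟.n → False := fun h => by omega
  refine ⟨𝒟', fun | ⟨0, _⟩ => (inferInstance : Algebra (𝒟.A 0) A₀) | ⟨_ + 1, h⟩ => (no h).elim,
    fun | ⟨0, _⟩ => (inferInstance : Algebra R A₀) | ⟨_ + 1, h⟩ => (no h).elim,
    fun | ⟨0, _⟩ => (inferInstance : IsScalarTower R R₁ A₀) | ⟨_ + 1, h⟩ => (no h).elim,
    fun | ⟨0, _⟩ => (inferInstance : IsScalarTower R (𝒟.A 0) A₀) | ⟨_ + 1, h⟩ => (no h).elim,
    fun | ⟨0, _⟩ => (inferInstance : Algebra (𝒟.B 0) B₀) | ⟨_ + 1, h⟩ => (no h).elim,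
    fun | ⟨0, _⟩ => (inferInstance : Algebra R B₀) | ⟨_ + 1, h⟩ => (no h).elim,
    fun | ⟨0, _⟩ => (inferInstance : IsScalarTower R R₁ B₀) | ⟨_ + 1, h⟩ => (no h).elim,
    fun | ⟨0, _⟩ => (inferInstance : IsScalarTower R (𝒟.B 0) B₀) | ⟨_ + 1, h⟩ => (no h).elim,
    fun | ⟨0, _⟩ => (inferInstance : Algebra (𝒟.B 0) A₀) | ⟨_ + 1, h⟩ => (no h).elim,
    fun | ⟨0, _⟩ => (inferInstance : IsScalarTower (𝒟.B 0) (𝒟.A 0) A₀) | ⟨_ + 1, h⟩ => (no h).elim,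
    fun | ⟨0, _⟩ => (inferInstance : IsScalarTower (𝒟.B 0) B₀ A₀) | ⟨_ + 1, h⟩ => (no h).elim,
    fun | ⟨0, _⟩ => (inferInstance : Algebra (𝒟.B 0) K) | ⟨_ + 1, h⟩ => (no h).elim,
    fun | ⟨0, _⟩ => tK | ⟨_ + 1, h⟩ => (no h).elim,
    (inferInstance : Algebra S A₀), (inferInstance : IsScalarTower S S₁ A₀),
    fun | ⟨0, _⟩ => (inferInstance : Module (𝒟.A 0) G₀) | ⟨_ + 1, h⟩ => (no h).elim,
    fun | ⟨0, _⟩ => (inferInstance : IsScalarTower (𝒟.A 0) A₀ G₀) | ⟨_ + 1, h⟩ => (no h).elim,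
    fun | ⟨0, _⟩ => gA | ⟨_ + 1, h⟩ => (no h).elim,
    hn.symm, rfl, ?_, (inferInstance : IsScalarTower S (𝒟.A 0) A₀), he₀, fun i h => (no h).elim, ?_⟩
  · intro i hi
    obtain ⟨j, rfl⟩ : ∃ j, i = j + 1 := ⟨i - 1, by omega⟩
    exact ⟨(⊥ : Ideal K), (⊥ : Ideal K), Ideal.isPrime_bot, Ideal.isPrime_bot, hbot,
      ⟨(Ideal.comap_id (⊥ : Ideal K)).symm⟩⟩
  rintro ⟨_ | j, hj⟩
  · exact ⟨(inferInstance : IsLocalization.Away (algebraMap (𝒟.B 0) (𝒟.A 0) (b 0)) A₀),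
      (inferInstance : IsLocalization.Away (b 0) B₀), hgA, range_baseFree _ _⟩
  · exact (no hj).elim

include B₀ gA in
/-- A shrinking of a dévissage with a tail. -/
theorem shr_cons (hd : ShrinkData 𝒟 g hX b) (hf : IsBaseChange S₁ f) (hgA : IsBaseChange A₀ gA) {m : ℕ}
    (hm : 𝒟.n = m + 2)
    (ih : ∀ (N'' : Type u) [AddCommGroup N''] [Module B₀ N''] [Module (𝒟.B 0) N'']
      [IsScalarTower (𝒟.B 0) B₀ N''] (φ : 𝒟.M 1 →ₗ[𝒟.B 0] N''), IsBaseChange B₀ φ →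
      HasShrunkDevissage (devTail 𝒟 hm) (fun i => b (i + 1)) p₁ B₀ φ) :
    HasShrunkDevissage 𝒟 b p₁ S₁ f := by
  obtain ⟨hgB, ⟨e₀, he₀⟩, hsurj, hfp, hfin, hfinM, hsm', hirr', hP', hPl, -⟩ :=
    shr_head (B₀ := B₀) p₁ 𝒟 f gA hd hf hgA
  haveI := hP'
  haveI := hPl
  have h0 : 0 < 𝒟.n := 𝒟.pos
  let α' := baseFree (D' := B₀) (gA.restrictScalars (𝒟.B 0)) (𝒟.α 0)
  have hfib := bijective_baseFree (gA.restrictScalars (𝒟.B 0)) (𝒟.α 0) hgB (p.map (algebraMap R (𝒟.B 0)))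
    (p₁.map (algebraMap R₁ B₀)) (𝒟.fibreIso 0 h0)
  let gQ : 𝒟.M 1 →ₗ[𝒟.B 0] (G₀ ⧸ LinearMap.range α') :=
    (cokerMap (D' := B₀) (gA.restrictScalars (𝒟.B 0)) (𝒟.α 0)).comp (𝒟.isoCoker 0 (by omega)).symm.toLinearMap
  have hgQ : IsBaseChange B₀ gQ :=
    (isBaseChange_cokerMap _ _ hgB).comp_equiv (𝒟.isoCoker 0 (by omega)).symm
  obtain ⟨T, taA, trA, tt1, tt2, taB, trB, tt3, tt4, tbA, tt5, tt6, tbA', tt7, tsA, tt8, tmA, tt9, tgM,
    htn, htr, httail, ht0, -, htstep, htall⟩ := ih _ gQ hgQ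
  have htn' : T.n = m + 1 := htn
  let 𝒟' : FlatCA.CompleteDevissage R₁ S₁ N₁ p₁ :=
  { n := m + 2
    pos := Nat.succ_pos _
    A := fun | 0 => A₀ | i + 1 => T.A i
    B := fun | 0 => B₀ | i + 1 => T.B i
    M := fun | 0 => G₀ | i + 1 => T.M i
    r := fun | 0 => 𝒟.r 0 | i + 1 => T.r i
    cA := fun | 0 => inferInstance | i + 1 => T.cA i
    cB := fun | 0 => inferInstance | i + 1 => T.cB i
    aRA := fun | 0 => inferInstance | i + 1 => T.aRA i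
    aRB := fun | 0 => inferInstance | i + 1 => T.aRB i
    aBA := fun | 0 => (inferInstance : Algebra B₀ A₀) | i + 1 => T.aBA i
    tRBA := fun | 0 => (inferInstance : IsScalarTower R₁ B₀ A₀) | i + 1 => T.tRBA i
    aSA := (inferInstance : Algebra S₁ A₀)
    tRSA := (inferInstance : IsScalarTower R₁ S₁ A₀)
    aBA' := fun | 0 => T.aSA | i + 1 => T.aBA' i
    tRBA' := fun | 0 => T.tRSA | i + 1 => T.tRBA' i
    gM := fun | 0 => inferInstance | i + 1 => T.gM i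
    mAM := fun | 0 => inferInstance | i + 1 => T.mAM i
    mBM := fun | 0 => (inferInstance : Module B₀ G₀) | i + 1 => T.mBM i
    tBAM := fun | 0 => (inferInstance : IsScalarTower B₀ A₀ G₀) | i + 1 => T.tBAM i
    mRM := fun | 0 => inferInstance | i + 1 => T.mRM i
    tRBM := fun | 0 => (inferInstance : IsScalarTower R₁ B₀ G₀) | i + 1 => T.tRBM i
    mSM := (inferInstance : Module S₁ G₀)
    tSAM := (inferInstance : IsScalarTower S₁ A₀ G₀)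
    mB'M := fun | 0 => T.mSM | i + 1 => T.mB'M i
    tB'AM := fun | 0 => T.tSAM | i + 1 => T.tB'AM i
    hp := fun | 0 => hP' | i + 1 => T.hp i
    α := fun | 0 => α' | i + 1 => T.α i
    surjSA := hsurj
    fpSA := hfp
    surjBA' := fun i hi => match i, hi with | 0, _ => T.surjSA | i + 1, hi => T.surjBA' i (by omega)
    fpBA' := fun i hi => match i, hi with | 0, _ => T.fpSA | i + 1, hi => T.fpBA' i (by omega)
    finiteBA := fun i hi => match i, hi with | 0, _ => hfin | i + 1, hi => T.finiteBA i (by omega)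
    smooth := fun i hi => match i, hi with | 0, _ => hsm' | i + 1, hi => T.smooth i (by omega)
    geomIrred := fun i hi => match i, hi with | 0, _ => hirr' | i + 1, hi => T.geomIrred i (by omega)
    finiteM := fun i hi => match i, hi with | 0, _ => hfinM | i + 1, hi => T.finiteM i (by omega)
    isoN := e₀
    isoCoker := fun i hi => match i, hi with
      | 0, _ => T.isoN
      | i + 1, hi => T.isoCoker i (by omega)
    fibreIso := fun i hi => match i, hi with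
      | 0, _ => hfib
      | i + 1, hi => T.fibreIso i (by omega)
    cokerLast := by
      have key : ∀ j, j = T.n - 1 → Function.Surjective (T.α j) := fun j hj => hj ▸ T.cokerLast
      exact key m (by omega) }
  have hlt : ∀ {j : ℕ}, j + 1 < 𝒟.n → j < (devTail 𝒟 hm).n := fun h => by
    show _ < m + 1
    omega
  refine ⟨𝒟', fun | ⟨0, _⟩ => (inferInstance : Algebra (𝒟.A 0) A₀) | ⟨j + 1, h⟩ => taA ⟨j, hlt h⟩,
    fun | ⟨0, _⟩ => (inferInstance : Algebra R A₀) | ⟨j + 1, h⟩ => trA ⟨j, hlt h⟩,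
    fun | ⟨0, _⟩ => (inferInstance : IsScalarTower R R₁ A₀) | ⟨j + 1, h⟩ => tt1 ⟨j, hlt h⟩,
    fun | ⟨0, _⟩ => (inferInstance : IsScalarTower R (𝒟.A 0) A₀) | ⟨j + 1, h⟩ => tt2 ⟨j, hlt h⟩,
    fun | ⟨0, _⟩ => (inferInstance : Algebra (𝒟.B 0) B₀) | ⟨j + 1, h⟩ => taB ⟨j, hlt h⟩,
    fun | ⟨0, _⟩ => (inferInstance : Algebra R B₀) | ⟨j + 1, h⟩ => trB ⟨j, hlt h⟩,
    fun | ⟨0, _⟩ => (inferInstance : IsScalarTower R R₁ B₀) | ⟨j + 1, h⟩ => tt3 ⟨j, hlt h⟩,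
    fun | ⟨0, _⟩ => (inferInstance : IsScalarTower R (𝒟.B 0) B₀) | ⟨j + 1, h⟩ => tt4 ⟨j, hlt h⟩,
    fun | ⟨0, _⟩ => (inferInstance : Algebra (𝒟.B 0) A₀) | ⟨j + 1, h⟩ => tbA ⟨j, hlt h⟩,
    fun | ⟨0, _⟩ => (inferInstance : IsScalarTower (𝒟.B 0) (𝒟.A 0) A₀) | ⟨j + 1, h⟩ => tt5 ⟨j, hlt h⟩,
    fun | ⟨0, _⟩ => (inferInstance : IsScalarTower (𝒟.B 0) B₀ A₀) | ⟨j + 1, h⟩ => tt6 ⟨j, hlt h⟩,
    fun | ⟨0, _⟩ => tsA | ⟨j + 1, h⟩ => tbA' ⟨j, hlt h⟩,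
    fun | ⟨0, _⟩ => tt8 | ⟨j + 1, h⟩ => tt7 ⟨j, hlt h⟩,
    (inferInstance : Algebra S A₀), (inferInstance : IsScalarTower S S₁ A₀),
    fun | ⟨0, _⟩ => (inferInstance : Module (𝒟.A 0) G₀) | ⟨j + 1, h⟩ => tmA ⟨j, hlt h⟩,
    fun | ⟨0, _⟩ => (inferInstance : IsScalarTower (𝒟.A 0) A₀ G₀) | ⟨j + 1, h⟩ => tt9 ⟨j, hlt h⟩,
    fun | ⟨0, _⟩ => gA | ⟨j + 1, h⟩ => tgM ⟨j, hlt h⟩,
    hm.symm, funext fun | 0 => rfl | j + 1 => congrFun htr j, ?_,
    (inferInstance : IsScalarTower S (𝒟.A 0) A₀), he₀, ?_, ?_⟩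
  · intro i hi
    obtain ⟨j, rfl⟩ : ∃ j, i = j + 1 := ⟨i - 1, by omega⟩
    exact httail j (by show m + 1 ≤ j; omega)
  · rintro ⟨_ | j, hj⟩ h
    · exact ht0
    · exact htstep ⟨j, hlt hj⟩ (hlt h)
  · rintro ⟨_ | j, hj⟩
    · exact ⟨(inferInstance : IsLocalization.Away (algebraMap (𝒟.B 0) (𝒟.A 0) (b 0)) A₀),
        (inferInstance : IsLocalization.Away (b 0) B₀), hgA, range_baseFree _ _⟩
    · obtain ⟨h1, h2, h3, h4⟩ := htall ⟨j, hlt hj⟩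
      exact ⟨h1, h2, h3, h4⟩

end Head

end Groth.Agent.RG
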