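import Groth.Agent.RG.StepShrink
import Groth.Agent.RG.CompleteBC
import Groth.Agent.RG.StepShrinkAway
import Groth.Agent.RG.StepDim
import Groth.Agent.S2768

/-!
# Steps of complete dévissages
-/

set_option autoImplicit false
set_option linter.style.haveILetI false
set_option linter.unusedSectionVars false
set_option backward.isDefEq.respectTransparency false
set_option backward.isDefEq.respectTransparency.types false
set_option maxHeartbeats 1000000

universe u

open TensorProduct

namespace Groth.Agent.RG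

attribute [local instance] Algebra.TensorProduct.rightAlgebra

/-- A free map bijective at the generic point of the fibre gives the local dimension of the support. -/
theorem exists_locDim_of_pos {R D : Type u} [CommRing R] [CommRing D] [Algebra R D] {n : ℕ}
    (hsm : FlatCA.SmoothRelDim n R D) (p : Ideal R) [p.IsPrime] [(p.map (algebraMap R D)).IsPrime]
    (G : Type u) [AddCommGroup G] [Module D G] [Module.Finite D G] {r : ℕ} (hr : 0 < r) (α : (Fin r → D) →ₗ[D] G)
    (hfib : Function.Bijective (α.baseChange (p.map (algebraMap R D)).ResidueField))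
    (y : Ideal D) [y.IsPrime] [y.LiesOver p] :
    ∃ (x : PrimeSpectrum (p.Fiber D)) (hx : x ∈ Module.support (p.Fiber D) (FlatCA.fiberMod p D G)),
      x.asIdeal = FlatCA.fiberIdeal p y ∧
      FlatMor.localDim (Module.support (p.Fiber D) (FlatCA.fiberMod p D G)) ⟨x, hx⟩ = n := by
  let P := p.map (algebraMap R D)
  have hP : (⟨P, inferInstance⟩ : PrimeSpectrum D) ∈ Module.support D G := by
    rw [Module.mem_support_iff_nontrivial_residueField_tensorProduct]
    haveI : Nonempty (Fin r) := ⟨⟨0, hr⟩⟩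
    haveI : Nontrivial (P.ResidueField ⊗[D] (Fin r → D)) :=
      (TensorProduct.piScalarRight D P.ResidueField P.ResidueField (Fin r)).toEquiv.nontrivial
    exact (Equiv.ofBijective _ hfib).symm.nontrivial
  have hsupp : ∀ Q : PrimeSpectrum (p.Fiber D), Q ∈ Module.support (p.Fiber D) (FlatCA.fiberMod p D G) := by
    intro Q
    show Q ∈ Module.support (p.Fiber D) ((p.Fiber D) ⊗[D] G)
    rw [QCoh.mem_support_baseChange (TensorProduct.isBaseChange D G (p.Fiber D))]
    refine Module.mem_support_mono (p := ⟨P, inferInstance⟩) ?_ hP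
    let y' := (PrimeSpectrum.primesOverOrderIsoFiber R D p).symm Q
    show P ≤ y'.1
    exact Ideal.map_le_iff_le_comap.2 y'.2.2.over.le
  let x := PrimeSpectrum.primesOverOrderIsoFiber R D p ⟨y, ‹_›, ‹_›⟩
  have hx : x.asIdeal.comap (Algebra.TensorProduct.includeRight : D →ₐ[R] p.Fiber D) = y :=
    congr($((PrimeSpectrum.primesOverOrderIsoFiber R D p).symm_apply_apply ⟨y, ‹_›, ‹_›⟩).1)
  refine ⟨x, hsupp x, ZClosLib.FibAssIdeal.eq_fiberIdeal p hx, ?_⟩
  let E : Module.support (p.Fiber D) (FlatCA.fiberMod p D G) ≃ₜ PrimeSpectrum (p.Fiber D) :=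
    (Homeomorph.setCongr (Set.eq_univ_of_forall hsupp)).trans (Homeomorph.Set.univ _)
  rw [← FibDim.localDim_homeomorph E]
  show FlatMor.localDim (PrimeSpectrum (p.Fiber D)) x = n
  haveI := hsm
  rw [localDim_fiber_eq p ⟨y, inferInstance⟩ (Ideal.LiesOver.over (P := y) (p := p)).symm x hx, Groth.Agent.S2768.result n]

/-- One step of a complete dévissage at a point. -/
structure Step (R S : Type u) [CommRing R] [CommRing S] [Algebra R S] (N : Type u) [AddCommGroup N] [Module S N]
    (p : Ideal R) [p.IsPrime] (q : Ideal S) [q.IsPrime] : Type (u + 1) where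
  /-- the ring carrying the module -/
  C : Type u
  /-- the smooth algebra -/
  D : Type u
  /-- the module -/
  G : Type u
  [cC : CommRing C] [cD : CommRing D]
  [aRC : Algebra R C] [aRD : Algebra R D] [aSC : Algebra S C] [aDC : Algebra D C]
  [tRSC : IsScalarTower R S C] [tRDC : IsScalarTower R D C]
  [gG : AddCommGroup G] [mCG : Module C G] [mSG : Module S G] [tSCG : IsScalarTower S C G]
  [mDG : Module D G] [tDCG : IsScalarTower D C G]
  /-- the relative dimension -/
  n : ℕ
  /-- the point of `C` -/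
  z : Ideal C
  /-- the point of `D` -/
  y : Ideal D
  [hz : z.IsPrime] [hy : y.IsPrime] [zq : z.LiesOver q] [zy : z.LiesOver y] [yp : y.LiesOver p]
  [hP : (p.map (algebraMap R D)).IsPrime]
  surj : Function.Surjective (algebraMap S C)
  [fp : Algebra.FinitePresentation S C]
  [finC : Module.Finite D C]
  [finG : Module.Finite C G]
  iso : N ≃ₗ[S] G
  smooth : FlatCA.SmoothRelDim n R D
  irred : FlatCA.GeomIrredFibres R D
  uniq : ∀ (z₁ : Ideal C) [z₁.IsPrime], z₁.LiesOver y → z₁ = z
  pure : FlatCA.PurelyTranscendental p y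
  /-- the rank -/
  r : ℕ
  pos : 0 < r
  /-- the map from the free module -/
  α : (Fin r → D) →ₗ[D] G
  fibre : Function.Bijective (α.baseChange (p.map (algebraMap R D)).ResidueField)

attribute [instance] Step.cC Step.cD Step.aRC Step.aRD Step.aSC Step.aDC Step.tRSC Step.tRDC Step.gG Step.mCG
  Step.mSG Step.tSCG Step.mDG Step.tDCG Step.hz Step.hy Step.zq Step.zy Step.yp Step.hP Step.fp Step.finC Step.finG

variable {R S : Type u} [CommRing R] [CommRing S] [Algebra R S] {N : Type u} [AddCommGroup N] [Module S N]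
  {p : Ideal R} [p.IsPrime] {q : Ideal S} [q.IsPrime]

/-- The cokernel of a step. -/
abbrev Step.Q (σ : Step R S N p q) : Type u := σ.G ⧸ LinearMap.range σ.α

instance (σ : Step R S N p q) : Module.Finite σ.D σ.G := Module.Finite.trans σ.C σ.G

/-- The same step for an isomorphic module. -/
@[reducible] noncomputable def Step.congr (σ : Step R S N p q) {N' : Type u} [AddCommGroup N'] [Module S N']
    (e : N' ≃ₗ[S] N) : Step R S N' p q :=
  { C := σ.C, D := σ.D, G := σ.G, n := σ.n, z := σ.z, y := σ.y, surj := σ.surj, iso := e ≪≫ₗ σ.iso,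
    smooth := σ.smooth, irred := σ.irred, uniq := @σ.uniq, pure := σ.pure, r := σ.r, pos := σ.pos, α := σ.α,
    fibre := σ.fibre }

/-- A complete dévissage at a point, by recursion on the steps. -/
inductive DevAt (R : Type u) [CommRing R] (p : Ideal R) [p.IsPrime] :
    ∀ (S : Type u) [CommRing S] [Algebra R S] (N : Type u) [AddCommGroup N] [Module S N] (q : Ideal S) [q.IsPrime], Prop
  | last {S : Type u} [CommRing S] [Algebra R S] {N : Type u} [AddCommGroup N] [Module S N] {q : Ideal S} [q.IsPrime]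
      (σ : Step R S N p q) (h : Function.Surjective σ.α) : DevAt R p S N q
  | cons {S : Type u} [CommRing S] [Algebra R S] {N : Type u} [AddCommGroup N] [Module S N] {q : Ideal S} [q.IsPrime]
      (σ : Step R S N p q) (h : DevAt R p σ.D σ.Q σ.y) : DevAt R p S N q

/-- Invariance under isomorphisms of the module. -/
theorem DevAt.congr (h : DevAt R p S N q) {N' : Type u} [AddCommGroup N'] [Module S N'] (e : N' ≃ₗ[S] N) :
    DevAt R p S N' q := by
  cases h with
  | last σ h => exact .last (σ.congr e) h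
  | cons σ h => exact .cons (σ.congr e) h

section Transport

/-- The base change of a free map. -/
noncomputable def baseFree {D D' G G' : Type u} [CommRing D] [CommRing D'] [Algebra D D'] [AddCommGroup G] [Module D G]
    [AddCommGroup G'] [Module D' G'] [Module D G'] [IsScalarTower D D' G'] {r : ℕ} (γ : G →ₗ[D] G')
    (α : (Fin r → D) →ₗ[D] G) : (Fin r → D') →ₗ[D'] G' :=
  Fintype.linearCombination D' fun i => γ (α (Pi.single i 1))

variable {D D' G G' : Type u} [CommRing D] [CommRing D'] [Algebra D D'] [AddCommGroup G] [Module D G]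
    [AddCommGroup G'] [Module D' G'] [Module D G'] [IsScalarTower D D' G'] {r : ℕ} (γ : G →ₗ[D] G')
    (α : (Fin r → D) →ₗ[D] G)

theorem baseFree_single (i : Fin r) : baseFree (D' := D') γ α (Pi.single i 1) = γ (α (Pi.single i 1)) := by
  rw [baseFree, Fintype.linearCombination_apply_single, one_smul]

theorem range_baseFree : LinearMap.range (baseFree (D' := D') γ α) =
    Submodule.span D' (γ '' (LinearMap.range α : Set G)) := by
  rw [baseFree, Fintype.range_linearCombination]
  refine le_antisymm (Submodule.span_le.2 ?_) (Submodule.span_le.2 ?_)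
  · rintro _ ⟨i, rfl⟩
    exact Submodule.subset_span ⟨_, ⟨_, rfl⟩, rfl⟩
  · rintro _ ⟨_, ⟨v, rfl⟩, rfl⟩
    rw [show v = ∑ i, v i • Pi.single i (1 : D) by
      ext j
      simp [Finset.sum_apply, Pi.single_apply], map_sum, map_sum]
    refine Submodule.sum_mem _ fun i _ => ?_
    rw [map_smul, map_smul, ← algebraMap_smul D']
    exact Submodule.smul_mem _ _ (Submodule.subset_span ⟨i, rfl⟩)

/-- The map to the base changed cokernel. -/
noncomputable def cokerMap : (G ⧸ LinearMap.range α) →ₗ[D] (G' ⧸ LinearMap.range (baseFree (D' := D') γ α)) :=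
  (LinearMap.range α).liftQ (((LinearMap.range (baseFree (D' := D') γ α)).mkQ.restrictScalars D) ∘ₗ γ) (by
    intro x hx
    refine (Submodule.Quotient.mk_eq_zero _).2 ?_
    rw [range_baseFree]
    exact Submodule.subset_span ⟨x, hx, rfl⟩)

theorem cokerMap_mk (x : G) : cokerMap (D' := D') γ α (Submodule.Quotient.mk x) = Submodule.Quotient.mk (γ x) := rfl

/-- Cokernels commute with base change. -/
theorem isBaseChange_cokerMap (hγ : IsBaseChange D' γ) : IsBaseChange D' (cokerMap (D' := D') γ α) := by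
  let Q := G ⧸ LinearMap.range α
  let Q' := G' ⧸ LinearMap.range (baseFree (D' := D') γ α)
  let π : G →ₗ[D] Q := (LinearMap.range α).mkQ
  let φ : (D' ⊗[D] Q) →ₗ[D'] Q' := (cokerMap (D' := D') γ α).liftBaseChange D'
  let ψ₀ : G' →ₗ[D'] (D' ⊗[D] Q) := (π.baseChange D').comp hγ.equiv.symm.toLinearMap
  have hψ₀ : ∀ x, ψ₀ (γ x) = (1 : D') ⊗ₜ[D] π x := fun x => by
    show π.baseChange D' (hγ.equiv.symm (γ x)) = _
    rw [show hγ.equiv.symm (γ x) = (1 : D') ⊗ₜ[D] x from
      hγ.equiv.symm_apply_eq.2 (by rw [hγ.equiv_tmul, one_smul]), LinearMap.baseChange_tmul]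
  let ψ : Q' →ₗ[D'] (D' ⊗[D] Q) := (LinearMap.range (baseFree (D' := D') γ α)).liftQ ψ₀ (by
    rw [range_baseFree]
    refine Submodule.span_le.2 ?_
    rintro _ ⟨x, hx, rfl⟩
    show ψ₀ (γ x) = 0
    rw [hψ₀, show π x = 0 from (Submodule.Quotient.mk_eq_zero _).2 hx, TensorProduct.tmul_zero])
  refine IsBaseChange.of_equiv (LinearEquiv.ofLinearMap φ ψ ?_ ?_) fun x => ?_
  · refine Submodule.linearMap_qext _ (hγ.algHom_ext _ _ fun x => ?_)
    show φ (ψ₀ (γ x)) = Submodule.Quotient.mk (γ x)
    rw [hψ₀, LinearMap.liftBaseChange_tmul, one_smul]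
    rfl
  · refine LinearMap.ext fun t => ?_
    induction t using TensorProduct.induction_on with
    | zero => simp
    | add a b ha hb => simp [map_add, ha, hb]
    | tmul a x =>
      obtain ⟨x, rfl⟩ := Submodule.mkQ_surjective _ x
      rw [LinearMap.comp_apply, LinearMap.liftBaseChange_tmul, map_smul]
      show a • ψ₀ (γ x) = _
      rw [hψ₀, TensorProduct.smul_tmul', smul_eq_mul, mul_one, LinearMap.id_apply]
  · show φ ((1 : D') ⊗ₜ[D] x) = _
    rw [LinearMap.liftBaseChange_tmul, one_smul]

theorem surjective_baseFree (hγ : IsBaseChange D' γ) (h : Function.Surjective α) :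
    Function.Surjective (baseFree (D' := D') γ α) := by
  haveI : Subsingleton (G ⧸ LinearMap.range α) := by
    rw [Submodule.Quotient.subsingleton_iff, LinearMap.range_eq_top]
    exact h
  haveI : Subsingleton (G' ⧸ LinearMap.range (baseFree (D' := D') γ α)) :=
    (isBaseChange_cokerMap γ α hγ).equiv.symm.toEquiv.subsingleton
  rwa [Submodule.Quotient.subsingleton_iff, LinearMap.range_eq_top] at this

/-- Bijectivity at a point persists above it. -/
theorem bijective_baseFree (hγ : IsBaseChange D' γ) (P : Ideal D) [P.IsPrime] (P' : Ideal D') [P'.IsPrime]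
    [hPP : P'.LiesOver P] (h : Function.Bijective (α.baseChange P.ResidueField)) :
    Function.Bijective ((baseFree (D' := D') γ α).baseChange P'.ResidueField) := by
  let k := P.ResidueField
  let k' := P'.ResidueField
  letI : Algebra k k' := (Ideal.ResidueField.mapₐ P P' (Algebra.ofId D D') hPP.over).toRingHom.toAlgebra
  haveI : IsScalarTower D k k' := IsScalarTower.of_algebraMap_eq fun r => by
    rw [IsScalarTower.algebraMap_apply D D' k']
    exact (Ideal.ResidueField.map_algebraMap P P' (Algebra.ofId D D').toRingHom hPP.over r).symm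
  let eα : (k ⊗[D] (Fin r → D)) ≃ₗ[k] (k ⊗[D] G) := LinearEquiv.ofBijective _ h
  let e₂ : (k' ⊗[D] (Fin r → D)) ≃ₗ[k'] (k' ⊗[D] G) :=
    (AlgebraTensorModule.cancelBaseChange D k k' k' (Fin r → D)).symm ≪≫ₗ
      LinearEquiv.baseChange k k' _ _ eα ≪≫ₗ AlgebraTensorModule.cancelBaseChange D k k' k' G
  let e₃ : (k' ⊗[D] G) ≃ₗ[k'] (k' ⊗[D'] G') :=
    (AlgebraTensorModule.cancelBaseChange D D' k' k' G).symm ≪≫ₗ LinearEquiv.baseChange D' k' _ _ hγ.equiv
  let e₄ : (k' ⊗[D'] (Fin r → D')) ≃ₗ[k'] (k' ⊗[D] (Fin r → D)) :=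
    TensorProduct.piScalarRight D' k' k' (Fin r) ≪≫ₗ (TensorProduct.piScalarRight D k' k' (Fin r)).symm
  have heq : ((baseFree (D' := D') γ α).baseChange k') = (e₄ ≪≫ₗ e₂ ≪≫ₗ e₃).toLinearMap := by
    refine (Algebra.TensorProduct.basis k' (Pi.basisFun D' (Fin r))).ext fun i => ?_
    rw [Algebra.TensorProduct.basis_apply, LinearMap.baseChange_tmul, Pi.basisFun_apply, baseFree_single]
    have h4 : e₄ ((1 : k') ⊗ₜ[D'] Pi.single i (1 : D')) = (1 : k') ⊗ₜ[D] Pi.single i (1 : D) := by
      show (TensorProduct.piScalarRight D k' k' (Fin r)).symm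
        (TensorProduct.piScalarRight D' k' k' (Fin r) ((1 : k') ⊗ₜ[D'] Pi.single i (1 : D'))) = _
      rw [LinearEquiv.symm_apply_eq]
      funext j
      simp [TensorProduct.piScalarRight_apply, Pi.single_apply]
    show _ = e₃ (e₂ (e₄ ((1 : k') ⊗ₜ[D'] Pi.single i (1 : D'))))
    rw [h4]
    have h2 : e₂ ((1 : k') ⊗ₜ[D] Pi.single i (1 : D)) = (1 : k') ⊗ₜ[D] α (Pi.single i 1) := by
      simp only [e₂, eα, LinearEquiv.trans_apply]
      rw [show (AlgebraTensorModule.cancelBaseChange D k k' k' (Fin r → D)).symm ((1 : k') ⊗ₜ[D] Pi.single i (1 : D)) =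
        (1 : k') ⊗ₜ[k] ((1 : k) ⊗ₜ[D] Pi.single i (1 : D)) from rfl, LinearEquiv.baseChange_tmul,
        LinearEquiv.ofBijective_apply, LinearMap.baseChange_tmul, AlgebraTensorModule.cancelBaseChange_tmul, one_smul]
    rw [h2]
    simp [e₃, hγ.equiv_tmul]
  rw [heq]
  exact (e₄ ≪≫ₗ e₂ ≪≫ₗ e₃).bijective

end Transport

end Groth.Agent.RG
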