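import Groth.Agent.RG.DevConv

/-!
# Transporting steps
-/

set_option autoImplicit false
set_option linter.style.haveILetI false
set_option linter.unusedSectionVars false
set_option backward.isDefEq.respectTransparency false
set_option backward.isDefEq.respectTransparency.types false
set_option maxHeartbeats 1000000

universe u

open TensorProduct

namespace Groth.Agent.RG

variable {R S : Type u} [CommRing R] [CommRing S] [Algebra R S] {N : Type u} [AddCommGroup N] [Module S N]
  {p : Ideal R} [p.IsPrime] {q : Ideal S} [q.IsPrime] (σ : Step R S N p q)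
  {R' S' : Type u} [CommRing R'] [CommRing S'] [Algebra R R'] [Algebra R' S'] [Algebra S S']
  {p' : Ideal R'} [p'.IsPrime] {q' : Ideal S'} [q'.IsPrime]

theorem Step.liesOver_map_of_exists [p'.LiesOver p] (D' : Type u) [CommRing D'] [Algebra R' D'] [Algebra σ.D D']
    [Algebra R D'] [IsScalarTower R R' D'] [IsScalarTower R σ.D D'] [(p'.map (algebraMap R' D')).IsPrime]
    (hQ : ∃ (Q : Ideal D') (_ : Q.IsPrime), Q.LiesOver (p.map (algebraMap R σ.D)) ∧ Q.LiesOver p') :
    (p'.map (algebraMap R' D')).LiesOver (p.map (algebraMap R σ.D)) := by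
  obtain ⟨Q, _, hQP, hQp⟩ := hQ
  refine ⟨le_antisymm ?_ ?_⟩
  · rw [Ideal.map_le_iff_le_comap]
    intro a ha
    show algebraMap σ.D D' (algebraMap R σ.D a) ∈ p'.map (algebraMap R' D')
    rw [← IsScalarTower.algebraMap_apply, IsScalarTower.algebraMap_apply R R' D']
    exact Ideal.mem_map_of_mem _ ((SetLike.ext_iff.1 (Ideal.LiesOver.over (P := p') (p := p)) a).1 ha)
  · have hle : p'.map (algebraMap R' D') ≤ Q := Ideal.map_le_iff_le_comap.2 hQp.over.le
    exact (Ideal.comap_mono hle).trans hQP.over.ge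

variable {N' : Type u} [AddCommGroup N'] [Module S' N'] [Module S N'] [IsScalarTower S S' N'] (f : N →ₗ[S] N')
  (hf : IsBaseChange S' f)
  (C' D' : Type u) [CommRing C'] [CommRing D'] [Algebra R' C'] [Algebra R' D'] [Algebra S' C'] [IsScalarTower R' S' C']
  [Algebra D' C'] [IsScalarTower R' D' C'] [Algebra σ.C C'] [Algebra σ.D D'] [Algebra S C'] [IsScalarTower S S' C']
  [IsScalarTower S σ.C C'] [Algebra σ.D C'] [IsScalarTower σ.D D' C'] [IsScalarTower σ.D σ.C C']
  [Algebra.IsPushout S S' σ.C C'] [Algebra.IsPushout σ.D D' σ.C C']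
  (z' : Ideal C') (y' : Ideal D') [z'.IsPrime] [y'.IsPrime] [z'.LiesOver q'] [z'.LiesOver y'] [y'.LiesOver p']
  (hsm : FlatCA.SmoothRelDim σ.n R' D') (hirr : FlatCA.GeomIrredFibres R' D')
  (huniq : ∀ (z₁ : Ideal C') [z₁.IsPrime], z₁.LiesOver y' → z₁ = z') (hpure : FlatCA.PurelyTranscendental p' y')
  [(p'.map (algebraMap R' D')).IsPrime] [hPP : (p'.map (algebraMap R' D')).LiesOver (p.map (algebraMap R σ.D))]

/-- The base change map of the module of a step. -/
noncomputable def Step.gamma : σ.G →ₗ[σ.D] (C' ⊗[σ.C] σ.G) :=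
  (TensorProduct.mk σ.C C' σ.G 1).restrictScalars σ.D

theorem Step.isBaseChange_gamma : IsBaseChange D' (σ.gamma C') :=
  haveI : Algebra.IsPushout σ.D σ.C D' C' := Algebra.IsPushout.symm inferInstance
  isBaseChange_restrict (B := σ.D) (B' := D') (TensorProduct.mk σ.C C' σ.G 1) (TensorProduct.isBaseChange σ.C σ.G C')

include hf in
theorem Step.nonempty_iso : Nonempty (N' ≃ₗ[S'] (C' ⊗[σ.C] σ.G)) :=
  haveI := isPushout_self S S'
  nonempty_equiv_baseChange S S' S S' σ.C C' N σ.G σ.iso N' f hf (C' ⊗[σ.C] σ.G) (TensorProduct.mk σ.C C' σ.G 1)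
    (TensorProduct.isBaseChange σ.C σ.G C')

/-- The transported step. -/
@[reducible] noncomputable def Step.transport : Step R' S' N' p' q' :=
  haveI := isPushout_self S S'
  haveI := isPushout_self σ.D D'
  { C := C', D := D', G := C' ⊗[σ.C] σ.G, n := σ.n, z := z', y := y'
    surj := surjective_baseChange S S' S S' σ.C C' σ.surj
    fp := finitePresentation_baseChange S S' S S' σ.C C'
    finC := finite_baseChange σ.D D' σ.D D' σ.C C'
    iso := (σ.nonempty_iso f hf C').some
    smooth := hsm, irred := hirr, uniq := @huniq, pure := hpure, r := σ.r, pos := σ.pos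
    α := baseFree (σ.gamma C') σ.α
    fibre := bijective_baseFree (σ.gamma C') σ.α (σ.isBaseChange_gamma C' D') (p.map (algebraMap R σ.D)) _ σ.fibre }

/-- The map between the cokernels. -/
theorem Step.exists_coker_transport :
    ∃ g : σ.Q →ₗ[σ.D] (σ.transport (p' := p') (q' := q') f hf C' D' z' y' hsm hirr huniq hpure).Q, IsBaseChange D' g :=
  ⟨_, isBaseChange_cokerMap (σ.gamma C') σ.α (σ.isBaseChange_gamma C' D')⟩

theorem Step.surjective_transport (h : Function.Surjective σ.α) :
    Function.Surjective (σ.transport (p' := p') (q' := q') f hf C' D' z' y' hsm hirr huniq hpure).α :=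
  surjective_baseFree (σ.gamma C') σ.α (σ.isBaseChange_gamma C' D') h

include hPP in
/-- A transported step followed by a transported dévissage. -/
theorem DevAt.cons_transport (h : ∀ (Q' : Type u) [AddCommGroup Q'] [Module D' Q'] [Module σ.D Q'] [IsScalarTower σ.D D' Q']
      (g : σ.Q →ₗ[σ.D] Q'), IsBaseChange D' g → DevAt R' p' D' Q' y') (hf : IsBaseChange S' f) (hsm : FlatCA.SmoothRelDim σ.n R' D')
      (hirr : FlatCA.GeomIrredFibres R' D')
      (huniq : ∀ (z₁ : Ideal C') [z₁.IsPrime], z₁.LiesOver y' → z₁ = z') (hpure : FlatCA.PurelyTranscendental p' y') :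
    DevAt R' p' S' N' q' := by
  obtain ⟨g, hg⟩ := σ.exists_coker_transport (p' := p') (q' := q') f hf C' D' z' y' hsm hirr huniq hpure
  exact .cons (σ.transport (p' := p') (q' := q') f hf C' D' z' y' hsm hirr huniq hpure) (h _ g hg)

end Groth.Agent.RG
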