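import Groth.Agent.RG.Devissage

/-!
# A dévissage over a point spreads out over the base
-/

set_option autoImplicit false
set_option linter.style.haveILetI false
set_option linter.unusedSectionVars false
set_option backward.isDefEq.respectTransparency false
set_option maxHeartbeats 1000000

universe u

open TensorProduct

namespace Groth.Agent.RG

/-- The divisors of the powers of `f`. -/
def sat {R : Type u} [CommRing R] (f : R) : Submonoid R where
  carrier := {x | ∃ k : ℕ, x ∣ f ^ k}
  mul_mem' := fun {x y} ⟨k, hk⟩ ⟨l, hl⟩ => ⟨k + l, pow_add f k l ▸ mul_dvd_mul hk hl⟩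
  one_mem' := ⟨0, one_dvd _⟩

theorem sat_mono {R : Type u} [CommRing R] {f g : R} (h : f ∣ g) : sat f ≤ sat g :=
  fun _ ⟨k, hk⟩ => ⟨k, hk.trans (pow_dvd_pow_of_dvd h k)⟩

theorem self_mem_sat {R : Type u} [CommRing R] (f : R) : f ∈ sat f := ⟨1, (pow_one f).symm ▸ dvd_rfl⟩

theorem sat_le_primeCompl {R : Type u} [CommRing R] {f : R} (p : Ideal R) [p.IsPrime] (hf : f ∉ p) :
    sat f ≤ p.primeCompl := fun _ ⟨k, c, hc⟩ hx => hf ((inferInstance : p.IsPrime).mem_of_pow_mem k (hc ▸ p.mul_mem_right c hx))

theorem satImage_mono {R S : Type u} [CommRing R] [CommRing S] [Algebra R S] {f g : R} (h : f ∣ g) :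
    Algebra.algebraMapSubmonoid S (sat f) ≤ Algebra.algebraMapSubmonoid S (sat g) := by
  rintro _ ⟨a, ha, rfl⟩
  exact ⟨a, sat_mono h ha, rfl⟩

theorem UnivInjUpTo.mono {R S X N : Type u} [CommRing R] [CommRing S] [Algebra R S] [AddCommGroup X] [Module S X]
    [Module R X] [IsScalarTower R S X] [AddCommGroup N] [Module S N] [Module R N] [IsScalarTower R S N]
    {W W' : Submonoid S} (hle : W ≤ W') {α : X →ₗ[S] N} (h : UnivInjUpTo R W α) : UnivInjUpTo R W' α :=
  fun Q _ _ z hz => let ⟨w, hw, hwz⟩ := h Q z hz; ⟨w, hle hw, hwz⟩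

theorem flat_localized_congr {R S M M' : Type u} [CommRing R] [CommRing S] [Algebra R S] (W : Submonoid S)
    [AddCommGroup M] [Module S M] [Module R M] [IsScalarTower R S M] [AddCommGroup M'] [Module S M'] [Module R M']
    [IsScalarTower R S M'] (e : M ≃ₗ[S] M') (h : Module.Flat R (LocalizedModule W M)) :
    Module.Flat R (LocalizedModule W M') := by
  rw [FlatModel.flat_localized_iff W (LocalizedModule.mkLinearMap W M')]
  intro J y hy
  obtain ⟨x, rfl⟩ := (e.toLinearMap.restrictScalars R).rTensor_surjective J e.surjective y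
  have hx : J.subtype.lTensor M x = 0 := by
    apply (LinearEquiv.rTensor R (e.restrictScalars R)).injective
    rw [map_zero, ← hy]
    exact DFunLike.congr_fun ((LinearMap.rTensor_comp_lTensor (f := (e.toLinearMap.restrictScalars R)) (g := J.subtype)).trans
      (LinearMap.lTensor_comp_rTensor (f := (e.toLinearMap.restrictScalars R)) (g := J.subtype)).symm) x
  obtain ⟨s, hs, hsx⟩ :=
    (FlatModel.flat_localized_iff W (LocalizedModule.mkLinearMap W M)).1 h J x hx
  refine ⟨s, hs, ?_⟩
  rw [show s • (e.toLinearMap.restrictScalars R).rTensor J x = (e.toLinearMap.restrictScalars R).rTensor J (s • x) from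
    ((AlgebraTensorModule.rTensor R J e.toLinearMap).map_smul s x).symm, hsx, map_zero]

theorem flat_sat_iff {R S A M : Type u} [CommRing R] [CommRing S] [Algebra R S] [CommRing A] [Algebra S A] [Algebra R A]
    [IsScalarTower R S A] [AddCommGroup M] [Module A M] [Module S M] [IsScalarTower S A M] [Module R M]
    [IsScalarTower R S M] [IsScalarTower R A M] (f : R) :
    Module.Flat R (LocalizedModule (Algebra.algebraMapSubmonoid A (sat f)) M) ↔
      Module.Flat R (LocalizedModule (Algebra.algebraMapSubmonoid S (sat f)) M) := by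
  rw [FlatModel.flat_localized_iff (Algebra.algebraMapSubmonoid A (sat f)) (LocalizedModule.mkLinearMap (Algebra.algebraMapSubmonoid A (sat f)) M),
    FlatModel.flat_localized_iff (Algebra.algebraMapSubmonoid S (sat f)) (LocalizedModule.mkLinearMap (Algebra.algebraMapSubmonoid S (sat f)) M)]
  refine forall₃_congr fun J y _ => ⟨?_, ?_⟩
  · rintro ⟨_, ⟨a, ha, rfl⟩, hay⟩
    refine ⟨_, ⟨a, ha, rfl⟩, ?_⟩
    rwa [IsScalarTower.algebraMap_apply R S A, algebraMap_smul_tensor] at hay
  · rintro ⟨_, ⟨a, ha, rfl⟩, hay⟩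
    refine ⟨_, ⟨a, ha, rfl⟩, ?_⟩
    rwa [IsScalarTower.algebraMap_apply R S A, algebraMap_smul_tensor]

/-- One step near a point of the base. -/
theorem step_powers {R S M : Type u} [CommRing R] [CommRing S] [Algebra R S] [Algebra.FinitePresentation R S]
    [Module.Flat R S] (hd : DomFib R S) (rr : Ideal R) [rr.IsPrime] [(rr.map (algebraMap R S)).IsPrime]
    [AddCommGroup M] [Module S M] [Module R M] [IsScalarTower R S M] [Module.FinitePresentation S M] {f : R} (hf : f ∉ rr)
    (hflat : Module.Flat R (LocalizedModule (Algebra.algebraMapSubmonoid S (sat f)) M)) {r : ℕ}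
    (α : (Fin r → S) →ₗ[S] M) (hfib : Function.Bijective (α.baseChange (rr.map (algebraMap R S)).ResidueField)) :
    ∃ g, g ∉ rr ∧ f ∣ g ∧ UnivInjUpTo R (Algebra.algebraMapSubmonoid S (sat g)) α ∧
      Module.Flat R (LocalizedModule (Algebra.algebraMapSubmonoid S (sat g)) (M ⧸ LinearMap.range α)) := by
  obtain ⟨Q, hQ, hQr⟩ : ∃ Q : Ideal S, Q.IsPrime ∧ Q.LiesOver rr := by
    haveI := hd rr.ResidueField
    obtain ⟨P₀, hP₀⟩ : ∃ P₀ : Ideal (rr.ResidueField ⊗[R] S), P₀.IsPrime := ⟨⊥, Ideal.isPrime_bot⟩
    refine ⟨P₀.comap (Algebra.TensorProduct.includeRight (R := R) (A := rr.ResidueField) (B := S)).toRingHom,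
      inferInstance, ⟨?_⟩⟩
    rw [Ideal.under_def, Ideal.comap_comap,
      show (Algebra.TensorProduct.includeRight (R := R) (A := rr.ResidueField) (B := S)).toRingHom.comp (algebraMap R S) =
        (algebraMap rr.ResidueField (rr.ResidueField ⊗[R] S)).comp (algebraMap R rr.ResidueField) from
        RingHom.ext fun a => ((Algebra.TensorProduct.includeRight (R := R) (A := rr.ResidueField) (B := S)).commutes a).trans
          (IsScalarTower.algebraMap_apply R rr.ResidueField (rr.ResidueField ⊗[R] S) a),
      ← Ideal.comap_comap, Ideal.eq_bot_of_prime (P₀.comap (algebraMap rr.ResidueField _)), ← RingHom.ker_eq_comap_bot,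
      Ideal.ker_algebraMap_residueField]
  have hPr : (rr.map (algebraMap R S)).LiesOver rr := ⟨le_antisymm (fun a ha => Ideal.mem_map_of_mem _ ha)
    ((Ideal.comap_mono (Ideal.map_le_iff_le_comap.2 hQr.over.le)).trans hQr.over.ge)⟩
  have hle : Algebra.algebraMapSubmonoid S (sat f) ≤ (rr.map (algebraMap R S)).primeCompl := by
    rintro _ ⟨a, ha, rfl⟩ h
    exact sat_le_primeCompl rr hf ha ((SetLike.ext_iff.1 hPr.over a).2 h)
  obtain ⟨β, hβ⟩ := exists_retractions hd rr _ rfl hPr (flat_localized_mono hle hflat) α hfib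
  obtain ⟨g, hg, hu⟩ := exists_univInjUpTo_powers hd rr _ hPr α β hβ
  have hu' : UnivInjUpTo R (Algebra.algebraMapSubmonoid S (sat (f * g))) α :=
    hu.mono (Submonoid.powers_le.2 (Algebra.mem_algebraMapSubmonoid_of_mem (⟨g, 1, by rw [pow_one]; exact dvd_mul_left g f⟩ : sat (f * g))))
  exact ⟨f * g, fun h => ((inferInstance : rr.IsPrime).mem_or_mem h).elim hf hg, dvd_mul_right f g, hu',
    flat_coker le_rfl hu' (flat_localized_mono (satImage_mono (dvd_mul_right f g)) hflat)⟩

/-- Universal injectivity up to `sat f` becomes injectivity over `R_f`. -/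
theorem injective_baseChange_away {R S M : Type u} [CommRing R] [CommRing S] [Algebra R S] {f : R} {X : Type u}
    [AddCommGroup X] [Module S X] [Module R X] [IsScalarTower R S X] [AddCommGroup M] [Module S M] [Module R M]
    [IsScalarTower R S M] {α : X →ₗ[S] M} (h : UnivInjUpTo R (Algebra.algebraMapSubmonoid S (sat f)) α) :
    Function.Injective ((α.restrictScalars R).baseChange (Localization.Away f)) := by
  rw [injective_iff_map_eq_zero]
  intro z hz
  obtain ⟨_, ⟨a, ⟨k, c, hc⟩, rfl⟩, haz⟩ := h (Localization.Away f) (TensorProduct.comm R _ X z) (by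
    rw [LinearMap.rTensor_comm]
    exact (congrArg _ hz).trans (map_zero _))
  have hu : IsUnit (algebraMap R (Localization.Away f) a) :=
    isUnit_of_dvd_unit ⟨algebraMap R _ c, by rw [← map_mul, ← hc, map_pow]⟩ ((IsLocalization.Away.algebraMap_isUnit f).pow k)
  rw [algebraMap_smul, ← map_smul, map_eq_zero_iff _ (TensorProduct.comm R _ X).injective] at haz
  refine hu.smul_eq_zero.1 ?_
  rw [algebraMap_smul]
  exact haz

/-- Splitting after inverting `f`. -/
theorem nonempty_prod_equiv_away {R S M Q : Type u} [CommRing R] [CommRing S] [Algebra R S] (f : R) {r : ℕ}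
    [AddCommGroup M] [Module S M] [Module R M] [IsScalarTower R S M] (α : (Fin r → S) →ₗ[S] M)
    (h : UnivInjUpTo R (Algebra.algebraMapSubmonoid S (sat f)) α) [AddCommGroup Q] [Module R Q]
    (e : (M ⧸ LinearMap.range α) ≃ₗ[R] Q) [Module.Projective (Localization.Away f) (Localization.Away f ⊗[R] Q)] :
    Nonempty ((Localization.Away f ⊗[R] M) ≃ₗ[Localization.Away f]
      (Fin r → Localization.Away f ⊗[R] S) × (Localization.Away f ⊗[R] Q)) := by
  let g : M →ₗ[R] Q := e.toLinearMap ∘ₗ ((LinearMap.range α).mkQ.restrictScalars R)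
  have hg : Function.Surjective g := e.surjective.comp (Submodule.mkQ_surjective _)
  have hex : Function.Exact (α.restrictScalars R) g := by
    intro m
    show e ((LinearMap.range α).mkQ m) = 0 ↔ _
    rw [e.map_eq_zero_iff, Submodule.mkQ_apply, Submodule.Quotient.mk_eq_zero]
    rfl
  have hsurj : Function.Surjective (g.baseChange (Localization.Away f)) := LinearMap.lTensor_surjective _ hg
  have hex' : Function.Exact ((α.restrictScalars R).baseChange (Localization.Away f)) (g.baseChange (Localization.Away f)) :=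
    lTensor_exact _ hex hg
  obtain ⟨s, hs⟩ := Module.projective_lifting_property (g.baseChange (Localization.Away f)) LinearMap.id hsurj
  exact ⟨(hex'.splitSurjectiveEquiv (injective_baseChange_away h) ⟨s, hs⟩).1.trans
    ((TensorProduct.piRight R (Localization.Away f) (Localization.Away f) fun _ : Fin r => S).prodCongr
      (LinearEquiv.refl _ _))⟩

end Groth.Agent.RG
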