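import Groth.Agent.S1223
import Groth.Agent.S1195
import Groth.Agent.RG.Content

/-!
# Flat algebras with domain fibres over a local ring
-/

set_option autoImplicit false
set_option linter.style.haveILetI false

universe u

open TensorProduct IsLocalRing

namespace Groth.Agent.RG

/-- Every base change to a field is a domain. -/
def DomFib (R S : Type u) [CommRing R] [CommRing S] [Algebra R S] : Prop :=
  ∀ (K : Type u) [Field K] [Algebra R K], IsDomain (K ⊗[R] S)

variable {R S : Type u} [CommRing R] [CommRing S] [Algebra R S]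

theorem domFib_of_geomIntegral (h : FlatCA.GeomIntegralFibres R S) : DomFib R S :=
  fun K _ _ => Groth.Agent.S1223.isDomain_tensor_field h K

theorem DomFib.baseChange (h : DomFib R S) (R' : Type u) [CommRing R'] [Algebra R R'] :
    DomFib R' (R' ⊗[R] S) := by
  intro K _ _
  letI : Algebra R K := Algebra.compHom K (algebraMap R R')
  haveI : IsScalarTower R R' K := IsScalarTower.of_algebraMap_eq fun _ => rfl
  haveI := h K
  exact (Algebra.TensorProduct.cancelBaseChange R R' K K S).toMulEquiv.isDomain (K ⊗[R] S)

/-- The closed fibre ideal is prime. -/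
theorem DomFib.isPrime_map [IsLocalRing R] (h : DomFib R S) :
    ((maximalIdeal R).map (algebraMap R S)).IsPrime := by
  letI : Field (R ⧸ maximalIdeal R) := Ideal.Quotient.field _
  haveI := h (R ⧸ maximalIdeal R)
  refine (Ideal.Quotient.isDomain_iff_prime _).1 ?_
  let e := Algebra.TensorProduct.quotIdealMapEquivTensorQuot S (maximalIdeal R)
  haveI : IsDomain (S ⊗[R] (R ⧸ maximalIdeal R)) :=
    (Algebra.TensorProduct.comm R S (R ⧸ maximalIdeal R)).toMulEquiv.isDomain ((R ⧸ maximalIdeal R) ⊗[R] S)
  exact e.toMulEquiv.isDomain (S ⊗[R] (R ⧸ maximalIdeal R))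

attribute [local instance] Algebra.TensorProduct.rightAlgebra in
/-- The localisation at the closed fibre is universally injective. -/
theorem univInj_toLocalization [IsLocalRing R] [Algebra.FinitePresentation R S] [Module.Flat R S]
    (hd : DomFib R S) (P : Ideal S) [P.IsPrime] (hP : P = (maximalIdeal R).map (algebraMap R S))
    (T : Type u) [CommRing T] [Algebra S T] [Algebra R T] [IsScalarTower R S T] [IsLocalization.AtPrime T P] :
    FlatCA.UnivInj R (IsScalarTower.toAlgHom R S T).toLinearMap := by
  haveI : Module.Flat S T := IsLocalization.flat T P.primeCompl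
  haveI hPm : P.LiesOver (maximalIdeal R) := ⟨by
    rw [Ideal.under_def]
    refine le_antisymm (fun r hr => ?_) (le_maximalIdeal fun h => ‹P.IsPrime›.ne_top ?_)
    · show algebraMap R S r ∈ P
      rw [hP]
      exact Ideal.mem_map_of_mem _ hr
    · rw [Ideal.comap_eq_top_iff] at h
      exact h⟩
  have key : FlatCA.UnivInj R ((TensorProduct.mk S T S 1).restrictScalars R) := by
    refine Groth.Agent.S1195.result S fun p q _ _ _ hass => ?_
    haveI : IsDomain (p.Fiber S) := hd p.ResidueField
    have e : FlatCA.fiberMod p S S ≃ₗ[p.Fiber S] p.Fiber S :=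
      TensorProduct.AlgebraTensorModule.rid S (p.Fiber S) (p.Fiber S)
    rw [LinearEquiv.AssociatedPrimes.eq e] at hass
    have h0 : FlatCA.fiberIdeal p q = ⊥ := by
      obtain ⟨hp', x, hx⟩ := hass
      have hx0 : x ≠ 0 := by
        rintro rfl
        exact hp'.ne_top (by rw [hx]; simp)
      rw [hx, show Submodule.colon (⊥ : Submodule (p.Fiber S) (p.Fiber S)) {x} = ⊥ from ?_]
      · exact (Ideal.isPrime_bot : (⊥ : Ideal (p.Fiber S)).IsPrime).isRadical.radical
      · ext r
        simp [Submodule.mem_colon_singleton, hx0]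
    obtain ⟨Q', hQ'le, hQ', hQ'p⟩ :=
      Ideal.exists_ideal_le_liesOver_of_le (p := p) (q := maximalIdeal R) P (le_maximalIdeal ‹p.IsPrime›.ne_top)
    obtain ⟨⟨Q₁, hQ₁⟩, hQ₁c⟩ := Groth.Agent.ZClosLib.NzdUnivInj.exists_prime_fiber p Q'
    have hqP : q ≤ P := by
      refine ((le_trans ?_ hQ₁c.le).trans hQ'le)
      intro b hb
      have h1 := Ideal.mem_map_of_mem (Algebra.TensorProduct.includeRight (R := R) (A := p.ResidueField) (B := S)).toRingHom hb
      change _ ∈ FlatCA.fiberIdeal p q at h1
      rw [h0, Ideal.mem_bot] at h1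
      rw [Ideal.mem_comap, h1]
      exact zero_mem _
    have hdisj : Disjoint (P.primeCompl : Set S) (q : Set S) :=
      Set.disjoint_left.2 fun a ha ha' => ha (hqP ha')
    exact ⟨q.map (algebraMap S T), IsLocalization.isPrime_of_isPrime_disjoint P.primeCompl T q inferInstance hdisj,
      IsLocalization.comap_map_of_isPrime_disjoint P.primeCompl T inferInstance hdisj⟩
  intro Q _ _
  let e : T ⊗[S] S ≃ₗ[R] T := (TensorProduct.rid S T).restrictScalars R
  have he : (IsScalarTower.toAlgHom R S T).toLinearMap =
      e.toLinearMap ∘ₗ ((TensorProduct.mk S T S 1).restrictScalars R) := by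
    refine LinearMap.ext fun s => ?_
    show algebraMap S T s = TensorProduct.rid S T ((1 : T) ⊗ₜ[S] s)
    rw [TensorProduct.rid_tmul, Algebra.smul_def, mul_one]
  rw [he, LinearMap.lTensor_comp]
  exact (LinearEquiv.lTensor Q e).injective.comp (key Q)

/-- An element of `S` in `I T` lies in `I S`. -/
theorem mem_map_of_mem_map [IsLocalRing R] [Algebra.FinitePresentation R S] [Module.Flat R S]
    (hd : DomFib R S) (P : Ideal S) [P.IsPrime] (hP : P = (maximalIdeal R).map (algebraMap R S))
    (T : Type u) [CommRing T] [Algebra S T] [Algebra R T] [IsScalarTower R S T] [IsLocalization.AtPrime T P]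
    (I : Ideal R) {s : S} (hs : algebraMap S T s ∈ I.map (algebraMap R T)) : s ∈ I.map (algebraMap R S) := by
  rw [mem_map_iff_tmul_eq_zero] at hs ⊢
  apply univInj_toLocalization hd P hP T (R ⧸ I)
  rw [LinearMap.lTensor_tmul, map_zero]
  exact hs

end Groth.Agent.RG
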