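import Groth.Agent.RG.FPInduction
import Mathlib.Algebra.Module.LocalizedModule.Submodule

/-!
# A flat local ring of a finite type algebra is essentially of finite presentation
-/

set_option autoImplicit false
set_option linter.style.haveILetI false
set_option linter.unusedSectionVars false
set_option backward.isDefEq.respectTransparency false
set_option maxHeartbeats 1000000

universe u

open TensorProduct

namespace Groth.Agent.RG

/-- An ideal agrees with a finitely generated one at a prime where the quotient is finitely presented. -/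
theorem exists_fg_le_of_fpAt {P S : Type u} [CommRing P] [CommRing S] [Algebra P S]
    (hφ : Function.Surjective (algebraMap P S)) (W : Submonoid P) (h : FPAt W S) :
    ∃ I₀ : Ideal P, I₀.FG ∧ I₀ ≤ RingHom.ker (algebraMap P S) ∧
      ∀ i ∈ RingHom.ker (algebraMap P S), ∃ s ∈ W, s * i ∈ I₀ := by
  classical
  rw [← fpAt_iff_localizedModule] at h
  let g := LocalizedModule.map W (Algebra.linearMap P S)
  have hker : (LinearMap.ker g).FG :=
    haveI := h
    Module.FinitePresentation.fg_ker g (LocalizedModule.map_surjective W _ hφ)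
  obtain ⟨T, hT⟩ := hker
  have hT' : ∀ k ∈ T, ∃ a : P, ∃ s : W, k = LocalizedModule.mk a s ∧ algebraMap P S a = 0 := by
    intro k hk
    have h0 : g k = 0 := LinearMap.mem_ker.1 (hT ▸ Submodule.subset_span hk)
    induction k using LocalizedModule.induction_on with
    | h a s =>
      rw [LocalizedModule.map_mk, ← LocalizedModule.zero_mk (1 : W), LocalizedModule.mk_eq] at h0
      obtain ⟨t, ht⟩ := h0
      simp only [one_smul, smul_zero] at ht
      refine ⟨(t : P) * a, t * s, ?_, ?_⟩
      · exact (LocalizedModule.mk_cancel_common_left t s a).symm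
      · rw [map_mul, ← Algebra.smul_def]
        exact ht
  choose a s has ha using hT'
  let I₀ : Ideal P := Ideal.span (Set.range fun k : T => a k.1 k.2)
  refine ⟨I₀, Submodule.fg_span (Set.finite_range _), Ideal.span_le.2 ?_, fun i hi => ?_⟩
  · rintro _ ⟨k, rfl⟩
    exact ha k.1 k.2
  · have hle : LinearMap.ker g ≤ Submodule.localized W I₀ := by
      rw [← hT, Submodule.span_le]
      intro k hk
      refine ⟨a k hk, Ideal.subset_span ⟨⟨k, hk⟩, rfl⟩, s k hk, ?_⟩
      rw [← IsLocalizedModule.mk_eq_mk', ← has k hk]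
    have hi' : LocalizedModule.mk i (1 : W) ∈ LinearMap.ker g := by
      rw [LinearMap.mem_ker, LocalizedModule.map_mk, show Algebra.linearMap P S i = 0 from hi, LocalizedModule.zero_mk]
    obtain ⟨m, hm, t, hmt⟩ := hle hi'
    rw [← IsLocalizedModule.mk_eq_mk', LocalizedModule.mk_eq] at hmt
    obtain ⟨v, hv⟩ := hmt
    refine ⟨(v : P) * t, (v * t).2, ?_⟩
    simp only [one_smul, Submonoid.smul_def, smul_eq_mul] at hv
    rw [mul_assoc, ← hv]
    exact I₀.mul_mem_left _ hm

/-- The local ring at a point of flatness is essentially of finite presentation. -/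
theorem essFP_of_flat {R S : Type u} [CommRing R] [CommRing S] [Algebra R S] [Algebra.FiniteType R S]
    (q : Ideal S) [q.IsPrime] [Module.Flat R (Localization.AtPrime q)] :
    FlatCA.EssFinitePresentation R (Localization.AtPrime q) := by
  obtain ⟨n, φ, hφ⟩ := Algebra.FiniteType.iff_quotient_mvPolynomial''.1 ‹Algebra.FiniteType R S›
  let P := MvPolynomial (Fin n) R
  letI : Algebra P S := φ.toRingHom.toAlgebra
  haveI : IsScalarTower R P S := IsScalarTower.of_algebraMap_eq' φ.comp_algebraMap.symm
  haveI : Module.Finite P S := Module.Finite.of_surjective (Algebra.linearMap P S) hφ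
  let q₀ : Ideal P := q.comap (algebraMap P S)
  haveI : q₀.IsPrime := inferInstance
  have hflat : FlatCA.FlatAt R q S :=
    Module.Flat.of_linearEquiv
      ((IsLocalizedModule.iso q.primeCompl (Algebra.linearMap S (Localization.AtPrime q))).restrictScalars R)
  obtain ⟨I₀, hfg, hle, hI⟩ := exists_fg_le_of_fpAt hφ q₀.primeCompl
    (fpAt_of_flatAt S q₀ ((flatAt_comap_iff hφ q q₀ rfl).1 hflat))
  let S₀ := P ⧸ I₀
  haveI : Algebra.FinitePresentation R S₀ := Algebra.FinitePresentation.quotient hfg
  let π : S₀ →ₐ[R] S := Ideal.Quotient.liftₐ I₀ φ hle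
  have hπ : Function.Surjective π := fun x => by
    obtain ⟨b, rfl⟩ := hφ x
    exact ⟨Ideal.Quotient.mk I₀ b, rfl⟩
  letI : Algebra S₀ (Localization.AtPrime q) := ((algebraMap S (Localization.AtPrime q)).comp π.toRingHom).toAlgebra
  haveI : IsScalarTower R S₀ (Localization.AtPrime q) := IsScalarTower.of_algebraMap_eq fun r => by
    show _ = algebraMap S (Localization.AtPrime q) (π (algebraMap R S₀ r))
    rw [AlgHom.commutes, ← IsScalarTower.algebraMap_apply]
  refine ⟨S₀, inferInstance, inferInstance, inferInstance, inferInstance, (q.comap π.toRingHom).primeCompl,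
    inferInstance, (isLocalization_iff ..).2 ⟨?_, ?_, ?_⟩⟩
  · rintro ⟨b, hb⟩
    exact IsLocalization.map_units _ (⟨π b, hb⟩ : q.primeCompl)
  · intro z
    obtain ⟨⟨b, t⟩, hz⟩ := IsLocalization.surj q.primeCompl z
    obtain ⟨b', rfl⟩ := hπ b
    obtain ⟨t', ht'⟩ := hπ t.1
    refine ⟨(b', ⟨t', fun hh => t.2 (ht' ▸ hh : t.1 ∈ q)⟩), ?_⟩
    show z * algebraMap S _ (π t') = algebraMap S _ (π b')
    rw [ht']
    exact hz
  · intro b c hbc
    obtain ⟨b, rfl⟩ := Ideal.Quotient.mk_surjective b
    obtain ⟨c, rfl⟩ := Ideal.Quotient.mk_surjective c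
    obtain ⟨t, ht⟩ := (IsLocalization.eq_iff_exists q.primeCompl _).1 hbc
    obtain ⟨t', ht'⟩ := hφ t.1
    obtain ⟨s, hs, hmem⟩ := hI (t' * (b - c)) (by
      rw [RingHom.mem_ker, map_mul, map_sub, mul_sub, sub_eq_zero]
      show φ t' * φ b = φ t' * φ c
      rw [ht']
      exact ht)
    refine ⟨⟨Ideal.Quotient.mk I₀ (s * t'), fun hh => ?_⟩, ?_⟩
    · have : φ s * φ t' ∈ q := by rw [← map_mul]; exact hh
      rcases (inferInstance : q.IsPrime).mem_or_mem this with h1 | h1
      · exact hs h1
      · exact t.2 (ht' ▸ h1 : t.1 ∈ q)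
    · show Ideal.Quotient.mk I₀ (s * t') * Ideal.Quotient.mk I₀ b = Ideal.Quotient.mk I₀ (s * t') * Ideal.Quotient.mk I₀ c
      rw [← map_mul, ← map_mul, Ideal.Quotient.eq, ← mul_sub, mul_assoc]
      exact hmem

end Groth.Agent.RG
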