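import Groth.Agent.S1241

/-!
# An étale cover of a fibre with projective base change, over the point of the neighbourhood
-/

set_option autoImplicit false
set_option linter.style.haveILetI false
set_option backward.isDefEq.respectTransparency false
set_option backward.isDefEq.respectTransparency.types false
set_option maxHeartbeats 1000000

universe u

open TensorProduct

namespace Groth.Agent.RG

attribute [local instance] Algebra.TensorProduct.rightAlgebra

open TensorProduct in
/-- An étale cover of the fibre, over the point of an étale neighbourhood, with projective base change. -/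
theorem exists_etale_cover_proj {R S : Type u} [CommRing R] [CommRing S] [Algebra R S] [Algebra.FinitePresentation R S]
    (N : Type u) [AddCommGroup N] [Module S N] [Module R N] [IsScalarTower R S N] [Module.FinitePresentation S N]
    (p : Ideal R) [p.IsPrime] (hflat : ∀ (q : Ideal S) [q.IsPrime], q.LiesOver p → FlatCA.FlatAt R q N) :
    ∃ (R' S' : Type u) (_ : CommRing R') (_ : CommRing S') (_ : Algebra R R') (_ : Algebra S S') (_ : Algebra R' S')
      (_ : Algebra R S') (_ : IsScalarTower R R' S') (_ : IsScalarTower R S S')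
      (p' : Ideal R') (_ : p'.IsPrime),
      FlatCA.IsEtaleNhd R R' p p' ∧ Algebra.Etale S S' ∧
      (∀ (q : Ideal S) [q.IsPrime], q.LiesOver p → ∃ q' : Ideal S', q'.IsPrime ∧ q'.comap (algebraMap S S') = q ∧ q'.comap (algebraMap R' S') = p') ∧
      Module.Projective R' (S' ⊗[S] N) := by
  classical
  obtain ⟨k, π, hgood, hcover⟩ := RG.exists_finite_pieces (S1241.Good N) (p := p) (fun q _ hq => by
    haveI := hq
    obtain ⟨R', S', _, _, _, _, _, _, _, _, p', q', _, _, hR, hS, ho, hproj⟩ :=
      Groth.Agent.S1202.result (R := R) (S := S) N p q (hflat q hq)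
    haveI := hS.1
    haveI := ho
    obtain ⟨hq', -⟩ := hS.2
    refine ⟨{ R' := R', S' := S', p' := p', nhd := hR, q' := q' }, ?_, hq'.over.symm⟩
    let e : RestrictScalars R' S' (S' ⊗[S] N) ≃ₗ[R'] (S' ⊗[S] N) :=
      { RestrictScalars.addEquiv R' S' (S' ⊗[S] N) with
        map_smul' := fun r x => by
          show RestrictScalars.addEquiv R' S' (S' ⊗[S] N) (r • x) = r • RestrictScalars.addEquiv R' S' (S' ⊗[S] N) x
          rw [RestrictScalars.addEquiv_map_smul, algebraMap_smul] }
    haveI := hproj
    exact Module.Projective.of_equiv e)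
  obtain ⟨A, _, _, p'', _, _, htow, hA, hnhd⟩ := RG.exists_common_piece_nhd π
  haveI := htow
  haveI : ∀ i, Algebra.Etale (π i).R' A := fun i => (hnhd i).1
  haveI := hA.1
  let C : Fin k → Type u := fun i => (π i).S' ⊗[(π i).R'] A
  haveI : ∀ i, IsScalarTower R A (C i) := fun i => IsScalarTower.of_algebraMap_eq fun a => by
    show algebraMap R (π i).S' a ⊗ₜ[(π i).R'] (1 : A) = (1 : (π i).S') ⊗ₜ[(π i).R'] algebraMap R A a
    rw [IsScalarTower.algebraMap_apply R (π i).R' (π i).S', IsScalarTower.algebraMap_apply R (π i).R' A,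
      ← mul_one (algebraMap (π i).R' (π i).S' _), ← Algebra.smul_def, TensorProduct.smul_tmul, Algebra.smul_def, mul_one]
  haveI : ∀ i, IsScalarTower R S (C i) := fun i => IsScalarTower.of_algebraMap_eq fun a => by
    show algebraMap R (π i).S' a ⊗ₜ[(π i).R'] (1 : A) = algebraMap S (π i).S' (algebraMap R S a) ⊗ₜ[(π i).R'] (1 : A)
    rw [IsScalarTower.algebraMap_apply R S (π i).S']
  haveI : ∀ i, Algebra.IsPushout (π i).R' A (π i).S' (C i) := fun i => Algebra.IsPushout.symm inferInstance
  haveI : ∀ i, Algebra.Etale S (C i) := fun i => Algebra.Etale.comp S (π i).S' (C i)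
  haveI hPi : IsScalarTower R A (∀ i, C i) := IsScalarTower.of_algebraMap_eq fun a => funext fun i =>
    IsScalarTower.algebraMap_apply R A (C i) a
  haveI hPi' : IsScalarTower R S (∀ i, C i) := IsScalarTower.of_algebraMap_eq fun a => funext fun i =>
    IsScalarTower.algebraMap_apply R S (C i) a
  refine ⟨A, (∀ i, C i), inferInstance, inferInstance, inferInstance, inferInstance, inferInstance, inferInstance,
    hPi, hPi', p'', inferInstance, hA, inferInstance, fun q _ hq => ?_, ?_⟩
  · obtain ⟨i, Q', hQ'1, hQ'2, hQ'3⟩ := hcover q hq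
    obtain ⟨ho, hκ⟩ := (hnhd i).2
    haveI := ho
    obtain ⟨Q'', _, hQ''q, hQ''p⟩ :=
      RG.exists_prime_over (R := (π i).R') (R' := A) (S := (π i).S') (S' := C i) (π i).p' p'' hκ Q'
    refine ⟨Q''.comap (Pi.evalRingHom C i), inferInstance, ?_, ?_⟩
    swap
    · rw [Ideal.comap_comap]
      exact hQ''p.over.symm
    rw [Ideal.comap_comap]
    show Q''.comap ((algebraMap (π i).S' (C i)).comp (algebraMap S (π i).S')) = q
    rw [← Ideal.comap_comap, ← Ideal.under_def (A := (π i).S') Q'', ← hQ''q.over, hQ'3]
  · have hproj : ∀ i, Module.Projective A (C i ⊗[S] N) := fun i => by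
      haveI : Module.Projective (π i).R' ((π i).S' ⊗[S] N) := hgood i
      exact Module.Projective.of_equiv
        ((Algebra.IsPushout.cancelBaseChange (π i).R' A (π i).S' (C i) ((π i).S' ⊗[S] N)).symm ≪≫ₗ
          (AlgebraTensorModule.cancelBaseChange S (π i).S' (C i) (C i) N).restrictScalars A)
    exact S1241.projective_pi_tensor (R := R) C N hproj

end Groth.Agent.RG
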