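import Groth.Agent.RG.StepFibre
import Groth.Agent.RG.CompleteBC
import Groth.Agent.RG.EtaleBC
import Mathlib.RingTheory.Etale.Basic
import Mathlib.RingTheory.Spectrum.Prime.Chevalley

/-!
# Étale neighbourhoods along a fibre
-/

set_option autoImplicit false
set_option linter.style.haveILetI false
set_option linter.unusedSectionVars false
set_option backward.isDefEq.respectTransparency false
set_option backward.isDefEq.respectTransparency.types false
set_option maxHeartbeats 1000000

universe u

open TensorProduct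

namespace Groth.Agent.RG

attribute [local instance] Algebra.TensorProduct.rightAlgebra

/-- Maps between étale neighbourhoods are étale neighbourhoods. -/
theorem isEtaleNhd_of_restrict {R A B : Type u} [CommRing R] [CommRing A] [CommRing B] [Algebra R A] [Algebra R B]
    [Algebra A B] [IsScalarTower R A B] {p : Ideal R} [p.IsPrime] {a : Ideal A} [a.IsPrime] {b : Ideal B} [b.IsPrime]
    [hba : b.LiesOver a] (hA : FlatCA.IsEtaleNhd R A p a) (hB : FlatCA.IsEtaleNhd R B p b) :
    FlatCA.IsEtaleNhd A B a b := by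
  obtain ⟨hA1, hoA, hAb⟩ := hA
  obtain ⟨hB1, hoB, hBb⟩ := hB
  refine ⟨Algebra.Etale.of_restrictScalars R A B, hba, ?_⟩
  let ψ : a.ResidueField →+* b.ResidueField := (Ideal.ResidueField.mapₐ a b (Algebra.ofId A B) hba.over).toRingHom
  refine ⟨ψ.injective, fun x => ?_⟩
  obtain ⟨y, rfl⟩ := hBb.2 x
  refine ⟨Ideal.ResidueField.mapₐ p a (Algebra.ofId R A) hoA.over y, ?_⟩
  refine RingHom.congr_fun (f := ψ.comp (Ideal.ResidueField.mapₐ p a (Algebra.ofId R A) _).toRingHom)
    (g := (Ideal.ResidueField.mapₐ p b (Algebra.ofId R B) hoB.over).toRingHom) ?_ y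
  refine Ideal.ResidueField.ringHom_ext (RingHom.ext fun r => ?_)
  show Ideal.ResidueField.map a b _ _ (Ideal.ResidueField.map p a _ _ (algebraMap R p.ResidueField r)) =
    Ideal.ResidueField.map p b _ _ (algebraMap R p.ResidueField r)
  rw [Ideal.ResidueField.map_algebraMap, Ideal.ResidueField.map_algebraMap, Ideal.ResidueField.map_algebraMap]
  exact congrArg (algebraMap B b.ResidueField) (IsScalarTower.algebraMap_apply R A B r).symm

/-- Finitely many étale neighbourhoods are dominated by one. -/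
theorem exists_common_nhd {R : Type u} [CommRing R] (p : Ideal R) [p.IsPrime] {k : ℕ} :
    ∀ (A : Fin k → Type u) [∀ i, CommRing (A i)] [∀ i, Algebra R (A i)] (P : ∀ i, Ideal (A i)) [∀ i, (P i).IsPrime],
      (∀ i, FlatCA.IsEtaleNhd R (A i) p (P i)) →
      ∃ (A' : Type u) (_ : CommRing A') (_ : Algebra R A') (p' : Ideal A') (_ : p'.IsPrime),
        FlatCA.IsEtaleNhd R A' p p' ∧ ∀ i, ∃ φ : A i →ₐ[R] A', p'.comap φ = P i := by
  induction k with
  | zero =>
    intro A _ _ P _ _
    exact ⟨R, inferInstance, inferInstance, p, inferInstance, isEtaleNhd_refl R p, fun i => i.elim0⟩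
  | succ k ih =>
    intro A _ _ P _ h
    obtain ⟨T, _, _, t, _, hT, hmaps⟩ := ih (fun i => A i.succ) (fun i => P i.succ) fun i => h i.succ
    haveI := (h 0).1
    haveI := hT.1
    obtain ⟨h0, hκ⟩ := (h 0).2
    haveI := h0
    obtain ⟨ht, -⟩ := hT.2
    haveI := ht
    let W := T ⊗[R] A 0
    haveI : Algebra.IsPushout R (A 0) T W := Algebra.IsPushout.symm inferInstance
    obtain ⟨Q, _, hQt, hQ0⟩ :=
      exists_prime_over (R := R) (R' := A 0) (S := T) (S' := W) p (P 0) hκ t
    haveI := hQt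
    haveI := hQ0
    have hres : FlatCA.IsEtaleNhd T W t Q :=
      ⟨inferInstance, hQt, residueField_bijective_baseChange (R := R) (R' := A 0) (S := T) (S' := W) p (P 0) hκ t Q⟩
    refine ⟨W, inferInstance, inferInstance, Q, inferInstance, isEtaleNhd_trans hT hres, Fin.cases ?_ fun i => ?_⟩
    · exact ⟨Algebra.TensorProduct.includeRight, hQ0.over.symm⟩
    · obtain ⟨φ, hφ⟩ := hmaps i
      refine ⟨(IsScalarTower.toAlgHom R T W).comp φ, ?_⟩
      rw [← hφ]
      show (Q.comap (algebraMap T W)).comap φ = _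
      rw [← Ideal.under_def, ← hQt.over]

/-- The image of the points over the point of the base is open in the fibre. -/
theorem exists_open_image {R S R' S' : Type u} [CommRing R] [CommRing S] [CommRing R'] [CommRing S'] [Algebra R S]
    [Algebra R R'] [Algebra R' S'] [Algebra R S'] [Algebra S S'] [IsScalarTower R R' S'] [IsScalarTower R S S']
    [Algebra.Etale R R'] [Algebra.Etale S S'] (p : Ideal R) [p.IsPrime] (p' : Ideal R') [p'.IsPrime]
    [hp' : p'.LiesOver p] (hκ : Function.Bijective (Ideal.ResidueField.mapₐ p p' (Algebra.ofId R R') hp'.over))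
    (q : Ideal S) [q.IsPrime] [q.LiesOver p] (q' : Ideal S') [q'.IsPrime] [q'.LiesOver q] [q'.LiesOver p'] :
    ∃ W : Set (PrimeSpectrum (p.Fiber S)), IsOpen W ∧
      (PrimeSpectrum.primesOverOrderIsoFiber R S p ⟨q, ‹_›, ‹_›⟩) ∈ W ∧
      ∀ ξ ∈ W, ∃ Q' : Ideal S', Q'.IsPrime ∧ Q'.LiesOver p' ∧
        Q'.comap (algebraMap S S') = ξ.asIdeal.comap (Algebra.TensorProduct.includeRight : S →ₐ[R] p.Fiber S) := by
  let T := S ⊗[R] R'
  haveI : Algebra.IsPushout R R' S T := Algebra.IsPushout.symm inferInstance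
  let φ : T →ₐ[S] S' := Algebra.TensorProduct.lift (Algebra.ofId S S') (IsScalarTower.toAlgHom R R' S')
    fun _ _ => Commute.all _ _
  letI : Algebra T S' := φ.toRingHom.toAlgebra
  haveI : IsScalarTower S T S' := IsScalarTower.of_algebraMap_eq fun s => (φ.commutes s).symm
  haveI : IsScalarTower R' T S' := IsScalarTower.of_algebraMap_eq fun a => by
    show algebraMap R' S' a = φ ((1 : S) ⊗ₜ[R] a)
    rw [Algebra.TensorProduct.lift_tmul, map_one, one_mul]
    rfl
  haveI : Algebra.Etale T S' := Algebra.Etale.of_restrictScalars S T S'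
  have hopen : IsOpenMap (PrimeSpectrum.comap (algebraMap T S')) :=
    PrimeSpectrum.isOpenMap_comap_of_hasGoingDown_of_finitePresentation
  let η := fiberHomeo S T p p' hκ
  let c : PrimeSpectrum (p'.Fiber T) → PrimeSpectrum T :=
    PrimeSpectrum.comap (Algebra.TensorProduct.includeRight : T →ₐ[R'] p'.Fiber T).toRingHom
  refine ⟨η '' (c ⁻¹' Set.range (PrimeSpectrum.comap (algebraMap T S'))),
    η.isOpenMap _ (hopen.isOpen_range.preimage (PrimeSpectrum.continuous_comap _)), ?_, ?_⟩
  · haveI : (q'.comap (algebraMap T S')).LiesOver p' := ⟨by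
      rw [Ideal.under_def, Ideal.comap_comap, ← IsScalarTower.algebraMap_eq R' T S', ← Ideal.under_def]
      exact Ideal.LiesOver.over⟩
    let x := PrimeSpectrum.primesOverOrderIsoFiber R' T p' ⟨q'.comap (algebraMap T S'), inferInstance, ‹_›⟩
    have hx : x.asIdeal.comap (Algebra.TensorProduct.includeRight : T →ₐ[R'] p'.Fiber T) = q'.comap (algebraMap T S') :=
      congr($((PrimeSpectrum.primesOverOrderIsoFiber R' T p').symm_apply_apply
        ⟨q'.comap (algebraMap T S'), inferInstance, ‹_›⟩).1)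
    refine ⟨x, ⟨⟨q', inferInstance⟩, PrimeSpectrum.ext hx.symm⟩, ?_⟩
    have h1 : (η x).asIdeal.comap (Algebra.TensorProduct.includeRight : S →ₐ[R] p.Fiber S) = q := by
      rw [fiberHomeo_comap, hx, Ideal.comap_comap, ← IsScalarTower.algebraMap_eq S T S', ← Ideal.under_def]
      exact (Ideal.LiesOver.over (P := q') (p := q)).symm
    refine PrimeSpectrum.ext ?_
    rw [ZClosLib.FibAssIdeal.eq_fiberIdeal p h1]
    exact (ZClosLib.FibAssIdeal.eq_fiberIdeal p
      congr($((PrimeSpectrum.primesOverOrderIsoFiber R S p).symm_apply_apply ⟨q, ‹_›, ‹_›⟩).1)).symm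
  · rintro ξ ⟨x, ⟨Q', hQ'⟩, rfl⟩
    have h2 : x.asIdeal.comap (Algebra.TensorProduct.includeRight : T →ₐ[R'] p'.Fiber T) =
        Q'.asIdeal.comap (algebraMap T S') := congr(($hQ').asIdeal).symm
    refine ⟨Q'.asIdeal, Q'.2, ⟨?_⟩, ?_⟩
    · rw [Ideal.under_def, IsScalarTower.algebraMap_eq R' T S', ← Ideal.comap_comap, ← h2, ← Ideal.under_def]
      exact ((PrimeSpectrum.primesOverOrderIsoFiber R' T p').symm x).2.2.over
    · rw [fiberHomeo_comap, h2, Ideal.comap_comap, ← IsScalarTower.algebraMap_eq S T S']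

end Groth.Agent.RG
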