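import Groth.Agent.RG.NearPoint
import Groth.Agent.S1231

/-!
# The flat locus in a fibre is open
-/

set_option autoImplicit false
set_option linter.style.haveILetI false
set_option linter.unusedSectionVars false
set_option backward.isDefEq.respectTransparency false
set_option maxHeartbeats 1600000

universe u

open TensorProduct

namespace Groth.Agent.RG

attribute [local instance] Algebra.TensorProduct.rightAlgebra

/-- A flat point has a neighbourhood in its fibre of flat points. -/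
theorem exists_fibre_flat_nhd {R S : Type u} [CommRing R] [CommRing S] [Algebra R S] [Algebra.FinitePresentation R S]
    (N : Type u) [AddCommGroup N] [Module S N] [Module R N] [IsScalarTower R S N] [Module.Finite S N]
    (p : Ideal R) [p.IsPrime] (q : Ideal S) [q.IsPrime] [q.LiesOver p] (h : FlatCA.FlatAt R q N) :
    ∃ t, t ∉ q ∧ ∀ (q₁ : Ideal S) [q₁.IsPrime], q₁.LiesOver p → t ∉ q₁ → FlatCA.FlatAt R q₁ N := by
  obtain ⟨R₂, _, _, p₂, _, q₂, _, hR, h1, h2, g, hg, hflat, -⟩ := near_of_flatAt N p q h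
  haveI := hR.1
  haveI : Module.Flat R R₂ := inferInstance
  haveI : Module.Flat S (R₂ ⊗[R] S) :=
    Module.Flat.of_linearEquiv (Algebra.IsPushout.equiv R S R₂ (R₂ ⊗[R] S)).symm.toLinearEquiv
  obtain ⟨b, hb, t, ht⟩ := exists_mul_sub_mem_map hR g
  have hbQ : ∀ (Q : Ideal (R₂ ⊗[R] S)) [Q.IsPrime], Q.comap (algebraMap R₂ (R₂ ⊗[R] S)) = p₂ →
      algebraMap R (R₂ ⊗[R] S) b ∉ Q := by
    intro Q _ hQ hbm
    obtain ⟨-, ho, -⟩ := hR
    rw [IsScalarTower.algebraMap_apply R R₂ (R₂ ⊗[R] S), ← Ideal.mem_comap, hQ] at hbm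
    exact hb ((SetLike.ext_iff.1 ho.over b).2 hbm)
  have hiff : ∀ (Q : Ideal (R₂ ⊗[R] S)) [Q.IsPrime], Q.comap (algebraMap R₂ (R₂ ⊗[R] S)) = p₂ →
      (g ∈ Q ↔ (1 : R₂) ⊗ₜ[R] t ∈ Q) := by
    intro Q _ hQ
    have hd : algebraMap R (R₂ ⊗[R] S) b * g - (1 : R₂) ⊗ₜ[R] t ∈ Q := Ideal.map_le_iff_le_comap.2 hQ.ge ht
    constructor
    · intro hgQ
      have := Q.sub_mem (Q.mul_mem_left (algebraMap R _ b) hgQ) hd
      rwa [sub_sub_cancel] at this
    · intro htQ
      have := Q.add_mem hd htQ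
      rw [sub_add_cancel] at this
      exact ((inferInstance : Q.IsPrime).mem_or_mem this).resolve_left (hbQ Q hQ)
  refine ⟨t, fun htq => hg ((hiff q₂ h1).2 (h2.symm ▸ htq : t ∈ q₂.comap (algebraMap S (R₂ ⊗[R] S)))), ?_⟩
  intro q₁ _ hq₁ htq₁
  haveI := hq₁
  obtain ⟨Q, hQ, hQ1, hQ2⟩ := exists_prime_baseChange hR q₁
  haveI : Q.LiesOver p₂ := ⟨hQ1.symm⟩
  have hgQ : g ∉ Q := fun hh => htq₁ (hQ2 ▸ (hiff Q hQ1).1 hh :
    t ∈ q₁)
  exact flatAt_of_baseChange Q q₁ ⟨hQ2.symm⟩
    ((Groth.Agent.S1231.result (R := R) (T := R₂) (C := R₂ ⊗[R] S) ((R₂ ⊗[R] S) ⊗[S] N) Q).1.2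
      (flat_localized_mono (nb_le_primeCompl p₂ Q hgQ) hflat))

/-- The flat locus in a fibre is open. -/
theorem isOpen_flatLocus_fibre {R S : Type u} [CommRing R] [CommRing S] [Algebra R S] [Algebra.FiniteType R S]
    (N : Type u) [AddCommGroup N] [Module S N] [Module R N] [IsScalarTower R S N] [Module.Finite S N]
    (p : Ideal R) [p.IsPrime] :
    IsOpen {x : PrimeSpectrum (p.Fiber S) |
      FlatCA.FlatAt R (x.asIdeal.comap (Algebra.TensorProduct.includeRight (R := R) (A := p.ResidueField) (B := S)).toRingHom) N} := by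
  obtain ⟨n, φ, hφ⟩ := Algebra.FiniteType.iff_quotient_mvPolynomial''.1 ‹Algebra.FiniteType R S›
  let P := MvPolynomial (Fin n) R
  letI : Algebra P S := φ.toRingHom.toAlgebra
  haveI : IsScalarTower R P S := IsScalarTower.of_algebraMap_eq' φ.comp_algebraMap.symm
  haveI : Module.Finite P S := Module.Finite.of_surjective (Algebra.linearMap P S) hφ
  letI : Module P N := Module.compHom N (algebraMap P S)
  haveI : IsScalarTower P S N := IsScalarTower.of_algebraMap_smul fun _ _ => rfl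
  haveI : IsScalarTower R P N := IsScalarTower.of_algebraMap_smul fun r x => by
    show algebraMap P S (algebraMap R P r) • x = r • x
    rw [← IsScalarTower.algebraMap_apply, algebraMap_smul]
  haveI : Module.Finite P N := Module.Finite.trans S N
  let ι : S →ₐ[R] p.Fiber S := Algebra.TensorProduct.includeRight
  rw [isOpen_iff_forall_mem_open]
  intro x hx
  let q : Ideal S := x.asIdeal.comap ι
  have hover : ∀ y : PrimeSpectrum (p.Fiber S), ((y.asIdeal.comap ι).comap (algebraMap P S)).LiesOver p := fun y => by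
    refine ⟨?_⟩
    have h1 : (y.asIdeal.comap ι).LiesOver p :=
      ((PrimeSpectrum.primesOverOrderIsoFiber R S p).symm y).2.2
    rw [Ideal.under_def, Ideal.comap_comap, ← IsScalarTower.algebraMap_eq]
    exact h1.over
  haveI := hover x
  obtain ⟨t, ht, H⟩ := exists_fibre_flat_nhd (S := P) N p (q.comap (algebraMap P S))
    ((flatAt_comap_iff hφ q _ rfl).1 hx)
  refine ⟨PrimeSpectrum.basicOpen (ι (algebraMap P S t)), fun y hy => ?_, PrimeSpectrum.isOpen_basicOpen, ht⟩
  exact (flatAt_comap_iff hφ (y.asIdeal.comap ι) _ rfl).2 (H _ (hover y) hy)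

end Groth.Agent.RG
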