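import Groth.Agent.RG.GCBase
import Groth.Agent.SecComp5.FlatNhd
import Groth.Agent.S1324
import Groth.Agent.S1326
import Groth.Agent.S1327
import Groth.Agent.MorLib.WeightDeg
import Mathlib.AlgebraicGeometry.Morphisms.Finite

/-!
# Spreading out a geometrically connected fibre given a finite étale quasi-section
-/

set_option autoImplicit false
set_option linter.style.haveILetI false
set_option backward.isDefEq.respectTransparency false
set_option backward.isDefEq.respectTransparency.types false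

open AlgebraicGeometry CategoryTheory CategoryTheory.Limits TopologicalSpace

namespace Groth.Agent.RG.GC

universe u

variable {Y S : Scheme.{u}} (h : Y ⟶ S)

theorem isOpen_sectionComponents_flat [Flat h] [LocallyOfFinitePresentation h] [QuasiCompact h] [QuasiSeparated h]
    [GeometricallyReduced h] (σ : S ⟶ Y) (hσ : σ ≫ h = 𝟙 S) :
    IsOpen (MoreMor.sectionComponents h σ) :=
  isOpen_iff_mem_nhds.2 fun x hx => mem_interior_iff_mem_nhds.1
    (S1327.result h σ hσ (h x) inferInstance hx)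

theorem isCompact_sectionComponents [Flat h] [LocallyOfFinitePresentation h] [QuasiCompact h] [QuasiSeparated h]
    [GeometricallyReduced h] [CompactSpace S] [QuasiSeparatedSpace S] (σ : S ⟶ Y) (hσ : σ ≫ h = 𝟙 S) :
    IsCompact (MoreMor.sectionComponents h σ) := by
  haveI : CompactSpace Y := QuasiCompact.compactSpace_of_compactSpace h
  haveI : QuasiSeparatedSpace Y := quasiSeparatedSpace_of_quasiSeparated h
  have hc := (S1326.result h σ hσ).isConstructible
  exact MorLib.WT.isCompact_of_isConstructible hc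

/-- Spreading out, given a finite locally free quasi-section. -/
theorem core [IsAffine S] [Flat h] [LocallyOfFinitePresentation h] [QuasiCompact h] [QuasiSeparated h]
    [GeometricallyReduced h] {S₁ : Scheme.{u}} (g₁ : S₁ ⟶ S) [IsFinite g₁] [Flat g₁] [LocallyOfFinitePresentation g₁]
    (s : S) (s₁ : S₁)
    (hs₁ : g₁ s₁ = s) (σ : S₁ ⟶ Y) (hσ : σ ≫ h = g₁)
    (hconn : ∀ (K : Type u) [Field K] (x : Spec (CommRingCat.of K) ⟶ S), (∀ a, x a = s) →
      ConnectedSpace ↥(pullback h x)) :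
    ∃ O : S.Opens, IsAffineOpen O ∧ s ∈ O ∧ ∃ V : Y.Opens, IsCompact (V : Set Y) ∧ V ≤ h ⁻¹ᵁ O ∧
      (∀ y : Y, h y = s → y ∈ V) ∧
      ∀ (K : Type u) [Field K] (x : Spec (CommRingCat.of K) ⟶ S), (∀ a, x a ∈ O) →
        _root_.IsConnected (pullback.fst h x ⁻¹' (V : Set Y)) := by
  classical
  haveI : IsAffine S₁ := isAffine_of_isAffineHom g₁
  -- the base change to the quasi-section
  let π : pullback h g₁ ⟶ Y := pullback.fst h g₁
  let f₁ : pullback h g₁ ⟶ S₁ := pullback.snd h g₁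
  haveI : Flat f₁ := MorphismProperty.pullback_snd (P := @Flat) _ _ inferInstance
  haveI : LocallyOfFinitePresentation f₁ :=
    MorphismProperty.pullback_snd (P := @LocallyOfFinitePresentation) _ _ inferInstance
  haveI : GeometricallyReduced f₁ := MorphismProperty.pullback_snd (P := @GeometricallyReduced) _ _ inferInstance
  haveI : QuasiCompact f₁ := inferInstanceAs (QuasiCompact (pullback.snd h g₁))
  haveI : QuasiSeparated f₁ := inferInstanceAs (QuasiSeparated (pullback.snd h g₁))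
  let σ₁ : S₁ ⟶ pullback h g₁ := pullback.lift σ (𝟙 S₁) (by rw [hσ, Category.id_comp])
  have hσ₁ : σ₁ ≫ f₁ = 𝟙 S₁ := pullback.lift_snd _ _ _
  have hσ₁π : σ₁ ≫ π = σ := pullback.lift_fst _ _ _
  let C₁ := MoreMor.sectionComponents f₁ σ₁
  have hC₁o : IsOpen C₁ := isOpen_sectionComponents_flat f₁ σ₁ hσ₁
  have hC₁c : IsCompact C₁ := isCompact_sectionComponents f₁ σ₁ hσ₁
  have hC₁s : ∀ a : ↥(pullback h g₁), f₁ a = s₁ → a ∈ C₁ := fun a ha => by
    show a ∈ connectedComponentIn (f₁ ⁻¹' {f₁ a}) (σ₁ (f₁ a))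
    rw [ha]
    have hmem : σ₁ s₁ ∈ f₁ ⁻¹' {s₁} := by
      show f₁ (σ₁ s₁) = s₁
      rw [← Scheme.Hom.comp_apply, hσ₁]; rfl
    exact (connectedSpace_fiber_bc h g₁ s₁ s hs₁ hconn).isPreconnected.subset_connectedComponentIn hmem
      subset_rfl ha
  -- the double base change
  let pa := pullback.fst g₁ g₁
  let pb := pullback.snd g₁ g₁
  let g₂ := pa ≫ g₁
  let f₂ := pullback.snd h g₂
  let ea : pullback g₁ g₁ ⟶ pullback h g₂ := pullback.lift (pa ≫ σ) (𝟙 _)
    (by rw [Category.assoc, hσ, Category.id_comp])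
  let eb : pullback g₁ g₁ ⟶ pullback h g₂ := pullback.lift (pb ≫ σ) (𝟙 _)
    (by rw [Category.assoc, hσ, Category.id_comp]; exact pullback.condition.symm)
  have hea : ea ≫ f₂ = 𝟙 _ := pullback.lift_snd _ _ _
  have heb : eb ≫ f₂ = 𝟙 _ := pullback.lift_snd _ _ _
  let qa : pullback h g₂ ⟶ pullback h g₁ := pullback.lift (pullback.fst h g₂) (f₂ ≫ pa)
    (by rw [pullback.condition, Category.assoc])
  have hg₂ : pb ≫ g₁ = g₂ := pullback.condition.symm
  let qb : pullback h g₂ ⟶ pullback h g₁ := pullback.lift (pullback.fst h g₂) (f₂ ≫ pb)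
    (by rw [pullback.condition, Category.assoc, hg₂])
  have sqa : IsPullback qa f₂ f₁ pa := IsPullback.of_right (h₁₂ := π)
    (by rw [pullback.lift_fst]; exact IsPullback.of_hasPullback h g₂)
    (pullback.lift_snd _ _ _) (IsPullback.of_hasPullback h g₁)
  have sqb : IsPullback qb f₂ f₁ pb := IsPullback.of_right (h₁₂ := π)
    (by rw [pullback.lift_fst, show pb ≫ g₁ = g₂ from pullback.condition.symm]; exact IsPullback.of_hasPullback h g₂)
    (pullback.lift_snd _ _ _) (IsPullback.of_hasPullback h g₁)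
  have haea : ea ≫ qa = pa ≫ σ₁ := by
    refine pullback.hom_ext ?_ ?_
    · rw [Category.assoc, pullback.lift_fst, pullback.lift_fst, Category.assoc, pullback.lift_fst]
    · rw [Category.assoc, pullback.lift_snd, ← Category.assoc, hea, Category.id_comp, Category.assoc,
        pullback.lift_snd, Category.comp_id]
  have hbeb : eb ≫ qb = pb ≫ σ₁ := by
    refine pullback.hom_ext ?_ ?_
    · rw [Category.assoc, pullback.lift_fst, pullback.lift_fst, Category.assoc, pullback.lift_fst]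
    · rw [Category.assoc, pullback.lift_snd, ← Category.assoc, heb, Category.id_comp, Category.assoc,
        pullback.lift_snd, Category.comp_id]
  have hSCa : MoreMor.sectionComponents f₂ ea = qa ⁻¹' C₁ := S1324.result f₁ σ₁ hσ₁ f₂ qa pa sqa ea hea haea
  have hSCb : MoreMor.sectionComponents f₂ eb = qb ⁻¹' C₁ := S1324.result f₁ σ₁ hσ₁ f₂ qb pb sqb eb heb hbeb
  have hfe : ∀ t, f₂ (eb t) = t := fun t => by rw [← Scheme.Hom.comp_apply, heb]; rfl
  have hfea : ∀ t, f₂ (ea t) = t := fun t => by rw [← Scheme.Hom.comp_apply, hea]; rfl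
  let E : Set ↥(pullback g₁ g₁) := eb ⁻¹' (qa ⁻¹' C₁)
  have hEo : IsOpen E := (hC₁o.preimage qa.continuous).preimage eb.continuous
  have hEs : ∀ t, g₂ t = s → t ∈ E := fun t ht => by
    show eb t ∈ qa ⁻¹' C₁
    rw [← hSCa]
    show eb t ∈ connectedComponentIn (f₂ ⁻¹' {f₂ (eb t)}) (ea (f₂ (eb t)))
    rw [hfe]
    exact (connectedSpace_fiber_bc h g₂ t s ht hconn).isPreconnected.subset_connectedComponentIn (hfea t)
      subset_rfl (hfe t)
  have hEeq : ∀ c : ↥(pullback h g₂), f₂ c ∈ E → (qa c ∈ C₁ ↔ qb c ∈ C₁) := fun c hc => by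
    have h0 : eb (f₂ c) ∈ MoreMor.sectionComponents f₂ ea := by rw [hSCa]; exact hc
    have h1 : eb (f₂ c) ∈ connectedComponentIn (f₂ ⁻¹' {f₂ c}) (ea (f₂ c)) := by
      have h2 : eb (f₂ c) ∈ connectedComponentIn (f₂ ⁻¹' {f₂ (eb (f₂ c))}) (ea (f₂ (eb (f₂ c)))) := h0
      rwa [hfe] at h2
    change c ∈ qa ⁻¹' C₁ ↔ c ∈ qb ⁻¹' C₁
    rw [← hSCa, ← hSCb]
    show c ∈ connectedComponentIn (f₂ ⁻¹' {f₂ c}) (ea (f₂ c)) ↔ c ∈ connectedComponentIn (f₂ ⁻¹' {f₂ c}) (eb (f₂ c))
    rw [connectedComponentIn_eq h1]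
  -- shrinking the base
  haveI : IsFinite g₂ := inferInstanceAs (IsFinite (pullback.fst g₁ g₁ ≫ g₁))
  have hbad : IsClosed (g₂ '' Eᶜ) := g₂.isClosedMap _ hEo.isClosed_compl
  have hr : IsOpen (Set.range g₁) := g₁.isOpenMap.isOpen_range
  obtain ⟨O, hO, hsO, hOsub⟩ := exists_isAffineOpen_mem_and_subset (x := s)
    (U := ⟨(g₂ '' Eᶜ)ᶜ ∩ Set.range g₁, hbad.isOpen_compl.inter hr⟩)
    ⟨fun ⟨t, ht, hts⟩ => ht (hEs t hts), ⟨s₁, hs₁⟩⟩
  let V : Y.Opens := ⟨π '' C₁ ∩ h ⁻¹' O, (π.isOpenMap _ hC₁o).inter (O.2.preimage h.continuous)⟩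
  have hVkey : ∀ a : ↥(pullback h g₁), π a ∈ V → a ∈ C₁ := by
    rintro a ⟨⟨b, hb, hba⟩, haO⟩
    obtain ⟨c₀, hc₀a, hc₀b⟩ := Scheme.Pullback.exists_preimage_pullback (f := π) (g := π) a b hba.symm
    let p₁ := pullback.fst π π
    let p₂ := pullback.snd π π
    have hπf : π ≫ h = f₁ ≫ g₁ := pullback.condition
    have hpp : p₁ ≫ π = p₂ ≫ π := pullback.condition
    have hpf : (p₁ ≫ f₁) ≫ g₁ = (p₂ ≫ f₁) ≫ g₁ := by
      rw [Category.assoc, Category.assoc, ← hπf, ← Category.assoc, ← Category.assoc, hpp]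
    let w := pullback.lift (p₁ ≫ f₁) (p₂ ≫ f₁) hpf
    let j : pullback π π ⟶ pullback h g₂ := pullback.lift (p₁ ≫ π) w
      (by rw [Category.assoc, hπf, ← Category.assoc w, pullback.lift_fst, Category.assoc])
    have hja : j ≫ qa = p₁ := by
      refine pullback.hom_ext ?_ ?_
      · rw [Category.assoc, pullback.lift_fst, pullback.lift_fst]
      · rw [Category.assoc, pullback.lift_snd, ← Category.assoc, pullback.lift_snd, pullback.lift_fst]
    have hjb : j ≫ qb = p₂ := by
      refine pullback.hom_ext ?_ ?_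
      · rw [Category.assoc, pullback.lift_fst, pullback.lift_fst]; exact pullback.condition
      · rw [Category.assoc, pullback.lift_snd, ← Category.assoc, pullback.lift_snd, pullback.lift_snd]
    have hqa : qa (j c₀) = a := by rw [← Scheme.Hom.comp_apply, hja]; exact hc₀a
    have hqb : qb (j c₀) = b := by rw [← Scheme.Hom.comp_apply, hjb]; exact hc₀b
    have hfst : pullback.fst h g₂ (j c₀) = π a := by
      rw [← hqa, ← Scheme.Hom.comp_apply qa π, pullback.lift_fst]
    have hgO : g₂ (f₂ (j c₀)) ∈ O := by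
      rw [← Scheme.Hom.comp_apply, ← pullback.condition, Scheme.Hom.comp_apply, hfst]
      exact haO
    have hcE : f₂ (j c₀) ∈ E := by
      by_contra hne
      exact (hOsub hgO).1 ⟨_, hne, rfl⟩
    rw [← hqa, hEeq _ hcE, hqb]
    exact hb
  haveI : QuasiSeparatedSpace Y := quasiSeparatedSpace_of_quasiSeparated h
  refine ⟨O, hO, hsO, V, ?_, fun y hy => hy.2, fun y hy => ?_, ?_⟩
  · exact QuasiSeparatedSpace.inter_isCompact _ _ (π.isOpenMap _ hC₁o) (hC₁c.image π.continuous)
      (O.2.preimage h.continuous) (h.isCompact_preimage hO.isCompact)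
  · obtain ⟨a, ha, ha'⟩ := Scheme.Pullback.exists_preimage_pullback (f := h) (g := g₁) y s₁ (hy.trans hs₁.symm)
    exact ⟨⟨a, hC₁s a ha', ha⟩, by show h y ∈ O; rw [hy]; exact hsO⟩
  intro K _ x hx
  let o : Spec (CommRingCat.of K) := IsLocalRing.closedPoint K
  obtain ⟨t₁, ht₁⟩ := (hOsub (hx o)).2
  obtain ⟨c, -, -⟩ := Scheme.Pullback.exists_preimage_pullback (f := g₁) (g := x) t₁ o ht₁
  let P₀ := pullback g₁ x
  let k : Spec (P₀.residueField c) ⟶ Spec (CommRingCat.of K) := P₀.fromSpecResidueField c ≫ pullback.snd g₁ x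
  let x₁ : Spec (P₀.residueField c) ⟶ S₁ := P₀.fromSpecResidueField c ≫ pullback.fst g₁ x
  have hx₁ : x₁ ≫ g₁ = k ≫ x := by simp only [x₁, k, Category.assoc, pullback.condition]
  haveI : Surjective k := ⟨fun a => ⟨IsLocalRing.closedPoint _, Subsingleton.elim _ _⟩⟩
  let f' := pullback.snd f₁ x₁
  let m : pullback f₁ x₁ ⟶ pullback h x := pullback.lift (pullback.fst f₁ x₁ ≫ π) (f' ≫ k)
    (by rw [Category.assoc, show π ≫ h = f₁ ≫ g₁ from pullback.condition, pullback.condition_assoc, hx₁]; simp only [k, f', Category.assoc])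
  have sqm : IsPullback m f' (pullback.snd h x) k := IsPullback.of_right (h₁₂ := pullback.fst h x)
    (by
      rw [pullback.lift_fst, ← hx₁]
      exact (IsPullback.of_hasPullback f₁ x₁).paste_horiz (IsPullback.of_hasPullback h g₁))
    (pullback.lift_snd _ _ _) (IsPullback.of_hasPullback h x)
  haveI : Surjective m := MorphismProperty.of_isPullback sqm.flip ‹_›
  let e' : Spec (P₀.residueField c) ⟶ pullback f₁ x₁ := pullback.lift (x₁ ≫ σ₁) (𝟙 _)
    (by rw [Category.assoc, hσ₁, Category.comp_id, Category.id_comp])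
  have he' : e' ≫ f' = 𝟙 _ := pullback.lift_snd _ _ _
  have hSC : MoreMor.sectionComponents f' e' = pullback.fst f₁ x₁ ⁻¹' C₁ :=
    S1324.result f₁ σ₁ hσ₁ f' _ x₁ (IsPullback.of_hasPullback f₁ x₁) e' he' (pullback.lift_fst _ _ _)
  have heq : m ⁻¹' (pullback.fst h x ⁻¹' (V : Set Y)) = MoreMor.sectionComponents f' e' := by
    rw [hSC]
    ext q
    have hmq : pullback.fst h x (m q) = π (pullback.fst f₁ x₁ q) := by
      rw [← Scheme.Hom.comp_apply, pullback.lift_fst, Scheme.Hom.comp_apply]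
    simp only [Set.mem_preimage, hmq]
    refine ⟨hVkey _, fun hq => ⟨⟨_, hq, rfl⟩, ?_⟩⟩
    show h (π (pullback.fst f₁ x₁ q)) ∈ O
    rw [← hmq, ← Scheme.Hom.comp_apply, pullback.condition, Scheme.Hom.comp_apply]
    exact hx _
  have hconn' : _root_.IsConnected (MoreMor.sectionComponents f' e') := by
    have : MoreMor.sectionComponents f' e' =
        connectedComponentIn (f' ⁻¹' {IsLocalRing.closedPoint _}) (e' (IsLocalRing.closedPoint _)) := by
      ext q
      show q ∈ connectedComponentIn (f' ⁻¹' {f' q}) (e' (f' q)) ↔ _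
      rw [Subsingleton.elim (f' q) (IsLocalRing.closedPoint _)]
    rw [this, isConnected_connectedComponentIn_iff]
    exact Subsingleton.elim _ _
  rw [← heq] at hconn'
  have := hconn'.image m m.continuous.continuousOn
  rwa [Set.image_preimage_eq _ m.surjective] at this

end Groth.Agent.RG.GC
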