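import Groth.Agent.RG.GCCore
import Groth.Agent.Pi1Ext.StF.Tower
import Groth.Agent.Neron6.FiniteExt
import Groth.Agent.SmoothSecLib.Basic
import Groth.Agent.MorLib.ElemEtaleFinite

/-!
# Spreading out a geometrically connected open of a fibre after an étale neighbourhood
-/

set_option autoImplicit false
set_option linter.style.haveILetI false
set_option backward.isDefEq.respectTransparency false
set_option backward.isDefEq.respectTransparency.types false

open AlgebraicGeometry CategoryTheory CategoryTheory.Limits TopologicalSpace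

namespace Groth.Agent.RG.GC

universe u

/-- Quasi-section through the fibre, finite étale after an elementary étale neighbourhood. -/
theorem exists_finite_etale_section {Y S : Scheme.{u}} (h : Y ⟶ S) [Flat h] [LocallyOfFinitePresentation h]
    [GeometricallyReduced h] (s : S) (hne : Nonempty ↥(h.fiber s)) :
    ∃ (U : Scheme.{u}) (e : U ⟶ S) (u : U), IsAffine U ∧ Hens2.IsEtaleNbhd e u s ∧
      ∃ (S₁ : Scheme.{u}) (g₁ : S₁ ⟶ U) (s₁ : S₁), IsFinite g₁ ∧ Etale g₁ ∧ g₁ s₁ = u ∧
        ∃ σ : S₁ ⟶ pullback h e, σ ≫ pullback.snd h e = g₁ := by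
  obtain ⟨z⟩ := hne
  obtain ⟨z, -, hz⟩ := Pi1Ext.StF.exists_smooth_point h s ⊤ ⟨z, trivial⟩
  haveI : Smooth (h.smoothLocus.ι ≫ h) := Neron6.smooth_smoothLocus_ι h
  obtain ⟨S', g', s', -, hg', hs', σ', hσ'⟩ :=
    SmoothSecLib.exists_etale_section_scheme (h.smoothLocus.ι ≫ h) ⟨_, hz⟩
  have hs's : g' s' = s := by
    rw [hs', Scheme.Hom.comp_apply]
    exact (Scheme.Hom.range_fiberι h s).subset ⟨z, rfl⟩
  haveI := hg'
  haveI : LocallyQuasiFinite g' := inferInstance
  obtain ⟨U, e, u, hu, V₁, v, hvV, hVfin, hvu, -, hvs, -⟩ :=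
    MorLib.EEF.exists_elem_nbhd g' s' (g'.quasiFiniteAt s')
  rw [hs's] at hu
  obtain ⟨U₀, hU₀, huU₀, -⟩ := exists_isAffineOpen_mem_and_subset (x := u) (U := (⊤ : U.Opens)) trivial
  let p := V₁.ι ≫ pullback.snd g' e
  haveI : IsFinite p := hVfin
  haveI : Etale p := inferInstanceAs (Etale (V₁.ι ≫ pullback.snd g' e))
  let g₁ := pullback.snd p U₀.ι
  obtain ⟨s₁, -, hs₁⟩ := Scheme.Pullback.exists_preimage_pullback (f := p) (g := U₀.ι) ⟨v, hvV⟩ ⟨u, huU₀⟩
    (by show (V₁.ι ≫ pullback.snd g' e) ⟨v, hvV⟩ = u; rw [Scheme.Hom.comp_apply]; exact hvu)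
  refine ⟨U₀, U₀.ι ≫ e, ⟨u, huU₀⟩, hU₀, isEtaleNbhd_comp hu (isEtaleNbhd_openImmersion _ _ _ rfl),
    pullback p U₀.ι, g₁, s₁, inferInstance, inferInstance, hs₁,
    pullback.lift (pullback.fst p U₀.ι ≫ V₁.ι ≫ pullback.fst g' e ≫ σ' ≫ h.smoothLocus.ι) g₁ ?_,
    pullback.lift_snd _ _ _⟩
  simp only [Category.assoc, hσ', pullback.condition]
  show pullback.fst p U₀.ι ≫ p ≫ e = g₁ ≫ U₀.ι ≫ e
  rw [← Category.assoc, pullback.condition, Category.assoc]

/-- The case of an affine base and the whole fibre. -/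
theorem main {Y S : Scheme.{u}} (h : Y ⟶ S) [Flat h] [LocallyOfFinitePresentation h] [QuasiCompact h]
    [QuasiSeparated h] [GeometricallyReduced h] (s : S)
    (hconn : ∀ (K : Type u) [Field K] (x : Spec (CommRingCat.of K) ⟶ S), (∀ a, x a = s) →
      ConnectedSpace ↥(pullback h x)) :
    ∃ (S' : Scheme.{u}) (g : S' ⟶ S) (s' : S'), IsAffine S' ∧ Hens2.IsEtaleNbhd g s' s ∧
      ∃ V : (pullback h g).Opens, IsCompact (V : Set ↑(pullback h g)) ∧
        GeometricallyConnected (V.ι ≫ pullback.snd h g) ∧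
        ∀ y', pullback.snd h g y' = s' → y' ∈ V := by
  have hne : Nonempty ↥(h.fiber s) :=
    (hconn (S.residueField s) (S.fromSpecResidueField s) fun a => Scheme.fromSpecResidueField_apply _ a).toNonempty
  obtain ⟨U, e, u, hU, hu, S₁, g₁, s₁, hfin, het, hs₁, σ, hσ⟩ :=
    exists_finite_etale_section h s hne
  haveI := hU
  haveI := hfin
  haveI := het
  let h' := pullback.snd h e
  haveI : Flat h' := MorphismProperty.pullback_snd (P := @Flat) _ _ inferInstance
  haveI : LocallyOfFinitePresentation h' :=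
    MorphismProperty.pullback_snd (P := @LocallyOfFinitePresentation) _ _ inferInstance
  haveI : GeometricallyReduced h' := MorphismProperty.pullback_snd (P := @GeometricallyReduced) _ _ inferInstance
  haveI : QuasiCompact h' := inferInstanceAs (QuasiCompact (pullback.snd h e))
  haveI : QuasiSeparated h' := inferInstanceAs (QuasiSeparated (pullback.snd h e))
  have hconn' : ∀ (K : Type u) [Field K] (x : Spec (CommRingCat.of K) ⟶ U), (∀ a, x a = u) →
      ConnectedSpace ↥(pullback h' x) := fun K _ x hx => by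
    refine (pullbackLeftPullbackSndIso h e x).hom.homeomorph.connectedSpace_iff.mpr (hconn K _ fun a => ?_)
    rw [Scheme.Hom.comp_apply, hx]
    exact hu.base_eq
  obtain ⟨O, hO, huO, V, hVc, hVO, hVu, hVconn⟩ := core h' g₁ u s₁ hs₁ σ hσ hconn'
  let g := O.ι ≫ e
  let m : pullback h g ⟶ pullback h e := pullback.lift (pullback.fst h g) (pullback.snd h g ≫ O.ι)
    (by rw [pullback.condition, Category.assoc])
  have sqm : IsPullback m (pullback.snd h g) h' O.ι := IsPullback.of_right (h₁₂ := pullback.fst h e)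
    (by rw [pullback.lift_fst]; exact IsPullback.of_hasPullback h g)
    (pullback.lift_snd _ _ _) (IsPullback.of_hasPullback h e)
  haveI : IsOpenImmersion m := MorphismProperty.of_isPullback sqm.flip inferInstance
  have hVr : (V : Set ↥(pullback h e)) ⊆ Set.range m := fun z hz => by
    obtain ⟨w, hw, -⟩ := Scheme.Pullback.exists_preimage_pullback (f := h') (g := O.ι) z ⟨h' z, hVO hz⟩ rfl
    refine ⟨sqm.isoPullback.inv w, ?_⟩
    rw [← Scheme.Hom.comp_apply, sqm.isoPullback_inv_fst]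
    exact hw
  haveI : IsAffine O := hO
  refine ⟨O, g, ⟨u, huO⟩, inferInstance, isEtaleNbhd_comp hu (isEtaleNbhd_openImmersion _ _ _ rfl),
    m ⁻¹ᵁ V, m.isOpenEmbedding.isInducing.isCompact_preimage' hVc hVr, ?_, fun y hy => ?_⟩
  · rw [geometricallyConnected_opens_iff]
    intro K _ x
    have sq : IsPullback (pullback.fst (pullback.snd h g) x ≫ m) (pullback.snd (pullback.snd h g) x) h' (x ≫ O.ι) :=
      (IsPullback.of_hasPullback _ _).paste_horiz sqm
    have hc := hVconn K (x ≫ O.ι) fun a => by rw [Scheme.Hom.comp_apply]; exact (x a).2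
    have := sq.isoPullback.hom.homeomorph.isConnected_preimage.2 hc
    convert this using 1
    ext q
    show m (pullback.fst (pullback.snd h g) x q) ∈ V ↔ pullback.fst h' (x ≫ O.ι) (sq.isoPullback.hom q) ∈ V
    rw [← Scheme.Hom.comp_apply, ← Scheme.Hom.comp_apply, sq.isoPullback_hom_fst]
  · refine hVu _ ?_
    rw [← Scheme.Hom.comp_apply, sqm.w, Scheme.Hom.comp_apply, hy]
    rfl

/-- A quasi-compact open of `Y` over an affine open of the base, cutting out a given open of a fibre. -/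
theorem exists_compact_open_of_fiber {Y S : Scheme.{u}} (h : Y ⟶ S) [LocallyOfFiniteType h] [QuasiCompact h]
    (s : S) (S₀ : S.Opens) (hs : s ∈ S₀) (T : (h.fiber s).Opens) :
    ∃ W : Y.Opens, IsCompact (W : Set Y) ∧ W ≤ h ⁻¹ᵁ S₀ ∧ h.fiberι s ⁻¹ᵁ W = T := by
  haveI : LocallyOfFiniteType (h.fiberToSpecResidueField s) :=
    MorphismProperty.pullback_snd (P := @LocallyOfFiniteType) _ _ inferInstance
  haveI : IsLocallyNoetherian (h.fiber s) := LocallyOfFiniteType.isLocallyNoetherian (h.fiberToSpecResidueField s)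
  haveI : QuasiCompact (h.fiberToSpecResidueField s) :=
    MorphismProperty.pullback_snd (P := @QuasiCompact) _ _ inferInstance
  haveI : CompactSpace ↥(h.fiber s) := QuasiCompact.compactSpace_of_compactSpace (h.fiberToSpecResidueField s)
  haveI : AlgebraicGeometry.IsNoetherian (h.fiber s) := ⟨⟩
  obtain ⟨W₀, hW₀o, hW₀⟩ := (h.fiberι s).isEmbedding.isInducing.isOpen_iff.1 T.2
  have hT : IsCompact (T : Set ↥(h.fiber s)) := NoetherianSpace.isCompact _
  have key : ∀ t ∈ T, ∃ A : Y.Opens, IsAffineOpen A ∧ h.fiberι s t ∈ A ∧ (A : Set Y) ⊆ W₀ ∩ h ⁻¹' S₀ := by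
    intro t ht
    obtain ⟨A, hA, htA, hAle⟩ := exists_isAffineOpen_mem_and_subset (x := h.fiberι s t)
      (U := ⟨W₀ ∩ h ⁻¹' S₀, hW₀o.inter (S₀.2.preimage h.continuous)⟩)
      ⟨show t ∈ h.fiberι s ⁻¹' W₀ by rw [hW₀]; exact ht, by
        show h (h.fiberι s t) ∈ S₀
        rw [(Scheme.Hom.range_fiberι h s).subset ⟨t, rfl⟩]
        exact hs⟩
    exact ⟨A, hA, htA, hAle⟩
  choose A hA htA hAle using key
  obtain ⟨F, hF⟩ := hT.elim_finite_subcover (fun t : T => h.fiberι s ⁻¹' (A t.1 t.2 : Set Y))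
    (fun t => (A t.1 t.2).2.preimage (h.fiberι s).continuous) fun t ht => Set.mem_iUnion.2 ⟨⟨t, ht⟩, htA t ht⟩
  refine ⟨⨆ t ∈ F, A t.1 t.2, ?_, iSup₂_le fun t _ y hy => (hAle t.1 t.2 hy).2, ?_⟩
  · simp only [Opens.coe_iSup]
    exact F.isCompact_biUnion fun t _ => (hA t.1 t.2).isCompact
  · ext z
    simp only [Opens.map_coe, Set.mem_preimage, Opens.coe_iSup, Set.mem_iUnion, exists_prop]
    refine ⟨fun ⟨t, _, hz⟩ => ?_, fun hz => ?_⟩
    · show z ∈ T.carrier
      rw [← hW₀]
      exact (hAle t.1 t.2 hz).1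
    · simpa using hF hz

/-- Spreading out a geometrically connected open of a fibre. -/
theorem spread {Y S : Scheme.{u}} (h : Y ⟶ S) [Flat h] [LocallyOfFinitePresentation h] [QuasiCompact h]
    [QuasiSeparated h] [GeometricallyReduced h] (s : S) (T : (h.fiber s).Opens)
    (hT : GeometricallyConnected (T.ι ≫ h.fiberToSpecResidueField s)) :
    ∃ (S' : Scheme.{u}) (g : S' ⟶ S) (s' : S'), IsAffine S' ∧ Hens2.IsEtaleNbhd g s' s ∧
      ∃ V : (pullback h g).Opens, IsCompact (V : Set ↑(pullback h g)) ∧ GeometricallyConnected (V.ι ≫ pullback.snd h g) ∧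
        ∀ y' : ↑(pullback h g), pullback.snd h g y' = s' →
          (y' ∈ V ↔ pullback.fst h g y' ∈ (h.fiberι s) '' (T : Set ↑(h.fiber s))) := by
  obtain ⟨S₀, hS₀, hsS₀, -⟩ := exists_isAffineOpen_mem_and_subset (x := s) (U := (⊤ : S.Opens)) trivial
  obtain ⟨W, hWc, hWS, hWT⟩ := exists_compact_open_of_fiber h s S₀ hsS₀ T
  haveI : IsAffine S₀ := hS₀
  let hW : W.toScheme ⟶ S₀.toScheme := h.resLE S₀ W hWS
  have hWι : hW ≫ S₀.ι = W.ι ≫ h := Scheme.Hom.resLE_comp_ι _ _
  haveI : Flat hW := IsZariskiLocalAtSource.resLE _ ‹_›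
  haveI : LocallyOfFinitePresentation hW := IsZariskiLocalAtSource.resLE _ ‹_›
  haveI : GeometricallyReduced hW := by
    exact geometricallyReduced_comp_openImmersion (Y.homOfLE hWS) (h ∣_ S₀)
  haveI : CompactSpace ↥W.toScheme := isCompact_iff_compactSpace.mp hWc
  haveI : QuasiCompact hW := (quasiCompact_iff_compactSpace hW).mpr inferInstance
  haveI : QuasiSeparated hW := by
    haveI : QuasiSeparated (hW ≫ S₀.ι) := by rw [hWι]; infer_instance
    exact QuasiSeparated.of_comp hW S₀.ι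
  let s₀ : S₀.toScheme := ⟨s, hsS₀⟩
  have hconn : ∀ (K : Type u) [Field K] (x : Spec (CommRingCat.of K) ⟶ S₀.toScheme), (∀ a, x a = s₀) →
      ConnectedSpace ↥(pullback hW x) := fun K _ x hx => by
    let y := x ≫ S₀.ι
    obtain ⟨φ, hφ⟩ : ∃ φ : S.residueField s ⟶ CommRingCat.of K, Spec.map φ ≫ S.fromSpecResidueField s = y := by
      obtain ⟨⟨t, φ⟩, ht⟩ := (Scheme.SpecToEquivOfField K S).symm.surjective y
      have hts : t = s := by
        have h1 := congrArg (fun a : Spec (CommRingCat.of K) ⟶ S => a (IsLocalRing.closedPoint K)) ht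
        simp only [Scheme.SpecToEquivOfField, Equiv.coe_fn_symm_mk, Scheme.Hom.comp_apply,
          Scheme.fromSpecResidueField_apply, y] at h1
        rw [h1, hx]; rfl
      subst hts
      exact ⟨φ, ht⟩
    have hc := (geometricallyConnected_opens_iff _ T).1 hT K (Spec.map φ)
    have e1 : ConnectedSpace ↥(pullback (W.ι ≫ h) y) := by
      rw [← (pullbackRightPullbackFstIso h y W.ι).hom.homeomorph.connectedSpace_iff,
        (pullbackSymmetry W.ι (pullback.fst h y)).hom.homeomorph.connectedSpace_iff, isConnected_preimage_iff]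
      rw [← hφ]
      let j := pullbackLeftPullbackSndIso h (S.fromSpecResidueField s) (Spec.map φ)
      refine j.hom.homeomorph.isConnected_preimage.1 ?_
      have heq : j.hom ⁻¹' (pullback.fst h (Spec.map φ ≫ S.fromSpecResidueField s) ⁻¹' (W : Set Y)) =
          pullback.fst (h.fiberToSpecResidueField s) (Spec.map φ) ⁻¹' (T : Set ↥(h.fiber s)) := by
        ext q
        show pullback.fst h _ (j.hom q) ∈ W ↔ pullback.fst (h.fiberToSpecResidueField s) (Spec.map φ) q ∈ T
        rw [← hWT, ← Scheme.Hom.comp_apply, pullbackLeftPullbackSndIso_hom_fst]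
        rfl
      show _root_.IsConnected (j.hom ⁻¹' _)
      rw [heq]
      exact hc
    have sq : IsPullback (pullback.fst hW x) (pullback.snd hW x) (W.ι ≫ h) y := by
      rw [← hWι]
      exact isPullback_comp_mono (IsPullback.of_hasPullback hW x) S₀.ι
    exact sq.isoPullback.hom.homeomorph.connectedSpace_iff.mpr e1
  obtain ⟨S', g₀, s', hS', hg₀, V, hVc, hVconn, hVs⟩ := main hW s₀ hconn
  let g := g₀ ≫ S₀.ι
  let j : pullback hW g₀ ⟶ pullback h g := pullback.lift (pullback.fst hW g₀ ≫ W.ι) (pullback.snd hW g₀)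
    (by rw [Category.assoc, ← hWι, pullback.condition_assoc])
  have big : IsPullback (pullback.fst hW g₀) (j ≫ pullback.snd h g) (W.ι ≫ h) g := by
    rw [pullback.lift_snd, ← hWι]
    exact isPullback_comp_mono (IsPullback.of_hasPullback hW g₀) S₀.ι
  have sqj : IsPullback (pullback.fst hW g₀) j W.ι (pullback.fst h g) :=
    IsPullback.of_bot big (pullback.lift_fst _ _ _).symm (IsPullback.of_hasPullback h g)
  haveI : IsOpenImmersion j := MorphismProperty.of_isPullback sqj inferInstance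
  have hjr : Set.range j = pullback.fst h g ⁻¹' (W : Set Y) := by
    rw [range_of_isPullback sqj, Scheme.Opens.range_ι]
  refine ⟨S', g, s', hS', isEtaleNbhd_comp (isEtaleNbhd_openImmersion S₀.ι s₀ s rfl) hg₀, j ''ᵁ V,
    hVc.image j.continuous, ?_, fun y' hy' => ?_⟩
  · have e : (j ''ᵁ V).ι ≫ pullback.snd h g = (j.isoImage V).inv ≫ V.ι ≫ pullback.snd hW g₀ := by
      have hjs : j ≫ pullback.snd h g = pullback.snd hW g₀ := pullback.lift_snd _ _ _
      rw [← Scheme.Hom.isoImage_inv_ι j V, Category.assoc, Category.assoc, hjs]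
    rw [e, MorphismProperty.cancel_left_of_respectsIso @GeometricallyConnected]
    exact hVconn
  · have hfy : h (pullback.fst h g y') = s := by
      rw [← Scheme.Hom.comp_apply, pullback.condition, Scheme.Hom.comp_apply, hy', Scheme.Hom.comp_apply,
        hg₀.base_eq]
      rfl
    constructor
    · rintro ⟨w, -, rfl⟩
      have hw : pullback.fst h g (j w) ∈ (W : Set Y) := hjr.subset ⟨w, rfl⟩
      obtain ⟨z, hz⟩ : pullback.fst h g (j w) ∈ Set.range (h.fiberι s) := by
        rw [Scheme.Hom.range_fiberι]; exact hfy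
      exact ⟨z, by rw [← hWT]; show h.fiberι s z ∈ W; rw [hz]; exact hw, hz⟩
    · rintro ⟨z, hz, hzy⟩
      have : y' ∈ Set.range j := by
        rw [hjr]
        show pullback.fst h g y' ∈ W
        rw [← hzy]
        rw [← hWT] at hz
        exact hz
      obtain ⟨w, rfl⟩ := this
      exact ⟨w, hVs w (by rw [← hy', ← Scheme.Hom.comp_apply, pullback.lift_snd]), rfl⟩

end Groth.Agent.RG.GC
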