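import Groth.Agent.RG.GCMain
import Groth.Agent.GeomFib.Regular
import Groth.Agent.FlatLoc6.DefinedPrime
import Groth.Agent.FlatLoc6.GeomRed
import Groth.Agent.S7603

/-!
# Normal morphisms: geometrically connected fibres are geometrically integral
-/

set_option autoImplicit false
set_option linter.style.haveILetI false
set_option backward.isDefEq.respectTransparency false
set_option backward.isDefEq.respectTransparency.types false

open AlgebraicGeometry CategoryTheory CategoryTheory.Limits TopologicalSpace TensorProduct

namespace Groth.Agent.RG.GIN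

universe u

open GeomFib

/-- A normal algebra of finite type stays normal over every field over the base. -/
theorem normal_baseChange_field {A C : Type u} [CommRing A] [CommRing C] [Algebra A C] [Algebra.FiniteType A C]
    (h : EGA4.IsNormalHom A C) (L : Type u) [Field L] [Algebra A L] : EGA4.IsNormalRing (L ⊗[A] C) := by
  haveI : (RingHom.ker (algebraMap A L)).IsPrime := RingHom.ker_isPrime _
  obtain ⟨_, _⟩ := FlatLoc6.exists_residueAlgebra (L := L) (RingHom.ker (algebraMap A L)) rfl
  let k := (RingHom.ker (algebraMap A L)).ResidueField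
  let T := (RingHom.ker (algebraMap A L)).Fiber C
  haveI : Algebra.FiniteType k T := inferInstance
  haveI : IsNoetherianRing T := Algebra.FiniteType.isNoetherianRing k T
  obtain ⟨-, hn⟩ := FlatLoc6.normal_tensor_arb k L T (Or.inr inferInstance) (h.2 _)
  exact FlatLoc6.isNormalRing_of_ringEquiv
    (Algebra.TensorProduct.cancelBaseChange A k L L C).toRingEquiv hn

variable {X S : Scheme.{u}} (f : X ⟶ S) [LocallyOfFiniteType f]
  (hn : ∀ (U : X.Opens) (V : S.Opens) (hU : IsAffineOpen U) (hV : IsAffineOpen V) (hUV : U ≤ f ⁻¹ᵁ V),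
      letI := (f.appLE V U hUV).hom.toAlgebra
      EGA4.IsNormalHom Γ(S, V) Γ(X, U))

include hn in
/-- All geometric fibres of a normal morphism locally of finite type are normal. -/
theorem normL_stalk (K : Type u) [Field K] (σ : Spec (CommRingCat.of K) ⟶ S)
    (z : (pullback f σ : Scheme.{u})) : NormL ((pullback f σ).presheaf.stalk z) := by
  obtain ⟨V, hV, hy, -⟩ :=
    exists_isAffineOpen_mem_and_subset (x := σ (IsLocalRing.closedPoint K)) (U := ⊤) trivial
  obtain ⟨φ, hφ⟩ := exists_preimage hV σ (by
    rintro _ ⟨w, rfl⟩
    rwa [Subsingleton.elim w (IsLocalRing.closedPoint K)])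
  have hQ : Q NormL f σ := by
    rw [q_congr NormL f hφ, q_iff_charts isoInvariant_normL f hV φ]
    intro U hU e
    letI := φ.toAlgebra
    letI := (f.appLE V U e).hom.toAlgebra
    intro k' _ _ _
    letI : Algebra Γ(S, V) k' := ((algebraMap K k').comp φ).toAlgebra
    haveI : IsScalarTower Γ(S, V) K k' := IsScalarTower.of_algebraMap_eq' rfl
    haveI : Algebra.FiniteType Γ(S, V) Γ(X, U) :=
      (HasRingHomProperty.appLE (P := @LocallyOfFiniteType) f inferInstance ⟨V, hV⟩ ⟨U, hU⟩ e)
    exact (loc_equiv isoInvariant_normL
      (Algebra.TensorProduct.cancelBaseChange Γ(S, V) K k' k' Γ(X, U)).toRingEquiv).2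
      (normal_baseChange_field (hn U V hU hV e) k')
  have hσ : Spec.map (CommRingCat.ofHom (RingHom.id K)) ≫ σ = σ := by
    rw [CommRingCat.ofHom_id, Spec.map_id, Category.id_comp]
  exact (forall_stalk_of_isIso isoInvariant_normL (pullback.congrHom rfl hσ)).1
    (hQ K (RingHom.id K) (RingHom.Finite.id K)) z

include hn in
theorem geometricallyReduced : GeometricallyReduced f := by
  refine ⟨fun K _ σ Z fst snd hP => ?_⟩
  haveI : ∀ z : (pullback f σ : Scheme.{u}), _root_.IsReduced ((pullback f σ).presheaf.stalk z) := fun z =>
    haveI := (normL_stalk f hn K σ z).1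
    inferInstance
  haveI := isReduced_of_isReduced_stalk (pullback f σ)
  exact isReduced_of_isOpenImmersion hP.isoPullback.hom

include hn in
/-- A geometrically connected open with quasi-compact structure map has geometrically integral fibres. -/
theorem geometricallyIntegral_open {S' : Scheme.{u}} (g : S' ⟶ S) (V : (pullback f g).Opens)
    [QuasiCompact (V.ι ≫ pullback.snd f g)] [GeometricallyConnected (V.ι ≫ pullback.snd f g)] :
    GeometricallyIntegral (V.ι ≫ pullback.snd f g) := by
  refine ⟨fun K _ σ Z fst snd hP => ?_⟩
  let p := V.ι ≫ pullback.snd f g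
  let W := pullback p σ
  haveI : ConnectedSpace ↥W :=
    GeometricallyConnected.geometrically_connectedSpace σ _ _ (IsPullback.of_hasPullback p σ)
  haveI : LocallyOfFiniteType (pullback.snd f g) :=
    MorphismProperty.pullback_snd _ _ inferInstance
  haveI : LocallyOfFiniteType p := inferInstanceAs (LocallyOfFiniteType (V.ι ≫ pullback.snd f g))
  haveI : LocallyOfFiniteType (pullback.snd p σ) := MorphismProperty.pullback_snd _ _ inferInstance
  haveI : IsLocallyNoetherian W := LocallyOfFiniteType.isLocallyNoetherian (pullback.snd p σ)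
  haveI : QuasiCompact p := inferInstanceAs (QuasiCompact (V.ι ≫ pullback.snd f g))
  haveI : QuasiCompact (pullback.snd p σ) := MorphismProperty.pullback_snd _ _ inferInstance
  haveI : CompactSpace ↥W := QuasiCompact.compactSpace_of_compactSpace (pullback.snd p σ)
  haveI : IsNoetherian W := ⟨⟩
  let i : pullback (pullback.snd f g) σ ≅ pullback f (σ ≫ g) :=
    ((IsPullback.of_hasPullback (pullback.snd f g) σ).paste_horiz
      (IsPullback.of_hasPullback f g)).isoPullback
  let m : W ⟶ pullback (pullback.snd f g) σ :=
    (pullbackRightPullbackFstIso (pullback.snd f g) σ V.ι).inv ≫ pullback.snd _ _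
  have hst : ∀ w : ↥W, NormL (W.presheaf.stalk w) := fun w =>
    (stalk_openImmersion isoInvariant_normL m w).1
      ((forall_stalk_of_isIso isoInvariant_normL i).2 (normL_stalk f hn K (σ ≫ g)) (m w))
  haveI : IrreducibleSpace ↥W := S7603.irreducibleSpace_of_isDomain_stalk fun w => (hst w).1
  haveI : ∀ w : ↥W, _root_.IsReduced (W.presheaf.stalk w) := fun w =>
    haveI := (hst w).1
    inferInstance
  haveI := isReduced_of_isReduced_stalk W
  haveI : IsIntegral W := isIntegral_of_irreducibleSpace_of_isReduced W
  haveI : Nonempty ↥Z := ⟨hP.isoPullback.inv (Nonempty.some inferInstance)⟩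
  exact isIntegral_of_isOpenImmersion hP.isoPullback.hom

end Groth.Agent.RG.GIN
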