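import Groth.Agent.RG.OpenFreeNbhd
import Groth.Agent.RG.EtaleBC
import Groth.Agent.Hensel.EtaleLift

/-!
# Freeness on an open piece over a henselian local ring
-/

set_option autoImplicit false
set_option linter.style.haveILetI false
set_option linter.unusedSectionVars false
set_option backward.isDefEq.respectTransparency false
set_option backward.isDefEq.respectTransparency.types false
set_option maxHeartbeats 1000000

universe u

open TensorProduct IsLocalRing

namespace Groth.Agent.RG

/-- Elementary étale neighbourhoods of the closed point of a henselian local ring have sections. -/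
theorem exists_section_of_etaleNhd {A R' : Type u} [CommRing A] [HenselianLocalRing A] [CommRing R'] [Algebra A R']
    (p' : Ideal R') [p'.IsPrime] (h : FlatCA.IsEtaleNhd A R' (maximalIdeal A) p') :
    ∃ σ : R' →ₐ[A] A, p' = (maximalIdeal A).comap σ.toRingHom := by
  obtain ⟨het, hl, hbij⟩ := h
  haveI := het
  let ι₁ : A ⧸ maximalIdeal A →+* (maximalIdeal A).ResidueField := algebraMap _ _
  let ι₂ : (maximalIdeal A).ResidueField →+* p'.ResidueField :=
    (Ideal.ResidueField.mapₐ (maximalIdeal A) p' (Algebra.ofId A R') hl.over).toRingHom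
  have hι : Function.Bijective (ι₂.comp ι₁) := by
    rw [RingHom.coe_comp]
    exact hbij.comp (maximalIdeal A).bijective_algebraMap_quotient_residueField
  let e := RingEquiv.ofBijective _ hι
  obtain ⟨σ, ⟨hσ, -⟩, -⟩ := Hensel.existsUnique_algHom_of_residueField A A R' p' e.symm.toRingHom
    (RingHom.ext fun a => by
      show e.symm (algebraMap A p'.ResidueField a) = _
      rw [RingEquiv.symm_apply_eq]
      show algebraMap A p'.ResidueField a = ι₂ (ι₁ (Ideal.Quotient.mk _ (algebraMap A A a)))
      rw [Algebra.algebraMap_self, RingHom.id_apply,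
        show ι₁ (Ideal.Quotient.mk _ a) = algebraMap A (maximalIdeal A).ResidueField a from rfl]
      exact ((Ideal.ResidueField.mapₐ (maximalIdeal A) p' (Algebra.ofId A R') hl.over).commutes a).symm)
  exact ⟨σ, hσ.symm⟩

/-- Module structures on a tensor product which agree on pure tensors are equal. -/
theorem module_ext_tmul {A R X Y : Type u} [CommRing A] [CommRing R] [AddCommGroup X] [Module R X] [AddCommGroup Y]
    [Module R Y] (i j : Module A (X ⊗[R] Y))
    (h : ∀ (a : A) (x : X) (y : Y), (letI := i; a • (x ⊗ₜ[R] y)) = (letI := j; a • (x ⊗ₜ[R] y))) : i = j := by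
  refine Module.ext' _ _ fun a z => ?_
  induction z using TensorProduct.induction_on with
  | zero => rw [@smul_zero _ _ _ i.toDistribMulAction.toDistribSMul.toSMulZeroClass a,
      @smul_zero _ _ _ j.toDistribMulAction.toDistribSMul.toSMulZeroClass a]
  | tmul x y => exact h a x y
  | add z w hz hw => rw [@smul_add _ _ _ i.toDistribMulAction.toDistribSMul a,
      @smul_add _ _ _ j.toDistribMulAction.toDistribSMul a, hz, hw]

/-- Over a henselian local ring a finite module, flat at a point of the closed fibre, is free on a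
standard open neighbourhood of the point. -/
theorem exists_free_away_henselian {A S : Type u} [CommRing A] [HenselianLocalRing A] [CommRing S] [Algebra A S]
    [Algebra.FinitePresentation A S] (N : Type u) [AddCommGroup N] [Module S N] [Module A N] [IsScalarTower A S N]
    [Module.Finite S N] (q : Ideal S) [q.IsPrime] [q.LiesOver (maximalIdeal A)] (hflat : FlatCA.FlatAt A q N) :
    ∃ h : S, h ∉ q ∧ Module.Free A (LocalizedModule (Submonoid.powers h) N) := by
  obtain ⟨R', _, _, p', _, hR, H⟩ := exists_free_open N (maximalIdeal A) q hflat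
  obtain ⟨σ, hσ⟩ := exists_section_of_etaleNhd p' hR
  haveI := hR.1
  letI : Algebra R' A := σ.toRingHom.toAlgebra
  haveI : IsScalarTower A R' A := IsScalarTower.of_algebraMap_eq (R := A) (S := R') (A := A) fun a =>
    (σ.commutes a).symm
  haveI : Algebra.Etale R' A := Algebra.Etale.of_restrictScalars A R' A
  haveI ho : (maximalIdeal A).LiesOver p' := ⟨hσ⟩
  have hκ : Function.Bijective (Ideal.ResidueField.mapₐ p' (maximalIdeal A) (Algebra.ofId R' A) ho.over) := by
    obtain ⟨-, hl, hbij⟩ := hR
    refine ⟨RingHom.injective (Ideal.ResidueField.mapₐ p' (maximalIdeal A) (Algebra.ofId R' A) ho.over).toRingHom,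
      fun y => ?_⟩
    obtain ⟨a, rfl⟩ := (maximalIdeal A).algebraMap_residueField_surjective y
    refine ⟨algebraMap R' _ (algebraMap A R' a), ?_⟩
    rw [AlgHom.commutes, IsScalarTower.algebraMap_apply R' A, ← IsScalarTower.algebraMap_apply A R' A,
      Algebra.algebraMap_self, RingHom.id_apply]
  obtain ⟨h, x, _, hhx, hxq, -, hfree⟩ := H A hκ
  have hsurj : Function.Surjective (algebraMap S (S ⊗[A] A)) := fun t => by
    induction t using TensorProduct.induction_on with
    | zero => exact ⟨0, map_zero _⟩
    | tmul s a => exact ⟨a • s, by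
        rw [Algebra.TensorProduct.algebraMap_apply, Algebra.algebraMap_self, RingHom.id_apply,
          TensorProduct.smul_tmul, smul_eq_mul, mul_one]⟩
    | add t t' ht ht' =>
      obtain ⟨s, hs⟩ := ht
      obtain ⟨s', hs'⟩ := ht'
      exact ⟨s + s', by rw [map_add, hs, hs']⟩
  obtain ⟨h', rfl⟩ := hsurj h
  refine ⟨h', fun hh => hhx (by rw [← hxq] at hh; exact hh), ?_⟩
  let L := LocalizedModule (Submonoid.powers (algebraMap S (S ⊗[A] A) h')) ((S ⊗[A] A) ⊗[S] N)
  let f : (S ⊗[A] A) ⊗[S] N →ₗ[(S ⊗[A] A)] L := LocalizedModule.mkLinearMap _ _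
  have hb : Function.Bijective (TensorProduct.mk S (S ⊗[A] A) N 1) := by
    let e : (S ⊗[A] A) ≃ₗ[S] S :=
      { (Algebra.TensorProduct.rid A S S).toLinearEquiv with map_smul' := map_smul _ }
    have he : ∀ n, TensorProduct.mk S (S ⊗[A] A) N 1 n = (LinearEquiv.rTensor N e).symm ((TensorProduct.lid S N).symm n) := fun n => by
      apply (LinearEquiv.rTensor N e).injective
      rw [LinearEquiv.apply_symm_apply, TensorProduct.lid_symm_apply, TensorProduct.mk_apply,
        LinearEquiv.rTensor_tmul, show e 1 = 1 from map_one (Algebra.TensorProduct.rid A S S)]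
    rw [show ⇑(TensorProduct.mk S (S ⊗[A] A) N 1) = _ from funext he]
    exact (LinearEquiv.rTensor N e).symm.bijective.comp (TensorProduct.lid S N).symm.bijective
  haveI := IsLocalizedModule.restrictScalars_powers (R := S) (A := S ⊗[A] A) h' f
  haveI : IsLocalizedModule (Submonoid.powers h') (f.restrictScalars S ∘ₗ (LinearEquiv.ofBijective _ hb).toLinearMap) :=
    IsLocalizedModule.of_linearEquiv_right _ _ _
  let e₂ := IsLocalizedModule.iso (Submonoid.powers h') (f.restrictScalars S ∘ₗ (LinearEquiv.ofBijective _ hb).toLinearMap)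
  haveI : IsScalarTower A S L := inferInstance
  haveI : Module.Free A L := by
    convert hfree using 2
    congr 1
    all_goals
      first
      | exact proof_irrel_heq _ _
      | refine module_ext_tmul _ _ fun a s b => ?_
        first
        | (show (a • s) ⊗ₜ[A] b = ((1 : S) ⊗ₜ[A] a) * (s ⊗ₜ[A] b)
           rw [Algebra.TensorProduct.tmul_mul_tmul, one_mul, TensorProduct.smul_tmul, smul_eq_mul])
        | (show ((1 : S) ⊗ₜ[A] a) * (s ⊗ₜ[A] b) = (a • s) ⊗ₜ[A] b
           rw [Algebra.TensorProduct.tmul_mul_tmul, one_mul, TensorProduct.smul_tmul, smul_eq_mul])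
  exact Module.Free.of_equiv (e₂.restrictScalars A).symm

end Groth.Agent.RG
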