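import Groth.Agent.RG.HenselLocFree
import Groth.Agent.RG.ModMaxInj
import Groth.Agent.CAlgUI.Projective
import Mathlib.RingTheory.Polynomial.Basic
import Mathlib.RingTheory.EssentialFiniteness

/-!
# Finite flat modules over essentially finite type algebras over henselian local rings
-/

set_option autoImplicit false
set_option linter.style.haveILetI false
set_option linter.unusedSectionVars false
set_option backward.isDefEq.respectTransparency false
set_option backward.isDefEq.respectTransparency.types false
set_option maxHeartbeats 2000000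

universe u

open TensorProduct IsLocalRing

namespace Groth.Agent.RG

/-- The span of generators of a finite module over a ring of fractions is a model of the module. -/
theorem model_of_span {A P B : Type u} [CommRing A] [CommRing P] [CommRing B] [IsLocalRing B] [Algebra A P] [Algebra A B]
    [Algebra P B] [IsScalarTower A P B] (hloc : ∀ b : B, ∃ s : P, IsUnit (algebraMap P B s) ∧
      ∃ a : P, algebraMap P B s * b = algebraMap P B a)
    (N : Type u) [AddCommGroup N] [Module B N] [Module P N] [IsScalarTower P B N] [Module A N] [IsScalarTower A B N]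
    [IsScalarTower A P N] [Module.Flat A N]
    (G : Finset N) (hG : Submodule.span B (G : Set N) = ⊤) (q : Ideal P) [q.IsPrime]
    (hq : q = (maximalIdeal B).comap (algebraMap P B)) :
    (∀ n : N, ∃ s : P, s ∉ q ∧ s • n ∈ Submodule.span P (G : Set N)) ∧
      IsLocalizedModule q.primeCompl (Submodule.span P (G : Set N)).subtype ∧
      FlatCA.FlatAt A q (Submodule.span P (G : Set N)) := by
  have hu : ∀ s : P, s ∉ q ↔ IsUnit (algebraMap P B s) := fun s => by
    rw [hq, Ideal.mem_comap, IsLocalRing.mem_maximalIdeal, mem_nonunits_iff, not_not]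
  have hs : ∀ n : N, ∃ s : P, s ∉ q ∧ s • n ∈ Submodule.span P (G : Set N) := by
    intro n
    have hn : n ∈ Submodule.span B (G : Set N) := hG ▸ Submodule.mem_top
    induction hn using Submodule.span_induction with
    | mem x hx => exact ⟨1, (hu 1).2 (by rw [map_one]; exact isUnit_one), by rw [one_smul]; exact Submodule.subset_span hx⟩
    | zero => exact ⟨1, (hu 1).2 (by rw [map_one]; exact isUnit_one), by rw [smul_zero]; exact zero_mem _⟩
    | add x y _ _ hx hy =>
      obtain ⟨s, hs, hxs⟩ := hx
      obtain ⟨s', hs', hys⟩ := hy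
      refine ⟨s' * s, (hu _).2 (by rw [map_mul]; exact ((hu _).1 hs').mul ((hu _).1 hs)), ?_⟩
      rw [smul_add, mul_smul, mul_comm s' s, mul_smul]
      exact add_mem (Submodule.smul_mem _ _ hxs) (Submodule.smul_mem _ _ hys)
    | smul b x _ hx =>
      obtain ⟨s, hs, hxs⟩ := hx
      obtain ⟨s', hs', a, ha⟩ := hloc b
      refine ⟨s * s', (hu _).2 (by rw [map_mul]; exact ((hu _).1 hs).mul hs'), ?_⟩
      rw [show (s * s') • b • x = a • s • x from ?_]
      · exact Submodule.smul_mem _ _ hxs
      · rw [← algebraMap_smul B (s * s'), ← algebraMap_smul B a, ← algebraMap_smul B s, smul_smul, smul_smul,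
          map_mul, mul_assoc, ha, mul_comm]
  have hL : IsLocalizedModule q.primeCompl (Submodule.span P (G : Set N)).subtype :=
    { map_units := fun s => by
        rw [Module.End.isUnit_iff]
        obtain ⟨v, hv⟩ := (hu (s : P)).1 s.2
        have key : ∀ x : N, algebraMap P (Module.End P N) (s : P) x = (v : B) • x := fun x => by
          rw [Module.algebraMap_end_apply, hv, algebraMap_smul]
        refine ⟨fun x y h => ?_, fun x => ⟨(↑v⁻¹ : B) • x, ?_⟩⟩
        · rw [key, key] at h
          exact v.isUnit.smul_left_cancel.1 h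
        · rw [key, smul_smul, Units.mul_inv, one_smul]
      surj := fun n => by
        obtain ⟨s, hs, hn⟩ := hs n
        exact ⟨(⟨_, hn⟩, ⟨s, hs⟩), rfl⟩
      exists_of_eq := fun h => ⟨1, by rw [one_smul, one_smul]; exact Subtype.ext h⟩ }
  refine ⟨hs, hL, ?_⟩
  haveI := hL
  exact Module.Flat.of_linearEquiv
    ((IsLocalizedModule.iso q.primeCompl (Submodule.span P (G : Set N)).subtype).restrictScalars A)

/-- A single denominator kills the closed fibre kernel of localization. -/
theorem exists_denominator_kernel {P : Type u} [CommRing P] (I q : Ideal P) [IsNoetherianRing (P ⧸ I)] [q.IsPrime]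
    (N₀ : Type u) [AddCommGroup N₀] [Module P N₀] [Module.Finite P N₀] :
    ∃ g : P, g ∉ q ∧ ∀ x : N₀, (∃ s : P, s ∉ q ∧ s • x ∈ I • (⊤ : Submodule P N₀)) →
      g • x ∈ I • (⊤ : Submodule P N₀) := by
  classical
  let M := N₀ ⧸ I • (⊤ : Submodule P N₀)
  haveI : Module.Finite (P ⧸ I) M := Module.Finite.of_restrictScalars_finite P _ _
  haveI : IsNoetherian (P ⧸ I) M := isNoetherian_of_isNoetherianRing_of_finite _ _
  let K : Submodule (P ⧸ I) M :=
    { carrier := {y | ∃ s : P, s ∉ q ∧ s • y = 0}
      zero_mem' := ⟨1, (Ideal.ne_top_iff_one q).1 Ideal.IsPrime.ne_top', smul_zero _⟩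
      add_mem' := by
        rintro a b ⟨s, hs, ha⟩ ⟨s', hs', hb⟩
        exact ⟨s * s', fun h => (Ideal.IsPrime.mem_or_mem inferInstance h).elim hs hs',
          by rw [smul_add, mul_comm, mul_smul, ha, smul_zero, zero_add, mul_comm, mul_smul, hb, smul_zero]⟩
      smul_mem' := by
        rintro c y ⟨s, hs, hy⟩
        obtain ⟨c, rfl⟩ := Ideal.Quotient.mk_surjective c
        refine ⟨s, hs, ?_⟩
        rw [show (Ideal.Quotient.mk I c) • y = c • y from rfl, smul_comm, hy, smul_zero] }
  obtain ⟨F, hF⟩ := (IsNoetherian.noetherian K : K.FG)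
  have hFK : ∀ y : F, ∃ s : P, s ∉ q ∧ s • (y : M) = 0 := fun y => by
    have : (y : M) ∈ K := hF ▸ Submodule.subset_span y.2
    exact this
  choose s hs hs0 using hFK
  refine ⟨∏ y, s y, fun h => ?_, fun x hx => ?_⟩
  · obtain ⟨y, -, hy⟩ := (Ideal.IsPrime.prod_mem_iff (p := q)).1 h
    exact hs y hy
  · obtain ⟨t, ht, htx⟩ := hx
    have hxK : Submodule.Quotient.mk x ∈ K := ⟨t, ht, by
      rw [← Submodule.Quotient.mk_smul]; exact (Submodule.Quotient.mk_eq_zero _).2 htx⟩
    rw [← Submodule.Quotient.mk_eq_zero, Submodule.Quotient.mk_smul]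
    generalize (Submodule.Quotient.mk x : M) = w at hxK ⊢
    rw [← hF] at hxK
    induction hxK using Submodule.span_induction with
    | mem y hy =>
      rw [← Finset.mul_prod_erase Finset.univ s (Finset.mem_univ ⟨y, hy⟩), mul_comm, mul_smul, hs0 ⟨y, hy⟩, smul_zero]
    | zero => rw [smul_zero]
    | add a b _ _ ha hb => rw [smul_add, ha, hb, add_zero]
    | smul c a _ ha =>
      obtain ⟨c, rfl⟩ := Ideal.Quotient.mk_surjective c
      rw [show (Ideal.Quotient.mk I c) • a = c • a from rfl, smul_comm, ha, smul_zero]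

/-- The Mittag-Leffler property from one denominator. -/
theorem ml_of_away {A P B S : Type u} [CommRing A] [HenselianLocalRing A] [CommRing P] [CommRing B] [IsLocalRing B]
    [Algebra A P] [Algebra A B] [Algebra P B] [IsScalarTower A P B] [IsLocalHom (algebraMap A B)]
    [CommRing S] [Algebra P S] [Algebra A S] [IsScalarTower A P S] [Algebra.FinitePresentation A S]
    (hloc : ∀ b : B, ∃ s : P, IsUnit (algebraMap P B s) ∧ ∃ a : P, algebraMap P B s * b = algebraMap P B a)
    (N : Type u) [AddCommGroup N] [Module B N] [Module P N] [IsScalarTower P B N] [Module A N] [IsScalarTower A B N]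
    [IsScalarTower A P N] [Module.Flat A N] (G : Finset N) (hG : Submodule.span B (G : Set N) = ⊤)
    (g : P) [IsLocalization.Away g S] (hg : g ∉ (maximalIdeal B).comap (algebraMap P B))
    (hker : ∀ x : Submodule.span P (G : Set N), (∃ s : P, s ∉ (maximalIdeal B).comap (algebraMap P B) ∧
      s • x ∈ (maximalIdeal A).map (algebraMap A P) • (⊤ : Submodule P (Submodule.span P (G : Set N)))) →
      g • x ∈ (maximalIdeal A).map (algebraMap A P) • (⊤ : Submodule P (Submodule.span P (G : Set N)))) :
    CAlg.IsMittagLeffler A N := by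
  classical
  let I := (maximalIdeal A).map (algebraMap A P)
  let q := (maximalIdeal B).comap (algebraMap P B)
  have hqu : ∀ s : P, s ∉ q ↔ IsUnit (algebraMap P B s) := fun s => by
    rw [Ideal.mem_comap, IsLocalRing.mem_maximalIdeal, mem_nonunits_iff, not_not]
  obtain ⟨hs₀, -, -⟩ := model_of_span (A := A) hloc N G hG q rfl
  let N₀ := Submodule.span P (G : Set N)
  letI : Algebra S B := (IsLocalization.Away.lift g ((hqu g).1 hg)).toAlgebra
  haveI : IsScalarTower P S B := IsScalarTower.of_algebraMap_eq (R := P) (S := S) (A := B) fun a =>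
    (IsLocalization.Away.lift_eq g ((hqu g).1 hg) a).symm
  haveI : IsScalarTower A S B := IsScalarTower.of_algebraMap_eq (R := A) (S := S) (A := B) fun a => by
    rw [IsScalarTower.algebraMap_apply A P S, ← IsScalarTower.algebraMap_apply P S B,
      ← IsScalarTower.algebraMap_apply A P B]
  letI : Module S N := Module.compHom N (algebraMap S B)
  haveI : IsScalarTower S B N := IsScalarTower.of_algebraMap_smul fun _ _ => rfl
  haveI : IsScalarTower A S N := IsScalarTower.of_algebraMap_smul fun a n => by
    show algebraMap S B (algebraMap A S a) • n = a • n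
    rw [← IsScalarTower.algebraMap_apply, algebraMap_smul]
  haveI : IsScalarTower P S N := IsScalarTower.of_algebraMap_smul fun a n => by
    show algebraMap S B (algebraMap P S a) • n = a • n
    rw [← IsScalarTower.algebraMap_apply, algebraMap_smul]
  have hlocS : ∀ b : B, ∃ s : S, IsUnit (algebraMap S B s) ∧ ∃ a : S, algebraMap S B s * b = algebraMap S B a := fun b => by
    obtain ⟨s, hs, a, ha⟩ := hloc b
    exact ⟨algebraMap P S s, by rwa [← IsScalarTower.algebraMap_apply], algebraMap P S a, by
      rwa [← IsScalarTower.algebraMap_apply, ← IsScalarTower.algebraMap_apply]⟩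
  let q₁ := (maximalIdeal B).comap (algebraMap S B)
  haveI : q₁.LiesOver (maximalIdeal A) := ⟨by
    rw [Ideal.under_def, Ideal.comap_comap, ← IsScalarTower.algebraMap_eq]
    exact ((IsLocalRing.local_hom_TFAE (algebraMap A B)).out 0 4 rfl rfl |>.1 ‹_›).symm⟩
  obtain ⟨-, -, hflat⟩ := model_of_span (A := A) hlocS N G hG q₁ rfl
  let N₁ := Submodule.span S (G : Set N)
  haveI : Module.Finite S N₁ := Module.Finite.span_of_finite S G.finite_toSet
  obtain ⟨h, hh, hfree⟩ := exists_free_away_henselian N₁ q₁ hflat
  let M := LocalizedModule (Submonoid.powers h) N₁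
  haveI : Module.Free A M := hfree
  let j : N₁ →ₗ[S] M := LocalizedModule.mkLinearMap _ _
  have hunit : IsUnit (algebraMap S B h) := by
    rwa [Ideal.mem_comap, IsLocalRing.mem_maximalIdeal, mem_nonunits_iff, not_not] at hh
  have hmu : ∀ x : Submonoid.powers h, IsUnit (algebraMap S (Module.End S N) x) := by
    rintro ⟨_, k, rfl⟩
    rw [Module.End.isUnit_iff]
    obtain ⟨v, hv⟩ := hunit.pow k
    have key : ∀ x : N, algebraMap S (Module.End S N) (h ^ k) x = (v : B) • x := fun x => by
      rw [Module.algebraMap_end_apply, hv, ← map_pow, algebraMap_smul]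
    refine ⟨fun x y hxy => ?_, fun x => ⟨(↑v⁻¹ : B) • x, ?_⟩⟩
    · rw [key, key] at hxy
      exact v.isUnit.smul_left_cancel.1 hxy
    · rw [key, smul_smul, Units.mul_inv, one_smul]
  let ψS : M →ₗ[S] N := IsLocalizedModule.lift (Submonoid.powers h) j N₁.subtype hmu
  have hψ : ∀ y : N₁, ψS (j y) = y := fun y => IsLocalizedModule.lift_apply (Submonoid.powers h) j N₁.subtype hmu y
  let ψ : M →ₗ[A] N := ψS.restrictScalars A
  have hle : N₀ ≤ N₁.restrictScalars P := Submodule.span_le.2 fun x hx => Submodule.subset_span hx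
  let ι : N₀ →ₗ[P] M :=
    { toFun := fun x => j ⟨x, hle x.2⟩
      map_add' := fun x y => map_add j ⟨x, hle x.2⟩ ⟨y, hle y.2⟩
      map_smul' := fun a x => by
        rw [RingHom.id_apply, ← algebraMap_smul S a (j _), ← map_smul]
        congr 1
        exact Subtype.ext (algebraMap_smul S a (x : N)).symm }
  -- `I`-multiples become `maximalIdeal A`-multiples
  have hIm : ∀ x ∈ I • (⊤ : Submodule P N₀), ι x ∈ maximalIdeal A • (⊤ : Submodule A M) := by
    intro x hx
    refine Submodule.smul_induction_on hx (fun c hc y _ => ?_) (fun x y hx hy => by rw [map_add]; exact add_mem hx hy)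
    rw [map_smul]
    generalize ι y = z
    induction hc using Submodule.span_induction generalizing z with
    | mem d hd =>
      obtain ⟨a, ha, rfl⟩ := hd
      rw [algebraMap_smul]
      exact Submodule.smul_mem_smul ha trivial
    | zero => rw [zero_smul]; exact zero_mem _
    | add a b _ _ ha hb => rw [add_smul]; exact add_mem (ha z) (hb z)
    | smul a b _ hb => rw [smul_eq_mul, mul_comm, mul_smul]; exact hb _
  -- elements of `mN` are `I`-multiples up to a denominator
  have hmI : ∀ n ∈ maximalIdeal A • (⊤ : Submodule A N), ∃ (s : P) (x : N₀), s ∉ q ∧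
      x ∈ I • (⊤ : Submodule P N₀) ∧ (x : N) = s • n := by
    intro n hn
    refine Submodule.smul_induction_on hn (fun a ha y _ => ?_) ?_
    · obtain ⟨s, hs, hy⟩ := hs₀ y
      exact ⟨s, algebraMap A P a • ⟨s • y, hy⟩, hs, Submodule.smul_mem_smul (Ideal.mem_map_of_mem _ ha) trivial,
        by rw [Submodule.coe_smul, algebraMap_smul, smul_comm]⟩
    · rintro a b ⟨s, x, hs, hx, hxa⟩ ⟨t, y, ht, hy, hyb⟩
      exact ⟨s * t, t • x + s • y, fun h => (Ideal.IsPrime.mem_or_mem inferInstance h).elim hs ht,
        add_mem (Submodule.smul_mem _ _ hx) (Submodule.smul_mem _ _ hy), by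
          rw [Submodule.coe_add, Submodule.coe_smul, Submodule.coe_smul, hxa, hyb, smul_add, mul_comm, mul_smul,
            mul_comm, mul_smul]⟩
  -- multiplications by units
  have hSu : ∀ k : ℕ, ∃ c : S, c * algebraMap P S g ^ k = 1 := fun k => by
    obtain ⟨c, hc⟩ := ((IsLocalization.Away.algebraMap_isUnit g : IsUnit (algebraMap P S g))).pow k
    exact ⟨↑c⁻¹, by rw [← hc, Units.inv_mul]⟩
  have hstab : ∀ (c : S) (x : M), x ∈ maximalIdeal A • (⊤ : Submodule A M) → c • x ∈ maximalIdeal A • (⊤ : Submodule A M) :=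
    fun c x hx => by
      let μ : M →ₗ[A] M :=
        { toFun := fun y => c • y, map_add' := fun a b => smul_add c a b, map_smul' := fun a y => (smul_comm a c y).symm }
      have := Submodule.mem_map_of_mem (f := μ) hx
      rw [Submodule.map_smul''] at this
      exact Submodule.smul_mono le_rfl le_top this
  have hN₁ : ∀ y : N, y ∈ N₁ → ∃ k : ℕ, g ^ k • y ∈ N₀ := by
    intro y hy
    induction hy using Submodule.span_induction with
    | mem x hx => exact ⟨0, by rw [pow_zero, one_smul]; exact Submodule.subset_span hx⟩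
    | zero => exact ⟨0, by rw [smul_zero]; exact zero_mem _⟩
    | add a b _ _ ha hb =>
      obtain ⟨k, hk⟩ := ha
      obtain ⟨l, hl⟩ := hb
      refine ⟨k + l, ?_⟩
      rw [smul_add, pow_add]
      exact add_mem (by rw [mul_comm, mul_smul]; exact Submodule.smul_mem _ _ hk)
        (by rw [mul_smul]; exact Submodule.smul_mem _ _ hl)
    | smul c a _ ha =>
      obtain ⟨k, hk⟩ := ha
      obtain ⟨l, d, hd⟩ := IsLocalization.Away.surj (S := S) g c
      refine ⟨l + k, ?_⟩
      rw [show g ^ (l + k) • c • a = d • g ^ k • a from ?_]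
      · exact Submodule.smul_mem _ _ hk
      · rw [← algebraMap_smul S (g ^ (l + k)), ← algebraMap_smul S d, ← algebraMap_smul S (g ^ k), smul_smul,
          smul_smul, pow_add, map_mul, ← hd]
        rw [map_pow]
        ring_nf
  have hinj : ∀ (m : Ideal A), m.IsMaximal → ∀ x, ψ x ∈ m • (⊤ : Submodule A N) → x ∈ m • (⊤ : Submodule A M) := by
    intro m hm x hx
    rw [IsLocalRing.eq_maximalIdeal hm] at hx ⊢
    obtain ⟨⟨y, ⟨_, k, rfl⟩⟩, hy⟩ := IsLocalizedModule.surj (Submonoid.powers h) j x
    have hy' : h ^ k • x = j y := hy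
    have hyN : (y : N) ∈ maximalIdeal A • (⊤ : Submodule A N) := by
      rw [← hψ y, ← hy', map_smul]
      let μ : N →ₗ[A] N :=
        { toFun := fun n => h ^ k • n, map_add' := fun a b => smul_add _ a b, map_smul' := fun a n => (smul_comm a _ n).symm }
      have := Submodule.mem_map_of_mem (f := μ) hx
      rw [Submodule.map_smul''] at this
      exact Submodule.smul_mono le_rfl le_top this
    obtain ⟨l, hl⟩ := hN₁ _ y.2
    obtain ⟨s, z, hs, hz, hzs⟩ := hmI _ hyN
    have h1 : s • (⟨_, hl⟩ : N₀) ∈ I • (⊤ : Submodule P N₀) := by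
      rw [show s • (⟨_, hl⟩ : N₀) = g ^ l • z from Subtype.ext (by
        rw [Submodule.coe_smul, Submodule.coe_smul, hzs, smul_comm])]
      exact Submodule.smul_mem _ _ hz
    have h2 := hIm _ (hker _ ⟨s, hs, h1⟩)
    obtain ⟨c, hc⟩ := hSu (l + 1)
    obtain ⟨w, hw⟩ : ∃ w : M →ₗ[S] M, ∀ z, w (h ^ k • z) = z := by
      have hb := IsLocalizedModule.map_units j (⟨h ^ k, k, rfl⟩ : Submonoid.powers h)
      obtain ⟨e, he⟩ := hb
      exact ⟨↑e⁻¹, fun z => by
        have := LinearMap.congr_fun (Units.inv_mul e) z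
        rwa [he] at this⟩
    have h3 := hstab c _ h2
    have h4 : c • ι (g • ⟨_, hl⟩) = j y := by
      show c • j ⟨g • g ^ l • (y : N), _⟩ = j y
      rw [← map_smul]
      congr 1
      refine Subtype.ext ?_
      show c • g • g ^ l • (y : N) = (y : N)
      rw [← mul_smul g, ← pow_succ', ← algebraMap_smul S (g ^ (l + 1)), smul_smul, map_pow, hc, one_smul]
    rw [h4, ← hy'] at h3
    have h5 := Submodule.mem_map_of_mem (f := w.restrictScalars A) h3
    rw [Submodule.map_smul''] at h5
    have h6 := Submodule.smul_mono le_rfl le_top h5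
    rwa [LinearMap.restrictScalars_apply, hw] at h6
  have hui : FlatCA.UnivInj A ψ := univInj_of_free_of_mod_maximal ψ hinj
  have hML : CAlg.IsMittagLeffler A M := CAlgUI.ml_of_projective
  rw [CAlgUI.ml_iff]
  intro ιQ Q _ _ t ht
  obtain ⟨n, f, v, rfl⟩ := CAlgUI.exists_fin_rTensor t
  choose s hs hsx using fun i : Fin n => hs₀ (f (Pi.single i 1))
  have hw : IsUnit (algebraMap P B (∏ i, s i)) := by
    rw [map_prod, IsUnit.prod_iff]
    exact fun i _ => (hqu _).1 (hs i)
  obtain ⟨w, hwv⟩ := hw
  let μ : B → (N →ₗ[A] N) := fun b =>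
    { toFun := fun x => b • x, map_add' := fun a c => smul_add b a c, map_smul' := fun a x => (smul_comm a b x).symm }
  have hxi : ∀ i, (∏ i, s i) • f (Pi.single i 1) ∈ N₀ := fun i => by
    rw [← Finset.prod_erase_mul _ _ (Finset.mem_univ i), mul_smul]
    exact Submodule.smul_mem _ _ (hsx i)
  let f' : (Fin n → A) →ₗ[A] M := (Pi.basisFun A (Fin n)).constr A fun i => ι ⟨_, hxi i⟩
  have hcomp : μ (w : B) ∘ₗ f = ψ ∘ₗ f' := by
    refine (Pi.basisFun A (Fin n)).ext fun i => ?_
    rw [LinearMap.comp_apply, LinearMap.comp_apply, Pi.basisFun_apply]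
    rw [show f' (Pi.single i 1) = ι ⟨_, hxi i⟩ from
      (congrArg f' (Pi.basisFun_apply A (Fin n) i).symm).trans (Module.Basis.constr_basis _ _ _ _)]
    show (w : B) • f (Pi.single i 1) = ψS (j ⟨_, _⟩)
    rw [hψ, hwv, algebraMap_smul]
  have hui' : ∀ (X : Type u) [AddCommGroup X] [Module A X], Function.Injective (ψ.rTensor X) := fun X _ _ =>
    (LinearMap.lTensor_inj_iff_rTensor_inj X ψ).1 (hui X)
  have h0 : f'.rTensor _ v = 0 := CAlgUI.ml_iff.1 hML ιQ Q _ fun i => by
    apply hui' (Q i)
    rw [map_zero]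
    rw [← CAlgUI.piRightHom_rTensor, ← LinearMap.rTensor_comp_apply, ← hcomp, LinearMap.rTensor_comp_apply,
      CAlgUI.piRightHom_rTensor, ht, map_zero]
  have h1 : (μ (w : B)).rTensor _ (f.rTensor _ v) = 0 := by
    rw [← LinearMap.rTensor_comp_apply, hcomp, LinearMap.rTensor_comp_apply, h0, map_zero]
  have h2 : μ (↑w⁻¹ : B) ∘ₗ μ (w : B) = LinearMap.id := LinearMap.ext fun x => by
    show (↑w⁻¹ : B) • (w : B) • x = x
    rw [smul_smul, Units.inv_mul, one_smul]
  have h3 := congrArg ((μ (↑w⁻¹ : B)).rTensor _) h1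
  rwa [← LinearMap.rTensor_comp_apply, h2, LinearMap.rTensor_id, LinearMap.id_apply, map_zero] at h3


/-- A finite flat module over a local algebra, essentially of finite presentation, is Mittag-Leffler over a
henselian base. -/
theorem ml_of_model {A P B : Type u} [CommRing A] [HenselianLocalRing A] [CommRing P] [CommRing B] [IsLocalRing B]
    [Algebra A P] [Algebra A B] [Algebra P B] [IsScalarTower A P B] [IsLocalHom (algebraMap A B)]
    [Algebra.FinitePresentation A P] [IsNoetherianRing (P ⧸ (maximalIdeal A).map (algebraMap A P))]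
    (hloc : ∀ b : B, ∃ s : P, IsUnit (algebraMap P B s) ∧ ∃ a : P, algebraMap P B s * b = algebraMap P B a)
    (N : Type u) [AddCommGroup N] [Module B N] [Module P N] [IsScalarTower P B N] [Module A N] [IsScalarTower A B N]
    [IsScalarTower A P N] [Module.Flat A N] [Module.Finite B N] : CAlg.IsMittagLeffler A N := by
  classical
  obtain ⟨G, hG⟩ := Module.finite_def.1 (inferInstance : Module.Finite B N)
  let I := (maximalIdeal A).map (algebraMap A P)
  let q := (maximalIdeal B).comap (algebraMap P B)
  have hqu : ∀ s : P, s ∉ q ↔ IsUnit (algebraMap P B s) := fun s => by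
    rw [Ideal.mem_comap, IsLocalRing.mem_maximalIdeal, mem_nonunits_iff, not_not]
  obtain ⟨hs₀, -, -⟩ := model_of_span (A := A) hloc N G hG q rfl
  let N₀ := Submodule.span P (G : Set N)
  haveI : Module.Finite P N₀ := Module.Finite.span_of_finite P G.finite_toSet
  obtain ⟨g, hg, hker⟩ := exists_denominator_kernel I q N₀
  haveI : Algebra.FinitePresentation A (Localization.Away g) := Algebra.FinitePresentation.trans A P _
  exact ml_of_away (S := Localization.Away g) hloc N G hG g hg hker

end Groth.Agent.RG
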