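import Groth.Agent.ZClosLib.ImpurityFP

/-!
# Impurities descend along colimits of the base change ring
-/

set_option autoImplicit false
set_option linter.style.haveILetI false

universe u

open TensorProduct Groth.Agent.ZClosLib

namespace Groth.Agent.RG

attribute [local instance] Algebra.TensorProduct.rightAlgebra

/-- The impurity on a stage carrying the relation `g ∈ P + t`. -/
theorem hasImpurity_stage {A B : Type u} [CommRing A] [CommRing B] [Algebra A B] [Algebra.FiniteType A B]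
    {N : Type u} [AddCommGroup N] [Module B N] (p : Ideal A) [p.IsPrime]
    {A₂ B₂ N₂ : Type u} [CommRing A₂] [CommRing B₂] [Algebra A A₂] [Algebra B B₂] [Algebra A₂ B₂]
    [Algebra A B₂] [IsScalarTower A B B₂] [IsScalarTower A A₂ B₂] [AddCommGroup N₂] [Module B₂ N₂]
    [Module B N₂] [IsScalarTower B B₂ N₂] [Module A₂ N₂] [IsScalarTower A₂ B₂ N₂]
    [hpush : Algebra.IsPushout A B A₂ B₂] (f₂ : N →ₗ[B] N₂) (hf₂ : IsBaseChange B₂ f₂) (t' t : Ideal A₂)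
    [t'.IsPrime] [t.IsPrime] (hle : t' ≤ t) [htp : t.LiesOver p] (P : Ideal B₂) [P.IsPrime] [P.LiesOver t']
    (hass : FlatCA.fiberIdeal t' P ∈ associatedPrimes (t'.Fiber B₂) (FlatCA.fiberMod t' B₂ N₂))
    (C₀ D₀ N₀ : Type u) [CommRing C₀] [CommRing D₀] [Algebra A C₀]
    [Algebra B D₀] [Algebra C₀ D₀] [Algebra A D₀] [IsScalarTower A B D₀] [IsScalarTower A C₀ D₀]
    [hpush₀ : Algebra.IsPushout A B C₀ D₀]
    [AddCommGroup N₀] [Module D₀ N₀] [Module B N₀] [IsScalarTower B D₀ N₀] [Module C₀ N₀] [IsScalarTower C₀ D₀ N₀]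
    (f₀ : N →ₗ[B] N₀) (hf₀ : IsBaseChange D₀ f₀)
    [Algebra C₀ A₂] [IsScalarTower A C₀ A₂] [Algebra D₀ B₂] [Algebra C₀ B₂] [IsScalarTower C₀ A₂ B₂]
    [IsScalarTower C₀ D₀ B₂] [IsScalarTower B D₀ B₂] [IsScalarTower A D₀ B₂] [IsScalarTower A C₀ B₂]
    (g₀ : C₀) (hg₀ : algebraMap C₀ A₂ g₀ ∉ t)
    (z₀ : D₀) (hz₀ : z₀ ∈ (t.comap (algebraMap C₀ A₂)).map (algebraMap C₀ D₀))
    (hπ : algebraMap D₀ B₂ (algebraMap C₀ D₀ g₀ - z₀) ∈ P) :
    FlatCA.HasImpurity A B N p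
      (fun A' _ _ t'' => ∃ e : A' ≃ₐ[A] C₀, t''.map e = t.comap (algebraMap C₀ A₂)) := by
  haveI : Algebra.IsPushout A C₀ B D₀ := hpush₀.symm
  haveI : Algebra.IsPushout A A₂ B B₂ := hpush.symm
  haveI hpush' : Algebra.IsPushout C₀ A₂ D₀ B₂ :=
    (Algebra.IsPushout.comp_iff A C₀ B D₀ (T := A₂) (T' := B₂)).1 inferInstance
  letI : Module D₀ N₂ := Module.compHom N₂ (algebraMap D₀ B₂)
  haveI : IsScalarTower D₀ B₂ N₂ := IsScalarTower.of_algebraMap_smul fun _ _ => rfl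
  haveI : IsScalarTower B D₀ N₂ := IsScalarTower.to₁₂₄ B D₀ B₂ N₂
  letI : Module C₀ N₂ := Module.compHom N₂ (algebraMap C₀ A₂)
  haveI : IsScalarTower C₀ A₂ N₂ := IsScalarTower.of_algebraMap_smul fun _ _ => rfl
  haveI : IsScalarTower C₀ B₂ N₂ := IsScalarTower.of_algebraMap_smul fun r m => by
    rw [IsScalarTower.algebraMap_apply C₀ A₂ B₂, algebraMap_smul]; rfl
  haveI : IsScalarTower C₀ D₀ N₂ := IsScalarTower.to₁₂₄ C₀ D₀ B₂ N₂
  let g : N₀ →ₗ[D₀] N₂ := hf₀.lift f₂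
  have hg : IsBaseChange B₂ g := IsBaseChange.of_comp hf₀ (by rw [hf₀.lift_comp]; exact hf₂)
  let t₀ : Ideal C₀ := t.comap (algebraMap C₀ A₂)
  let t₀' : Ideal C₀ := t'.comap (algebraMap C₀ A₂)
  haveI : t₀.LiesOver p := ⟨by
    rw [Ideal.under_def, Ideal.comap_comap, ← IsScalarTower.algebraMap_eq]; exact htp.over⟩
  haveI : t'.LiesOver t₀' := ⟨rfl⟩
  haveI : Algebra.FiniteType C₀ D₀ := PurityBC.finiteType_of_isPushout A B C₀ D₀
  obtain ⟨hover, hass₀⟩ := PurityQF.assoc_contract (A := C₀) (C := A₂) g (QCart13.isBaseChange_of_pushout g hg)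
    t₀' t' P hass
  refine ⟨C₀, D₀, N₀, inferInstance, inferInstance, inferInstance, inferInstance, inferInstance, inferInstance,
    inferInstance, inferInstance, inferInstance, inferInstance, inferInstance, inferInstance, inferInstance,
    inferInstance, f₀, t₀', t₀, inferInstance, inferInstance, P.comap (algebraMap D₀ B₂), inferInstance,
    ⟨hpush₀, hf₀, Ideal.comap_mono hle, inferInstance, hover, hass₀, fun P' hP' hPP' hP's => hg₀ ?_⟩,
    AlgEquiv.refl, Ideal.map_id _⟩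
  have h1 : algebraMap C₀ D₀ g₀ - z₀ ∈ P' := hPP' hπ
  have h2 : z₀ ∈ P' := Ideal.map_le_iff_le_comap.2 hP's.over.le hz₀
  have h3 : algebraMap C₀ D₀ g₀ ∈ P' := by simpa using add_mem h1 h2
  exact (SetLike.ext_iff.1 hP's.over g₀).2 h3

/-- The standard stage. -/
theorem hasImpurity_stage' {A B : Type u} [CommRing A] [CommRing B] [Algebra A B] [Algebra.FiniteType A B]
    {N : Type u} [AddCommGroup N] [Module B N] (p : Ideal A) [p.IsPrime]
    {A₂ B₂ N₂ : Type u} [CommRing A₂] [CommRing B₂] [Algebra A A₂] [Algebra B B₂] [Algebra A₂ B₂]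
    [Algebra A B₂] [IsScalarTower A B B₂] [IsScalarTower A A₂ B₂] [AddCommGroup N₂] [Module B₂ N₂]
    [Module B N₂] [IsScalarTower B B₂ N₂] [Module A₂ N₂] [IsScalarTower A₂ B₂ N₂]
    [hpush : Algebra.IsPushout A B A₂ B₂] (f₂ : N →ₗ[B] N₂) (hf₂ : IsBaseChange B₂ f₂) (t' t : Ideal A₂)
    [t'.IsPrime] [t.IsPrime] (hle : t' ≤ t) [htp : t.LiesOver p] (P : Ideal B₂) [P.IsPrime] [P.LiesOver t']
    (hass : FlatCA.fiberIdeal t' P ∈ associatedPrimes (t'.Fiber B₂) (FlatCA.fiberMod t' B₂ N₂))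
    (C₀ D₀ : Type u) [CommRing C₀] [CommRing D₀] [Algebra A C₀]
    [Algebra B D₀] [Algebra C₀ D₀] [Algebra A D₀] [IsScalarTower A B D₀] [IsScalarTower A C₀ D₀]
    [hpush₀ : Algebra.IsPushout A B C₀ D₀]
    [Algebra C₀ A₂] [IsScalarTower A C₀ A₂] [Algebra D₀ B₂] [Algebra C₀ B₂] [IsScalarTower C₀ A₂ B₂]
    [IsScalarTower C₀ D₀ B₂] [IsScalarTower B D₀ B₂] [IsScalarTower A D₀ B₂] [IsScalarTower A C₀ B₂]
    (g₀ : C₀) (hg₀ : algebraMap C₀ A₂ g₀ ∉ t)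
    (z₀ : D₀) (hz₀ : z₀ ∈ (t.comap (algebraMap C₀ A₂)).map (algebraMap C₀ D₀))
    (hπ : algebraMap D₀ B₂ (algebraMap C₀ D₀ g₀ - z₀) ∈ P) :
    FlatCA.HasImpurity A B N p
      (fun A' _ _ t'' => ∃ e : A' ≃ₐ[A] C₀, t''.map e = t.comap (algebraMap C₀ A₂)) := by
  haveI : IsScalarTower C₀ D₀ (D₀ ⊗[B] N) := TensorProduct.isScalarTower_left
  exact hasImpurity_stage p f₂ hf₂ t' t hle P hass C₀ D₀ (D₀ ⊗[B] N) (TensorProduct.mk B D₀ N 1)
    (TensorProduct.isBaseChange B N D₀) g₀ hg₀ z₀ hz₀ hπ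

end Groth.Agent.RG
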