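import Groth.Agent.RG.Core
import Groth.Agent.SrcDescent.FlatModelAlg
import Groth.Agent.FormalFib6.Cplt
import Groth.Agent.FlatModel.Local
import Mathlib.RingTheory.Localization.BaseChange
import Mathlib.RingTheory.AdicCompletion.LocalRing
import Mathlib.RingTheory.AdicCompletion.AsTensorProduct

/-!
# A flat module at the generic point of the closed fibre is free
-/

set_option autoImplicit false
set_option linter.style.haveILetI false
set_option linter.unusedSectionVars false
set_option backward.isDefEq.respectTransparency false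
set_option maxHeartbeats 1000000
set_option synthInstance.maxHeartbeats 60000

universe u

open TensorProduct IsLocalRing

namespace Groth.Agent.RG

attribute [local instance] Algebra.TensorProduct.rightAlgebra

/-- Base change followed by localisation preserves flatness over the base. -/
theorem flat_localization_baseChange {R R' S T' M : Type u} [CommRing R] [CommRing R'] [Algebra R R']
    [CommRing S] [Algebra R S] [AddCommGroup M] [Module R M] [Module S M] [IsScalarTower R S M] [Module.Flat R M]
    (W : Submonoid (R' ⊗[R] S)) [CommRing T'] [Algebra (R' ⊗[R] S) T'] [Algebra R' T']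
    [IsScalarTower R' (R' ⊗[R] S) T'] [Algebra S T'] [IsScalarTower S (R' ⊗[R] S) T'] [IsLocalization W T'] :
    Module.Flat R' (T' ⊗[S] M) := by
  let X := (R' ⊗[R] S) ⊗[S] M
  haveI : Module.Flat R' (R' ⊗[R] M) := inferInstance
  haveI : Module.Flat R' X :=
    Module.Flat.of_linearEquiv (Algebra.IsPushout.cancelBaseChange R R' S (R' ⊗[R] S) M)
  let f : X →ₗ[R' ⊗[R] S] T' ⊗[R' ⊗[R] S] X := TensorProduct.mk (R' ⊗[R] S) T' X 1
  haveI : IsLocalizedModule W f :=
    (isLocalizedModule_iff_isBaseChange W T' f).2 (TensorProduct.isBaseChange _ _ _)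
  haveI : Module.Flat R' (T' ⊗[R' ⊗[R] S] X) := by
    refine (FlatModel.flat_localized_iff W f).2 fun J y hy => ⟨1, one_mem _, ?_⟩
    rw [Module.Flat.iff_lTensor_injective'.1 ‹Module.Flat R' X› J (hy.trans (map_zero _).symm), smul_zero]
  exact Module.Flat.of_linearEquiv
    ((AlgebraTensorModule.cancelBaseChange S (R' ⊗[R] S) T' T' M).restrictScalars R').symm

/-- A local hom and a faithfully flat local extension of its source have a common local extension. -/
theorem exists_local_extension (R₀ R Rh : Type u) [CommRing R₀] [IsLocalRing R₀] [CommRing R] [IsLocalRing R]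
    [CommRing Rh] [IsLocalRing Rh] [Algebra R₀ R] [IsLocalHom (algebraMap R₀ R)] [Algebra R₀ Rh]
    [Module.FaithfullyFlat R₀ Rh] (hmax : maximalIdeal Rh = (maximalIdeal R₀).map (algebraMap R₀ Rh)) :
    ∃ (R' : Type u) (_ : CommRing R') (_ : IsLocalRing R') (_ : Algebra R R') (_ : Algebra Rh R'),
      (algebraMap Rh R').comp (algebraMap R₀ Rh) = (algebraMap R R').comp (algebraMap R₀ R) ∧
      IsLocalHom (algebraMap Rh R') ∧ IsLocalHom (algebraMap R R') ∧ Module.FaithfullyFlat R R' := by
  obtain ⟨⟨Pw, hPw⟩, hPwc⟩ := PrimeSpectrum.comap_surjective_of_faithfullyFlat (A := R) (B := R ⊗[R₀] Rh)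
    ⟨maximalIdeal R, inferInstance⟩
  have hPwm : Pw.comap (algebraMap R (R ⊗[R₀] Rh)) = maximalIdeal R := congrArg PrimeSpectrum.asIdeal hPwc
  letI : Algebra Rh (Localization.AtPrime Pw) :=
    ((algebraMap (R ⊗[R₀] Rh) (Localization.AtPrime Pw)).comp
      (Algebra.TensorProduct.includeRight (R := R₀) (A := R) (B := Rh)).toRingHom).toAlgebra
  have hcomp : (algebraMap Rh (Localization.AtPrime Pw)).comp (algebraMap R₀ Rh) =
      (algebraMap R (Localization.AtPrime Pw)).comp (algebraMap R₀ R) := RingHom.ext fun a => by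
    show algebraMap (R ⊗[R₀] Rh) (Localization.AtPrime Pw) ((1 : R) ⊗ₜ[R₀] algebraMap R₀ Rh a) = _
    rw [RingHom.comp_apply, IsScalarTower.algebraMap_apply R (R ⊗[R₀] Rh) (Localization.AtPrime Pw)]
    congr 1
    rw [Algebra.algebraMap_eq_smul_one (A := Rh), tmul_smul, smul_tmul', ← Algebra.algebraMap_eq_smul_one]
    rfl
  have hmem : ∀ a ∈ maximalIdeal R, algebraMap R (Localization.AtPrime Pw) a ∈ maximalIdeal (Localization.AtPrime Pw) := by
    intro a ha
    rw [IsScalarTower.algebraMap_apply R (R ⊗[R₀] Rh) (Localization.AtPrime Pw),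
      IsLocalization.AtPrime.to_map_mem_maximal_iff (Localization.AtPrime Pw) Pw]
    exact (hPwm.symm ▸ ha : a ∈ Pw.comap (algebraMap R (R ⊗[R₀] Rh)))
  have hlR : IsLocalHom (algebraMap R (Localization.AtPrime Pw)) := by
    constructor
    intro a ha
    by_contra hna
    exact (hmem a hna) ha
  have hlh : IsLocalHom (algebraMap Rh (Localization.AtPrime Pw)) := by
    refine ((IsLocalRing.local_hom_TFAE _).out 0 2).mpr ?_
    rw [hmax, Ideal.map_map, Ideal.map_le_iff_le_comap, hcomp]
    intro a ha
    exact hmem _ fun h => ha (isUnit_of_map_unit (algebraMap R₀ R) a h)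
  haveI := hlR
  haveI : Module.Flat (R ⊗[R₀] Rh) (Localization.AtPrime Pw) := IsLocalization.flat _ Pw.primeCompl
  haveI : Module.Flat R (Localization.AtPrime Pw) := Module.Flat.trans R (R ⊗[R₀] Rh) _
  exact ⟨Localization.AtPrime Pw, inferInstance, inferInstance, inferInstance, inferInstance, hcomp, hlh, hlR,
    Module.FaithfullyFlat.of_flat_of_isLocalHom⟩

/-- Finitely many elements of a local ring lie in a Noetherian local ring dominated by it. -/
theorem exists_noetherian_local_model (R₁ R : Type u) [CommRing R₁] [IsNoetherianRing R₁] [CommRing R]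
    [IsLocalRing R] [Algebra R₁ R] {σ : Type u} [Finite σ] (x : σ → R) :
    ∃ (R₀ : Type u) (_ : CommRing R₀) (_ : IsNoetherianRing R₀) (_ : IsLocalRing R₀) (_ : Algebra R₁ R₀)
      (_ : Algebra R₀ R) (_ : IsScalarTower R₁ R₀ R) (_ : IsLocalHom (algebraMap R₀ R)),
      ∀ i, ∃ y, algebraMap R₀ R y = x i := by
  let ev : MvPolynomial σ R₁ →ₐ[R₁] R := MvPolynomial.aeval x
  let l : Localization.AtPrime ((maximalIdeal R).comap ev.toRingHom) →+* R :=
    IsLocalization.lift (M := ((maximalIdeal R).comap ev.toRingHom).primeCompl) (g := ev.toRingHom)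
      fun y => not_not.1 fun h => y.2 h
  letI : Algebra (Localization.AtPrime ((maximalIdeal R).comap ev.toRingHom)) R := l.toAlgebra
  have ht : IsScalarTower R₁ (Localization.AtPrime ((maximalIdeal R).comap ev.toRingHom)) R :=
    IsScalarTower.of_algebraMap_eq fun a => by
      show algebraMap R₁ R a = l _
      rw [IsScalarTower.algebraMap_apply R₁ (MvPolynomial σ R₁) (Localization.AtPrime _), IsLocalization.lift_eq]
      exact (ev.commutes a).symm
  have hl : IsLocalHom (algebraMap (Localization.AtPrime ((maximalIdeal R).comap ev.toRingHom)) R) := by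
    constructor
    intro a ha
    obtain ⟨⟨b, c⟩, hbc⟩ := IsLocalization.surj ((maximalIdeal R).comap ev.toRingHom).primeCompl a
    by_contra hna
    have hb : b ∈ (maximalIdeal R).comap ev.toRingHom := by
      by_contra hb
      exact hna (isUnit_of_mul_isUnit_left (hbc ▸ IsLocalization.map_units _
        (⟨b, hb⟩ : ((maximalIdeal R).comap ev.toRingHom).primeCompl)))
    have h1 : l a * ev c.1 = ev b := by
      have := congrArg l hbc
      rwa [map_mul, IsLocalization.lift_eq, IsLocalization.lift_eq] at this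
    refine hb (h1 ▸ IsUnit.mul ha ?_)
    exact not_not.1 fun h => c.2 h
  exact ⟨_, inferInstance, inferInstance, inferInstance, inferInstance, inferInstance, ht, hl,
    fun i => ⟨algebraMap _ _ (MvPolynomial.X i), (IsLocalization.lift_eq _ _).trans (MvPolynomial.aeval_X x i)⟩⟩

/-- Finitely many elements of a local ring come, after a faithfully flat local extension, from a complete
Noetherian local ring. -/
theorem exists_complete_model (R₁ R : Type u) [CommRing R₁] [IsNoetherianRing R₁] [CommRing R] [IsLocalRing R]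
    [Algebra R₁ R] {σ : Type u} [Finite σ] (x : σ → R) :
    ∃ (Rh R' : Type u) (_ : CommRing Rh) (_ : IsNoetherianRing Rh) (_ : IsLocalRing Rh)
      (_ : IsAdicComplete (maximalIdeal Rh) Rh) (_ : CommRing R') (_ : IsLocalRing R') (_ : Algebra R₁ Rh)
      (_ : Algebra Rh R') (_ : Algebra R R') (_ : Algebra R₁ R') (_ : IsScalarTower R₁ Rh R')
      (_ : IsScalarTower R₁ R R') (_ : IsLocalHom (algebraMap Rh R')) (_ : IsLocalHom (algebraMap R R'))
      (_ : Module.FaithfullyFlat R R') (xh : σ → Rh), ∀ i, algebraMap Rh R' (xh i) = algebraMap R R' (x i) := by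
  obtain ⟨R₀, _, _, _, _, _, _, _, hx⟩ := exists_noetherian_local_model R₁ R x
  choose y hy using hx
  haveI : IsNoetherianRing (AdicCompletion (maximalIdeal R₀) R₀) :=
    Groth.Agent.FormalFib6.isNoetherianRing_adicCompletion R₀ _
  haveI : Module.Flat R₀ (AdicCompletion (maximalIdeal R₀) R₀) := AdicCompletion.flat_of_isNoetherian _
  haveI : Module.FaithfullyFlat R₀ (AdicCompletion (maximalIdeal R₀) R₀) :=
    Module.FaithfullyFlat.of_flat_of_isLocalHom
  obtain ⟨R', _, _, _, _, hcomp, hl₁, hl₂, hff⟩ :=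
    exists_local_extension R₀ R (AdicCompletion (maximalIdeal R₀) R₀) AdicCompletion.maximalIdeal_eq_map
  letI : Algebra R₁ R' := Algebra.compHom R' (algebraMap R₁ R)
  haveI : IsScalarTower R₁ R R' := IsScalarTower.of_algebraMap_eq fun _ => rfl
  haveI : IsScalarTower R₁ (AdicCompletion (maximalIdeal R₀) R₀) R' := IsScalarTower.of_algebraMap_eq fun a => by
    rw [IsScalarTower.algebraMap_apply R₁ R R', IsScalarTower.algebraMap_apply R₁ R₀ R,
      IsScalarTower.algebraMap_apply R₁ R₀ (AdicCompletion (maximalIdeal R₀) R₀)]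
    exact (RingHom.congr_fun hcomp _).symm
  exact ⟨AdicCompletion (maximalIdeal R₀) R₀, R', inferInstance, inferInstance, inferInstance, inferInstance,
    inferInstance, inferInstance, inferInstance, inferInstance, inferInstance, inferInstance, inferInstance,
    inferInstance, hl₁, hl₂, hff, fun i => algebraMap R₀ _ (y i), fun i => by
      rw [← hy i]
      exact RingHom.congr_fun hcomp _⟩

/-- `injective_of_flat`, given a Noetherian model. -/
theorem injective_of_model {R₁ B₁ R S T M : Type u} [CommRing R₁] [IsNoetherianRing R₁] [CommRing B₁] [Algebra R₁ B₁]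
    [Algebra.FiniteType R₁ B₁] [Module.Flat R₁ B₁] [CommRing R] [IsLocalRing R] [Algebra R₁ R] [CommRing S] [Algebra R S]
    [Algebra.FinitePresentation R S] [Module.Flat R S] (hd : DomFib R S) (P : Ideal S) [P.IsPrime]
    (hP : P = (maximalIdeal R).map (algebraMap R S)) [CommRing T] [Algebra S T] [Algebra R T]
    [IsScalarTower R S T] [IsLocalization.AtPrime T P] [AddCommGroup M] [Module T M] [Module S M]
    [IsScalarTower S T M] [Module R M] [IsScalarTower R T M] [IsScalarTower R S M] [Module.Flat R M] {r : ℕ}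
    (e : S ≃ₐ[R] R ⊗[R₁] B₁) (φ : (Fin r → T) →ₗ[T] M) (hφ : Function.Surjective φ)
    (hker : ∀ w, φ w = 0 → ∀ i, w i ∈ (maximalIdeal R).map (algebraMap R T)) :
    Function.Injective φ := by
  classical
  rw [injective_iff_map_eq_zero]
  intro v hv
  obtain ⟨u, hu⟩ := IsLocalization.exist_integer_multiples_of_finite P.primeCompl v
  choose s hs using hu
  suffices h0 : ∀ i, s i = 0 by
    funext i
    refine (IsLocalization.map_units T u).mul_right_eq_zero.1 ?_
    have := hs i
    rw [h0 i, map_zero, Algebra.smul_def] at this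
    exact this.symm
  choose F hF using fun i => TensorProduct.exists_finset (e (s i))
  let σ := Σ i, {p : R × B₁ // p ∈ F i}
  obtain ⟨Rh, R', _, _, _, _, _, _, _, _, _, _, _, _, _, _, _, xh, hxh⟩ :=
    exists_complete_model R₁ R (fun x : σ => x.2.1.1)
  let B := Rh ⊗[R₁] B₁
  let S' := R' ⊗[R] S
  let ψ : R' ⊗[Rh] B ≃ₐ[R'] S' :=
    ((Algebra.TensorProduct.cancelBaseChange R₁ Rh R' R' B₁).trans
      (Algebra.TensorProduct.cancelBaseChange R₁ R R' R' B₁).symm).trans
      (Algebra.TensorProduct.congr (AlgEquiv.refl : R' ≃ₐ[R'] R') e.symm)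
  let b : Fin r → B := fun i => ∑ p : {p : R × B₁ // p ∈ F i}, xh ⟨i, p⟩ ⊗ₜ[R₁] p.1.2
  have hψb : ∀ i, ψ ((1 : R') ⊗ₜ[Rh] b i) = (1 : R') ⊗ₜ[R] s i := by
    intro i
    rw [show s i = e.symm (∑ p : {p : R × B₁ // p ∈ F i}, p.1.1 ⊗ₜ[R₁] p.1.2) by
      rw [Finset.sum_coe_sort (F i) fun p : R × B₁ => p.1 ⊗ₜ[R₁] p.2, ← hF i, AlgEquiv.symm_apply_apply]]
    simp only [b, tmul_sum, map_sum]
    refine Finset.sum_congr rfl fun p _ => ?_
    simp only [ψ, AlgEquiv.trans_apply]
    rw [Algebra.TensorProduct.cancelBaseChange_tmul, Algebra.TensorProduct.cancelBaseChange_symm_tmul,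
      Algebra.TensorProduct.congr_apply, Algebra.TensorProduct.map_tmul]
    show (xh ⟨i, p⟩ • (1 : R')) ⊗ₜ[R] e.symm (1 ⊗ₜ[R₁] p.1.2) = _
    rw [← Algebra.algebraMap_eq_smul_one, hxh, Algebra.algebraMap_eq_smul_one, smul_tmul, ← map_smul, smul_tmul',
      smul_eq_mul, mul_one]
  -- the base change
  have hd' : DomFib R' S' := hd.baseChange R'
  let P' : Ideal S' := (maximalIdeal R').map (algebraMap R' S')
  haveI : P'.IsPrime := hd'.isPrime_map
  let T' := Localization.AtPrime P'
  haveI : IsScalarTower S S' T' := inferInstance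
  have hPP' : ∀ x : S, x ∉ P → IsUnit (algebraMap S T' x) := by
    intro x hx
    rw [IsScalarTower.algebraMap_apply S S' T']
    refine IsLocalization.map_units T' (⟨algebraMap S S' x, fun h => hx ?_⟩ : P'.primeCompl)
    have h1 := mem_map_comap_of_flat R' (maximalIdeal R') (x := x) h
    have hc : (maximalIdeal R').comap (algebraMap R R') = maximalIdeal R :=
      ((IsLocalRing.local_hom_TFAE (algebraMap R R')).out 0 4).mp ‹IsLocalHom (algebraMap R R')›
    rw [hc] at h1
    rw [hP]
    exact h1
  let ιT : T →+* T' := IsLocalization.lift (M := P.primeCompl) (S := T) (g := algebraMap S T') fun y => hPP' y y.2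
  have hιT : ∀ x, ιT (algebraMap S T x) = algebraMap S T' x := fun x => IsLocalization.lift_eq _ x
  have hlin : ∀ (c : T) (m : M), ιT c • ((1 : T') ⊗ₜ[S] m) = (1 : T') ⊗ₜ[S] (c • m) := by
    intro c m
    obtain ⟨⟨a, w⟩, haw⟩ := IsLocalization.surj P.primeCompl c
    refine (hPP' w w.2).smul_left_cancel.1 ?_
    rw [smul_smul, ← hιT w, ← map_mul, mul_comm, haw, hιT, hιT, algebraMap_smul, algebraMap_smul,
      ← tmul_smul, ← tmul_smul, ← algebraMap_smul T (w : S) (c • m), smul_smul, mul_comm, haw, algebraMap_smul]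
  let M' := T' ⊗[S] M
  haveI : Module.Flat R' M' := flat_localization_baseChange P'.primeCompl
  let φ' : (Fin r → T') →ₗ[T'] M' := Fintype.linearCombination T' fun i => (1 : T') ⊗ₜ[S] φ (Pi.single i 1)
  have hφ'c : ∀ c : Fin r → T, φ' (fun i => ιT (c i)) = (1 : T') ⊗ₜ[S] φ c := by
    intro c
    rw [Fintype.linearCombination_apply]
    conv_rhs => rw [pi_eq_sum_univ' c, map_sum, tmul_sum]
    refine Finset.sum_congr rfl fun i _ => ?_
    rw [hlin, map_smul]
  have hφ' : Function.Surjective φ' := by
    intro y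
    induction y using TensorProduct.induction_on with
    | zero => exact ⟨0, map_zero _⟩
    | add a b ha hb =>
      obtain ⟨a', rfl⟩ := ha
      obtain ⟨b', rfl⟩ := hb
      exact ⟨a' + b', map_add _ _ _⟩
    | tmul t m =>
      obtain ⟨c, rfl⟩ := hφ m
      refine ⟨t • fun i => ιT (c i), ?_⟩
      rw [map_smul, hφ'c, smul_tmul', smul_eq_mul, mul_one]
  have hm : (maximalIdeal R).map (algebraMap R T) ≤ ((maximalIdeal R').map (algebraMap R' T')).comap ιT := by
    rw [Ideal.map_le_iff_le_comap]
    intro a ha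
    refine Ideal.mem_comap.2 (Ideal.mem_comap.2 ?_)
    rw [IsScalarTower.algebraMap_apply R S T, hιT, ← IsScalarTower.algebraMap_apply,
      IsScalarTower.algebraMap_apply R R' T']
    exact Ideal.mem_map_of_mem _ fun h => ha (isUnit_of_map_unit (algebraMap R R') a h)
  have hker' : ∀ w, φ' w = 0 → ∀ i, w i ∈ (maximalIdeal R').map (algebraMap R' T') := by
    intro w hw
    let φS : (Fin r → T) →ₗ[S] M := φ.restrictScalars S
    let C : T' ⊗[S] (Fin r → T) →ₗ[T'] (Fin r → T') :=
      LinearMap.liftBaseChange T' (LinearMap.pi fun i =>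
        ({ toFun := ιT
           map_add' := map_add ιT
           map_smul' := fun x c => by
             rw [Algebra.smul_def, map_mul, hιT, RingHom.id_apply, Algebra.smul_def] } : T →ₗ[S] T') ∘ₗ LinearMap.proj i)
    let z : T' ⊗[S] (Fin r → T) := ∑ i, w i ⊗ₜ[S] Pi.single i (1 : T)
    have hz : φS.lTensor T' z = 0 := by
      rw [← hw, Fintype.linearCombination_apply]
      simp only [z, map_sum, LinearMap.lTensor_tmul]
      exact Finset.sum_congr rfl fun i _ => by
        rw [smul_tmul', smul_eq_mul, mul_one]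
        rfl
    have hex : Function.Exact (LinearMap.ker φS).subtype φS :=
      LinearMap.exact_iff.2 (Submodule.range_subtype _).symm
    obtain ⟨y, hy⟩ := (lTensor_exact T' hex hφ z).1 hz
    have hCz : C z = w := by
      funext j
      simp [C, z, Finset.sum_apply, Pi.single_apply, apply_ite ιT]
    intro i
    rw [← hCz, ← hy]
    clear hy
    induction y using TensorProduct.induction_on with
    | zero => simp
    | add a b ha hb =>
      rw [map_add, map_add, Pi.add_apply]
      exact add_mem ha hb
    | tmul t k =>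
      rw [LinearMap.lTensor_tmul]
      show (C (t ⊗ₜ[S] (k : Fin r → T))) i ∈ _
      simp only [C, LinearMap.liftBaseChange_tmul, Pi.smul_apply, smul_eq_mul]
      exact Ideal.mul_mem_left _ _ (hm (hker _ k.2 i))
  have hb : φ' (fun i => algebraMap S' T' (ψ ((1 : R') ⊗ₜ[Rh] b i))) = 0 := by
    have h : (fun i => algebraMap S' T' (ψ ((1 : R') ⊗ₜ[Rh] b i))) = fun i => ιT (((u : S) • v) i) := funext fun i => by
      rw [hψb, Pi.smul_apply, ← hs i, hιT, IsScalarTower.algebraMap_apply S S' T']
      rfl
    rw [h, hφ'c, LinearMap.map_smul_of_tower, hv, smul_zero, tmul_zero]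
  have hzero := kernel_eq_zero (T' := T') (M' := M') ψ hd' P' rfl φ' hφ' hker' b hb
  intro i
  have hi := hzero i
  rw [hψb] at hi
  exact (Module.FaithfullyFlat.one_tmul_eq_zero_iff R S (A := R') (s i)).1 hi


/-- The kernel of a surjection onto a flat module that is bijective on the closed fibre is zero. -/
theorem injective_of_flat {R S T M : Type u} [CommRing R] [IsLocalRing R] [CommRing S] [Algebra R S]
    [Algebra.FinitePresentation R S] [Module.Flat R S] (hd : DomFib R S) (P : Ideal S) [P.IsPrime]
    (hP : P = (maximalIdeal R).map (algebraMap R S)) [CommRing T] [Algebra S T] [Algebra R T]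
    [IsScalarTower R S T] [IsLocalization.AtPrime T P] [AddCommGroup M] [Module T M] [Module S M]
    [IsScalarTower S T M] [Module R M] [IsScalarTower R T M] [IsScalarTower R S M] [Module.Flat R M] {r : ℕ}
    (φ : (Fin r → T) →ₗ[T] M) (hφ : Function.Surjective φ)
    (hker : ∀ w, φ w = 0 → ∀ i, w i ∈ (maximalIdeal R).map (algebraMap R T)) :
    Function.Injective φ := by
  obtain ⟨R₁, B₁, _, _, hR₁, _, hfp, ⟨e⟩⟩ := Groth.Agent.SrcDescent.exists_flat_model R S
  haveI : Algebra.FiniteType ℤ R₁ := (Subalgebra.fg_iff_finiteType R₁).1 hR₁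
  haveI : IsNoetherianRing R₁ := Algebra.FiniteType.isNoetherianRing ℤ R₁
  exact injective_of_model (R₁ := ↥R₁) hd P hP e φ hφ hker

end Groth.Agent.RG
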