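import Groth.Prelude.Def_FlatCA
import Mathlib

/-!
# Purely transcendental field maps
-/

set_option autoImplicit false
set_option linter.style.haveILetI false

universe u

namespace Groth.Agent.RG

variable {k K : Type u} [Field k] [Field K]

/-- The field map is isomorphic to `k → k(t_σ)`. -/
def PT (φ : k →+* K) : Prop :=
  ∃ (σ : Type u) (e : FractionRing (MvPolynomial σ k) ≃+* K),
    ∀ a, e (algebraMap (MvPolynomial σ k) _ (MvPolynomial.C a)) = φ a

theorem PT.congr {k' K' : Type u} [Field k'] [Field K'] {φ : k →+* K} (h : PT φ) {φ' : k' →+* K'}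
    (a : k ≃+* k') (b : K ≃+* K') (hc : ∀ x, b (φ x) = φ' (a x)) : PT φ' := by
  obtain ⟨σ, e, he⟩ := h
  let m : MvPolynomial σ k' ≃+* MvPolynomial σ k := MvPolynomial.mapEquiv σ a.symm
  refine ⟨σ, ((IsFractionRing.ringEquivOfRingEquiv m).trans e).trans b, fun x => ?_⟩
  simp only [RingEquiv.trans_apply, IsFractionRing.ringEquivOfRingEquiv_algebraMap]
  rw [show m (MvPolynomial.C x) = MvPolynomial.C (a.symm x) from MvPolynomial.map_C _ _, he, hc,
    a.apply_symm_apply]

/-- Elements algebraic over the smaller field lie in it. -/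
theorem PT.mem_range_of_root {φ : k →+* K} (h : PT φ) {f : Polynomial k} (hf : f ≠ 0) {a : K}
    (ha : f.eval₂ φ a = 0) : a ∈ Set.range φ := by
  obtain ⟨σ, e, he⟩ := h
  letI := φ.toAlgebra
  let F := FractionRing (MvPolynomial σ k)
  let e' : F ≃ₐ[k] K := AlgEquiv.ofRingEquiv (f := e) fun r => by
    rw [IsScalarTower.algebraMap_apply k (MvPolynomial σ k) F, MvPolynomial.algebraMap_eq]
    exact he r
  obtain ⟨y, rfl⟩ := e'.surjective a
  have hy : IsIntegral k y := by
    refine IsAlgebraic.isIntegral ⟨f, hf, e'.injective ?_⟩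
    rw [map_zero, ← Polynomial.aeval_algHom_apply]
    exact ha
  obtain ⟨P, hP⟩ := IsIntegrallyClosed.isIntegral_iff.1 (hy.tower_top (A := MvPolynomial σ k))
  have hPi : IsIntegral k P := by
    rw [← isIntegral_algHom_iff (IsScalarTower.toAlgHom k (MvPolynomial σ k) F)
      (FaithfulSMul.algebraMap_injective _ F)]
    rwa [IsScalarTower.coe_toAlgHom', hP]
  obtain ⟨c, rfl⟩ : ∃ c, MvPolynomial.C c = P := by
    by_cases hP0 : P = 0
    · exact ⟨0, by rw [hP0, map_zero]⟩
    have hu : IsUnit P := by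
      haveI : FaithfulSMul k (MvPolynomial σ k) := inferInstance
      obtain ⟨q, hq0, hq⟩ := hPi.isAlgebraic.exists_nonzero_dvd (mem_nonZeroDivisors_of_ne_zero hP0)
      exact isUnit_of_dvd_unit hq ((IsUnit.mk0 q hq0).map (algebraMap k (MvPolynomial σ k)))
    obtain ⟨c, -, hc⟩ := MvPolynomial.isUnit_iff_eq_C_of_isReduced.1 hu
    exact ⟨c, hc.symm⟩
  exact ⟨c, by rw [← he c, ← hP]; rfl⟩

theorem PT.sepClosed {φ : k →+* K} (h : PT φ) {f : Polynomial k} (hf : f.Separable) {a : K}
    (ha : f.eval₂ φ a = 0) : a ∈ Set.range φ :=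
  h.mem_range_of_root hf.ne_zero ha

theorem PT.purelyTranscendental {R S : Type u} [CommRing R] [CommRing S] [Algebra R S] (p : Ideal R) (q : Ideal S)
    [p.IsPrime] [q.IsPrime] [hq : q.LiesOver p]
    (h : PT (Ideal.ResidueField.mapₐ p q (Algebra.ofId R S) hq.over).toRingHom) :
    FlatCA.PurelyTranscendental p q := by
  letI : Algebra p.ResidueField q.ResidueField :=
    (Ideal.ResidueField.mapₐ p q (Algebra.ofId R S) hq.over).toRingHom.toAlgebra
  obtain ⟨σ, e, he⟩ := h
  let k := p.ResidueField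
  let F := FractionRing (MvPolynomial σ k)
  let e' : F ≃ₐ[k] q.ResidueField := AlgEquiv.ofRingEquiv (f := e) fun r => by
    rw [IsScalarTower.algebraMap_apply k (MvPolynomial σ k) F, MvPolynomial.algebraMap_eq]
    exact he r
  let X' : σ → F := fun i => algebraMap (MvPolynomial σ k) F (MvPolynomial.X i)
  have hX : IsTranscendenceBasis k X' := by
    haveI : Algebra.IsAlgebraic (MvPolynomial σ k) F := IsLocalization.isAlgebraic F (nonZeroDivisors _)
    exact (IsTranscendenceBasis.mvPolynomial σ k).algebraMap_comp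
  refine ⟨σ, e' ∘ X', e'.isTranscendenceBasis hX, eq_top_iff.2 fun z _ => ?_⟩
  obtain ⟨y, rfl⟩ := e'.surjective z
  obtain ⟨P, Q, -, rfl⟩ := IsFractionRing.div_surjective (A := MvPolynomial σ k) y
  have key : ∀ P : MvPolynomial σ k, e' (algebraMap _ F P) ∈ IntermediateField.adjoin k (Set.range (e' ∘ X')) := by
    intro P
    induction P using MvPolynomial.induction_on with
    | C a =>
      rw [show e' (algebraMap _ F (MvPolynomial.C a)) = algebraMap k _ a from he a]
      exact IntermediateField.algebraMap_mem _ _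
    | add p q hp hq => rw [map_add, map_add]; exact add_mem hp hq
    | mul_X p i hp => rw [map_mul, map_mul]; exact mul_mem hp (IntermediateField.subset_adjoin k _ ⟨i, rfl⟩)
  rw [map_div₀]
  exact div_mem (key P) (key Q)

end Groth.Agent.RG
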