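import Groth.Agent.RG.NoethPrime
import Groth.Agent.RG.Shrink
import Groth.Agent.H23.GrassRep
import Groth.Agent.MorLib.ElemEtaleFinite

/-!
# Local structure: finite over smooth with geometrically integral fibres
-/

set_option autoImplicit false
set_option linter.style.haveILetI false
set_option backward.isDefEq.respectTransparency false
set_option backward.isDefEq.respectTransparency.types false

open AlgebraicGeometry CategoryTheory CategoryTheory.Limits TopologicalSpace

namespace Groth.Agent.RG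

universe u

/-- The residue extension at the point is purely transcendental. -/
def PTPt {Y S : Scheme.{u}} (h : Y ⟶ S) (y : Y) : Prop := PT (h.residueFieldMap y).hom

theorem PTPt.sepPt {Y S : Scheme.{u}} {h : Y ⟶ S} {y : Y} (hy : PTPt h y) : SepPt h y :=
  fun _ hf _ ha => PT.sepClosed hy hf ha

theorem PTPt.comp {Y' Y S : Scheme.{u}} {h : Y ⟶ S} (q : Y' ⟶ Y) (y' : Y')
    (hy : PTPt h (q y')) (hq : Function.Bijective (q.residueFieldMap y')) : PTPt (q ≫ h) y' := by
  unfold PTPt at hy ⊢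
  rw [Scheme.residueFieldMap_comp]
  exact hy.congr (RingEquiv.refl _) (RingEquiv.ofBijective (q.residueFieldMap y').hom hq) fun _ => rfl

theorem PTPt.of_comp {Y S' S : Scheme.{u}} {h' : Y ⟶ S'} (e : S' ⟶ S) (y : Y)
    (hy : PTPt (h' ≫ e) y) (he : Function.Bijective (e.residueFieldMap (h' y))) : PTPt h' y := by
  unfold PTPt at hy ⊢
  rw [Scheme.residueFieldMap_comp] at hy
  exact hy.congr (RingEquiv.ofBijective (e.residueFieldMap (h' y)).hom he) (RingEquiv.refl _) fun _ => rfl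

theorem quasiFiniteAt_SpecMap {A B : Type u} [CommRing A] [CommRing B] [Algebra A B] (x : PrimeSpectrum B)
    [Algebra.QuasiFiniteAt A x.asIdeal] :
    (Spec.map (CommRingCat.ofHom (algebraMap A B))).QuasiFiniteAt x := by
  let := Localization.AtPrime.algebraOfLiesOver (x.asIdeal.under A) x.asIdeal
  refine (RingHom.QuasiFinite.respectsIso.arrow_mk_iso_iff (Scheme.arrowStalkMapSpecIso ..)).2 ?_
  show (algebraMap (Localization.AtPrime (x.asIdeal.under A)) (Localization.AtPrime x.asIdeal)).QuasiFinite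
  exact RingHom.quasiFinite_algebraMap.2 (Algebra.QuasiFinite.of_restrictScalars A _ _)

theorem ptPt_SpecMap {A B : CommRingCat.{u}} (φ : A ⟶ B) (q : PrimeSpectrum B) (p : Ideal A) [p.IsPrime]
    (hp : p = q.asIdeal.comap φ.hom) (h : PT (Ideal.ResidueField.map p q.asIdeal φ.hom hp)) :
    PTPt (Spec.map φ) q := by
  subst hp
  have e := Groth.Agent.MorLib.WT.residueFieldMap_SpecMap φ q
  refine h.congr (Scheme.Spec.residueFieldIso A (q.comap φ.hom)).symm.commRingCatIsoToRingEquiv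
    (Scheme.Spec.residueFieldIso B q).symm.commRingCatIsoToRingEquiv fun x => ?_
  have e' : (Spec.map φ).residueFieldMap q = (Scheme.Spec.residueFieldIso A (q.comap φ.hom)).hom ≫
      CommRingCat.ofHom (Ideal.ResidueField.map (q.comap φ.hom).asIdeal q.asIdeal φ.hom rfl) ≫
        (Scheme.Spec.residueFieldIso B q).inv := by
    rw [← Category.assoc]
    exact ((Scheme.Spec.residueFieldIso B q).eq_comp_inv).mpr e
  rw [e']
  simp [Iso.commRingCatIsoToRingEquiv]
  congr 2
  exact (congr($((Scheme.Spec.residueFieldIso A (q.comap φ.hom)).inv_hom_id).hom x)).symm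

theorem smooth_mvPolynomial (R : Type u) [CommRing R] (n : ℕ) :
    SmoothOfRelativeDimension n (Spec.map (CommRingCat.ofHom (algebraMap R (MvPolynomial (Fin n) R)))) := by
  rw [HasRingHomProperty.Spec_iff (P := @SmoothOfRelativeDimension n)]
  refine RingHom.locally_of (RingHom.isStandardSmoothOfRelativeDimension_respectsIso) _ ?_
  show RingHom.IsStandardSmoothOfRelativeDimension n (algebraMap R (MvPolynomial (Fin n) R))
  rw [RingHom.isStandardSmoothOfRelativeDimension_algebraMap]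
  have := Groth.Agent.H23.GrassRep.isStandardSmooth_mvPolynomial R (Fin n)
  rwa [Nat.card_eq_fintype_card, Fintype.card_fin] at this

/-- Combining étale localisation of a quasi-finite point with the shrinking. -/
theorem of_quasiFinite {X₀ A S : Scheme.{u}} [IsAffine S] (f : X₀ ⟶ A) [LocallyOfFiniteType f] (str : A ⟶ S)
    (n : ℕ) [SmoothOfRelativeDimension n str] (x₀ : X₀) (hqf : f.QuasiFiniteAt x₀) (hpt : PTPt str (f x₀)) :
    ∃ (S' Y' X' : Scheme.{u}) (e : S' ⟶ S) (h : Y' ⟶ S') (π : X' ⟶ Y') (g : X' ⟶ X₀) (s' : S') (x' : X'),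
      IsAffine S' ∧ IsAffine Y' ∧ IsAffine X' ∧ Hens2.IsEtaleNbhd e s' (str (f x₀)) ∧ Hens2.IsEtaleNbhd g x' x₀ ∧
      g ≫ f ≫ str = π ≫ h ≫ e ∧ SmoothOfRelativeDimension n h ∧ GeometricallyIntegral h ∧ IsFinite π ∧
      h (π x') = s' ∧ (∀ z : X', π z = π x' → z = x') ∧ PTPt h (π x') := by
  obtain ⟨U, g, u, hu, V, v, hvV, hfin, hvu, huniq, hvx, hbij⟩ := MorLib.EEF.exists_elem_nbhd f x₀ hqf
  haveI := hu.etale
  obtain ⟨U₀, hU₀, huU₀, -⟩ := exists_isAffineOpen_mem_and_subset (x := u) (U := (⊤ : U.Opens)) trivial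
  haveI : IsAffine (U₀ : Scheme.{u}) := hU₀
  let u₀ : (U₀ : Scheme.{u}) := ⟨u, huU₀⟩
  let p := V.ι ≫ pullback.snd f g
  haveI : IsFinite p := hfin
  let p₀ := pullback.snd p U₀.ι
  haveI : IsFinite p₀ := inferInstanceAs (IsFinite (pullback.snd p U₀.ι))
  haveI : IsAffine (pullback p U₀.ι) := isAffine_of_isAffineHom p₀
  obtain ⟨v₀, hv₀, hv₀u, hv₀b, hv₀uniq⟩ := MorLib.EEF.exists_unique_point (IsPullback.of_hasPullback p U₀.ι)
    ⟨v, hvV⟩ u₀ (by show (V.ι ≫ pullback.snd f g) ⟨v, hvV⟩ = u; rw [Scheme.Hom.comp_apply]; exact hvu)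
    (ConcreteCategory.bijective_of_isIso (U₀.ι.residueFieldMap u₀))
  let g₀ := U₀.ι ≫ g
  have hg₀ : Hens2.IsEtaleNbhd g₀ u₀ (f x₀) := GC.isEtaleNbhd_comp hu (GC.isEtaleNbhd_openImmersion _ _ _ rfl)
  haveI := hg₀.etale
  haveI : SmoothOfRelativeDimension n (g₀ ≫ str) := by
    haveI : SmoothOfRelativeDimension 0 g₀ := inferInstance
    have := smoothOfRelativeDimension_comp (n := 0) (m := n) g₀ str
    rwa [zero_add] at this
  have hpt₀ : PTPt (g₀ ≫ str) u₀ := by
    refine PTPt.comp g₀ u₀ ?_ hg₀.residue_bijective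
    rw [show g₀ u₀ = f x₀ from hg₀.base_eq]
    exact hpt
  obtain ⟨S', Y', e, q, h', y', hS', hY', he, hq, hcomm, hsm, hgi⟩ :=
    exists_geomIntegral_nbhd (g₀ ≫ str) n u₀ hpt₀.sepPt
  haveI := hq.etale
  haveI := hY'
  let π := pullback.snd p₀ q
  haveI : IsFinite π := inferInstanceAs (IsFinite (pullback.snd p₀ q))
  haveI : IsAffine (pullback p₀ q) := isAffine_of_isAffineHom π
  obtain ⟨w, hw, hwy, hwb, hwuniq⟩ := MorLib.EEF.exists_unique_point (IsPullback.of_hasPullback p₀ q)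
    v₀ y' (hv₀u.trans hq.base_eq.symm) hq.residue_bijective
  let b := pullback.fst p U₀.ι ≫ V.ι ≫ pullback.fst f g
  haveI : Etale b := inferInstanceAs (Etale (pullback.fst p U₀.ι ≫ V.ι ≫ pullback.fst f g))
  have hbeq : b ≫ f = p₀ ≫ g₀ := by
    simp only [b, p₀, g₀, Category.assoc, pullback.condition]
    rw [← reassoc_of% (pullback.condition (f := p) (g := U₀.ι))]
    simp only [p, Category.assoc]
  have hb : Hens2.IsEtaleNbhd b v₀ x₀ := by
    refine GC.isEtaleNbhd_comp (g := V.ι ≫ pullback.fst f g) (u := ⟨v, hvV⟩) ?_ ⟨inferInstance, hv₀, hv₀b⟩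
    exact GC.isEtaleNbhd_comp ⟨inferInstance, hvx, hbij⟩ (GC.isEtaleNbhd_openImmersion _ _ _ rfl)
  refine ⟨S', Y', pullback p₀ q, e, h', π, pullback.fst p₀ q ≫ b, h' y', w, hS', hY', inferInstance, ?_,
    GC.isEtaleNbhd_comp hb ⟨inferInstance, hw, hwb⟩, ?_, hsm, hgi, inferInstance, by rw [hwy], ?_, ?_⟩
  · rw [show (g₀ ≫ str) u₀ = str (f x₀) by rw [Scheme.Hom.comp_apply]; exact congrArg str hg₀.base_eq] at he
    exact he
  · rw [Category.assoc, ← Category.assoc b, hbeq, hcomm, Category.assoc]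
    simp only [π, ← Category.assoc, pullback.condition]
  · intro z hz
    refine hwuniq z ?_ (hz.trans hwy)
    have h1 : p₀ (pullback.fst p₀ q z) = u₀ := by
      rw [← Scheme.Hom.comp_apply, pullback.condition, Scheme.Hom.comp_apply, show pullback.snd p₀ q z = y' from
        hz.trans hwy]
      exact hq.base_eq
    refine hv₀uniq _ ?_ h1
    have h2 : p (pullback.fst p U₀.ι (pullback.fst p₀ q z)) = u := by
      rw [← Scheme.Hom.comp_apply, pullback.condition, Scheme.Hom.comp_apply]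
      show U₀.ι (p₀ (pullback.fst p₀ q z)) = u
      rw [h1]
      rfl
    exact Subtype.ext (huniq _ (pullback.fst p U₀.ι (pullback.fst p₀ q z)).2 (by
      rw [← h2]; rfl))
  · rw [show π w = y' from hwy]
    refine PTPt.of_comp e y' ?_ he.residue_bijective
    rw [hcomm]
    refine PTPt.comp q y' ?_ hq.residue_bijective
    rw [show q y' = u₀ from hq.base_eq]
    exact hpt₀

/-- Local structure of a finite type algebra at a prime. -/
theorem locStr {R C : Type u} [CommRing R] [CommRing C] [Algebra R C] [Algebra.FiniteType R C]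
    (p : Ideal R) [p.IsPrime] (u : Ideal C) [u.IsPrime] (x : PrimeSpectrum (p.Fiber C))
    (hx : x.asIdeal.comap (Algebra.TensorProduct.includeRight : C →ₐ[R] p.Fiber C) = u) (n : ℕ)
    (hn : FlatMor.localDim (PrimeSpectrum (p.Fiber C)) x = n) :
    ∃ (S' Y' X' : Scheme.{u}) (e : S' ⟶ Spec (CommRingCat.of R)) (h : Y' ⟶ S') (π : X' ⟶ Y')
      (g : X' ⟶ Spec (CommRingCat.of C)) (s' : S') (x' : X'),
      IsAffine S' ∧ IsAffine Y' ∧ IsAffine X' ∧ Hens2.IsEtaleNbhd e s' (⟨p, ‹_›⟩ : PrimeSpectrum R) ∧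
      Hens2.IsEtaleNbhd g x' (⟨u, ‹_›⟩ : PrimeSpectrum C) ∧
      g ≫ Spec.map (CommRingCat.ofHom (algebraMap R C)) = π ≫ h ≫ e ∧
      SmoothOfRelativeDimension n h ∧ GeometricallyIntegral h ∧ IsFinite π ∧
      h (π x') = s' ∧ (∀ z : X', π z = π x' → z = x') ∧ PTPt h (π x') := by
  obtain ⟨c, hcu, φ, hφ⟩ := exists_noether p u x hx n hn
  letI := φ.toRingHom.toAlgebra
  let Cc := Localization.Away c
  haveI : IsScalarTower R (MvPolynomial (Fin n) R) Cc := .of_algebraMap_eq fun r => (φ.commutes r).symm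
  haveI : Algebra.FiniteType (MvPolynomial (Fin n) R) Cc := Algebra.FiniteType.of_restrictScalars_finiteType R _ _
  let j : Spec (CommRingCat.of Cc) ⟶ Spec (CommRingCat.of C) := Spec.map (CommRingCat.ofHom (algebraMap C Cc))
  haveI : IsOpenImmersion j := .of_isLocalization c
  obtain ⟨x₀, hx₀⟩ : (⟨u, ‹_›⟩ : PrimeSpectrum C) ∈ Set.range j := by
    show _ ∈ Set.range (PrimeSpectrum.comap (algebraMap C Cc))
    rw [PrimeSpectrum.localization_away_comap_range Cc c]
    exact hcu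
  have hu' : x₀.asIdeal.comap (algebraMap C Cc) = u := congrArg PrimeSpectrum.asIdeal hx₀
  obtain ⟨hqf, hyp, hpt⟩ := hφ x₀.asIdeal hu'
  haveI := hqf
  let f : Spec (CommRingCat.of Cc) ⟶ Spec (CommRingCat.of (MvPolynomial (Fin n) R)) :=
    Spec.map (CommRingCat.ofHom φ.toRingHom)
  haveI : LocallyOfFiniteType f := by
    rw [HasRingHomProperty.Spec_iff (P := @LocallyOfFiniteType)]
    exact RingHom.finiteType_algebraMap.2 ‹_›
  let str := Spec.map (CommRingCat.ofHom (algebraMap R (MvPolynomial (Fin n) R)))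
  haveI : SmoothOfRelativeDimension n str := smooth_mvPolynomial R n
  have hfs : f ≫ str = j ≫ Spec.map (CommRingCat.ofHom (algebraMap R C)) := by
    simp only [f, str, j, ← Spec.map_comp, ← CommRingCat.ofHom_comp]
    rw [← IsScalarTower.algebraMap_eq R C Cc]
    exact congrArg (fun ψ => Spec.map (CommRingCat.ofHom ψ)) φ.comp_algebraMap
  obtain ⟨S', Y', X', e, h, π, g, s', x', h1, h2, h3, he, hg, hcomm, h4, h5, h6, h7, h8, h9⟩ :=
    of_quasiFinite f str n x₀ (quasiFiniteAt_SpecMap x₀) (ptPt_SpecMap _ (f x₀) p hyp hpt)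
  have hs : str (f x₀) = (⟨p, ‹_›⟩ : PrimeSpectrum R) := PrimeSpectrum.ext hyp.symm
  rw [hs] at he
  exact ⟨S', Y', X', e, h, π, g ≫ j, s', x', h1, h2, h3, he,
    GC.isEtaleNbhd_comp (GC.isEtaleNbhd_openImmersion j x₀ _ hx₀) hg,
    by rw [Category.assoc, ← hfs, hcomm], h4, h5, h6, h7, h8, h9⟩

end Groth.Agent.RG
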