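import Groth.Agent.RG.LocStr
import Groth.Prelude.Def_FlatCA

/-!
# Local structure in ring terms
-/

set_option autoImplicit false
set_option linter.style.haveILetI false
set_option backward.isDefEq.respectTransparency false
set_option backward.isDefEq.respectTransparency.types false

open AlgebraicGeometry CategoryTheory CategoryTheory.Limits

namespace Groth.Agent.RG

universe u

theorem bijective_map_of_rfm {A B : CommRingCat.{u}} (φ : A ⟶ B) (q : PrimeSpectrum B)
    (h : Function.Bijective ((Spec.map φ).residueFieldMap q)) (p : Ideal A) [p.IsPrime]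
    (hp : p = q.asIdeal.comap φ.hom) : Function.Bijective (Ideal.ResidueField.map p q.asIdeal φ.hom hp) := by
  subst hp
  have e := Groth.Agent.MorLib.WT.residueFieldMap_SpecMap φ q
  let ψ := CommRingCat.ofHom (Ideal.ResidueField.map (q.comap φ.hom).asIdeal q.asIdeal φ.hom rfl)
  haveI : IsIso ((Spec.map φ).residueFieldMap q) := (ConcreteCategory.isIso_iff_bijective _).mpr h
  have e' : ψ = (Scheme.Spec.residueFieldIso A (q.comap φ.hom)).inv ≫ (Spec.map φ).residueFieldMap q ≫
      (Scheme.Spec.residueFieldIso B q).hom := by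
    rw [e, Iso.inv_hom_id_assoc]
  haveI : IsIso ψ := by rw [e']; infer_instance
  exact ConcreteCategory.bijective_of_isIso ψ

theorem pt_of_ptPt {A B : CommRingCat.{u}} (φ : A ⟶ B) (q : PrimeSpectrum B) (p : Ideal A) [p.IsPrime]
    (hp : p = q.asIdeal.comap φ.hom) (h : PTPt (Spec.map φ) q) :
    PT (Ideal.ResidueField.map p q.asIdeal φ.hom hp) := by
  subst hp
  have e := Groth.Agent.MorLib.WT.residueFieldMap_SpecMap φ q
  refine PT.congr h (Scheme.Spec.residueFieldIso A (q.comap φ.hom)).commRingCatIsoToRingEquiv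
    (Scheme.Spec.residueFieldIso B q).commRingCatIsoToRingEquiv fun x => ?_
  exact congr($(e).hom x)

theorem isEtaleNhd_of_scheme {A B : Type u} [CommRing A] [CommRing B] [Algebra A B] (p : Ideal A) [p.IsPrime]
    (q : Ideal B) [hq : q.IsPrime]
    (h : Hens2.IsEtaleNbhd (Spec.map (CommRingCat.ofHom (algebraMap A B))) (⟨q, hq⟩ : PrimeSpectrum B)
      (⟨p, ‹_›⟩ : PrimeSpectrum A)) : FlatCA.IsEtaleNhd A B p q := by
  have hp : p = q.comap (algebraMap A B) := (congrArg PrimeSpectrum.asIdeal h.base_eq).symm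
  refine ⟨RingHom.etale_algebraMap.mp (HasRingHomProperty.Spec_iff.mp h.etale), ⟨hp⟩, ?_⟩
  exact bijective_map_of_rfm (CommRingCat.ofHom (algebraMap A B)) (⟨q, hq⟩ : PrimeSpectrum B)
    h.residue_bijective p hp

theorem isEtaleNbhd_iso_right {U U' S : Scheme.{u}} {g : U ⟶ S} {u : U} {s : S} (h : Hens2.IsEtaleNbhd g u s)
    (i : U' ≅ U) : Hens2.IsEtaleNbhd (i.hom ≫ g) (i.inv u) s :=
  GC.isEtaleNbhd_comp h (GC.isEtaleNbhd_openImmersion i.hom (i.inv u) u
    (by rw [← Scheme.Hom.comp_apply, i.inv_hom_id]; rfl))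

theorem PTPt.comp_right {Y S S' : Scheme.{u}} {h : Y ⟶ S} (e : S ⟶ S') (y : Y) (hy : PTPt h y)
    (he : Function.Bijective (e.residueFieldMap (h y))) : PTPt (h ≫ e) y := by
  unfold PTPt at hy ⊢
  rw [Scheme.residueFieldMap_comp]
  refine hy.congr (RingEquiv.ofBijective (e.residueFieldMap (h y)).hom he).symm (RingEquiv.refl _) fun x => ?_
  show (h.residueFieldMap y).hom x =
    (h.residueFieldMap y).hom ((e.residueFieldMap (h y)).hom ((RingEquiv.ofBijective _ he).symm x))
  exact congrArg _ ((RingEquiv.ofBijective (e.residueFieldMap (h y)).hom he).apply_symm_apply x).symm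

/-- Local structure in ring terms. -/
theorem locStr_ring {R C : Type u} [CommRing R] [CommRing C] [Algebra R C] [Algebra.FiniteType R C]
    (p : Ideal R) [p.IsPrime] (u : Ideal C) [u.IsPrime] (x : PrimeSpectrum (p.Fiber C))
    (hx : x.asIdeal.comap (Algebra.TensorProduct.includeRight : C →ₐ[R] p.Fiber C) = u) (n : ℕ)
    (hn : FlatMor.localDim (PrimeSpectrum (p.Fiber C)) x = n) :
    ∃ (R' C' D : Type u) (_ : CommRing R') (_ : CommRing C') (_ : CommRing D) (_ : Algebra R R') (_ : Algebra C C')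
      (_ : Algebra R' D) (_ : Algebra D C') (p' : Ideal R') (z : Ideal C') (y : Ideal D) (_ : p'.IsPrime)
      (_ : z.IsPrime) (_ : y.IsPrime),
      (∀ r : R, algebraMap D C' (algebraMap R' D (algebraMap R R' r)) = algebraMap C C' (algebraMap R C r)) ∧
      FlatCA.IsEtaleNhd R R' p p' ∧ FlatCA.IsEtaleNhd C C' u z ∧ Module.Finite D C' ∧
      z.comap (algebraMap D C') = y ∧ (∀ (z₁ : Ideal C') [z₁.IsPrime], z₁.comap (algebraMap D C') = y → z₁ = z) ∧
      (∃ h : p' = y.comap (algebraMap R' D), PT (Ideal.ResidueField.map p' y (algebraMap R' D) h)) ∧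
      FlatCA.SmoothRelDim n R' D ∧ FlatCA.GeomIntegralFibres R' D := by
  obtain ⟨S', Y', X', e, h, π, g, s', x', hS, hY, hX, he, hg, hcomm, hsm, hgi, hfin, hhx, huniq, hpt⟩ :=
    locStr p u x hx n hn
  haveI := hS
  haveI := hY
  haveI := hX
  let εS := S'.isoSpec
  let εY := Y'.isoSpec
  let εX := X'.isoSpec
  obtain ⟨α, hα⟩ := Spec.map_surjective (εS.inv ≫ e)
  obtain ⟨β, hβ⟩ := Spec.map_surjective (εX.inv ≫ g)
  obtain ⟨γ, hγ⟩ := Spec.map_surjective (εY.inv ≫ h ≫ εS.hom)
  obtain ⟨δ, hδ⟩ := Spec.map_surjective (εX.inv ≫ π ≫ εY.hom)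
  have he' := isEtaleNbhd_iso_right he εS.symm
  have hg' := isEtaleNbhd_iso_right hg εX.symm
  simp only [Iso.symm_hom, Iso.symm_inv] at he' hg'
  rw [← hα] at he'
  rw [← hβ] at hg'
  let sp : PrimeSpectrum Γ(S', ⊤) := εS.hom s'
  let zp : PrimeSpectrum Γ(X', ⊤) := εX.hom x'
  let yp : PrimeSpectrum Γ(Y', ⊤) := εY.hom (π x')
  letI := α.hom.toAlgebra
  letI := β.hom.toAlgebra
  letI := γ.hom.toAlgebra
  letI := δ.hom.toAlgebra
  have hπ : ∀ w : PrimeSpectrum Γ(X', ⊤), Spec.map δ w = εY.hom (π (εX.inv w)) := fun w =>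
    (congrArg (fun k => k w) hδ).trans rfl
  have hh : ∀ w : PrimeSpectrum Γ(Y', ⊤), Spec.map γ w = εS.hom (h (εY.inv w)) := fun w =>
    (congrArg (fun k => k w) hγ).trans rfl
  have hXi : εX.inv (εX.hom x') = x' := by rw [← Scheme.Hom.comp_apply, εX.hom_inv_id]; rfl
  have hYi : εY.inv (εY.hom (π x')) = π x' := by rw [← Scheme.Hom.comp_apply, εY.hom_inv_id]; rfl
  refine ⟨Γ(S', ⊤), Γ(X', ⊤), Γ(Y', ⊤), inferInstance, inferInstance, inferInstance, α.hom.toAlgebra,
    β.hom.toAlgebra, γ.hom.toAlgebra, δ.hom.toAlgebra, sp.asIdeal, zp.asIdeal, yp.asIdeal, sp.2, zp.2, yp.2,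
    ?_, ?_, ?_, ?_, ?_, ?_, ?_, ?_, ?_⟩
  · intro r
    have h0 : α ≫ γ ≫ δ = CommRingCat.ofHom (algebraMap R C) ≫ β := by
      apply Spec.map_injective
      simp only [Spec.map_comp, hα, hβ, hγ, hδ, Category.assoc, hcomm, Iso.hom_inv_id_assoc]
    exact congr($(h0).hom r)
  · exact isEtaleNhd_of_scheme p sp.asIdeal he'
  · exact isEtaleNhd_of_scheme u zp.asIdeal hg'
  · have : IsFinite (Spec.map δ) := by
      rw [hδ]
      haveI := hfin
      infer_instance
    rw [IsFinite.SpecMap_iff] at this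
    exact RingHom.finite_algebraMap.mp this
  · have : Spec.map δ zp = yp := by
      rw [hπ]
      exact congrArg (fun w => εY.hom (π w)) hXi
    exact congrArg PrimeSpectrum.asIdeal this
  · intro z₁ hz₁ hz₁y
    let w : PrimeSpectrum Γ(X', ⊤) := ⟨z₁, hz₁⟩
    have h1 : εY.hom (π (εX.inv w)) = εY.hom (π x') := (hπ w).symm.trans (PrimeSpectrum.ext hz₁y)
    have h2 : π (εX.inv w) = π x' := εY.hom.homeomorph.injective h1
    have h4 : εX.hom (εX.inv w) = (w : ↥(Spec Γ(X', ⊤))) := by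
      rw [← Scheme.Hom.comp_apply, εX.inv_hom_id]
      rfl
    exact congrArg PrimeSpectrum.asIdeal (h4.symm.trans (congrArg εX.hom (huniq _ h2)))
  · have hγy : Spec.map γ yp = sp := by
      rw [hh]
      show εS.hom (h (εY.inv (εY.hom (π x')))) = εS.hom s'
      rw [hYi, hhx]
    have hp : sp.asIdeal = yp.asIdeal.comap γ.hom := (congrArg PrimeSpectrum.asIdeal hγy).symm
    refine ⟨hp, pt_of_ptPt γ yp sp.asIdeal hp ?_⟩
    rw [hγ]
    have hb : ∀ {A B : Scheme.{u}} (i : A ⟶ B) [IsIso i] (a : A), Function.Bijective (i.residueFieldMap a) :=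
      fun i _ a => ConcreteCategory.bijective_of_isIso (i.residueFieldMap a)
    refine PTPt.comp εY.inv yp ?_ (hb εY.inv _)
    show PTPt (h ≫ εS.hom) (εY.inv (εY.hom (π x')))
    rw [hYi]
    exact PTPt.comp_right εS.hom (π x') hpt (hb εS.hom _)
  · show SmoothOfRelativeDimension n (Spec.map γ)
    rw [hγ]
    haveI := hsm
    have h1 := smoothOfRelativeDimension_comp (n := n) (m := 0) h εS.hom
    rw [add_zero] at h1
    have h2 := smoothOfRelativeDimension_comp (n := 0) (m := n) εY.inv (h ≫ εS.hom)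
    rwa [zero_add] at h2
  · show GeometricallyIntegral (Spec.map γ)
    rw [hγ, GeometricallyIntegral.eq_geometrically]
    rw [GeometricallyIntegral.eq_geometrically] at hgi
    exact MorphismProperty.of_isPullback (P := geometrically IsIntegral)
      (IsPullback.of_horiz_isIso ⟨by simp⟩ : IsPullback εY.inv (εY.inv ≫ h ≫ εS.hom) h εS.inv) hgi

end Groth.Agent.RG
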