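import Groth.Agent.RG.DomFib
import Groth.Agent.GeomApprox.Basic
import Groth.Agent.FlatMisc.GeomRedConstr
import Groth.Agent.SrcDescent.FlatModelAlg

/-!
# Noetherian models of flat algebras with domain fibres
-/

set_option autoImplicit false
set_option linter.style.haveILetI false
set_option maxHeartbeats 1000000

universe u

open TensorProduct AlgebraicGeometry CategoryTheory CategoryTheory.Limits

namespace Groth.Agent.RG

/-- Geometrically integral fibres, from fibres that stay domains. -/
theorem geomIntegral_of_domFib {R S : Type u} [CommRing R] [CommRing S] [Algebra R S] (h : DomFib R S) :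
    GeometricallyIntegral (Spec.map (CommRingCat.ofHom (algebraMap R S))) := by
  refine ⟨fun K _ y Z fst snd hsq => ?_⟩
  obtain ⟨ψ, rfl⟩ := Spec.map_surjective y
  letI : Algebra R K := ψ.hom.toAlgebra
  haveI := h K
  haveI : IsDomain (S ⊗[R] K) := (Algebra.TensorProduct.comm R S K).toMulEquiv.isDomain (K ⊗[R] S)
  haveI : IsIntegral (Spec (CommRingCat.of (S ⊗[R] K))) := inferInstance
  have hsq' : IsPullback fst snd (Spec.map (CommRingCat.ofHom (algebraMap R S)))
      (Spec.map (CommRingCat.ofHom (algebraMap R K))) := hsq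
  let e : Z ≅ Spec (CommRingCat.of (S ⊗[R] K)) := hsq'.isoPullback ≪≫ pullbackSpecIso R S K
  haveI : Nonempty Z := ⟨e.inv.base (Classical.arbitrary _)⟩
  exact isIntegral_of_isOpenImmersion e.hom

/-- A finitely presented flat algebra with domain fibres has a model of finite type over `ℤ` of the same kind. -/
theorem exists_domFib_model (R S : Type u) [CommRing R] [CommRing S] [Algebra R S]
    [Algebra.FinitePresentation R S] [Module.Flat R S] (hd : DomFib R S) :
    ∃ (R₁ B₁ : Type u) (_ : CommRing R₁) (_ : Algebra R₁ R) (_ : IsNoetherianRing R₁) (_ : CommRing B₁)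
      (_ : Algebra R₁ B₁), Algebra.FinitePresentation R₁ B₁ ∧ Module.Flat R₁ B₁ ∧ DomFib R₁ B₁ ∧
      Nonempty (S ≃ₐ[R] R ⊗[R₁] B₁) := by
  obtain ⟨R₀, B₀, _, _, hR₀, hflat, hfp, ⟨e⟩⟩ := Groth.Agent.SrcDescent.exists_flat_model R S
  haveI := hflat; haveI := hfp
  let f₀ : Spec (.of B₀) ⟶ Spec (.of R₀) := Spec.map (CommRingCat.ofHom (algebraMap R₀ B₀))
  let π : Spec (.of R) ⟶ Spec (.of R₀) := Spec.map (CommRingCat.ofHom (algebraMap R₀ R))
  let f : Spec (.of (R ⊗[R₀] B₀)) ⟶ Spec (.of R) := Spec.map (CommRingCat.ofHom (algebraMap R (R ⊗[R₀] B₀)))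
  have hsq : IsPullback (Spec.map (CommRingCat.ofHom (Algebra.TensorProduct.includeRight (R := R₀) (A := R) (B := B₀)).toRingHom))
      f f₀ π := (isPullback_SpecMap_of_isPushout _ _ _ _ (CommRingCat.isPushout_tensorProduct R₀ R B₀)).flip
  haveI : GeometricallyIntegral f := geomIntegral_of_domFib fun K _ _ => by
    haveI := hd K
    exact (Algebra.TensorProduct.congr (AlgEquiv.refl (R := R) (A₁ := K)) e.symm).toMulEquiv.isDomain (K ⊗[R] S)
  haveI : LocallyOfFinitePresentation f₀ :=
    (HasRingHomProperty.Spec_iff (P := @LocallyOfFinitePresentation)).mpr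
      (RingHom.finitePresentation_algebraMap.mpr inferInstance)
  let φ : ℕ∞ → ℕ∞ → Prop := fun a _ => a = 1
  let E : Set (PrimeSpectrum R₀) := (GeomComp5.level φ f₀)ᶜ ∪ (FlatMisc.GeomRedConstr.locus f₀)ᶜ
  have hE : Topology.IsConstructible E :=
    (GeomComp5.isLocallyConstructible_level φ f₀).isConstructible.compl.union
      (FlatMisc.GeomRedConstr.isLocallyConstructible_locus f₀).isConstructible.compl
  have hpre : ∀ q : PrimeSpectrum R, PrimeSpectrum.comap (algebraMap R₀ R) q ∉ E := by
    rintro q (hq | hq)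
    · apply hq
      have h1 : q ∈ GeomComp5.level φ f :=
        ((GeomApprox.geometricallyIrreducible_iff_level f).1 inferInstance).ge (Set.mem_univ q)
      rw [GeomComp5.level_preimage φ hsq] at h1
      exact h1
    · apply hq
      have h1 : q ∈ FlatMisc.GeomRedConstr.locus f :=
        (inferInstance : GeometricallyReduced (f.fiberToSpecResidueField q))
      rw [FlatMisc.GeomRedConstr.locus_preimage hsq] at h1
      exact h1
  obtain ⟨R₁, hle, hR₁, hR₁q⟩ := GeomApprox.exists_subring_comap_ne R₀ hR₀ hE hpre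
  letI : Algebra R₀ R₁ := (Subalgebra.inclusion hle).toRingHom.toAlgebra
  haveI : IsScalarTower R₀ R₁ R := IsScalarTower.of_algebraMap_eq fun _ => rfl
  haveI : Algebra.FiniteType ℤ R₁ := (Subalgebra.fg_iff_finiteType R₁).1 hR₁
  haveI : IsNoetherianRing R₁ := Algebra.FiniteType.isNoetherianRing ℤ R₁
  let f₁ : Spec (.of (R₁ ⊗[R₀] B₀)) ⟶ Spec (.of R₁) := Spec.map (CommRingCat.ofHom (algebraMap R₁ (R₁ ⊗[R₀] B₀)))
  have hsq₁ : IsPullback (Spec.map (CommRingCat.ofHom (Algebra.TensorProduct.includeRight (R := R₀) (A := R₁) (B := B₀)).toRingHom))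
      f₁ f₀ (Spec.map (CommRingCat.ofHom (algebraMap R₀ R₁))) :=
    (isPullback_SpecMap_of_isPushout _ _ _ _ (CommRingCat.isPushout_tensorProduct R₀ R₁ B₀)).flip
  haveI : GeometricallyIrreducible f₁ := by
    refine (GeomApprox.geometricallyIrreducible_iff_level f₁).2 (Set.eq_univ_of_forall fun q => ?_)
    rw [GeomComp5.level_preimage φ hsq₁]
    exact not_not.1 fun h => hR₁q q (Or.inl h)
  haveI : GeometricallyReduced f₁ := by
    rw [GeometricallyReduced.eq_geometrically, geometrically_iff_forall_fiberToSpecResidueField]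
    intro q
    rw [← GeometricallyReduced.eq_geometrically]
    have h1 : q ∈ FlatMisc.GeomRedConstr.locus f₁ := by
      rw [FlatMisc.GeomRedConstr.locus_preimage hsq₁]
      exact not_not.1 fun h => hR₁q q (Or.inr h)
    exact h1
  haveI : GeometricallyIntegral f₁ := GeometricallyIntegral.of_geometricallyReduced_of_geometricallyIrreducible f₁
  exact ⟨↥R₁, R₁ ⊗[R₀] B₀, inferInstance, inferInstance, inferInstance, inferInstance, inferInstance, inferInstance,
    inferInstance, fun K _ _ => S1223.isDomain_tensor_field ‹GeometricallyIntegral f₁› K,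
    ⟨e.trans (Algebra.TensorProduct.cancelBaseChange R₀ R₁ R R B₀).symm⟩⟩

end Groth.Agent.RG
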