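import Groth.Agent.RG.NearModel

/-!
# The neighbourhood statement for algebras of finite type
-/

set_option autoImplicit false
set_option linter.style.haveILetI false
set_option linter.unusedSectionVars false
set_option backward.isDefEq.respectTransparency false
set_option maxHeartbeats 1600000

universe u

open TensorProduct IsLocalRing

namespace Groth.Agent.RG

attribute [local instance] Algebra.TensorProduct.rightAlgebra

/-- A model of the base change of `S`, with `P → S` surjective and `P` finitely presented, seen over a base change of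
`P`. -/
theorem near_presentation {R P S : Type u} [CommRing R] [CommRing P] [Algebra R P] [Algebra.FinitePresentation R P]
    [CommRing S] [Algebra R S] [Algebra P S] [IsScalarTower R P S] (hsurj : Function.Surjective (algebraMap P S))
    (N : Type u) [AddCommGroup N] [Module S N] [Module R N] [IsScalarTower R S N] [Module.Finite S N]
    (p : Ideal R) [p.IsPrime] (q : Ideal S) [q.IsPrime] [q.LiesOver p] (hflat : FlatCA.FlatAt R q N) :
    ∃ (R' : Type u) (_ : CommRing R') (_ : Algebra R R') (p' : Ideal R') (_ : p'.IsPrime), FlatCA.IsEtaleNhd R R' p p' ∧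
      ∀ (SA NA : Type u) [CommRing SA] [Algebra R SA] [Algebra S SA] [Algebra (Localization.AtPrime p') SA]
        [IsScalarTower R S SA] [IsScalarTower R (Localization.AtPrime p') SA]
        [Algebra.IsPushout R S (Localization.AtPrime p') SA]
        [AddCommGroup NA] [Module SA NA] [Module S NA] [IsScalarTower S SA NA]
        [Module (Localization.AtPrime p') NA] [IsScalarTower (Localization.AtPrime p') SA NA]
        (f : N →ₗ[S] NA), IsBaseChange SA f →
        ∃ (PA : Type u) (_ : CommRing PA) (_ : Algebra (Localization.AtPrime p') PA) (_ : Algebra PA SA)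
          (_ : IsScalarTower (Localization.AtPrime p') PA SA) (_ : Module PA NA) (_ : IsScalarTower PA SA NA) (g : PA),
          Algebra.FinitePresentation (Localization.AtPrime p') PA ∧ Function.Surjective (algebraMap PA SA) ∧
          (∀ (Q : Ideal SA) [Q.IsPrime], Q.LiesOver q → Q.LiesOver (maximalIdeal (Localization.AtPrime p')) →
            algebraMap PA SA g ∉ Q) ∧
          FPAt (Submonoid.powers g) NA ∧
          Module.Flat (Localization.AtPrime p') (LocalizedModule (Submonoid.powers (algebraMap PA SA g)) NA) := by
  letI : Module P N := Module.compHom N (algebraMap P S)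
  haveI : IsScalarTower P S N := IsScalarTower.of_algebraMap_smul fun _ _ => rfl
  haveI : IsScalarTower R P N := IsScalarTower.of_algebraMap_smul fun r n => by
    show algebraMap P S (algebraMap R P r) • n = r • n
    rw [← IsScalarTower.algebraMap_apply, algebraMap_smul]
  haveI : Module.Finite P S := Module.Finite.of_surjective (Algebra.linearMap P S) hsurj
  haveI : Module.Finite P N := Module.Finite.trans S N
  let q₀ : Ideal P := q.comap (algebraMap P S)
  haveI : q₀.LiesOver p := ⟨by
    rw [Ideal.under_def, Ideal.comap_comap, ← IsScalarTower.algebraMap_eq, ← Ideal.under_def]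
    exact Ideal.LiesOver.over⟩
  obtain ⟨R', _, _, p', _, hR', H⟩ :=
    near_model N p q₀ (near_of_flatAt N p q₀ ((flatAt_comap_iff hsurj q q₀ rfl).1 hflat))
  refine ⟨R', inferInstance, inferInstance, p', inferInstance, hR', ?_⟩
  intro SA NA _ _ _ _ _ _ hpush _ _ _ _ _ _ f hf
  let A := Localization.AtPrime p'
  let PA := A ⊗[R] P
  letI : Algebra P SA := ((algebraMap S SA).comp (algebraMap P S)).toAlgebra
  haveI : IsScalarTower P S SA := .of_algebraMap_eq' rfl
  haveI : IsScalarTower R P SA := IsScalarTower.of_algebraMap_eq fun a => by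
    rw [IsScalarTower.algebraMap_apply R S SA, IsScalarTower.algebraMap_apply R P S,
      ← IsScalarTower.algebraMap_apply P S SA]
  let φ : PA →ₐ[R] SA := Algebra.TensorProduct.lift (IsScalarTower.toAlgHom R A SA) (IsScalarTower.toAlgHom R P SA)
    fun _ _ => Commute.all _ _
  letI : Algebra PA SA := φ.toRingHom.toAlgebra
  haveI : IsScalarTower A PA SA := IsScalarTower.of_algebraMap_eq fun k => by
    show _ = φ (k ⊗ₜ[R] (1 : P))
    rw [Algebra.TensorProduct.lift_tmul, map_one, mul_one]
    rfl
  haveI : IsScalarTower P PA SA := IsScalarTower.of_algebraMap_eq fun s => by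
    show _ = φ ((1 : A) ⊗ₜ[R] s)
    rw [Algebra.TensorProduct.lift_tmul, map_one, one_mul]
    rfl
  haveI : Algebra.IsPushout R P A PA := (inferInstance : Algebra.IsPushout R A P PA).symm
  haveI hP : Algebra.IsPushout P S PA SA :=
    (Algebra.IsPushout.comp_iff (R := R) (S := P) (R' := A) (S' := PA) (T := S) (T' := SA)).1 hpush
  haveI := hP.symm
  letI : Module PA NA := Module.compHom NA (algebraMap PA SA)
  haveI : IsScalarTower PA SA NA := IsScalarTower.of_algebraMap_smul fun _ _ => rfl
  letI : Module P NA := Module.compHom NA (algebraMap P SA)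
  haveI : IsScalarTower P SA NA := IsScalarTower.of_algebraMap_smul fun _ _ => rfl
  haveI : IsScalarTower P PA NA := IsScalarTower.of_algebraMap_smul fun b x => by
    show algebraMap PA SA (algebraMap P PA b) • x = algebraMap P SA b • x
    rw [← IsScalarTower.algebraMap_apply]
  haveI : IsScalarTower P S NA := IsScalarTower.of_algebraMap_smul fun b x => by
    show algebraMap P S b • x = algebraMap P SA b • x
    rw [← algebraMap_smul SA (algebraMap P S b) x, ← IsScalarTower.algebraMap_apply]
  haveI : IsScalarTower A PA NA := IsScalarTower.of_algebraMap_smul (R := A) (A := PA) (M := NA) fun b x => by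
    show algebraMap PA SA (algebraMap A PA b) • x = b • x
    rw [← IsScalarTower.algebraMap_apply, algebraMap_smul]
  have hsurjA : Function.Surjective (algebraMap PA SA) := by
    intro x
    obtain ⟨t, rfl⟩ := (Algebra.IsPushout.equiv P PA S SA).surjective x
    induction t using TensorProduct.induction_on with
    | zero => exact ⟨0, by rw [map_zero, map_zero]⟩
    | add a b ha hb =>
      obtain ⟨a', ha'⟩ := ha
      obtain ⟨b', hb'⟩ := hb
      exact ⟨a' + b', by rw [map_add, map_add, ha', hb']⟩
    | tmul a b =>
      obtain ⟨b', rfl⟩ := hsurj b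
      refine ⟨a * algebraMap P PA b', ?_⟩
      rw [Algebra.IsPushout.equiv_tmul, map_mul, ← IsScalarTower.algebraMap_apply P PA SA,
        ← IsScalarTower.algebraMap_apply P S SA]
  let e₀ := Algebra.IsPushout.cancelBaseChange P PA S SA N
  have hbc : IsBaseChange PA (f.restrictScalars P) :=
    IsBaseChange.of_equiv (e₀.symm ≪≫ₗ hf.equiv.restrictScalars PA) fun n => by
      show hf.equiv (e₀.symm ((1 : PA) ⊗ₜ[P] n)) = f n
      rw [Algebra.IsPushout.cancelBaseChange_symm_tmul, map_one, hf.equiv_tmul, one_smul]
  haveI : Algebra.IsPushout R P A PA := inferInstance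
  obtain ⟨g, hg, hfp, hfl⟩ := H PA NA (f.restrictScalars P) hbc
  refine ⟨PA, inferInstance, inferInstance, inferInstance, inferInstance, inferInstance, inferInstance, g,
    inferInstance, hsurjA, fun Q _ hQq hQm hgQ => ?_, hfp, ?_⟩
  · refine hg (Q.comap (algebraMap PA SA)) ⟨?_⟩ ⟨?_⟩ hgQ
    · rw [Ideal.under_def, Ideal.comap_comap, ← IsScalarTower.algebraMap_eq, IsScalarTower.algebraMap_eq P S SA,
        ← Ideal.comap_comap, show Q.comap (algebraMap S SA) = q from hQq.over.symm]
    · rw [Ideal.under_def, Ideal.comap_comap, ← IsScalarTower.algebraMap_eq]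
      exact hQm.over
  · refine (flat_localized_restrict_iff (R := A) (S := PA) (C := SA) (Submonoid.powers g) _ ?_ ?_).2 hfl
    · rintro _ ⟨k, rfl⟩
      exact ⟨k, (map_pow _ _ _).symm⟩
    · rintro _ ⟨k, rfl⟩
      exact ⟨g ^ k, ⟨k, rfl⟩, by rw [map_pow]⟩

end Groth.Agent.RG

namespace Groth.Agent.RG

/-- A localisation of a quotient that is finitely presented as a module is a finitely presented algebra. -/
theorem finitePresentation_away {A P T : Type u} [CommRing A] [CommRing P] [Algebra A P] [Algebra.FinitePresentation A P]
    [CommRing T] [Algebra A T] [Algebra P T] [IsScalarTower A P T] (hsurj : Function.Surjective (algebraMap P T)) (g : P)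
    (h : FPAt (Submonoid.powers g) T) : Algebra.FinitePresentation A (Localization.Away (algebraMap P T g)) := by
  let TP := Localization.Away g
  let TS := Localization.Away (algebraMap P T g)
  haveI : IsLocalization (Algebra.algebraMapSubmonoid T (Submonoid.powers g)) TS := by
    rw [Algebra.algebraMapSubmonoid, Submonoid.map_powers]
    infer_instance
  letI : Algebra TP TS := (IsLocalization.lift (M := Submonoid.powers g) (g := algebraMap P TS) fun w => by
    obtain ⟨k, hk⟩ := w.2
    rw [IsScalarTower.algebraMap_apply P T TS, ← hk, map_pow, map_pow]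
    exact (IsLocalization.map_units TS (⟨algebraMap P T g, Submonoid.mem_powers _⟩ : Submonoid.powers (algebraMap P T g))).pow k).toAlgebra
  haveI : IsScalarTower P TP TS := IsScalarTower.of_algebraMap_eq fun s => (IsLocalization.lift_eq _ s).symm
  haveI : Algebra.IsPushout P TP T TS := (Algebra.isPushout_of_isLocalization (Submonoid.powers g) TP T TS).symm
  haveI : Module.FinitePresentation TP (TP ⊗[P] T) := h
  haveI : Module.FinitePresentation TP TS :=
    Module.FinitePresentation.of_equiv (Algebra.IsPushout.equiv P TP T TS).toLinearEquiv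
  have hsurj' : Function.Surjective (algebraMap TP TS) := by
    intro x
    obtain ⟨⟨b, ⟨_, k, rfl⟩⟩, hx⟩ := IsLocalization.surj (Submonoid.powers (algebraMap P T g)) x
    obtain ⟨b', rfl⟩ := hsurj b
    refine ⟨IsLocalization.mk' TP b' (⟨g ^ k, k, rfl⟩ : Submonoid.powers g), ?_⟩
    have hu : IsUnit (algebraMap T TS (algebraMap P T g ^ k)) :=
      IsLocalization.map_units TS (⟨_, k, rfl⟩ : Submonoid.powers (algebraMap P T g))
    apply hu.mul_left_inj.1
    refine Eq.trans ?_ hx.symm
    rw [← map_pow, ← IsScalarTower.algebraMap_apply P T TS, IsScalarTower.algebraMap_apply P TP TS, ← map_mul,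
      IsLocalization.mk'_spec, ← IsScalarTower.algebraMap_apply P TP TS, IsScalarTower.algebraMap_apply P T TS]
  haveI : IsScalarTower A TP TS := IsScalarTower.of_algebraMap_eq fun a => by
    rw [IsScalarTower.algebraMap_apply A P TP, ← IsScalarTower.algebraMap_apply P TP TS,
      IsScalarTower.algebraMap_apply P T TS, ← IsScalarTower.algebraMap_apply A P T, ← IsScalarTower.algebraMap_apply A T TS]
  haveI : Algebra.FinitePresentation P TP := IsLocalization.Away.finitePresentation g
  haveI : Algebra.FinitePresentation A TP := Algebra.FinitePresentation.trans A P TP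
  exact Algebra.FinitePresentation.of_surjective (f := IsScalarTower.toAlgHom A TP TS) hsurj'
    (Module.FinitePresentation.fg_ker (Algebra.linearMap TP TS) hsurj')

end Groth.Agent.RG
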