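import Groth.Agent.RG.NearFT
import Groth.Agent.RG.EtaleBC

/-!
# Flatness and finite presentation along a fibre after an étale localisation of the base
-/

set_option autoImplicit false
set_option linter.style.haveILetI false
set_option linter.unusedSectionVars false
set_option backward.isDefEq.respectTransparency false
set_option maxHeartbeats 1600000

universe u

open TensorProduct IsLocalRing

namespace Groth.Agent.RG

attribute [local instance] Algebra.TensorProduct.rightAlgebra

/-- Two étale neighbourhoods of a point have a common refinement. -/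
theorem exists_etaleNhd_common {R Ra Rb : Type u} [CommRing R] [CommRing Ra] [CommRing Rb] [Algebra R Ra] [Algebra R Rb]
    {p : Ideal R} [p.IsPrime] {pa : Ideal Ra} [pa.IsPrime] {pb : Ideal Rb} [pb.IsPrime]
    (ha : FlatCA.IsEtaleNhd R Ra p pa) (hb : FlatCA.IsEtaleNhd R Rb p pb) :
    ∃ (P : Ideal (Ra ⊗[R] Rb)) (_ : P.IsPrime), FlatCA.IsEtaleNhd R (Ra ⊗[R] Rb) p P ∧
      P.comap (Algebra.TensorProduct.includeLeft : Ra →ₐ[R] Ra ⊗[R] Rb) = pa ∧
      P.comap (Algebra.TensorProduct.includeRight : Rb →ₐ[R] Ra ⊗[R] Rb) = pb := by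
  haveI := ha.1
  haveI := hb.1
  haveI hob : pb.LiesOver p := hb.2.1
  haveI hoa : pa.LiesOver p := ha.2.1
  obtain ⟨P, hP, h1, h2⟩ := exists_prime_baseChange ha pb
  haveI hPa : P.LiesOver pa := ⟨h1.symm⟩
  haveI ho : P.LiesOver p := Ideal.LiesOver.trans P pa p
  haveI : Algebra.Etale R (Ra ⊗[R] Rb) := Algebra.Etale.comp R Ra (Ra ⊗[R] Rb)
  refine ⟨P, hP, ⟨inferInstance, ho, RingHom.injective (Ideal.ResidueField.mapₐ p P (Algebra.ofId R _) ho.over).toRingHom, ?_⟩,
    h1, h2⟩
  intro z
  let ρ := Ideal.ResidueField.mapₐ p P (Algebra.ofId R (Ra ⊗[R] Rb)) ho.over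
  have hρ : ∀ c : R, ρ (algebraMap R p.ResidueField c) = algebraMap (Ra ⊗[R] Rb) P.ResidueField (algebraMap R _ c) :=
    fun c => Ideal.ResidueField.map_algebraMap p P (Algebra.ofId R (Ra ⊗[R] Rb)).toRingHom ho.over c
  have hne : ∀ b : R, b ∉ p → algebraMap R p.ResidueField b ≠ 0 := fun b hb h =>
    hb (Ideal.algebraMap_residueField_eq_zero.1 h)
  have key : ∀ t : Ra ⊗[R] Rb, ∃ c, ρ c = algebraMap (Ra ⊗[R] Rb) P.ResidueField t := by
    intro t
    obtain ⟨b, hbp, x, hx⟩ := exists_mul_sub_mem_map ha t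
    obtain ⟨d, c, hcp, hc⟩ := exists_mul_sub_mem hb x
    have hx' : algebraMap (Ra ⊗[R] Rb) P.ResidueField (algebraMap R _ b * t - (1 : Ra) ⊗ₜ[R] x) = 0 :=
      Ideal.algebraMap_residueField_eq_zero.2 ((Ideal.map_le_iff_le_comap.2 h1.ge) hx)
    have hc' : algebraMap (Ra ⊗[R] Rb) P.ResidueField ((1 : Ra) ⊗ₜ[R] (algebraMap R Rb c * x - algebraMap R Rb d)) = 0 :=
      Ideal.algebraMap_residueField_eq_zero.2 (h2.ge hc)
    refine ⟨algebraMap R p.ResidueField d / (algebraMap R p.ResidueField b * algebraMap R p.ResidueField c), ?_⟩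
    rw [map_div₀, map_mul, div_eq_iff (mul_ne_zero ((map_ne_zero ρ).2 (hne b hbp)) ((map_ne_zero ρ).2 (hne c hcp))),
      hρ, hρ, hρ]
    have e : ∀ r : R, (1 : Ra) ⊗ₜ[R] algebraMap R Rb r = algebraMap R (Ra ⊗[R] Rb) r := fun r =>
      (Algebra.TensorProduct.includeRight : Rb →ₐ[R] Ra ⊗[R] Rb).commutes r
    have e' : (1 : Ra) ⊗ₜ[R] (algebraMap R Rb c * x) = algebraMap R (Ra ⊗[R] Rb) c * ((1 : Ra) ⊗ₜ[R] x) := by
      rw [← e, Algebra.TensorProduct.tmul_mul_tmul, one_mul]
    rw [TensorProduct.tmul_sub, map_sub, sub_eq_zero, e, e', map_mul] at hc'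
    rw [map_sub, sub_eq_zero, map_mul] at hx'
    rw [← hc', ← hx']
    ring
  obtain ⟨a, b, hb0, rfl⟩ := IsFractionRing.div_surjective ((Ra ⊗[R] Rb) ⧸ P) z
  obtain ⟨a, rfl⟩ := Ideal.Quotient.mk_surjective a
  obtain ⟨b, rfl⟩ := Ideal.Quotient.mk_surjective b
  obtain ⟨ca, hca⟩ := key a
  obtain ⟨cb, hcb⟩ := key b
  refine ⟨ca / cb, ?_⟩
  show ρ (ca / cb) = _
  rw [map_div₀, hca, hcb, Ideal.algebraMap_quotient_residueField_mk, Ideal.algebraMap_quotient_residueField_mk]

/-- Finitely many étale neighbourhoods of a point have a common refinement. -/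
theorem exists_etaleNhd_refine {R : Type u} [CommRing R] (p : Ideal R) [p.IsPrime] {ι : Type*} (T : Finset ι)
    (R₂ : ι → Type u) [∀ i, CommRing (R₂ i)] [∀ i, Algebra R (R₂ i)] (p₂ : ∀ i, Ideal (R₂ i)) [∀ i, (p₂ i).IsPrime]
    (h : ∀ i, FlatCA.IsEtaleNhd R (R₂ i) p (p₂ i)) :
    ∃ (R' : Type u) (_ : CommRing R') (_ : Algebra R R') (p' : Ideal R') (_ : p'.IsPrime), FlatCA.IsEtaleNhd R R' p p' ∧
      ∀ i ∈ T, ∃ ψ : R₂ i →ₐ[R] R', p'.comap ψ = p₂ i := by
  classical
  induction T using Finset.induction with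
  | empty => exact ⟨R, inferInstance, inferInstance, p, inferInstance, isEtaleNhd_refl R p, by simp⟩
  | insert i T _ ih =>
    obtain ⟨R', _, _, p', _, hR', hψ⟩ := ih
    obtain ⟨P, _, hP, h1, h2⟩ := exists_etaleNhd_common (h i) hR'
    refine ⟨R₂ i ⊗[R] R', inferInstance, inferInstance, P, inferInstance, hP, fun j hj => ?_⟩
    rcases Finset.mem_insert.1 hj with rfl | hj
    · exact ⟨Algebra.TensorProduct.includeLeft, h1⟩
    · obtain ⟨ψ, hψ⟩ := hψ j hj
      exact ⟨Algebra.TensorProduct.includeRight.comp ψ, by rw [← hψ, ← h2]; rfl⟩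

/-- One neighbourhood serves every refinement. -/
theorem near_local {R S : Type u} [CommRing R] [CommRing S] [Algebra R S] (N : Type u) [AddCommGroup N] [Module S N]
    (p : Ideal R) [p.IsPrime] (q : Ideal S) (h : Near R S N p q) :
    ∃ (R₂ : Type u) (_ : CommRing R₂) (_ : Algebra R R₂) (p₂ : Ideal R₂) (_ : p₂.IsPrime) (x : S),
      FlatCA.IsEtaleNhd R R₂ p p₂ ∧ x ∉ q ∧
      ∀ (R' : Type u) [CommRing R'] [Algebra R R'] (p' : Ideal R') [p'.IsPrime] [Algebra.Etale R R'] (ψ : R₂ →ₐ[R] R'),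
        p'.comap ψ = p₂ →
      ∀ (SA NA : Type u) [CommRing SA] [Algebra R SA] [Algebra S SA] [Algebra (Localization.AtPrime p') SA]
        [IsScalarTower R S SA] [IsScalarTower R (Localization.AtPrime p') SA]
        [Algebra.IsPushout R S (Localization.AtPrime p') SA]
        [AddCommGroup NA] [Module SA NA] [Module S NA] [IsScalarTower S SA NA]
        [Module (Localization.AtPrime p') NA] [IsScalarTower (Localization.AtPrime p') SA NA]
        (f : N →ₗ[S] NA), IsBaseChange SA f →
        ∃ g : SA, (∀ (Q : Ideal SA) [Q.IsPrime], Q.LiesOver (maximalIdeal (Localization.AtPrime p')) →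
            algebraMap S SA x ∉ Q → g ∉ Q) ∧
          FPAt (Submonoid.powers g) NA ∧
          Module.Flat (Localization.AtPrime p') (LocalizedModule (Submonoid.powers g) NA) := by
  obtain ⟨R₂, _, _, p₂, _, q₂, _, hR, h1, h2, g, hg, hflat, hfp⟩ := h
  obtain ⟨b, hb, x, hbx⟩ := exists_mul_sub_mem_map hR g
  have hxq : x ∉ q := by
    intro hxq
    have hb2 : algebraMap R (R₂ ⊗[R] S) b * g ∈ q₂ := by
      have h3 := q₂.add_mem ((Ideal.map_le_iff_le_comap.2 h1.ge) hbx) (h2.ge hxq : algebraMap S (R₂ ⊗[R] S) x ∈ q₂)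
      rwa [show algebraMap S (R₂ ⊗[R] S) x = (1 : R₂) ⊗ₜ[R] x from rfl, sub_add_cancel] at h3
    refine ((inferInstance : q₂.IsPrime).mem_or_mem hb2).elim (fun h => hb ?_) hg
    rw [IsScalarTower.algebraMap_apply R R₂ (R₂ ⊗[R] S), ← Ideal.mem_comap, h1] at h
    exact (SetLike.ext_iff.1 hR.2.1.over b).2 h
  refine ⟨R₂, inferInstance, inferInstance, p₂, inferInstance, x, hR, hxq, ?_⟩
  intro R' _ _ p' _ _ ψ hψ SA NA _ _ _ _ _ _ hpush _ _ _ _ _ _ f hf
  let A := Localization.AtPrime p'
  letI : Algebra R₂ R' := ψ.toRingHom.toAlgebra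
  haveI : IsScalarTower R R₂ R' := IsScalarTower.of_algebraMap_eq fun r => (ψ.commutes r).symm
  haveI : IsScalarTower R₂ R' A := inferInstance
  haveI : IsScalarTower R R₂ A := IsScalarTower.of_algebraMap_eq fun r => by
    rw [IsScalarTower.algebraMap_apply R₂ R' A, ← IsScalarTower.algebraMap_apply R R₂ R',
      ← IsScalarTower.algebraMap_apply R R' A]
  haveI := hR.1
  haveI : Algebra.FormallyEtale R₂ R' := Algebra.FormallyEtale.of_restrictScalars (R := R)
  haveI : Algebra.FinitePresentation R₂ R' := Algebra.FinitePresentation.of_restrict_scalars_finitePresentation R _ _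
  haveI : Algebra.Etale R₂ R' := ⟨inferInstance, inferInstance⟩
  letI : Algebra R₂ SA := ((algebraMap A SA).comp (algebraMap R₂ A)).toAlgebra
  haveI : IsScalarTower R₂ A SA := .of_algebraMap_eq' rfl
  haveI : IsScalarTower R R₂ SA := IsScalarTower.of_algebraMap_eq fun a => by
    rw [IsScalarTower.algebraMap_apply R A SA, IsScalarTower.algebraMap_apply R R₂ A,
      ← IsScalarTower.algebraMap_apply R₂ A SA]
  let S₂ := R₂ ⊗[R] S
  let φ : S₂ →ₐ[R] SA := Algebra.TensorProduct.lift (IsScalarTower.toAlgHom R R₂ SA) (IsScalarTower.toAlgHom R S SA)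
    fun _ _ => Commute.all _ _
  letI : Algebra S₂ SA := φ.toRingHom.toAlgebra
  haveI : IsScalarTower R₂ S₂ SA := IsScalarTower.of_algebraMap_eq fun k => by
    show _ = φ (k ⊗ₜ[R] (1 : S))
    rw [Algebra.TensorProduct.lift_tmul, map_one, mul_one]
    rfl
  haveI : IsScalarTower S S₂ SA := IsScalarTower.of_algebraMap_eq fun s => by
    show _ = φ ((1 : R₂) ⊗ₜ[R] s)
    rw [Algebra.TensorProduct.lift_tmul, map_one, one_mul]
    rfl
  haveI : Algebra.IsPushout R A S SA := hpush.symm
  haveI hloc : Algebra.IsPushout R₂ A S₂ SA :=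
    (Algebra.IsPushout.comp_iff (R := R) (S := R₂) (R' := S) (S' := S₂) (T := A) (T' := SA)).1 inferInstance
  haveI := hloc.symm
  haveI : Module.Flat R' A := IsLocalization.flat A p'.primeCompl
  haveI : Module.Flat R₂ A := Module.Flat.trans R₂ R' A
  haveI : Module.Flat S₂ SA := Module.Flat.of_linearEquiv (Algebra.IsPushout.equiv R₂ S₂ A SA).symm.toLinearEquiv
  letI : Module R₂ NA := Module.compHom NA (algebraMap R₂ SA)
  haveI : IsScalarTower R₂ SA NA := IsScalarTower.of_algebraMap_smul fun _ _ => rfl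
  haveI : IsScalarTower R₂ A NA := IsScalarTower.of_algebraMap_smul fun r x => by
    rw [← algebraMap_smul SA (algebraMap R₂ A r) x, ← IsScalarTower.algebraMap_apply]
    rfl
  let e : (SA ⊗[S₂] (S₂ ⊗[S] N)) ≃ₗ[SA] NA :=
    AlgebraTensorModule.cancelBaseChange S S₂ SA SA N ≪≫ₗ hf.equiv
  have hu : ∀ a : R₂, a ∉ p₂ → IsUnit (algebraMap R₂ SA a) := fun a ha => by
    rw [IsScalarTower.algebraMap_apply R₂ A SA]
    exact (IsLocalization.map_units A (⟨algebraMap R₂ R' a, fun h => ha (hψ ▸ h : a ∈ p₂)⟩ : p'.primeCompl)).map _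
  let g' := algebraMap S₂ SA g
  refine ⟨g', fun Q _ hQm hxQ hgQ => hxQ ?_, ?_, ?_⟩
  · have hQ2 : (p₂.map (algebraMap R₂ S₂)) ≤ Q.comap (algebraMap S₂ SA) := by
      rw [Ideal.map_le_iff_le_comap, Ideal.comap_comap, ← IsScalarTower.algebraMap_eq, IsScalarTower.algebraMap_eq R₂ A SA,
        ← Ideal.comap_comap, show Q.comap (algebraMap A SA) = maximalIdeal A from hQm.over.symm]
      intro a ha
      show algebraMap R₂ A a ∈ maximalIdeal A
      rw [IsScalarTower.algebraMap_apply R₂ R' A]
      exact (IsLocalization.AtPrime.to_map_mem_maximal_iff A p' _).2 (hψ.ge ha)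
    have h1 := Q.sub_mem (Q.mul_mem_left (algebraMap S₂ SA (algebraMap R S₂ b)) hgQ) (hQ2 hbx)
    rw [show g' = algebraMap S₂ SA g from rfl, ← map_mul, map_sub, sub_sub_cancel] at h1
    show algebraMap S SA x ∈ Q
    rw [IsScalarTower.algebraMap_apply S S₂ SA]
    exact h1
  · refine (hfp.baseChange (S' := SA) (V := Submonoid.powers g') fun w hw => ?_).congr e
    obtain ⟨a, ha, k, rfl⟩ := (mem_nb p₂).1 hw
    rw [map_mul, map_pow, ← IsScalarTower.algebraMap_apply R₂ S₂, IsScalarTower.algebraMap_apply R₂ SA (Localization (Submonoid.powers g')),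
      IsScalarTower.algebraMap_apply S₂ SA (Localization (Submonoid.powers g'))]
    exact ((hu a ha).map _).mul ((IsLocalization.map_units _ (⟨g', Submonoid.mem_powers g'⟩ : Submonoid.powers g')).pow k)
  · haveI : Algebra.FormallyUnramified R' A := Algebra.FormallyUnramified.of_isLocalization p'.primeCompl
    haveI : Algebra.FormallyUnramified R₂ A := Algebra.FormallyUnramified.comp R₂ R' A
    haveI : Algebra.EssFiniteType R' A := Algebra.EssFiniteType.of_isLocalization A p'.primeCompl
    haveI : Algebra.EssFiniteType R₂ A := Algebra.EssFiniteType.comp R₂ R' A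
    haveI : Module.Flat R₂ (LocalizedModule (Submonoid.powers g') NA) := ?_
    exact Algebra.FormallyUnramified.flat_of_restrictScalars R₂ A (LocalizedModule (Submonoid.powers g') NA)
    refine flat_localized_of_forall (R := R₂) (Submonoid.powers g') fun Q _ hQ => flatAt_congr (R := R₂) Q e ?_
    refine flat_localized_baseChange (R := R₂) (S := S₂) (S' := SA) (W := nb p₂ S₂ g) (V := Q.primeCompl)
      (fun w hw hwQ => ?_) hflat
    obtain ⟨a, ha, k, rfl⟩ := (mem_nb p₂).1 hw
    rw [map_mul, map_pow, ← IsScalarTower.algebraMap_apply R₂ S₂] at hwQ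
    rcases (inferInstance : Q.IsPrime).mem_or_mem hwQ with h' | h'
    · exact (inferInstance : Q.IsPrime).ne_top (Q.eq_top_of_isUnit_mem h' (hu a ha))
    · exact Set.disjoint_left.1 hQ (⟨k, rfl⟩ : g' ^ k ∈ Submonoid.powers g') h'


/-- Along the fibre, for a finitely presented algebra. -/
theorem near_fibre {R S : Type u} [CommRing R] [CommRing S] [Algebra R S] [Algebra.FinitePresentation R S]
    (N : Type u) [AddCommGroup N] [Module S N] [Module R N] [IsScalarTower R S N] [Module.Finite S N]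
    (p : Ideal R) [p.IsPrime] (hflat : ∀ (q : Ideal S) [q.IsPrime], q.LiesOver p → FlatCA.FlatAt R q N) :
    ∃ (R' : Type u) (_ : CommRing R') (_ : Algebra R R') (p' : Ideal R') (_ : p'.IsPrime), FlatCA.IsEtaleNhd R R' p p' ∧
      ∀ (SA NA : Type u) [CommRing SA] [Algebra R SA] [Algebra S SA] [Algebra (Localization.AtPrime p') SA]
        [IsScalarTower R S SA] [IsScalarTower R (Localization.AtPrime p') SA]
        [Algebra.IsPushout R S (Localization.AtPrime p') SA]
        [AddCommGroup NA] [Module SA NA] [Module S NA] [IsScalarTower S SA NA]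
        [Module (Localization.AtPrime p') NA] [IsScalarTower (Localization.AtPrime p') SA NA]
        (f : N →ₗ[S] NA), IsBaseChange SA f →
        ∀ (Q : Ideal SA) [Q.IsPrime], Q.LiesOver (maximalIdeal (Localization.AtPrime p')) →
        ∃ g : SA, g ∉ Q ∧ FPAt (Submonoid.powers g) NA ∧
          Module.Flat (Localization.AtPrime p') (LocalizedModule (Submonoid.powers g) NA) := by
  classical
  have hloc : ∀ x : {q : Ideal S // q.IsPrime ∧ q.LiesOver p}, Near R S N p x.1 := fun x =>
    haveI := x.2.1; haveI := x.2.2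
    near_of_flatAt N p x.1 (hflat x.1 x.2.2)
  choose R₂ i₁ i₂ p₂ i₃ x hR₂ hx H using fun q : {q : Ideal S // q.IsPrime ∧ q.LiesOver p} => near_local N p q.1 (hloc q)
  let ι : S →+* p.Fiber S := (Algebra.TensorProduct.includeRight : S →ₐ[R] p.Fiber S).toRingHom
  have hover : ∀ M : Ideal (p.Fiber S), M.IsPrime → (M.comap ι).LiesOver p := fun M hM =>
    haveI := hM; ((PrimeSpectrum.primesOverOrderIsoFiber R S p).symm ⟨M, hM⟩).2.2
  have htop : Ideal.span (Set.range fun q => ι (x q)) = ⊤ := by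
    by_contra hne
    obtain ⟨M, hM, hle⟩ := Ideal.exists_le_maximal _ hne
    exact hx ⟨M.comap ι, Ideal.IsPrime.comap _, hover M hM.isPrime⟩ (hle (Ideal.subset_span ⟨_, rfl⟩))
  obtain ⟨T, hT, h1T⟩ := Submodule.mem_span_finite_of_mem_span (htop ▸ Submodule.mem_top : (1 : p.Fiber S) ∈ _)
  obtain ⟨T', -, hT'⟩ := Finset.subset_set_image_iff.1 (hT.trans (Set.image_univ (f := fun q => ι (x q))).ge)
  obtain ⟨R', _, _, p', _, hR', hψ⟩ := exists_etaleNhd_refine p T' R₂ p₂ hR₂
  haveI := hR'.1
  refine ⟨R', inferInstance, inferInstance, p', inferInstance, hR', ?_⟩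
  intro SA NA _ _ _ _ _ _ _ _ _ _ _ _ _ f hf Q _ hQ
  haveI hq₁ : (Q.comap (algebraMap S SA)).LiesOver p := ⟨by
    rw [Ideal.under_def, Ideal.comap_comap, ← IsScalarTower.algebraMap_eq,
      IsScalarTower.algebraMap_eq R (Localization.AtPrime p') SA, ← Ideal.comap_comap,
      show Q.comap (algebraMap (Localization.AtPrime p') SA) = maximalIdeal _ from hQ.over.symm,
      IsScalarTower.algebraMap_eq R R' (Localization.AtPrime p'), ← Ideal.comap_comap,
      show (maximalIdeal (Localization.AtPrime p')).comap (algebraMap R' (Localization.AtPrime p')) = p' from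
        IsLocalization.AtPrime.comap_maximalIdeal (Localization.AtPrime p') p']
    exact hR'.2.1.over⟩
  let r := PrimeSpectrum.primesOverOrderIsoFiber R S p ⟨Q.comap (algebraMap S SA), inferInstance, hq₁⟩
  have hr : r.asIdeal.comap ι = Q.comap (algebraMap S SA) :=
    congr($((PrimeSpectrum.primesOverOrderIsoFiber R S p).symm_apply_apply ⟨Q.comap (algebraMap S SA), inferInstance, hq₁⟩).1)
  obtain ⟨q, hq, hxQ⟩ : ∃ q ∈ T', algebraMap S SA (x q) ∉ Q := by
    by_contra hne
    push Not at hne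
    refine r.isPrime.ne_top ((Ideal.eq_top_iff_one _).2 ?_)
    refine (Submodule.span_le.2 ?_) h1T
    intro z hz
    rw [← hT', Finset.coe_image] at hz
    obtain ⟨q, hq, rfl⟩ := hz
    exact (hr.ge (hne q hq) : ι (x q) ∈ r.asIdeal)
  obtain ⟨ψ, hψ⟩ := hψ q hq
  obtain ⟨g, hg, h1, h2⟩ := H q R' p' ψ hψ SA NA f hf
  exact ⟨g, hg Q hQ hxQ, h1, h2⟩

/-- Along the fibre, for an algebra of finite type. -/
theorem near_fibre_presentation {R P S : Type u} [CommRing R] [CommRing P] [Algebra R P] [Algebra.FinitePresentation R P]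
    [CommRing S] [Algebra R S] [Algebra P S] [IsScalarTower R P S] (hsurj : Function.Surjective (algebraMap P S))
    (N : Type u) [AddCommGroup N] [Module S N] [Module R N] [IsScalarTower R S N] [Module.Finite S N]
    (p : Ideal R) [p.IsPrime] (hflat : ∀ (q : Ideal S) [q.IsPrime], q.LiesOver p → FlatCA.FlatAt R q N) :
    ∃ (R' : Type u) (_ : CommRing R') (_ : Algebra R R') (p' : Ideal R') (_ : p'.IsPrime), FlatCA.IsEtaleNhd R R' p p' ∧
      ∀ (SA NA : Type u) [CommRing SA] [Algebra R SA] [Algebra S SA] [Algebra (Localization.AtPrime p') SA]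
        [IsScalarTower R S SA] [IsScalarTower R (Localization.AtPrime p') SA]
        [Algebra.IsPushout R S (Localization.AtPrime p') SA]
        [AddCommGroup NA] [Module SA NA] [Module S NA] [IsScalarTower S SA NA]
        [Module (Localization.AtPrime p') NA] [IsScalarTower (Localization.AtPrime p') SA NA]
        (f : N →ₗ[S] NA), IsBaseChange SA f →
        ∀ (Q : Ideal SA) [Q.IsPrime], Q.LiesOver (maximalIdeal (Localization.AtPrime p')) →
        ∃ g : SA, g ∉ Q ∧ Module.Flat (Localization.AtPrime p') (LocalizedModule (Submonoid.powers g) NA) := by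
  letI : Module P N := Module.compHom N (algebraMap P S)
  haveI : IsScalarTower P S N := IsScalarTower.of_algebraMap_smul fun _ _ => rfl
  haveI : IsScalarTower R P N := IsScalarTower.of_algebraMap_smul fun r n => by
    show algebraMap P S (algebraMap R P r) • n = r • n
    rw [← IsScalarTower.algebraMap_apply, algebraMap_smul]
  haveI : Module.Finite P S := Module.Finite.of_surjective (Algebra.linearMap P S) hsurj
  haveI : Module.Finite P N := Module.Finite.trans S N
  have hflatP : ∀ (q₀ : Ideal P) [q₀.IsPrime], q₀.LiesOver p → FlatCA.FlatAt R q₀ N := by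
    intro q₀ _ hq₀
    by_cases hker : RingHom.ker (algebraMap P S) ≤ q₀
    · haveI : (q₀.map (algebraMap P S)).IsPrime := Ideal.map_isPrime_of_surjective hsurj hker
      have hback : q₀ = (q₀.map (algebraMap P S)).comap (algebraMap P S) := by
        rw [Ideal.comap_map_of_surjective (algebraMap P S) hsurj, eq_comm, sup_eq_left]; exact hker
      haveI : (q₀.map (algebraMap P S)).LiesOver p := ⟨by
        rw [Ideal.under_def, IsScalarTower.algebraMap_eq R P S, ← Ideal.comap_comap, ← hback, ← Ideal.under_def]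
        exact hq₀.over⟩
      exact (flatAt_comap_iff hsurj (q₀.map (algebraMap P S)) q₀ hback.symm).1 (hflat _ inferInstance)
    · obtain ⟨s, hs, hsq⟩ := SetLike.not_le_iff_exists.1 hker
      exact flat_localized_of_killed q₀.primeCompl hsq fun m => by
        show algebraMap P S s • m = 0
        rw [RingHom.mem_ker.1 hs, zero_smul]
  obtain ⟨R', _, _, p', _, hR', H⟩ := near_fibre N p hflatP
  refine ⟨R', inferInstance, inferInstance, p', inferInstance, hR', ?_⟩
  intro SA NA _ _ _ _ _ _ hpush _ _ _ _ _ _ f hf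
  let A := Localization.AtPrime p'
  let PA := A ⊗[R] P
  letI : Algebra P SA := ((algebraMap S SA).comp (algebraMap P S)).toAlgebra
  haveI : IsScalarTower P S SA := .of_algebraMap_eq' rfl
  haveI : IsScalarTower R P SA := IsScalarTower.of_algebraMap_eq fun a => by
    rw [IsScalarTower.algebraMap_apply R S SA, IsScalarTower.algebraMap_apply R P S,
      ← IsScalarTower.algebraMap_apply P S SA]
  let φ : PA →ₐ[R] SA := Algebra.TensorProduct.lift (IsScalarTower.toAlgHom R A SA) (IsScalarTower.toAlgHom R P SA)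
    fun _ _ => Commute.all _ _
  letI : Algebra PA SA := φ.toRingHom.toAlgebra
  haveI : IsScalarTower A PA SA := IsScalarTower.of_algebraMap_eq fun k => by
    show _ = φ (k ⊗ₜ[R] (1 : P))
    rw [Algebra.TensorProduct.lift_tmul, map_one, mul_one]
    rfl
  haveI : IsScalarTower P PA SA := IsScalarTower.of_algebraMap_eq fun s => by
    show _ = φ ((1 : A) ⊗ₜ[R] s)
    rw [Algebra.TensorProduct.lift_tmul, map_one, one_mul]
    rfl
  haveI : Algebra.IsPushout R P A PA := (inferInstance : Algebra.IsPushout R A P PA).symm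
  haveI hP : Algebra.IsPushout P S PA SA :=
    (Algebra.IsPushout.comp_iff (R := R) (S := P) (R' := A) (S' := PA) (T := S) (T' := SA)).1 hpush
  haveI := hP.symm
  letI : Module PA NA := Module.compHom NA (algebraMap PA SA)
  haveI : IsScalarTower PA SA NA := IsScalarTower.of_algebraMap_smul fun _ _ => rfl
  letI : Module P NA := Module.compHom NA (algebraMap P SA)
  haveI : IsScalarTower P SA NA := IsScalarTower.of_algebraMap_smul fun _ _ => rfl
  haveI : IsScalarTower P PA NA := IsScalarTower.of_algebraMap_smul fun b x => by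
    show algebraMap PA SA (algebraMap P PA b) • x = algebraMap P SA b • x
    rw [← IsScalarTower.algebraMap_apply]
  haveI : IsScalarTower P S NA := IsScalarTower.of_algebraMap_smul fun b x => by
    show algebraMap P S b • x = algebraMap P SA b • x
    rw [← algebraMap_smul SA (algebraMap P S b) x, ← IsScalarTower.algebraMap_apply]
  haveI : IsScalarTower A PA NA := IsScalarTower.of_algebraMap_smul (R := A) (A := PA) (M := NA) fun b x => by
    show algebraMap PA SA (algebraMap A PA b) • x = b • x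
    rw [← IsScalarTower.algebraMap_apply, algebraMap_smul]
  have hsurjA : Function.Surjective (algebraMap PA SA) := by
    intro x
    obtain ⟨t, rfl⟩ := (Algebra.IsPushout.equiv P PA S SA).surjective x
    induction t using TensorProduct.induction_on with
    | zero => exact ⟨0, by rw [map_zero, map_zero]⟩
    | add a b ha hb =>
      obtain ⟨a', ha'⟩ := ha
      obtain ⟨b', hb'⟩ := hb
      exact ⟨a' + b', by rw [map_add, map_add, ha', hb']⟩
    | tmul a b =>
      obtain ⟨b', rfl⟩ := hsurj b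
      refine ⟨a * algebraMap P PA b', ?_⟩
      rw [Algebra.IsPushout.equiv_tmul, map_mul, ← IsScalarTower.algebraMap_apply P PA SA,
        ← IsScalarTower.algebraMap_apply P S SA]
  let e₀ := Algebra.IsPushout.cancelBaseChange P PA S SA N
  have hbc : IsBaseChange PA (f.restrictScalars P) :=
    IsBaseChange.of_equiv (e₀.symm ≪≫ₗ hf.equiv.restrictScalars PA) fun n => by
      show hf.equiv (e₀.symm ((1 : PA) ⊗ₜ[P] n)) = f n
      rw [Algebra.IsPushout.cancelBaseChange_symm_tmul, map_one, hf.equiv_tmul, one_smul]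
  haveI : Algebra.IsPushout R P A PA := inferInstance
  intro Q _ hQ
  obtain ⟨g, hg, hfp, hfl⟩ := H PA NA (f.restrictScalars P) hbc (Q.comap (algebraMap PA SA)) ⟨by
    rw [Ideal.under_def, Ideal.comap_comap, ← IsScalarTower.algebraMap_eq]
    exact hQ.over⟩
  refine ⟨algebraMap PA SA g, hg, ?_⟩
  refine (flat_localized_restrict_iff (R := A) (S := PA) (C := SA) (Submonoid.powers g) _ ?_ ?_).2 hfl
  · rintro _ ⟨k, rfl⟩
    exact ⟨k, (map_pow _ _ _).symm⟩
  · rintro _ ⟨k, rfl⟩
    exact ⟨g ^ k, ⟨k, rfl⟩, by rw [map_pow]⟩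

end Groth.Agent.RG
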