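import Groth.Agent.RG.NearPoint

/-!
# The neighbourhood statement for models over the local ring
-/

set_option autoImplicit false
set_option linter.style.haveILetI false
set_option linter.unusedSectionVars false
set_option backward.isDefEq.respectTransparency false
set_option maxHeartbeats 1600000

universe u

open TensorProduct IsLocalRing

namespace Groth.Agent.RG

attribute [local instance] Algebra.TensorProduct.rightAlgebra

/-- The neighbourhood statement for any model of the base change to the local ring. -/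
theorem near_model {R S : Type u} [CommRing R] [CommRing S] [Algebra R S] (N : Type u) [AddCommGroup N] [Module S N]
    (p : Ideal R) [p.IsPrime] (q : Ideal S) (h : Near R S N p q) :
    ∃ (R' : Type u) (_ : CommRing R') (_ : Algebra R R') (p' : Ideal R') (_ : p'.IsPrime), FlatCA.IsEtaleNhd R R' p p' ∧
      ∀ (SA NA : Type u) [CommRing SA] [Algebra R SA] [Algebra S SA] [Algebra (Localization.AtPrime p') SA]
        [IsScalarTower R S SA] [IsScalarTower R (Localization.AtPrime p') SA]
        [Algebra.IsPushout R S (Localization.AtPrime p') SA]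
        [AddCommGroup NA] [Module SA NA] [Module S NA] [IsScalarTower S SA NA]
        [Module (Localization.AtPrime p') NA] [IsScalarTower (Localization.AtPrime p') SA NA]
        (f : N →ₗ[S] NA), IsBaseChange SA f →
        ∃ g : SA, (∀ (Q : Ideal SA) [Q.IsPrime], Q.LiesOver q → Q.LiesOver (maximalIdeal (Localization.AtPrime p')) → g ∉ Q) ∧
          FPAt (Submonoid.powers g) NA ∧
          Module.Flat (Localization.AtPrime p') (LocalizedModule (Submonoid.powers g) NA) := by
  obtain ⟨R₂, _, _, p₂, _, q₂, _, hR, h1, h2, g, hg, hflat, hfp⟩ := h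
  refine ⟨R₂, inferInstance, inferInstance, p₂, inferInstance, hR, ?_⟩
  intro SA NA _ _ _ _ _ _ hpush _ _ _ _ _ _ f hf
  let A := Localization.AtPrime p₂
  letI : Algebra R₂ SA := ((algebraMap A SA).comp (algebraMap R₂ A)).toAlgebra
  haveI : IsScalarTower R₂ A SA := .of_algebraMap_eq' rfl
  haveI : IsScalarTower R R₂ SA := IsScalarTower.of_algebraMap_eq fun a => by
    rw [IsScalarTower.algebraMap_apply R A SA, IsScalarTower.algebraMap_apply R R₂ A,
      ← IsScalarTower.algebraMap_apply R₂ A SA]
  let S₂ := R₂ ⊗[R] S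
  let φ : S₂ →ₐ[R] SA := Algebra.TensorProduct.lift (IsScalarTower.toAlgHom R R₂ SA) (IsScalarTower.toAlgHom R S SA)
    fun _ _ => Commute.all _ _
  letI : Algebra S₂ SA := φ.toRingHom.toAlgebra
  haveI : IsScalarTower R₂ S₂ SA := IsScalarTower.of_algebraMap_eq fun k => by
    show _ = φ (k ⊗ₜ[R] (1 : S))
    rw [Algebra.TensorProduct.lift_tmul, map_one, mul_one]
    rfl
  haveI : IsScalarTower S S₂ SA := IsScalarTower.of_algebraMap_eq fun s => by
    show _ = φ ((1 : R₂) ⊗ₜ[R] s)
    rw [Algebra.TensorProduct.lift_tmul, map_one, one_mul]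
    rfl
  haveI : Algebra.IsPushout R A S SA := hpush.symm
  haveI hloc : Algebra.IsPushout R₂ A S₂ SA :=
    (Algebra.IsPushout.comp_iff (R := R) (S := R₂) (R' := S) (S' := S₂) (T := A) (T' := SA)).1 inferInstance
  haveI := hloc.symm
  haveI : Module.Flat R₂ A := IsLocalization.flat A p₂.primeCompl
  haveI : Module.Flat S₂ SA := Module.Flat.of_linearEquiv (Algebra.IsPushout.equiv R₂ S₂ A SA).symm.toLinearEquiv
  letI : Module R₂ NA := Module.compHom NA (algebraMap R₂ SA)
  haveI : IsScalarTower R₂ SA NA := IsScalarTower.of_algebraMap_smul fun _ _ => rfl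
  haveI : IsScalarTower R₂ A NA := IsScalarTower.of_algebraMap_smul fun r x => by
    rw [← algebraMap_smul SA (algebraMap R₂ A r) x, ← IsScalarTower.algebraMap_apply]
    rfl
  let e : (SA ⊗[S₂] (S₂ ⊗[S] N)) ≃ₗ[SA] NA :=
    AlgebraTensorModule.cancelBaseChange S S₂ SA SA N ≪≫ₗ hf.equiv
  have hu : ∀ a : R₂, a ∉ p₂ → IsUnit (algebraMap R₂ SA a) := fun a ha => by
    rw [IsScalarTower.algebraMap_apply R₂ A SA]
    exact (IsLocalization.map_units A (⟨a, ha⟩ : p₂.primeCompl)).map _
  let g' := algebraMap S₂ SA g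
  refine ⟨g', fun Q _ hQq hQm hgQ => hg ?_, ?_, ?_⟩
  · have hQ2 : Q.comap (algebraMap S₂ SA) = q₂ := by
      refine prime_le_of_comap hR _ _ ?_ h1 fun s => ?_
      · rw [Ideal.comap_comap, ← IsScalarTower.algebraMap_eq, IsScalarTower.algebraMap_eq R₂ A SA, ← Ideal.comap_comap,
          show Q.comap (algebraMap A SA) = maximalIdeal A from hQm.over.symm]
        exact IsLocalization.AtPrime.comap_maximalIdeal A p₂
      · rw [show (1 : R₂) ⊗ₜ[R] s = algebraMap S S₂ s from rfl, Ideal.mem_comap, ← IsScalarTower.algebraMap_apply]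
        exact ((SetLike.ext_iff.1 hQq.over s).symm).trans (SetLike.ext_iff.1 h2 s).symm
    exact hQ2 ▸ hgQ
  · refine (hfp.baseChange (S' := SA) (V := Submonoid.powers g') fun w hw => ?_).congr e
    obtain ⟨a, ha, k, rfl⟩ := (mem_nb p₂).1 hw
    rw [map_mul, map_pow, ← IsScalarTower.algebraMap_apply R₂ S₂, IsScalarTower.algebraMap_apply R₂ SA (Localization (Submonoid.powers g')),
      IsScalarTower.algebraMap_apply S₂ SA (Localization (Submonoid.powers g'))]
    exact ((hu a ha).map _).mul ((IsLocalization.map_units _ (⟨g', Submonoid.mem_powers g'⟩ : Submonoid.powers g')).pow k)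
  · refine (Module.flat_iff_of_isLocalization A p₂.primeCompl _).2 ?_
    refine flat_localized_of_forall (R := R₂) (Submonoid.powers g') fun Q _ hQ => flatAt_congr (R := R₂) Q e ?_
    refine flat_localized_baseChange (R := R₂) (S := S₂) (S' := SA) (W := nb p₂ S₂ g) (V := Q.primeCompl)
      (fun w hw hwQ => ?_) hflat
    obtain ⟨a, ha, k, rfl⟩ := (mem_nb p₂).1 hw
    rw [map_mul, map_pow, ← IsScalarTower.algebraMap_apply R₂ S₂] at hwQ
    rcases (inferInstance : Q.IsPrime).mem_or_mem hwQ with h' | h'
    · exact (inferInstance : Q.IsPrime).ne_top (Q.eq_top_of_isUnit_mem h' (hu a ha))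
    · exact Set.disjoint_left.1 hQ (⟨k, rfl⟩ : g' ^ k ∈ Submonoid.powers g') h'

end Groth.Agent.RG
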