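import Groth.Agent.RG.NearStep
import Groth.Agent.RG.EtaleBC
import Groth.Agent.RG.DevissageGlobal

/-!
# Flatness and finite presentation near a point after an étale localisation of the base
-/

set_option autoImplicit false
set_option linter.style.haveILetI false
set_option linter.unusedSectionVars false
set_option backward.isDefEq.respectTransparency false
set_option maxHeartbeats 1600000

universe u

open TensorProduct

namespace Groth.Agent.RG

attribute [local instance] Algebra.TensorProduct.rightAlgebra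

/-- After an étale neighbourhood of the base, `N` is flat and finitely presented near the point. -/
def Near (R S : Type u) [CommRing R] [CommRing S] [Algebra R S] (N : Type u) [AddCommGroup N] [Module S N]
    (p : Ideal R) [p.IsPrime] (q : Ideal S) : Prop :=
  ∃ (R₂ : Type u) (_ : CommRing R₂) (_ : Algebra R R₂) (p₂ : Ideal R₂) (_ : p₂.IsPrime) (q₂ : Ideal (R₂ ⊗[R] S))
    (_ : q₂.IsPrime), FlatCA.IsEtaleNhd R R₂ p p₂ ∧ q₂.comap (algebraMap R₂ (R₂ ⊗[R] S)) = p₂ ∧
    q₂.comap (algebraMap S (R₂ ⊗[R] S)) = q ∧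
    ∃ g, g ∉ q₂ ∧ Module.Flat R₂ (LocalizedModule (nb p₂ (R₂ ⊗[R] S) g) ((R₂ ⊗[R] S) ⊗[S] N)) ∧
      FPAt (nb p₂ (R₂ ⊗[R] S) g) ((R₂ ⊗[R] S) ⊗[S] N)

theorem flat_localized_of_killed {R S : Type u} [CommRing R] [CommRing S] [Algebra R S] {M : Type u} [AddCommGroup M]
    [Module S M] [Module R M] [IsScalarTower R S M] (W : Submonoid S) {w : S} (hw : w ∈ W) (h : ∀ m : M, w • m = 0) :
    Module.Flat R (LocalizedModule W M) := by
  rw [FlatModel.flat_localized_iff W (LocalizedModule.mkLinearMap W M)]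
  intro J y hy
  refine ⟨w, hw, ?_⟩
  clear hy
  induction y using TensorProduct.induction_on with
  | zero => exact smul_zero _
  | add b c hb hc => rw [smul_add, hb, hc, add_zero]
  | tmul b x => rw [TensorProduct.smul_tmul', h, TensorProduct.zero_tmul]

theorem near_of_notMem_support {R S : Type u} [CommRing R] [CommRing S] [Algebra R S]
    (N : Type u) [AddCommGroup N] [Module S N] [Module.Finite S N] (p : Ideal R) [p.IsPrime]
    (q : Ideal S) [q.IsPrime] [q.LiesOver p]
    (hq : (⟨q, inferInstance⟩ : PrimeSpectrum S) ∉ Module.support S N) : Near R S N p q := by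
  have hR := isEtaleNhd_refl R p
  obtain ⟨q₂, hq₂, h1, h2⟩ := exists_prime_baseChange hR q
  rw [Module.support_eq_zeroLocus, PrimeSpectrum.mem_zeroLocus, SetLike.coe_subset_coe, SetLike.not_le_iff_exists] at hq
  obtain ⟨s, hs, hsq⟩ := hq
  refine ⟨R, inferInstance, inferInstance, p, inferInstance, q₂, hq₂, hR, h1, h2, algebraMap S (R ⊗[R] S) s,
    fun h => hsq (h2 ▸ h : s ∈ q), ?_, ?_⟩
  all_goals
    have hkill : ∀ z : (R ⊗[R] S) ⊗[S] N, algebraMap S (R ⊗[R] S) s • z = 0 := by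
      intro z
      induction z using TensorProduct.induction_on with
      | zero => exact smul_zero _
      | add b c hb hc => rw [smul_add, hb, hc, add_zero]
      | tmul b x => rw [algebraMap_smul, ← TensorProduct.tmul_smul, Module.mem_annihilator.1 hs x, TensorProduct.tmul_zero]
  · exact flat_localized_of_killed (nb p (R ⊗[R] S) _) (self_mem_nb p _) hkill
  · rw [← fpAt_iff_localizedModule]
    haveI : Subsingleton (LocalizedModule (nb p (R ⊗[R] S) (algebraMap S (R ⊗[R] S) s)) ((R ⊗[R] S) ⊗[S] N)) :=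
      LocalizedModule.subsingleton_iff.2 fun z => ⟨_, self_mem_nb p _, hkill z⟩
    infer_instance

/-- Passing from the smooth algebra of an elementary dévissage back to `S`. -/
theorem near_of_elemDevissage {R S : Type u} [CommRing R] [CommRing S] [Algebra R S] [Algebra.FinitePresentation R S]
    {N : Type u} [AddCommGroup N] [Module S N] [Module R N] [IsScalarTower R S N] [Module.Finite S N] {p : Ideal R}
    [p.IsPrime] {q : Ideal S} [q.IsPrime] [q.LiesOver p] {n : ℕ} (E : FlatCA.ElemDevissage R S N p q n)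
    [Algebra.FinitePresentation E.D E.C] (R₂ : Type u) [CommRing R₂] [Algebra E.R' R₂] (p₂ : Ideal R₂) [p₂.IsPrime]
    (hR₂ : FlatCA.IsEtaleNhd E.R' R₂ E.p' p₂) (y₂ : Ideal (R₂ ⊗[E.R'] E.D)) [y₂.IsPrime]
    (hy₁ : y₂.comap (algebraMap R₂ (R₂ ⊗[E.R'] E.D)) = p₂) (hy₂ : y₂.comap (algebraMap E.D (R₂ ⊗[E.R'] E.D)) = E.y)
    {h : R₂ ⊗[E.R'] E.D} (hh : h ∉ y₂)
    (hflat : Module.Flat R₂ (LocalizedModule (nb p₂ (R₂ ⊗[E.R'] E.D) h) ((R₂ ⊗[E.R'] E.D) ⊗[E.D] E.G)))
    (hfp : FPAt (nb p₂ (R₂ ⊗[E.R'] E.D) h) ((R₂ ⊗[E.R'] E.D) ⊗[E.D] E.G)) : Near R S N p q := by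
  haveI := E.finiteDC
  haveI := E.finiteG
  haveI := E.fpC
  haveI := E.etaleR.1
  haveI := E.etaleS.1
  haveI := hR₂.1
  obtain ⟨hq'q, -⟩ := E.etaleS.2
  letI : Algebra R R₂ := ((algebraMap E.R' R₂).comp (algebraMap R E.R')).toAlgebra
  haveI : IsScalarTower R E.R' R₂ := .of_algebraMap_eq' rfl
  have hR : FlatCA.IsEtaleNhd R R₂ p p₂ := isEtaleNhd_trans E.etaleR hR₂
  haveI := hR.1
  let D₂ := R₂ ⊗[E.R'] E.D
  let C₂ := R₂ ⊗[E.R'] E.C
  let S'' := R₂ ⊗[E.R'] E.S'
  let S₂ := R₂ ⊗[R] S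
  -- the smooth side
  let φD : D₂ →ₐ[E.R'] C₂ := Algebra.TensorProduct.map (AlgHom.id E.R' R₂) (IsScalarTower.toAlgHom E.R' E.D E.C)
  letI : Algebra D₂ C₂ := φD.toRingHom.toAlgebra
  haveI : IsScalarTower R₂ D₂ C₂ := IsScalarTower.of_algebraMap_eq fun k => by
    show _ = φD (k ⊗ₜ[E.R'] (1 : E.D))
    rw [Algebra.TensorProduct.map_tmul, map_one]
    rfl
  letI : Algebra E.D C₂ := ((algebraMap E.C C₂).comp (algebraMap E.D E.C)).toAlgebra
  haveI : IsScalarTower E.D E.C C₂ := .of_algebraMap_eq' rfl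
  haveI : IsScalarTower E.R' E.D C₂ := IsScalarTower.of_algebraMap_eq fun a => by
    show _ = algebraMap E.C C₂ (algebraMap E.D E.C (algebraMap E.R' E.D a))
    rw [← IsScalarTower.algebraMap_apply E.R' E.D E.C, ← IsScalarTower.algebraMap_apply E.R' E.C C₂]
  haveI : IsScalarTower E.D D₂ C₂ := IsScalarTower.of_algebraMap_eq fun s => by
    show _ = φD ((1 : R₂) ⊗ₜ[E.R'] s)
    rw [Algebra.TensorProduct.map_tmul, map_one]
    rfl
  haveI hpD : Algebra.IsPushout E.D E.C D₂ C₂ :=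
    (Algebra.IsPushout.comp_iff (R := E.R') (S := E.D) (R' := R₂) (S' := D₂) (T := E.C) (T' := C₂)).1 inferInstance
  haveI := hpD.symm
  haveI : Module.Finite D₂ C₂ := Module.Finite.equiv (Algebra.IsPushout.equiv E.D D₂ E.C C₂).toLinearEquiv
  haveI : Algebra.FinitePresentation D₂ C₂ :=
    Algebra.FinitePresentation.equiv (Algebra.IsPushout.equiv E.D D₂ E.C C₂)
  let eD : (D₂ ⊗[E.D] E.G) ≃ₗ[D₂] C₂ ⊗[E.C] E.G :=
    (Algebra.IsPushout.cancelBaseChange E.D D₂ E.C C₂ E.G).symm
  -- the closed subscheme side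
  let φS : S'' →ₐ[E.R'] C₂ := Algebra.TensorProduct.map (AlgHom.id E.R' R₂) (IsScalarTower.toAlgHom E.R' E.S' E.C)
  have hφS : Function.Surjective φS := TensorProduct.map_surjective Function.surjective_id E.surjC
  letI : Algebra S'' C₂ := φS.toRingHom.toAlgebra
  haveI : IsScalarTower R₂ S'' C₂ := IsScalarTower.of_algebraMap_eq fun k => by
    show _ = φS (k ⊗ₜ[E.R'] (1 : E.S'))
    rw [Algebra.TensorProduct.map_tmul, map_one]
    rfl
  letI : Algebra E.S' C₂ := ((algebraMap E.C C₂).comp (algebraMap E.S' E.C)).toAlgebra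
  haveI : IsScalarTower E.S' E.C C₂ := .of_algebraMap_eq' rfl
  haveI : IsScalarTower E.R' E.S' C₂ := IsScalarTower.of_algebraMap_eq fun a => by
    show _ = algebraMap E.C C₂ (algebraMap E.S' E.C (algebraMap E.R' E.S' a))
    rw [← IsScalarTower.algebraMap_apply E.R' E.S' E.C, ← IsScalarTower.algebraMap_apply E.R' E.C C₂]
  haveI : IsScalarTower E.S' S'' C₂ := IsScalarTower.of_algebraMap_eq fun s => by
    show _ = φS ((1 : R₂) ⊗ₜ[E.R'] s)
    rw [Algebra.TensorProduct.map_tmul, map_one]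
    rfl
  haveI hpS : Algebra.IsPushout E.S' E.C S'' C₂ :=
    (Algebra.IsPushout.comp_iff (R := E.R') (S := E.S') (R' := R₂) (S' := S'') (T := E.C) (T' := C₂)).1 inferInstance
  haveI := hpS.symm
  haveI : Algebra.FinitePresentation S'' C₂ :=
    Algebra.FinitePresentation.equiv (Algebra.IsPushout.equiv E.S' S'' E.C C₂)
  -- the étale map from the base change of `S`
  letI : Algebra S S'' := ((algebraMap E.S' S'').comp (algebraMap S E.S')).toAlgebra
  haveI : IsScalarTower S E.S' S'' := .of_algebraMap_eq' rfl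
  haveI : IsScalarTower R S S'' := IsScalarTower.of_algebraMap_eq fun a => by
    show _ = algebraMap E.S' S'' (algebraMap S E.S' (algebraMap R S a))
    rw [← IsScalarTower.algebraMap_apply R S E.S', IsScalarTower.algebraMap_apply R E.R' E.S',
      ← IsScalarTower.algebraMap_apply E.R' E.S' S'', ← IsScalarTower.algebraMap_apply R E.R' S'']
  let φ₂ : S₂ →ₐ[R] S'' := Algebra.TensorProduct.lift (IsScalarTower.toAlgHom R R₂ S'')
    (IsScalarTower.toAlgHom R S S'') fun _ _ => Commute.all _ _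
  letI : Algebra S₂ S'' := φ₂.toRingHom.toAlgebra
  haveI : IsScalarTower R₂ S₂ S'' := IsScalarTower.of_algebraMap_eq fun k => by
    show _ = φ₂ (k ⊗ₜ[R] (1 : S))
    rw [Algebra.TensorProduct.lift_tmul, map_one, mul_one]
    rfl
  haveI : IsScalarTower S S₂ S'' := IsScalarTower.of_algebraMap_eq fun s => by
    show _ = φ₂ ((1 : R₂) ⊗ₜ[R] s)
    rw [Algebra.TensorProduct.lift_tmul, map_one, one_mul]
    rfl
  haveI : Algebra.Etale E.S' S'' := Algebra.Etale.of_equiv (Algebra.IsPushout.equiv E.R' E.S' R₂ S'')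
  haveI : Algebra.Etale S S'' := Algebra.Etale.comp S E.S' S''
  haveI : Algebra.Etale S S₂ := Algebra.Etale.of_equiv (Algebra.IsPushout.equiv R S R₂ S₂)
  haveI : Algebra.FormallyEtale S₂ S'' := Algebra.FormallyEtale.of_restrictScalars (R := S)
  haveI : Algebra.FinitePresentation S₂ S'' := Algebra.FinitePresentation.of_restrict_scalars_finitePresentation S _ _
  haveI : Algebra.Etale S₂ S'' := ⟨inferInstance, inferInstance⟩
  -- the points
  haveI : E.z.LiesOver E.p' := Ideal.LiesOver.trans E.z E.y E.p'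
  obtain ⟨z₂, hz₂p, hz₁, hz₂⟩ := exists_prime_baseChange hR₂ E.z
  have hzD : ∀ d : E.D, algebraMap E.D D₂ d ∈ z₂.comap (algebraMap D₂ C₂) ↔ d ∈ E.y := fun d => by
    rw [Ideal.mem_comap, ← IsScalarTower.algebraMap_apply, IsScalarTower.algebraMap_apply E.D E.C C₂]
    exact (SetLike.ext_iff.1 hz₂ (algebraMap E.D E.C d)).trans
      (SetLike.ext_iff.1 (Ideal.LiesOver.over (P := E.z) (p := E.y)) d).symm
  have hzR : (z₂.comap (algebraMap D₂ C₂)).comap (algebraMap R₂ D₂) = p₂ := by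
    rw [Ideal.comap_comap, ← IsScalarTower.algebraMap_eq, hz₁]
  have hzy : z₂.comap (algebraMap D₂ C₂) = y₂ :=
    prime_le_of_comap hR₂ _ _ hzR hy₁ fun d => (hzD d).trans (SetLike.ext_iff.1 hy₂ d).symm
  have huniq : ∀ (Q : Ideal C₂) [Q.IsPrime], Q.LiesOver y₂ → Q = z₂ := by
    intro Q _ hQ
    have hQR : Q.comap (algebraMap R₂ C₂) = p₂ := by
      rw [IsScalarTower.algebraMap_eq R₂ D₂ C₂, ← Ideal.comap_comap,
        show Q.comap (algebraMap D₂ C₂) = y₂ from hQ.over.symm]
      exact hy₁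
    have hQz : Q.comap (algebraMap E.C C₂) = E.z := E.uniq _ ⟨by
      ext d
      rw [Ideal.under_def, Ideal.mem_comap, Ideal.mem_comap, ← IsScalarTower.algebraMap_apply E.D E.C C₂,
        IsScalarTower.algebraMap_apply E.D D₂ C₂, ← SetLike.ext_iff.1 hy₂ d, Ideal.mem_comap]
      exact SetLike.ext_iff.1 hQ.over _⟩
    exact prime_le_of_comap hR₂ _ _ hQR hz₁ fun c =>
      (SetLike.ext_iff.1 hQz c).trans (SetLike.ext_iff.1 hz₂ c).symm
  let q'' : Ideal S'' := z₂.comap (algebraMap S'' C₂)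
  haveI : q''.IsPrime := inferInstance
  let q₂ : Ideal S₂ := q''.comap (algebraMap S₂ S'')
  haveI : q₂.IsPrime := inferInstance
  have hq₂R : q₂.comap (algebraMap R₂ S₂) = p₂ := by
    rw [Ideal.comap_comap, Ideal.comap_comap, ← IsScalarTower.algebraMap_eq R₂ S₂ S'',
      ← IsScalarTower.algebraMap_eq R₂ S'' C₂, hz₁]
  haveI : q₂.LiesOver p₂ := ⟨hq₂R.symm⟩
  have hq₂S : q₂.comap (algebraMap S S₂) = q := by
    ext s
    rw [Ideal.mem_comap, Ideal.mem_comap, Ideal.mem_comap, ← IsScalarTower.algebraMap_apply S S₂ S'',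
      IsScalarTower.algebraMap_apply S E.S' S'', ← IsScalarTower.algebraMap_apply E.S' S'' C₂,
      IsScalarTower.algebraMap_apply E.S' E.C C₂, SetLike.ext_iff.1 hq'q.over s]
    exact (SetLike.ext_iff.1 hz₂ _).trans (SetLike.ext_iff.1 (Ideal.LiesOver.over (P := E.z) (p := E.q')) _).symm
  -- the transfer
  let eN : (E.S' ⊗[S] N) ≃ₗ[E.S'] E.G := E.isBaseChange.equiv.trans E.iso
  let e : (S'' ⊗[S₂] (S₂ ⊗[S] N)) ≃ₗ[S''] C₂ ⊗[E.C] E.G :=
    AlgebraTensorModule.cancelBaseChange S S₂ S'' S'' N ≪≫ₗ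
      (AlgebraTensorModule.cancelBaseChange S E.S' S'' S'' N).symm ≪≫ₗ
      LinearEquiv.baseChange E.S' S'' _ _ eN ≪≫ₗ (Algebra.IsPushout.cancelBaseChange E.S' S'' E.C C₂ E.G).symm
  haveI : Module.Finite C₂ (C₂ ⊗[E.C] E.G) := inferInstance
  obtain ⟨g, hg, h₁, h₂⟩ := exists_nb_transfer (R := R₂) (S := S₂) (S' := S'') (C := C₂) (D := D₂)
    (N := S₂ ⊗[S] N) (G := C₂ ⊗[E.C] E.G) p₂ q₂ q'' z₂ y₂ rfl rfl hzy huniq hφS e hh
    (flat_localized_congr _ eD hflat) (hfp.congr eD)
  exact ⟨R₂, inferInstance, inferInstance, p₂, inferInstance, q₂, inferInstance, hR, hq₂R, hq₂S, g, hg, h₁, h₂⟩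

/-- Flatness at a point spreads out after an étale neighbourhood of the base. -/
theorem near_of_flatAt_aux (m : ℕ) : ∀ {R S : Type u} [CommRing R] [CommRing S] [Algebra R S] [Algebra.FinitePresentation R S]
    (N : Type u) [AddCommGroup N] [Module S N] [Module R N] [IsScalarTower R S N] [Module.Finite S N]
    (p : Ideal R) [p.IsPrime] (q : Ideal S) [q.IsPrime] [q.LiesOver p],
    Module.supportDim (p.Fiber S) (FlatCA.fiberMod p S N) < (m : WithBot ℕ∞) → FlatCA.FlatAt R q N →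
    Near R S N p q := by
  induction m using Nat.strong_induction_on with
  | _ m ih =>
    intro R S _ _ _ _ N _ _ _ _ _ p _ q _ _ hm hflat
    by_cases hq : (⟨q, inferInstance⟩ : PrimeSpectrum S) ∈ Module.support S N
    swap
    · exact near_of_notMem_support N p q hq
    obtain ⟨x, hxq, hx⟩ := exists_fibre_point p q N hq
    haveI : Module.Finite (p.Fiber S) (FlatCA.fiberMod p S N) :=
      inferInstanceAs (Module.Finite (p.Fiber S) ((p.Fiber S) ⊗[S] N))
    rw [← topologicalKrullDim_support] at hm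
    obtain ⟨n, -, hn⟩ := exists_localDim_eq_nat
      (X := Module.support (p.Fiber S) (FlatCA.fiberMod p S N)) ⟨x, hx⟩ hm.le
    have hnm : n < m := by
      have := ((H23.TopDim.localDim_le_dim (X := Module.support (p.Fiber S) (FlatCA.fiberMod p S N)) ⟨x, hx⟩).trans_lt hm)
      rw [hn] at this
      exact_mod_cast this
    obtain ⟨E⟩ := exists_elemDevissage N p q n x hxq hx hn
    have hGflat : FlatCA.FlatAt E.R' E.y E.G := ((Groth.Agent.S1250.result N p q n E).1.out 0 2).1 hflat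
    haveI := (Groth.Agent.S1251.result N p q n E).1
    haveI := E.finiteDC
    haveI := E.finiteG
    haveI : Module.Finite E.D E.G := Module.Finite.trans E.C E.G
    haveI : Algebra.Smooth E.R' E.D := by
      haveI := E.smooth
      haveI : AlgebraicGeometry.Smooth (AlgebraicGeometry.Spec.map (CommRingCat.ofHom (algebraMap E.R' E.D))) :=
        AlgebraicGeometry.SmoothOfRelativeDimension.smooth n _
      exact RingHom.smooth_algebraMap.mp
        ((AlgebraicGeometry.HasRingHomProperty.Spec_iff (P := @AlgebraicGeometry.Smooth)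
          (φ := CommRingCat.ofHom (algebraMap E.R' E.D))).mp inferInstance)
    haveI : Module.Flat E.R' E.D := inferInstance
    have hd := domFib_of_geomIntegral E.geomInt
    obtain ⟨hP, hPr⟩ := hd.prime_map E.p'
    obtain ⟨r, α, hα⟩ := exists_fibre_basis (E.p'.map (algebraMap E.R' E.D)) E.G
    obtain ⟨-, hQ⟩ := step_flatAt hd E.p' _ rfl E.y hGflat α hα
    have hu : UnivInjUpTo E.R' (Algebra.algebraMapSubmonoid E.D E.p'.primeCompl) α := by
      have hPy : E.p'.map (algebraMap E.R' E.D) ≤ E.y :=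
        Ideal.map_le_iff_le_comap.2 (Ideal.LiesOver.over (P := E.y) (p := E.p')).le
      obtain ⟨β, hβ⟩ := exists_retractions hd E.p' _ rfl hPr
        (flat_localized_mono (W := E.y.primeCompl) (W' := (E.p'.map (algebraMap E.R' E.D)).primeCompl)
          (fun x hx h => hx (hPy h)) hGflat) α hα
      exact univInjUpTo_of_retractions _ _ (exists_smul_tmul_eq_zero_atPrime hd E.p' _ hPr) α β hβ
    obtain ⟨R₂, _, _, p₂, _, y₂, _, hR₂, hy₁, hy₂, h, hh, h₁, h₂⟩ := ih n hnm _ E.p' E.y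
      (supportDim_coker_lt hd E.p' (ringKrullDim_fibre_le E.smooth E.p') _ rfl α hα) hQ
    haveI : p₂.LiesOver E.p' := hR₂.2.1
    obtain ⟨h₁', h₂'⟩ := nb_of_coker_baseChange R₂ E.p' p₂ α hu h₁ h₂
    exact near_of_elemDevissage E R₂ p₂ hR₂ y₂ hy₁ hy₂ hh h₁' h₂'

theorem near_of_flatAt {R S : Type u} [CommRing R] [CommRing S] [Algebra R S] [Algebra.FinitePresentation R S]
    (N : Type u) [AddCommGroup N] [Module S N] [Module R N] [IsScalarTower R S N] [Module.Finite S N]
    (p : Ideal R) [p.IsPrime] (q : Ideal S) [q.IsPrime] [q.LiesOver p] (h : FlatCA.FlatAt R q N) :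
    Near R S N p q := by
  obtain ⟨m, hm⟩ := exists_ringKrullDim_lt (k := p.ResidueField) (A := p.Fiber S)
  exact near_of_flatAt_aux m N p q ((Module.supportDim_le_ringKrullDim _ _).trans_lt hm) h

end Groth.Agent.RG
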