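import Groth.Agent.RG.PureTrans
import Groth.Agent.FlatMisc.RefinedNN
import Groth.Agent.S6385
import Groth.Prelude.Def_Flat
import Mathlib

/-!
# A quasi-finite map to affine space at a point of the fibre
-/

set_option autoImplicit false
set_option linter.style.haveILetI false

universe u

open TensorProduct MvPolynomial

namespace Groth.Agent.RG

theorem krullDim_range_eq {A : Type u} [CommRing A] (g : A) :
    topologicalKrullDim ↥(PrimeSpectrum.basicOpen g : Set (PrimeSpectrum A)) =
      ringKrullDim (Localization.Away g) := by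
  have he := (PrimeSpectrum.localization_away_isOpenEmbedding (Localization.Away g) g).isEmbedding.toHomeomorph
  rw [← PrimeSpectrum.localization_away_comap_range (Localization.Away g) g,
    ← PrimeSpectrum.topologicalKrullDim_eq_ringKrullDim]
  exact (he.isHomeomorph.topologicalKrullDim_eq _).symm

theorem localDim_spec_eq {A : Type u} [CommRing A] (x : PrimeSpectrum A) (g : A) (hg : g ∉ x.asIdeal)
    (hmin : ∀ g' : A, g' ∉ x.asIdeal → ringKrullDim (Localization.Away g) ≤ ringKrullDim (Localization.Away g')) :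
    FlatMor.localDim (PrimeSpectrum A) x = ringKrullDim (Localization.Away g) := by
  refine le_antisymm ?_ (le_iInf fun U => ?_)
  · rw [← krullDim_range_eq]
    exact iInf_le _ (⟨PrimeSpectrum.basicOpen g, hg⟩ : {U : TopologicalSpace.Opens (PrimeSpectrum A) // x ∈ U})
  · obtain ⟨_, ⟨g', rfl⟩, hxg', hg'U⟩ :=
      PrimeSpectrum.isTopologicalBasis_basic_opens.exists_subset_of_mem_open U.2 U.1.2
    refine (hmin g' hxg').trans ?_
    rw [← krullDim_range_eq]
    exact (Topology.IsEmbedding.inclusion hg'U).isInducing.topologicalKrullDim_le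

theorem includeRight_surjective_generators {R C : Type u} [CommRing R] [CommRing C] [Algebra R C] (p : Ideal R)
    [p.IsPrime] (b : p.Fiber C) :
    ∃ r : R, algebraMap R p.ResidueField r ≠ 0 ∧ ∃ c : C,
      algebraMap p.ResidueField (p.Fiber C) (algebraMap R p.ResidueField r) * b = 1 ⊗ₜ[R] c := by
  obtain ⟨r, hr, c, hc⟩ := Ideal.Fiber.exists_smul_eq_one_tmul p b
  refine ⟨r, by rwa [Ne, Ideal.algebraMap_residueField_eq_zero], c, ?_⟩
  rw [← hc, Algebra.smul_def, IsScalarTower.algebraMap_apply R p.ResidueField (p.Fiber C)]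

/-- The fibre of `R[t] → C` over `y` is finite over `κ(y)` if `k[t] → κ(p) ⊗ C` is finite. -/
theorem finite_fiber_of_finite {R C A : Type u} [CommRing R] [CommRing C] [CommRing A] [Algebra R C] [Algebra R A]
    [Algebra A C] [IsScalarTower R A C] (p : Ideal R) [p.IsPrime] (y : Ideal A) [y.IsPrime] [y.LiesOver p]
    (φk : (p.Fiber A) →ₐ[p.ResidueField] p.Fiber C) (hφ : ∀ a : A, φk (1 ⊗ₜ[R] a) = 1 ⊗ₜ[R] algebraMap A C a)
    (hfin : φk.toRingHom.Finite) : Module.Finite y.ResidueField (y.Fiber C) := by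
  classical
  letI := φk.toRingHom.toAlgebra
  haveI : Module.Finite (p.Fiber A) (p.Fiber C) := hfin
  let ρ : p.ResidueField →ₐ[R] y.ResidueField :=
    (Ideal.ResidueField.mapₐ p y (Algebra.ofId R A) (y.over_def p))
  let Φ : p.Fiber C →ₐ[R] y.Fiber C := Algebra.TensorProduct.lift
    ((IsScalarTower.toAlgHom R y.ResidueField (y.Fiber C)).comp ρ)
    ((Algebra.TensorProduct.includeRight : C →ₐ[A] y.Fiber C).restrictScalars R) fun _ _ => .all _ _
  obtain ⟨s, hs⟩ := Module.finite_def.mp (inferInstance : Module.Finite (p.Fiber A) (p.Fiber C))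
  refine ⟨⟨s.image Φ, eq_top_iff.2 fun z hz => ?_⟩⟩
  clear hz
  let N := Submodule.span y.ResidueField ((s.image Φ : Finset (y.Fiber C)) : Set (y.Fiber C))
  show z ∈ N
  have hscal : ∀ (f : p.Fiber A) (m : p.Fiber C), Φ m ∈ N → Φ (φk f * m) ∈ N := by
    intro f m hm
    induction f using TensorProduct.induction_on with
    | zero => rw [map_zero, zero_mul, map_zero]; exact N.zero_mem
    | add a b ha hb => rw [map_add, add_mul, map_add]; exact N.add_mem ha hb
    | tmul a b =>
      have e : Φ (φk (a ⊗ₜ[R] b)) = algebraMap y.ResidueField (y.Fiber C) (ρ a * algebraMap A y.ResidueField b) := by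
        have e1 : (a ⊗ₜ[R] b : p.Fiber A) = algebraMap p.ResidueField (p.Fiber A) a * (1 ⊗ₜ[R] b) := by
          rw [Algebra.TensorProduct.algebraMap_apply, Algebra.TensorProduct.tmul_mul_tmul, one_mul]; simp
        rw [e1, map_mul, AlgHom.commutes, hφ, map_mul, Algebra.TensorProduct.algebraMap_apply]
        simp only [Φ, Algebra.TensorProduct.lift_tmul, map_one, one_mul, mul_one, AlgHom.comp_apply,
          AlgHom.restrictScalars_apply, IsScalarTower.coe_toAlgHom', Algebra.algebraMap_self, RingHom.id_apply,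
          Algebra.TensorProduct.includeRight_apply]
        rw [map_mul]
        congr 1
        rw [Algebra.TensorProduct.algebraMap_apply, Algebra.algebraMap_self, RingHom.id_apply]
        exact (Algebra.TensorProduct.tmul_one_eq_one_tmul b).symm
      rw [map_mul, e, ← Algebra.smul_def]
      exact N.smul_mem _ hm
  have hΦ : ∀ m : p.Fiber C, Φ m ∈ N := by
    intro m
    have hm : m ∈ Submodule.span (p.Fiber A) (s : Set (p.Fiber C)) := by rw [hs]; trivial
    induction hm using Submodule.span_induction with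
    | mem x hx => exact Submodule.subset_span (Finset.mem_image_of_mem Φ hx)
    | zero => rw [map_zero]; exact N.zero_mem
    | add a b _ _ ha hb => rw [map_add]; exact N.add_mem ha hb
    | smul f x _ hx => exact hscal f x hx
  induction z using TensorProduct.induction_on with
  | zero => exact N.zero_mem
  | add a b ha hb => exact N.add_mem ha hb
  | tmul a c =>
    have : (a ⊗ₜ[A] c : y.Fiber C) = a • Φ (1 ⊗ₜ[R] c) := by
      simp [Φ, TensorProduct.smul_tmul']
    rw [this]
    exact N.smul_mem _ (hΦ _)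

/-- Shrinking to a finite map from a polynomial ring on the fibre. -/
theorem exists_fibre_finite {R C : Type u} [CommRing R] [CommRing C] [Algebra R C] [Algebra.FiniteType R C]
    (p : Ideal R) [p.IsPrime] (u : Ideal C) [u.IsPrime] (x : PrimeSpectrum (p.Fiber C))
    (hx : x.asIdeal.comap (Algebra.TensorProduct.includeRight : C →ₐ[R] p.Fiber C) = u) (n : ℕ)
    (hn : FlatMor.localDim (PrimeSpectrum (p.Fiber C)) x = n) :
    ∃ (c : C), c ∉ u ∧ ∃ φ : MvPolynomial (Fin n) p.ResidueField →ₐ[p.ResidueField] p.Fiber (Localization.Away c),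
      φ.toRingHom.Finite := by
  classical
  obtain ⟨g, d, hgx, hgd, hmin, φ₀, -, hφ₀⟩ := S6385.result p.ResidueField (p.Fiber C) x.asIdeal
  obtain rfl : d = n := by
    have := (localDim_spec_eq x g hgx hmin).symm.trans hn
    rw [hgd] at this
    exact_mod_cast this
  obtain ⟨r₀, hr₀, c, hc⟩ := includeRight_surjective_generators p g
  have hr₀u : IsUnit (algebraMap p.ResidueField (p.Fiber C) (algebraMap R p.ResidueField r₀)) :=
    (IsUnit.mk0 _ hr₀).map _
  have hg₁ : (1 ⊗ₜ[R] c : p.Fiber C) ∉ x.asIdeal := by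
    rw [← hc]
    intro h
    rcases x.2.mem_or_mem h with h | h
    · exact x.2.ne_top (Ideal.eq_top_of_isUnit_mem _ h hr₀u)
    · exact hgx h
  have hcu : c ∉ u := fun h => hg₁ (by rw [← hx] at h; exact h)
  refine ⟨c, hcu, ?_⟩
  let Cc := Localization.Away c
  let ι : p.Fiber C →ₐ[p.ResidueField] p.Fiber Cc :=
    Algebra.TensorProduct.map (AlgHom.id p.ResidueField p.ResidueField) (IsScalarTower.toAlgHom R C Cc)
  have hιt : ∀ (a : p.ResidueField) (b : C), ι (a ⊗ₜ[R] b) = a ⊗ₜ[R] algebraMap C Cc b := fun _ _ => rfl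
  have hιg₁ : IsUnit (ι (1 ⊗ₜ[R] c)) := by
    rw [hιt]
    exact (IsLocalization.Away.algebraMap_isUnit c).map (Algebra.TensorProduct.includeRight : Cc →ₐ[R] p.Fiber Cc)
  have hιg : IsUnit (ι g) := by
    have h : IsUnit (ι (algebraMap p.ResidueField (p.Fiber C) (algebraMap R p.ResidueField r₀) * g)) := by
      rw [hc]; exact hιg₁
    rw [map_mul] at h
    exact isUnit_of_mul_isUnit_right h
  let L : Localization.Away g →ₐ[p.ResidueField] p.Fiber Cc :=
    IsLocalization.liftAlgHom (M := Submonoid.powers g) (f := ι) fun s => by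
      obtain ⟨_, m, rfl⟩ := s
      rw [map_pow]
      exact hιg.pow m
  have hL : ∀ b, L (algebraMap _ _ b) = ι b := fun b => IsLocalization.lift_eq _ _
  have hu : IsUnit (algebraMap (p.Fiber C) (Localization.Away g) (1 ⊗ₜ[R] c)) := by
    rw [← hc, map_mul]
    exact (hr₀u.map _).mul (IsLocalization.Away.algebraMap_isUnit g)
  have hLsurj : Function.Surjective L := by
    intro z
    induction z using TensorProduct.induction_on with
    | zero => exact ⟨0, map_zero _⟩
    | add a b ha hb =>
      obtain ⟨a', rfl⟩ := ha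
      obtain ⟨b', rfl⟩ := hb
      exact ⟨a' + b', map_add _ _ _⟩
    | tmul a b =>
      obtain ⟨b', ⟨cm, hcm⟩, rfl⟩ := IsLocalization.exists_mk'_eq (Submonoid.powers c) b
      obtain ⟨m, rfl⟩ := Submonoid.mem_powers_iff _ _ |>.1 hcm
      refine ⟨algebraMap _ _ (a ⊗ₜ[R] b') * ↑(hu.unit ^ m)⁻¹, ?_⟩
      have h2 : IsUnit (ι ((1 ⊗ₜ[R] c) ^ m)) := by rw [map_pow]; exact hιg₁.pow m
      have h3 : L ↑(hu.unit ^ m)⁻¹ * ι ((1 ⊗ₜ[R] c) ^ m) = 1 := by
        have hkey : ((hu.unit ^ m : (Localization.Away g)ˣ) : Localization.Away g) =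
            algebraMap _ _ ((1 ⊗ₜ[R] c : p.Fiber C) ^ m) := by
          rw [Units.val_pow_eq_pow_val, hu.unit_spec, map_pow]
        rw [← hL, ← map_mul, ← hkey, Units.inv_mul, map_one]
      refine h2.mul_right_cancel ?_
      rw [map_mul, mul_assoc, h3, mul_one, hL, Algebra.TensorProduct.tmul_pow, one_pow, hιt, hιt,
        Algebra.TensorProduct.tmul_mul_tmul, mul_one]
      exact congrArg (a ⊗ₜ[R] ·) (IsLocalization.mk'_spec Cc b' (⟨c ^ m, hcm⟩ : Submonoid.powers c)).symm
  refine ⟨L.comp φ₀, ?_⟩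
  exact (RingHom.Finite.of_surjective L.toRingHom hLsurj).comp hφ₀

variable {R C : Type u} [CommRing R] [CommRing C] [Algebra R C] (p : Ideal R) [p.IsPrime]

/-- Scaling of the coordinates. -/
theorem exists_scaled_lift {n r : ℕ} (Q : Ideal (p.Fiber C))
    (φ₂ : MvPolynomial (Fin n) p.ResidueField →ₐ[p.ResidueField] p.Fiber C) (hfin : φ₂.toRingHom.Finite)
    (hcomap : Q.comap φ₂ = Ideal.span (Set.range fun i : {i : Fin n // r ≤ (i : ℕ)} => MvPolynomial.X (i : Fin n))) :
    ∃ (φ : MvPolynomial (Fin n) R →ₐ[R] C)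
      (φk : MvPolynomial (Fin n) p.ResidueField →ₐ[p.ResidueField] p.Fiber C),
      φk.toRingHom.Finite ∧
      (∀ f, φk (MvPolynomial.map (algebraMap R p.ResidueField) f) = 1 ⊗ₜ[R] φ f) ∧
      Q.comap φk = Ideal.span (Set.range fun i : {i : Fin n // r ≤ (i : ℕ)} => MvPolynomial.X (i : Fin n)) := by
  choose s hs b hb using fun i => includeRight_surjective_generators p (φ₂ (MvPolynomial.X i))
  let v : Fin n → p.ResidueField := fun i => algebraMap R p.ResidueField (s i)
  let σ : MvPolynomial (Fin n) p.ResidueField →ₐ[p.ResidueField] MvPolynomial (Fin n) p.ResidueField :=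
    MvPolynomial.aeval fun i => MvPolynomial.C (v i) * MvPolynomial.X i
  let σ' : MvPolynomial (Fin n) p.ResidueField →ₐ[p.ResidueField] MvPolynomial (Fin n) p.ResidueField :=
    MvPolynomial.aeval fun i => MvPolynomial.C (v i)⁻¹ * MvPolynomial.X i
  have h1 : σ.comp σ' = AlgHom.id _ _ := by
    refine MvPolynomial.algHom_ext fun i => ?_
    simp only [AlgHom.comp_apply, σ, σ', v, MvPolynomial.aeval_X, map_mul, MvPolynomial.aeval_C, MvPolynomial.algebraMap_eq]
    rw [← mul_assoc, ← map_mul, inv_mul_cancel₀ (hs i), map_one, one_mul]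
    rfl
  have h2 : σ'.comp σ = AlgHom.id _ _ := by
    refine MvPolynomial.algHom_ext fun i => ?_
    simp only [AlgHom.comp_apply, σ, σ', v, MvPolynomial.aeval_X, map_mul, MvPolynomial.aeval_C, MvPolynomial.algebraMap_eq]
    rw [← mul_assoc, ← map_mul, mul_inv_cancel₀ (hs i), map_one, one_mul]
    rfl
  have hσsurj : Function.Surjective σ := fun f => ⟨σ' f, by rw [← AlgHom.comp_apply, h1]; rfl⟩
  let φ : MvPolynomial (Fin n) R →ₐ[R] C := MvPolynomial.aeval b
  let φk := φ₂.comp σ
  have hφk : ∀ i, φk (MvPolynomial.X i) = 1 ⊗ₜ[R] b i := fun i => by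
    show φ₂ (σ (MvPolynomial.X i)) = _
    rw [show σ (MvPolynomial.X i) = MvPolynomial.C (v i) * MvPolynomial.X i from MvPolynomial.aeval_X _ _, map_mul,
      ← MvPolynomial.algebraMap_eq, AlgHom.commutes]
    exact hb i
  refine ⟨φ, φk, hfin.comp (RingHom.Finite.of_surjective _ hσsurj), fun f => ?_, ?_⟩
  · induction f using MvPolynomial.induction_on with
    | C a =>
      rw [MvPolynomial.map_C, ← MvPolynomial.algebraMap_eq, AlgHom.commutes, ← IsScalarTower.algebraMap_apply,
        show φ (MvPolynomial.C a) = algebraMap R C a from φ.commutes a]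
      exact (AlgHom.commutes (Algebra.TensorProduct.includeRight : C →ₐ[R] p.Fiber C) a).symm
    | add p q hp hq => rw [map_add, map_add, hp, hq, map_add, TensorProduct.tmul_add]
    | mul_X p i hp =>
      rw [map_mul, map_mul, hp, MvPolynomial.map_X, hφk, map_mul, Algebra.TensorProduct.tmul_mul_tmul, one_mul,
        show φ (MvPolynomial.X i) = b i from MvPolynomial.aeval_X _ _]
  · show (Q.comap φ₂).comap σ = _
    rw [hcomap]
    refine le_antisymm ?_ (Ideal.span_le.2 ?_)
    · intro f hf
      have hJ : Ideal.span (Set.range fun i : {i : Fin n // r ≤ (i : ℕ)} =>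
          (MvPolynomial.X (i : Fin n) : MvPolynomial (Fin n) p.ResidueField)) ≤
        (Ideal.span (Set.range fun i : {i : Fin n // r ≤ (i : ℕ)} => MvPolynomial.X (i : Fin n))).comap σ' :=
        Ideal.span_le.2 (by
          rintro _ ⟨i, rfl⟩
          simp only [SetLike.mem_coe, Ideal.mem_comap, σ', MvPolynomial.aeval_X]
          exact Ideal.mul_mem_left _ _ (Ideal.subset_span ⟨i, rfl⟩))
      have h := hJ hf
      rw [Ideal.mem_comap, ← AlgHom.comp_apply, h2] at h
      exact h
    · rintro _ ⟨i, rfl⟩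
      simp only [SetLike.mem_coe, Ideal.mem_comap, σ, MvPolynomial.aeval_X]
      exact Ideal.mul_mem_left _ _ (Ideal.subset_span ⟨i, rfl⟩)

/-- The residue field of the generic point of a coordinate subspace of the fibre. -/
theorem pt_coordinate {n r : ℕ} (y : Ideal (MvPolynomial (Fin n) R)) [y.IsPrime]
    (hyJ : ∀ f, f ∈ y ↔ MvPolynomial.map (algebraMap R p.ResidueField) f ∈
      Ideal.span (Set.range fun i : {i : Fin n // r ≤ (i : ℕ)} => MvPolynomial.X (i : Fin n)))
    (hy : p = y.comap (algebraMap R (MvPolynomial (Fin n) R))) :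
    PT (Ideal.ResidueField.map p y (algebraMap R (MvPolynomial (Fin n) R)) hy) := by
  let k := p.ResidueField
  let σt := ULift.{u} {i : Fin n // (i : ℕ) < r}
  let F := FractionRing (MvPolynomial σt k)
  let proj : MvPolynomial (Fin n) k →ₐ[k] MvPolynomial σt k :=
    MvPolynomial.aeval fun i => if h : (i : ℕ) < r then MvPolynomial.X ⟨⟨i, h⟩⟩ else 0
  let incl : MvPolynomial σt k →ₐ[k] MvPolynomial (Fin n) k := MvPolynomial.rename fun i => i.down.1
  let J : Ideal (MvPolynomial (Fin n) k) :=
    Ideal.span (Set.range fun i : {i : Fin n // r ≤ (i : ℕ)} => MvPolynomial.X (i : Fin n))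
  have hpi : ∀ f, f - incl (proj f) ∈ J := fun f => by
    induction f using MvPolynomial.induction_on with
    | C a => simp [proj, incl]
    | add p p' hp hp' => rw [map_add, map_add, add_sub_add_comm]; exact add_mem hp hp'
    | mul_X p i hp =>
      rw [map_mul, map_mul]
      by_cases h : (i : ℕ) < r
      · rw [show incl (proj (MvPolynomial.X i)) = MvPolynomial.X i by simp [proj, incl, h], ← sub_mul]
        exact Ideal.mul_mem_right _ _ hp
      · rw [show incl (proj (MvPolynomial.X i)) = 0 by simp [proj, h], mul_zero, sub_zero]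
        exact Ideal.mul_mem_left _ _ (Ideal.subset_span ⟨⟨i, Nat.le_of_not_lt h⟩, rfl⟩)
  have hJker : ∀ f, proj f = 0 ↔ f ∈ J := fun f => by
    refine ⟨fun h => by simpa [h] using hpi f, fun h => ?_⟩
    refine (Ideal.span_le.2 ?_ : J ≤ RingHom.ker proj) h
    rintro _ ⟨⟨i, hi⟩, rfl⟩
    simp [proj, Nat.not_lt.2 hi]
  let m : MvPolynomial (Fin n) R →+* MvPolynomial (Fin n) k := MvPolynomial.map (algebraMap R k)
  let θ : MvPolynomial (Fin n) R →+* F := (algebraMap (MvPolynomial σt k) F).comp (proj.toRingHom.comp m)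
  have hθ : ∀ f, θ f = 0 ↔ f ∈ y := fun f => by
    rw [hyJ, ← hJker]
    exact (map_eq_zero_iff _ (FaithfulSMul.algebraMap_injective (MvPolynomial σt k) F))
  let e : y.ResidueField →+* F := Ideal.ResidueField.lift y θ (fun f hf => RingHom.mem_ker.2 ((hθ f).2 hf))
    fun f hf => isUnit_iff_ne_zero.2 fun h => hf ((hθ f).1 h)
  have he : ∀ f, e (algebraMap _ _ f) = θ f := fun f => Ideal.ResidueField.lift_algebraMap ..
  have hθC : ∀ a : R, θ (MvPolynomial.C a) = algebraMap (MvPolynomial σt k) F (MvPolynomial.C (algebraMap R k a)) :=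
    fun a => by simp [θ, m, proj]
  let cst : k →+* F := (algebraMap (MvPolynomial σt k) F).comp MvPolynomial.C
  have hcst : e.comp (Ideal.ResidueField.map p y (algebraMap R (MvPolynomial (Fin n) R)) hy) = cst := by
    refine Ideal.ResidueField.ringHom_ext (RingHom.ext fun a => ?_)
    simp only [RingHom.comp_apply]
    rw [Ideal.ResidueField.map_algebraMap, he]
    exact hθC a
  have hmem : ∀ P : MvPolynomial σt k, algebraMap _ F P ∈ e.fieldRange := fun P => by
    induction P using MvPolynomial.induction_on with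
    | C a => exact ⟨_, RingHom.congr_fun hcst a⟩
    | add p q hp hq => rw [map_add]; exact add_mem hp hq
    | mul_X p i hp =>
      rw [map_mul]
      exact mul_mem hp ⟨algebraMap _ _ (MvPolynomial.X i.down.1), by
        rw [he]
        simp [θ, m, proj, i.down.2]
        rfl⟩
  have hesurj : Function.Surjective e := fun z => by
    obtain ⟨P, P', -, rfl⟩ := IsFractionRing.div_surjective (A := MvPolynomial σt k) z
    exact div_mem (hmem P) (hmem P')
  let E : y.ResidueField ≃+* F := RingEquiv.ofBijective e ⟨e.injective, hesurj⟩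
  refine ⟨σt, E.symm, fun a => ?_⟩
  rw [RingEquiv.symm_apply_eq]
  exact (RingHom.congr_fun hcst a).symm

/-- Data: a map `R[t_1..t_n] → C[1/c]` quasi-finite at the point, whose image has purely transcendental residue field. -/
theorem exists_noether [Algebra.FiniteType R C]
    (u : Ideal C) [u.IsPrime] (x : PrimeSpectrum (p.Fiber C))
    (hx : x.asIdeal.comap (Algebra.TensorProduct.includeRight : C →ₐ[R] p.Fiber C) = u) (n : ℕ)
    (hn : FlatMor.localDim (PrimeSpectrum (p.Fiber C)) x = n) :
    ∃ (c : C), c ∉ u ∧ ∃ φ : MvPolynomial (Fin n) R →ₐ[R] Localization.Away c,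
      letI := φ.toRingHom.toAlgebra
      ∀ (u' : Ideal (Localization.Away c)) [u'.IsPrime], u'.comap (algebraMap C (Localization.Away c)) = u →
        Algebra.QuasiFiniteAt (MvPolynomial (Fin n) R) u' ∧
          ∃ h : p = (u'.comap φ.toRingHom).comap (algebraMap R _),
            PT (Ideal.ResidueField.map p (u'.comap φ.toRingHom) (algebraMap R (MvPolynomial (Fin n) R)) h) := by
  obtain ⟨c, hcu, φ₁, hφ₁⟩ := exists_fibre_finite p u x hx n hn
  refine ⟨c, hcu, ?_⟩
  let Cc := Localization.Away c
  let uc : Ideal Cc := u.map (algebraMap C Cc)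
  have hdisj : Disjoint (Submonoid.powers c : Set C) u := Set.disjoint_left.2 fun _ ⟨m, hm⟩ h =>
    hcu (‹u.IsPrime›.mem_of_pow_mem m (by rw [← hm] at h; exact h))
  have huc : uc.comap (algebraMap C Cc) = u :=
    IsLocalization.comap_map_of_isPrime_disjoint (Submonoid.powers c) Cc ‹_› hdisj
  haveI : uc.IsPrime := IsLocalization.isPrime_of_isPrime_disjoint (Submonoid.powers c) Cc u ‹_› hdisj
  have hup : u.comap (algebraMap R C) = p := by
    rw [← hx]
    show (x.asIdeal.comap (Algebra.TensorProduct.includeRight : C →ₐ[R] p.Fiber C).toRingHom).comap _ = p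
    rw [Ideal.comap_comap, show (Algebra.TensorProduct.includeRight : C →ₐ[R] p.Fiber C).toRingHom.comp
      (algebraMap R C) = (algebraMap p.ResidueField (p.Fiber C)).comp (algebraMap R p.ResidueField) from
      RingHom.ext fun r => by
        rw [RingHom.comp_apply, RingHom.comp_apply]
        exact (AlgHom.commutes (Algebra.TensorProduct.includeRight : C →ₐ[R] p.Fiber C) r).trans
          (IsScalarTower.algebraMap_apply R p.ResidueField _ r),
      ← Ideal.comap_comap]
    have : x.asIdeal.comap (algebraMap p.ResidueField (p.Fiber C)) = ⊥ :=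
      (Ideal.eq_bot_or_top _).resolve_right (Ideal.IsPrime.comap _).ne_top
    rw [this]
    exact Ideal.ker_algebraMap_residueField p
  haveI : uc.LiesOver p := ⟨by
    rw [Ideal.under_def, IsScalarTower.algebraMap_eq R C Cc, ← Ideal.comap_comap, huc, hup]⟩
  let Q : Ideal (p.Fiber Cc) := (PrimeSpectrum.primesOverOrderIsoFiber R Cc p ⟨uc, ‹_›, ‹_›⟩).asIdeal
  have hQ : Q.comap (Algebra.TensorProduct.includeRight : Cc →ₐ[R] p.Fiber Cc) = uc :=
    congr($((PrimeSpectrum.primesOverOrderIsoFiber R Cc p).symm_apply_apply ⟨uc, ‹_›, ‹_›⟩).1)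
  haveI : Q.IsPrime := (PrimeSpectrum.primesOverOrderIsoFiber R Cc p ⟨uc, ‹_›, ‹_›⟩).2
  haveI : (Q.comap φ₁).IsPrime := inferInstance
  obtain ⟨r, -, ψ, hψ, hcomap⟩ := FlatMisc.RefinedNN.exists_finite_comap_eq n (Q.comap φ₁)
  have hψfin : ψ.toRingHom.Finite := hψ.to_finite (RingHom.FiniteType.of_comp_finiteType
    (f := MvPolynomial.C) (g := ψ.toRingHom)
    (by rw [show ψ.toRingHom.comp MvPolynomial.C = algebraMap p.ResidueField (MvPolynomial (Fin n) p.ResidueField)
          from ψ.comp_algebraMap]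
        exact RingHom.finiteType_algebraMap.2 inferInstance))
  obtain ⟨φ, φk, hφkfin, hφkm, hJ⟩ := exists_scaled_lift p Q (φ₁.comp ψ) (hφ₁.comp hψfin) hcomap
  refine ⟨φ, ?_⟩
  letI := φ.toRingHom.toAlgebra
  intro u' _ hu'
  obtain rfl : u' = uc := (IsLocalization.map_comap (Submonoid.powers c) Cc u').symm.trans
    (congrArg (Ideal.map (algebraMap C Cc)) hu')
  haveI : IsScalarTower R (MvPolynomial (Fin n) R) Cc := .of_algebraMap_eq fun r => (φ.commutes r).symm
  let y : Ideal (MvPolynomial (Fin n) R) := uc.comap φ.toRingHom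
  have hy : p = y.comap (algebraMap R _) := by
    rw [Ideal.comap_comap, show φ.toRingHom.comp (algebraMap R _) = algebraMap R Cc from φ.comp_algebraMap]
    exact uc.over_def p
  haveI : y.LiesOver p := ⟨hy⟩
  haveI : y.IsPrime := inferInstance
  refine ⟨?_, hy, pt_coordinate p (r := r) y (fun f => ?_) hy⟩
  · let e : p.Fiber (MvPolynomial (Fin n) R) ≃ₐ[p.ResidueField] MvPolynomial (Fin n) p.ResidueField :=
      MvPolynomial.algebraTensorAlgEquiv R p.ResidueField
    have hfin : Module.Finite y.ResidueField (y.Fiber Cc) := by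
      refine finite_fiber_of_finite p y (φk.comp e.toAlgHom) (fun a => ?_)
        (hφkfin.comp (RingHom.Finite.of_surjective _ e.surjective))
      show φk (e (1 ⊗ₜ a)) = _
      rw [show e (1 ⊗ₜ a) = MvPolynomial.map (algebraMap R p.ResidueField) a by simp [e]]
      exact hφkm a
    haveI : uc.LiesOver y := ⟨rfl⟩
    let Q' : Ideal (y.Fiber Cc) :=
      (PrimeSpectrum.primesOverOrderIsoFiber (MvPolynomial (Fin n) R) Cc y ⟨uc, ‹_›, ‹_›⟩).asIdeal
    have hQ' : Q'.comap Algebra.TensorProduct.includeRight.toRingHom = uc :=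
      congr($((PrimeSpectrum.primesOverOrderIsoFiber (MvPolynomial (Fin n) R) Cc y).symm_apply_apply
        ⟨uc, ‹_›, ‹_›⟩).1)
    haveI : Q'.IsPrime := (PrimeSpectrum.primesOverOrderIsoFiber _ Cc y ⟨uc, ‹_›, ‹_›⟩).2
    haveI : Algebra.FiniteType (MvPolynomial (Fin n) R) Cc :=
      Algebra.FiniteType.of_restrictScalars_finiteType R _ _
    haveI := hfin
    exact Algebra.QuasiFiniteAt.of_quasiFiniteAt_residueField y uc Q' hQ'
  · rw [← hJ]
    show φ f ∈ uc ↔ φk (MvPolynomial.map (algebraMap R p.ResidueField) f) ∈ Q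
    rw [hφkm, ← hQ]
    rfl

end Groth.Agent.RG
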