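import Groth.Agent.RG.OpenProj

/-!
# The projective piece in an arbitrary model of the base change
-/

set_option autoImplicit false
set_option linter.style.haveILetI false
set_option linter.unusedSectionVars false
set_option backward.isDefEq.respectTransparency false
set_option backward.isDefEq.respectTransparency.types false
set_option maxHeartbeats 2000000

universe u

open TensorProduct AlgebraicGeometry CategoryTheory

namespace Groth.Agent.RG

attribute [local instance] Algebra.TensorProduct.rightAlgebra

/-- The piece in any model over an algebra `L` over `R'`. -/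
theorem projective_piece_model {R S : Type u} [CommRing R] [CommRing S] [Algebra R S]
    (N : Type u) [AddCommGroup N] [Module S N]
    (R' L : Type u) [CommRing R'] [CommRing L] [Algebra R R'] [Algebra R' L] [Algebra R L] [IsScalarTower R R' L]
    (p' : Ideal R') [p'.IsPrime] (pL : Ideal L) [pL.IsPrime] [hpL : pL.LiesOver p']
    (hκ : Function.Bijective (Ideal.ResidueField.mapₐ p' pL (Algebra.ofId R' L) hpL.over))
    (h' : S ⊗[R] R') (q : Ideal S) [q.IsPrime] (y : Ideal (S ⊗[R] R')) [y.IsPrime] (hy : h' ∉ y)
    (hyq : y.comap (algebraMap S (S ⊗[R] R')) = q) [hyp : y.LiesOver p']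
    [Module.Projective L (L ⊗[R'] (Localization.Away h' ⊗[S] N))]
    (S' N' : Type u) [CommRing S'] [Algebra R S'] [Algebra S S'] [Algebra L S'] [IsScalarTower R S S'] [IsScalarTower R L S']
    [Algebra.IsPushout R S L S'] [AddCommGroup N'] [Module S' N'] [Module S N'] [IsScalarTower S S' N']
    (f : N →ₗ[S] N') (hf : IsBaseChange S' f) :
    ∃ (C : Type u) (_ : CommRing C) (_ : Algebra S' C) (_ : Algebra L C) (_ : IsScalarTower L S' C)
      (x' : Ideal C) (_ : x'.IsPrime),
      IsOpenImmersion (Spec.map (CommRingCat.ofHom (algebraMap S' C))) ∧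
      (x'.comap (algebraMap S' C)).LiesOver q ∧ (x'.comap (algebraMap S' C)).LiesOver pL ∧
      Module.Projective L (RestrictScalars L C (C ⊗[S'] N')) := by
  let T' := S ⊗[R] R'
  haveI : Algebra.IsPushout R R' S T' := Algebra.IsPushout.symm inferInstance
  haveI : Algebra.IsPushout R L S S' := Algebra.IsPushout.symm inferInstance
  letI : Algebra R' S' := ((algebraMap L S').comp (algebraMap R' L)).toAlgebra
  haveI : IsScalarTower R' L S' := IsScalarTower.of_algebraMap_eq' rfl
  haveI : IsScalarTower R R' S' := IsScalarTower.of_algebraMap_eq (R := R) (S := R') (A := S') fun r => by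
    rw [IsScalarTower.algebraMap_apply R' L S', ← IsScalarTower.algebraMap_apply R R' L,
      ← IsScalarTower.algebraMap_apply R L S']
  letI : Algebra T' S' := (Algebra.TensorProduct.lift (IsScalarTower.toAlgHom R S S')
    (IsScalarTower.toAlgHom R R' S') fun _ _ => Commute.all _ _).toRingHom.toAlgebra
  haveI : IsScalarTower S T' S' := IsScalarTower.of_algebraMap_eq (R := S) (S := T') (A := S') fun a => by
    show algebraMap S S' a = Algebra.TensorProduct.lift (IsScalarTower.toAlgHom R S S')
      (IsScalarTower.toAlgHom R R' S') (fun _ _ => Commute.all _ _) (a ⊗ₜ (1 : R'))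
    simp
  haveI : IsScalarTower R' T' S' := IsScalarTower.of_algebraMap_eq (R := R') (S := T') (A := S') fun a => by
    show algebraMap R' S' a = Algebra.TensorProduct.lift (IsScalarTower.toAlgHom R S S')
      (IsScalarTower.toAlgHom R R' S') (fun _ _ => Commute.all _ _) ((1 : S) ⊗ₜ a)
    simp
  haveI : IsScalarTower R T' S' := IsScalarTower.of_algebraMap_eq (R := R) (S := T') (A := S') fun r => by
    rw [IsScalarTower.algebraMap_apply R S T', ← IsScalarTower.algebraMap_apply S T' S',
      ← IsScalarTower.algebraMap_apply R S S']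
  haveI hpo : Algebra.IsPushout R' L T' S' :=
    (Algebra.IsPushout.comp_iff R R' S T' (T := L) (T' := S')).1 inferInstance
  obtain ⟨z, _, hzy, hzp⟩ := exists_prime_over (R := R') (R' := L) (S := T') (S' := S') p' pL hκ y
  haveI := hzy
  haveI := hzp
  let B := Localization.Away h'
  let c := algebraMap T' S' h'
  let C := Localization.Away c
  have hu : IsUnit (algebraMap T' C h') := by
    rw [IsScalarTower.algebraMap_apply T' S' C]
    exact IsLocalization.Away.algebraMap_isUnit c
  letI : Algebra B C := (IsLocalization.Away.lift h' hu).toAlgebra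
  haveI : IsScalarTower T' B C := IsScalarTower.of_algebraMap_eq fun a => (IsLocalization.Away.lift_eq h' hu a).symm
  haveI : IsScalarTower S B C := IsScalarTower.of_algebraMap_eq (R := S) (S := B) (A := C) fun s => by
    rw [IsScalarTower.algebraMap_apply S T' B, ← IsScalarTower.algebraMap_apply T' B C,
      ← IsScalarTower.algebraMap_apply S T' C]
  haveI : IsScalarTower R' B C := IsScalarTower.of_algebraMap_eq (R := R') (S := B) (A := C) fun s => by
    rw [IsScalarTower.algebraMap_apply R' T' B, ← IsScalarTower.algebraMap_apply T' B C,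
      ← IsScalarTower.algebraMap_apply R' T' C]
  haveI : IsLocalization (Algebra.algebraMapSubmonoid S' (Submonoid.powers h')) C := by
    rw [Algebra.algebraMapSubmonoid_powers]
    show IsLocalization.Away c C
    infer_instance
  haveI h2 : Algebra.IsPushout T' S' B C :=
    (Algebra.isLocalization_iff_isPushout (Submonoid.powers h') B).1 inferInstance
  haveI : Algebra.IsPushout R' T' L S' := hpo.symm
  haveI : Algebra.IsPushout R' L B C :=
    (Algebra.IsPushout.comp_iff R' T' L S' (T := B) (T' := C)).2 h2.symm |>.symm
  have hcz : c ∉ z := fun hm => hy ((SetLike.ext_iff.1 hzy.over h').2 hm)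
  obtain ⟨hC1, hC2⟩ := map_away_isPrime (A₁ := C) c z hcz
  refine ⟨C, inferInstance, inferInstance, inferInstance, inferInstance, z.map (algebraMap S' C), hC1,
    IsOpenImmersion.of_isLocalization c, ⟨?_⟩, ⟨?_⟩, ?_⟩
  · show q = ((z.map (algebraMap S' C)).comap (algebraMap S' C)).comap (algebraMap S S')
    rw [hC2, IsScalarTower.algebraMap_eq S T' S', ← Ideal.comap_comap, ← Ideal.under_def (A := T') z, ← hzy.over]
    exact hyq.symm
  · show pL = ((z.map (algebraMap S' C)).comap (algebraMap S' C)).comap (algebraMap L S')
    rw [hC2]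
    exact hzp.over
  haveI : SMulCommClass S L C := ⟨fun s a z => by rw [← algebraMap_smul C a z, ← algebraMap_smul C a (s • z), smul_comm]⟩
  haveI : SMulCommClass B L C := ⟨fun s a z => by rw [← algebraMap_smul C a z, ← algebraMap_smul C a (s • z), smul_comm]⟩
  haveI : SMulCommClass S' L C := ⟨fun s a z => by rw [← algebraMap_smul C a z, ← algebraMap_smul C a (s • z), smul_comm]⟩
  have hbc : IsBaseChange C ((TensorProduct.mk S' C N' 1).restrictScalars S ∘ₗ f) :=
    hf.comp (TensorProduct.isBaseChange S' N' C)
  let e₁ : C ⊗[B] (B ⊗[S] N) ≃ₗ[C] C ⊗[S'] N' := AlgebraTensorModule.cancelBaseChange S B C C N ≪≫ₗ hbc.equiv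
  haveI : Module.Projective L (C ⊗[S'] N') := Module.Projective.of_equiv
    (((Algebra.IsPushout.cancelBaseChange R' L B C (B ⊗[S] N)).restrictScalars L).symm ≪≫ₗ e₁.restrictScalars L)
  let e₂ : (C ⊗[S'] N') ≃ₗ[L] RestrictScalars L C (C ⊗[S'] N') :=
    { (RestrictScalars.addEquiv L C (C ⊗[S'] N')).symm with
      map_smul' := fun r w => by
        show (RestrictScalars.addEquiv L C (C ⊗[S'] N')).symm (r • w) =
          r • (RestrictScalars.addEquiv L C (C ⊗[S'] N')).symm w
        rw [← algebraMap_smul C r w]
        exact RestrictScalars.addEquiv_symm_map_algebraMap_smul _ _ _ r w }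
  exact Module.Projective.of_equiv e₂

end Groth.Agent.RG
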