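import Groth.Agent.RG.OpenFreeNbhd
import Groth.Agent.RG.PureCrit
import Groth.Agent.S0387

/-!
# An affine open of an étale base change on which a flat module is projective
-/

set_option autoImplicit false
set_option linter.style.haveILetI false
set_option linter.unusedSectionVars false
set_option backward.isDefEq.respectTransparency false
set_option backward.isDefEq.respectTransparency.types false
set_option maxHeartbeats 2000000

universe u

open TensorProduct IsLocalRing

namespace Groth.Agent.RG

attribute [local instance] Algebra.TensorProduct.rightAlgebra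

/-- Multiplying by a unit of the base does not affect freeness of a localisation. -/
theorem free_localized_mul_unit {A T : Type u} [CommRing A] [CommRing T] [Algebra A T] (M : Type u) [AddCommGroup M]
    [Module T M] [Module A M] [IsScalarTower A T M] (h : T) {u : T} (hu : IsUnit u)
    [Module.Free A (LocalizedModule (Submonoid.powers h) M)] :
    Module.Free A (LocalizedModule (Submonoid.powers (h * u)) M) := by
  let f := LocalizedModule.mkLinearMap (Submonoid.powers h) M
  haveI : IsLocalizedModule (Submonoid.powers (h * u)) f := by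
    refine IsLocalizedModule.mk ?_ ?_ ?_
    · rintro ⟨_, k, rfl⟩
      show IsUnit (algebraMap T (Module.End T _) ((h * u) ^ k))
      rw [mul_pow, map_mul]
      exact (IsLocalizedModule.map_units f (⟨h ^ k, k, rfl⟩ : Submonoid.powers h)).mul ((hu.pow k).map _)
    · intro y
      obtain ⟨⟨x, ⟨_, k, rfl⟩⟩, hx⟩ := IsLocalizedModule.surj (Submonoid.powers h) f y
      refine ⟨⟨u ^ k • x, ⟨(h * u) ^ k, k, rfl⟩⟩, ?_⟩
      simp only [Submonoid.smul_def] at hx ⊢
      rw [map_smul, ← hx, mul_pow, mul_comm, mul_smul]
    · intro x₁ x₂ hx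
      obtain ⟨⟨_, k, rfl⟩, hc⟩ := (IsLocalizedModule.eq_iff_exists (Submonoid.powers h) f).1 hx
      refine ⟨⟨(h * u) ^ k, k, rfl⟩, ?_⟩
      simp only [Submonoid.smul_def] at hc ⊢
      rw [mul_pow, mul_comm, mul_smul, mul_smul, hc]
  exact Module.Free.of_equiv ((IsLocalizedModule.iso (Submonoid.powers (h * u)) f).restrictScalars A).symm

/-- A localised piece of a base change to the local ring, as a tensor product. -/
theorem free_tensor_localized {R' A T' T : Type u} [CommRing R'] [CommRing A] [CommRing T'] [CommRing T] [Algebra R' A]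
    [Algebra R' T'] [Algebra T' T] [Algebra A T] [Algebra R' T] [IsScalarTower R' T' T] [IsScalarTower R' A T]
    [Algebra.IsPushout R' A T' T] (M' : Type u) [AddCommGroup M'] [Module T' M'] [Module R' M'] [IsScalarTower R' T' M']
    (h' : T') (B : Type u) [CommRing B] [Algebra T' B] [IsLocalization.Away h' B] [Algebra R' B] [IsScalarTower R' T' B]
    [Module.Free A (LocalizedModule (Submonoid.powers (algebraMap T' T h')) (T ⊗[T'] M'))] :
    Module.Free A (A ⊗[R'] (B ⊗[T'] M')) := by
  let BT := T ⊗[T'] B
  let hT := algebraMap T' T h'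
  haveI : IsLocalization (Algebra.algebraMapSubmonoid T (Submonoid.powers h')) BT := inferInstance
  haveI : IsLocalization.Away hT BT := by
    show IsLocalization (Submonoid.powers hT) BT
    rw [← Algebra.algebraMapSubmonoid_powers]
    infer_instance
  let l : (T ⊗[T'] M') →ₗ[T] BT ⊗[T] (T ⊗[T'] M') := TensorProduct.mk T BT (T ⊗[T'] M') 1
  haveI : IsLocalizedModule (Submonoid.powers hT) l :=
    (isLocalizedModule_iff_isBaseChange (Submonoid.powers hT) BT l).2 (TensorProduct.isBaseChange T (T ⊗[T'] M') BT)
  let e : LocalizedModule (Submonoid.powers hT) (T ⊗[T'] M') ≃ₗ[T] T ⊗[T'] (B ⊗[T'] M') :=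
    IsLocalizedModule.iso (Submonoid.powers hT) l ≪≫ₗ
      (AlgebraTensorModule.distribBaseChange T' T B M').symm
  haveI : Module.Free A (T ⊗[T'] (B ⊗[T'] M')) := Module.Free.of_equiv (e.restrictScalars A)
  haveI : SMulCommClass T' A T := ⟨fun s a c => by rw [← algebraMap_smul T a c, ← algebraMap_smul T a (s • c), smul_comm]⟩
  exact Module.Free.of_equiv ((Algebra.IsPushout.cancelBaseChange R' A T' T (B ⊗[T'] M')).restrictScalars A)

/-- Where the base change to `A = R'_p` is flat, so is the module. -/
theorem flatAt_of_flat_atPrime {R' A B : Type u} [CommRing R'] [CommRing A] [CommRing B] [Algebra R' A] [Algebra R' B]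
    (p : Ideal R') [p.IsPrime] [IsLocalization p.primeCompl A]
    (L : Type u) [AddCommGroup L] [Module B L] [Module R' L] [IsScalarTower R' B L] [Module.Flat A (A ⊗[R'] L)]
    (q : Ideal B) [q.IsPrime] (hq : q.comap (algebraMap R' B) ≤ p) :
    Module.Flat R' (LocalizedModule q.primeCompl L) := by
  haveI : Module.Flat R' A := IsLocalization.flat A p.primeCompl
  haveI : Module.Flat R' (A ⊗[R'] L) := Module.Flat.trans R' A _
  rw [FlatModel.flat_localized_iff q.primeCompl (LocalizedModule.mkLinearMap q.primeCompl L)]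
  intro J y hy
  let mkA : (L ⊗[R'] J) →ₗ[R'] A ⊗[R'] (L ⊗[R'] J) := TensorProduct.mk R' A _ 1
  have h1 : mkA y = 0 := by
    let eJ := TensorProduct.assoc R' A L J
    let eR := TensorProduct.assoc R' A L R'
    have hc : ∀ w : (A ⊗[R'] L) ⊗[R'] J, eR (J.subtype.lTensor (A ⊗[R'] L) w) =
        (J.subtype.lTensor L).lTensor A (eJ w) := fun w => by
      induction w using TensorProduct.induction_on with
      | zero => simp
      | add a b ha hb => simp only [map_add, ha, hb]
      | tmul x j =>
        induction x using TensorProduct.induction_on with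
        | zero => simp
        | add a b ha hb => simp only [TensorProduct.add_tmul, map_add, ha, hb]
        | tmul a n => simp [eJ, eR]
    apply eJ.symm.injective
    apply Module.Flat.iff_lTensor_injective'.1 ‹Module.Flat R' (A ⊗[R'] L)› J
    apply eR.injective
    rw [map_zero, map_zero, map_zero, hc, LinearEquiv.apply_symm_apply]
    show (J.subtype.lTensor L).lTensor A ((1 : A) ⊗ₜ[R'] y) = 0
    rw [LinearMap.lTensor_tmul, hy, TensorProduct.tmul_zero]
  haveI : IsLocalizedModule p.primeCompl mkA :=
    (isLocalizedModule_iff_isBaseChange p.primeCompl A mkA).2 (TensorProduct.isBaseChange R' _ A)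
  obtain ⟨⟨s, hs⟩, hsy⟩ := (IsLocalizedModule.eq_zero_iff p.primeCompl mkA).1 h1
  exact ⟨algebraMap R' B s, fun hm => hs (hq hm), by rwa [algebraMap_smul]⟩

/-- Flat at every prime implies flat. -/
theorem flat_of_flatAt {R B : Type u} [CommRing R] [CommRing B] [Algebra R B] (L : Type u) [AddCommGroup L] [Module B L]
    [Module R L] [IsScalarTower R B L] (h : ∀ (q : Ideal B) [q.IsPrime], Module.Flat R (LocalizedModule q.primeCompl L)) :
    Module.Flat R L := by
  rw [Module.Flat.iff_lTensor_injective']
  intro J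
  rw [injective_iff_map_eq_zero]
  intro y hy
  by_contra hy0
  let I : Ideal B := LinearMap.ker (LinearMap.toSpanSingleton B (L ⊗[R] J) y)
  obtain ⟨m, hm, hle⟩ := Ideal.exists_le_maximal I fun ht => hy0 (by
    have h1 : (1 : B) ∈ I := ht ▸ Submodule.mem_top
    simpa [I] using h1)
  haveI := hm.isPrime
  obtain ⟨s, hs, hsy⟩ := (FlatModel.flat_localized_iff m.primeCompl (LocalizedModule.mkLinearMap m.primeCompl L)).1 (h m) J y hy
  exact hs (hle (by simpa [I] using hsy))

/-- Shrinking the base to get flatness everywhere. -/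
theorem exists_flat_away {R' A B : Type u} [CommRing R'] [CommRing A] [CommRing B] [Algebra R' A] [Algebra R' B]
    [Algebra.FinitePresentation R' B] (p : Ideal R') [p.IsPrime] [IsLocalization p.primeCompl A]
    (L : Type u) [AddCommGroup L] [Module B L] [Module R' L] [IsScalarTower R' B L] [Module.FinitePresentation B L]
    [Module.Flat A (A ⊗[R'] L)] :
    ∃ g : R', g ∉ p ∧ ∀ (q : Ideal B) [q.IsPrime], algebraMap R' B g ∉ q →
      Module.Flat R' (LocalizedModule q.primeCompl L) := by
  have hopen := Groth.Agent.S0387.result (R := R') (S := B) (M := L)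
  obtain ⟨s, hs⟩ := (PrimeSpectrum.isClosed_iff_zeroLocus _).1 hopen.isClosed_compl
  by_contra hne
  push Not at hne
  let J : Ideal B := Ideal.span s
  have hd : Disjoint (J : Set B) (p.primeCompl.map (algebraMap R' B) : Set B) := by
    rw [Set.disjoint_left]
    rintro _ hJ ⟨g, hg, rfl⟩
    obtain ⟨q, hq, hgq, hnf⟩ := hne g hg
    have hmem : (⟨q, hq⟩ : PrimeSpectrum B) ∈ PrimeSpectrum.zeroLocus s := by
      rw [← hs]; exact hnf
    exact hgq ((Ideal.span_le.2 hmem) hJ)
  obtain ⟨Q, hQ, hJQ, hQd⟩ := Ideal.exists_le_prime_disjoint J _ hd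
  haveI := hQ
  have hQf : (⟨Q, hQ⟩ : PrimeSpectrum B) ∈ PrimeSpectrum.zeroLocus s := fun x hx => hJQ (Ideal.subset_span hx)
  rw [← hs] at hQf
  exact hQf (flatAt_of_flat_atPrime (A := A) p L Q fun a ha => by_contra fun hap => Set.disjoint_left.1 hQd ha ⟨a, hap, rfl⟩)

/-- An affine open of the base change to a shrunk neighbourhood, with a projective module. -/
theorem exists_projective_piece {R S : Type u} [CommRing R] [CommRing S] [Algebra R S] [Algebra.FinitePresentation R S]
    (N : Type u) [AddCommGroup N] [Module S N] [Module R N] [IsScalarTower R S N] [Module.FinitePresentation S N]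
    (R' : Type u) [CommRing R'] [Algebra R R'] (p' : Ideal R') [p'.IsPrime]
    (A : Type u) [CommRing A] [IsLocalRing A] [Algebra R' A] [Algebra R A] [IsScalarTower R R' A]
    [IsLocalization p'.primeCompl A] [hA : (maximalIdeal A).LiesOver p']
    (q : Ideal S) [q.IsPrime] (h : S ⊗[R] A) (x : Ideal (S ⊗[R] A)) [x.IsPrime] (hx : h ∉ x)
    (hxq : x.comap (algebraMap S (S ⊗[R] A)) = q) [x.LiesOver (maximalIdeal A)]
    [hfree : Module.Free A (LocalizedModule (Submonoid.powers h) ((S ⊗[R] A) ⊗[S] N))] :
    ∃ (h' : S ⊗[R] R') (g : R'), g ∉ p' ∧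
      (∃ y : Ideal (S ⊗[R] R'), y.IsPrime ∧ h' ∉ y ∧ y.comap (algebraMap S (S ⊗[R] R')) = q ∧ y.LiesOver p') ∧
      Module.Projective (Localization.Away g) (Localization.Away g ⊗[R'] (Localization.Away h' ⊗[S] N)) := by
  let T' := S ⊗[R] R'
  let T := S ⊗[R] A
  haveI : Algebra.IsPushout R R' S T' := Algebra.IsPushout.symm inferInstance
  haveI : Algebra.IsPushout R A S T := Algebra.IsPushout.symm inferInstance
  letI : Algebra T' T := (Algebra.TensorProduct.map (AlgHom.id R S) (IsScalarTower.toAlgHom R R' A)).toRingHom.toAlgebra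
  haveI : IsScalarTower S T' T := IsScalarTower.of_algebraMap_eq (R := S) (S := T') (A := T) fun s => by
    show s ⊗ₜ[R] (1 : A) = s ⊗ₜ[R] algebraMap R' A 1
    rw [map_one]
  letI : Algebra R' T := ((algebraMap A T).comp (algebraMap R' A)).toAlgebra
  haveI : IsScalarTower R' A T := IsScalarTower.of_algebraMap_eq' rfl
  haveI : IsScalarTower R' T' T := IsScalarTower.of_algebraMap_eq (R := R') (S := T') (A := T) fun a => rfl
  haveI : IsScalarTower R T' T := IsScalarTower.of_algebraMap_eq (R := R) (S := T') (A := T) fun r => by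
    rw [IsScalarTower.algebraMap_apply R S T', ← IsScalarTower.algebraMap_apply S T' T,
      ← IsScalarTower.algebraMap_apply R S T]
  haveI hpo : Algebra.IsPushout R' A T' T :=
    (Algebra.IsPushout.comp_iff R R' S T' (T := A) (T' := T)).1 inferInstance
  haveI : IsLocalization (Algebra.algebraMapSubmonoid T' p'.primeCompl) T :=
    (Algebra.isLocalization_iff_isPushout p'.primeCompl A).2 hpo.symm
  obtain ⟨⟨h₀, ⟨_, u, hu, rfl⟩⟩, hh₀⟩ := IsLocalization.surj (Algebra.algebraMapSubmonoid T' p'.primeCompl) h
  have hun : IsUnit (algebraMap T' T (algebraMap R' T' u)) :=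
    IsLocalization.map_units T (⟨_, Algebra.mem_algebraMapSubmonoid_of_mem (⟨u, hu⟩ : p'.primeCompl)⟩ :
      Algebra.algebraMapSubmonoid T' p'.primeCompl)
  -- flatness near the point
  let B₀ := Localization.Away h₀
  haveI : Algebra.FinitePresentation R' T' := Algebra.FinitePresentation.equiv (Algebra.IsPushout.equiv R R' S T')
  haveI : Algebra.FinitePresentation T' B₀ := IsLocalization.Away.finitePresentation h₀
  haveI : Algebra.FinitePresentation R' B₀ := Algebra.FinitePresentation.trans R' T' B₀
  haveI : SMulCommClass S R' T' := ⟨fun s a c => by rw [← algebraMap_smul T' a c, ← algebraMap_smul T' a (s • c), smul_comm]⟩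
  let e₀ : T ⊗[T'] (T' ⊗[S] N) ≃ₗ[T] T ⊗[S] N := AlgebraTensorModule.cancelBaseChange S T' T T N
  have key : ∀ (h' : T'), (∃ w : T, IsUnit w ∧ algebraMap T' T h' = h * w) →
      Module.Free A (A ⊗[R'] (Localization.Away h' ⊗[S] N)) := by
    intro h' ⟨w, hw, hwh⟩
    haveI : Module.Free A (LocalizedModule (Submonoid.powers (algebraMap T' T h')) (T ⊗[S] N)) := by
      rw [hwh]; exact free_localized_mul_unit _ h hw
    haveI : Module.Free A (LocalizedModule (Submonoid.powers (algebraMap T' T h')) (T ⊗[T'] (T' ⊗[S] N))) :=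
      Module.Free.of_equiv ((IsLocalizedModule.mapEquiv (Submonoid.powers (algebraMap T' T h'))
        (LocalizedModule.mkLinearMap (Submonoid.powers (algebraMap T' T h')) (T ⊗[S] N))
        (LocalizedModule.mkLinearMap (Submonoid.powers (algebraMap T' T h')) (T ⊗[T'] (T' ⊗[S] N)))
        (Localization.Away (algebraMap T' T h')) e₀.symm).restrictScalars A)
    haveI := free_tensor_localized (R' := R') (A := A) (T' := T') (T := T) (T' ⊗[S] N) h' (Localization.Away h')
    exact Module.Free.of_equiv (LinearEquiv.baseChange R' A (Localization.Away h' ⊗[T'] (T' ⊗[S] N))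
      (Localization.Away h' ⊗[S] N)
      ((AlgebraTensorModule.cancelBaseChange S T' (Localization.Away h') (Localization.Away h') N).restrictScalars R'))
  haveI := key h₀ ⟨_, hun, hh₀.symm⟩
  haveI : Module.FinitePresentation B₀ (B₀ ⊗[S] N) := inferInstance
  obtain ⟨g₀, hg₀, hfl⟩ := exists_flat_away (A := A) (B := B₀) p' (B₀ ⊗[S] N)
  let h' : T' := h₀ * algebraMap R' T' g₀
  let B := Localization.Away h'
  have hg₀u : IsUnit (algebraMap T' T (algebraMap R' T' g₀)) :=
    IsLocalization.map_units T (⟨_, Algebra.mem_algebraMapSubmonoid_of_mem (⟨g₀, hg₀⟩ : p'.primeCompl)⟩ :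
      Algebra.algebraMapSubmonoid T' p'.primeCompl)
  haveI := key h' ⟨_, hun.mul hg₀u, by rw [map_mul, ← hh₀, mul_assoc]⟩
  haveI : Algebra.FinitePresentation T' B := IsLocalization.Away.finitePresentation h'
  haveI : Algebra.FinitePresentation R' B := Algebra.FinitePresentation.trans R' T' B
  have hdvd : h₀ ∣ h' := dvd_mul_right _ _
  have hu0 : IsUnit (algebraMap T' B h₀) :=
    isUnit_of_dvd_unit (map_dvd (algebraMap T' B) hdvd) (IsLocalization.Away.algebraMap_isUnit h')
  letI : Algebra B₀ B := (IsLocalization.Away.lift h₀ hu0).toAlgebra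
  haveI : IsScalarTower T' B₀ B :=
    IsScalarTower.of_algebraMap_eq fun x => (IsLocalization.Away.lift_eq h₀ hu0 x).symm
  haveI : IsScalarTower S B₀ B := IsScalarTower.of_algebraMap_eq (R := S) (S := B₀) (A := B) fun s => by
    rw [IsScalarTower.algebraMap_apply S T' B₀, ← IsScalarTower.algebraMap_apply T' B₀ B,
      ← IsScalarTower.algebraMap_apply S T' B]
  haveI : IsScalarTower R' B₀ B := IsScalarTower.of_algebraMap_eq (R := R') (S := B₀) (A := B) fun s => by
    rw [IsScalarTower.algebraMap_apply R' T' B₀, ← IsScalarTower.algebraMap_apply T' B₀ B,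
      ← IsScalarTower.algebraMap_apply R' T' B]
  haveI : Module.Flat R' (B ⊗[S] N) := flat_of_flatAt (B := B) (B ⊗[S] N) fun Q _ => by
    let q₀ := Q.comap (algebraMap B₀ B)
    have hgq : algebraMap R' B₀ g₀ ∉ q₀ := fun hm => by
      refine (inferInstance : Q.IsPrime).ne_top (Ideal.eq_top_of_isUnit_mem _ hm ?_)
      rw [← IsScalarTower.algebraMap_apply R' B₀ B, IsScalarTower.algebraMap_apply R' T' B]
      exact isUnit_of_dvd_unit (map_dvd (algebraMap T' B) (dvd_mul_left _ _)) (IsLocalization.Away.algebraMap_isUnit h')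
    haveI : Module.Flat B₀ B := by
      haveI : Module.Flat T' B := IsLocalization.flat B (Submonoid.powers h')
      exact (Module.flat_iff_of_isLocalization B₀ (Submonoid.powers h₀) B).2 inferInstance
    exact flatAt_congr Q (AlgebraTensorModule.cancelBaseChange S B₀ B B N)
      (flat_localized_baseChange (W := q₀.primeCompl) (V := Q.primeCompl) (fun w hw hw' => hw hw') (hfl q₀ hgq))
  haveI : Module.Projective (Localization.AtPrime p') (Localization.AtPrime p' ⊗[R'] (B ⊗[S] N)) := by
    let ε := IsLocalization.algEquiv p'.primeCompl A (Localization.AtPrime p')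
    letI : Algebra A (Localization.AtPrime p') := ε.toRingEquiv.toRingHom.toAlgebra
    haveI : IsScalarTower R' A (Localization.AtPrime p') := IsScalarTower.of_algebraMap_eq fun a => (ε.commutes a).symm
    exact Module.Projective.of_equiv
      (AlgebraTensorModule.cancelBaseChange R' A (Localization.AtPrime p') (Localization.AtPrime p') (B ⊗[S] N))
  haveI : Module.FinitePresentation B (B ⊗[S] N) := inferInstance
  obtain ⟨g, hg, hproj⟩ := exists_projective_away_of_pure (B := B) (B ⊗[S] N) p'
    (isPureAlong_of_isUnivPureAlong (isUnivPureAlong_of_projective (B := B) (B ⊗[S] N) p' (Localization.AtPrime p')))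
  refine ⟨h', g, hg, ⟨x.comap (algebraMap T' T), inferInstance, ?_, ?_, ⟨?_⟩⟩, hproj⟩
  · intro hm
    have hne : ∀ w : T, IsUnit w → w ∉ x := fun w hw hm =>
      (inferInstance : x.IsPrime).ne_top (Ideal.eq_top_of_isUnit_mem _ hm hw)
    rw [Ideal.mem_comap, map_mul, ← hh₀] at hm
    rcases (inferInstance : x.IsPrime).mem_or_mem hm with h1 | h1
    · rcases (inferInstance : x.IsPrime).mem_or_mem h1 with h2 | h2
      · exact hx h2
      · exact hne _ hun h2
    · exact hne _ hg₀u h1
  · rw [Ideal.comap_comap, ← IsScalarTower.algebraMap_eq S T' T]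
    exact hxq
  · rw [Ideal.under_def, Ideal.comap_comap, ← IsScalarTower.algebraMap_eq R' T' T, IsScalarTower.algebraMap_eq R' A T,
      ← Ideal.comap_comap]
    exact hA.over.trans (congrArg (Ideal.comap (algebraMap R' A)) (‹x.LiesOver (maximalIdeal A)›.over))

end Groth.Agent.RG
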