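import Groth.Agent.RG.OpenFreeNbhd
import Groth.Agent.RG.QuotPoint

/-!
# Open free pieces along a surjection
-/

set_option autoImplicit false
set_option linter.style.haveILetI false
set_option linter.unusedSectionVars false
set_option backward.isDefEq.respectTransparency false
set_option backward.isDefEq.respectTransparency.types false
set_option maxHeartbeats 2000000

universe u

open TensorProduct IsLocalRing AlgebraicGeometry CategoryTheory

namespace Groth.Agent.RG

attribute [local instance] Algebra.TensorProduct.rightAlgebra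

/-- An open free piece passes to the quotient. -/
theorem open_free_quot {R A S₀ S : Type u} [CommRing R] [CommRing A] [IsLocalRing A] [Algebra R A] [CommRing S₀]
    [Algebra R S₀] [CommRing S] [Algebra R S] [Algebra S₀ S] [IsScalarTower R S₀ S]
    (hs : Function.Surjective (algebraMap S₀ S))
    (N : Type u) [AddCommGroup N] [Module S N] [Module S₀ N] [IsScalarTower S₀ S N]
    (q : Ideal S) [q.IsPrime] (h : S₀ ⊗[R] A) (x : Ideal (S₀ ⊗[R] A)) [x.IsPrime] (hh : h ∉ x)
    (hxq : x.comap (algebraMap S₀ (S₀ ⊗[R] A)) = q.comap (algebraMap S₀ S)) [x.LiesOver (maximalIdeal A)]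
    [hfree : Module.Free A (LocalizedModule (Submonoid.powers h) ((S₀ ⊗[R] A) ⊗[S₀] N))]
    (SA NA : Type u) [CommRing SA] [Algebra R SA] [Algebra S SA] [Algebra A SA]
    [IsScalarTower R S SA] [IsScalarTower R A SA] [Algebra.IsPushout R S A SA]
    [AddCommGroup NA] [Module SA NA] [Module S NA] [IsScalarTower S SA NA]
    (f : N →ₗ[S] NA) (hf : IsBaseChange SA f) :
    ∃ (C : Type u) (_ : CommRing C) (_ : Algebra SA C) (_ : Algebra A C)
      (_ : IsScalarTower A SA C) (x' : Ideal C) (_ : x'.IsPrime),
      IsOpenImmersion (Spec.map (CommRingCat.ofHom (algebraMap SA C))) ∧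
      (x'.comap (algebraMap SA C)).LiesOver q ∧
      (x'.comap (algebraMap SA C)).LiesOver (maximalIdeal A) ∧
      Module.Free A (RestrictScalars A C (C ⊗[SA] NA)) := by
  let SA₀ := S₀ ⊗[R] A
  haveI : Algebra.IsPushout R S₀ A SA₀ := inferInstance
  haveI : IsScalarTower R A SA₀ := inferInstance
  letI : Algebra S₀ SA := ((algebraMap S SA).comp (algebraMap S₀ S)).toAlgebra
  haveI : IsScalarTower S₀ S SA := IsScalarTower.of_algebraMap_eq' rfl
  haveI : IsScalarTower R S₀ SA := IsScalarTower.of_algebraMap_eq (R := R) (S := S₀) (A := SA) fun r => by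
    rw [IsScalarTower.algebraMap_apply S₀ S SA, ← IsScalarTower.algebraMap_apply R S₀ S, ← IsScalarTower.algebraMap_apply R S SA]
  letI : Algebra SA₀ SA := (Algebra.TensorProduct.lift (IsScalarTower.toAlgHom R S₀ SA)
    (IsScalarTower.toAlgHom R A SA) fun _ _ => Commute.all _ _).toRingHom.toAlgebra
  haveI : IsScalarTower S₀ SA₀ SA := IsScalarTower.of_algebraMap_eq (R := S₀) (S := SA₀) (A := SA) fun a => by
    show algebraMap S₀ SA a = Algebra.TensorProduct.lift (IsScalarTower.toAlgHom R S₀ SA)
      (IsScalarTower.toAlgHom R A SA) (fun _ _ => Commute.all _ _) (a ⊗ₜ (1 : A))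
    simp
  haveI : IsScalarTower A SA₀ SA := IsScalarTower.of_algebraMap_eq (R := A) (S := SA₀) (A := SA) fun a => by
    show algebraMap A SA a = Algebra.TensorProduct.lift (IsScalarTower.toAlgHom R S₀ SA)
      (IsScalarTower.toAlgHom R A SA) (fun _ _ => Commute.all _ _) ((1 : S₀) ⊗ₜ a)
    simp
  haveI : Algebra.IsPushout R A S₀ SA₀ := Algebra.IsPushout.symm inferInstance
  haveI : Algebra.IsPushout R A S SA := Algebra.IsPushout.symm inferInstance
  haveI hpo : Algebra.IsPushout S₀ S SA₀ SA := isPushout_of_base R A S₀ SA₀ S SA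
  letI : Module SA₀ NA := Module.compHom NA (algebraMap SA₀ SA)
  haveI : IsScalarTower SA₀ SA NA := IsScalarTower.of_algebraMap_smul fun _ _ => rfl
  letI : Module S₀ NA := Module.compHom NA (algebraMap S₀ SA)
  haveI : IsScalarTower S₀ SA NA := IsScalarTower.of_algebraMap_smul fun _ _ => rfl
  haveI : IsScalarTower S₀ S NA := IsScalarTower.of_algebraMap_smul fun a n => by
    show algebraMap S₀ S a • n = algebraMap S₀ SA a • n
    rw [IsScalarTower.algebraMap_apply S₀ S SA, algebraMap_smul SA (algebraMap S₀ S a) n]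
  haveI : IsScalarTower S₀ SA₀ NA := IsScalarTower.of_algebraMap_smul (R := S₀) (A := SA₀) (M := NA) fun a n => by
    show algebraMap SA₀ SA (algebraMap S₀ SA₀ a) • n = algebraMap S₀ SA a • n
    rw [← IsScalarTower.algebraMap_apply]
  have hf₀ : IsBaseChange SA₀ (f.restrictScalars S₀) := isBaseChange_restrict f hf
  obtain ⟨y, hyp, hyx, hyq⟩ := exists_prime_quot (S₀ := S₀) (S := S) (C₀ := SA₀) (C := SA) hs x q hxq
  haveI := hyp
  let g := algebraMap SA₀ SA h
  have hgy : g ∉ y := fun hm => hh ((SetLike.ext_iff.1 hyx h).1 hm)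
  let C := Localization.Away g
  obtain ⟨hx'p, hx'y⟩ := map_away_isPrime (A₁ := C) g y hgy
  refine ⟨C, inferInstance, inferInstance, inferInstance, inferInstance, y.map (algebraMap SA C), hx'p,
    IsOpenImmersion.of_isLocalization g, ⟨?_⟩, ⟨?_⟩, ?_⟩
  · show q = ((y.map (algebraMap SA C)).comap (algebraMap SA C)).comap (algebraMap S SA)
    rw [hx'y, hyq]
  · show maximalIdeal A = ((y.map (algebraMap SA C)).comap (algebraMap SA C)).comap (algebraMap A SA)
    rw [hx'y, IsScalarTower.algebraMap_eq A SA₀ SA, ← Ideal.comap_comap, hyx]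
    exact (inferInstance : x.LiesOver (maximalIdeal A)).over
  haveI : SMulCommClass SA A C :=
    ⟨fun s a c => by rw [← algebraMap_smul C a c, ← algebraMap_smul C a (s • c), smul_comm]⟩
  let l : NA →ₗ[SA] C ⊗[SA] NA := TensorProduct.mk SA C NA 1
  haveI : IsLocalizedModule (Submonoid.powers g) l := inferInstance
  haveI : IsScalarTower SA₀ SA (C ⊗[SA] NA) := IsScalarTower.of_algebraMap_smul fun a z => by
    induction z using TensorProduct.induction_on with
    | zero => rw [smul_zero, smul_zero]
    | tmul c n => rw [TensorProduct.smul_tmul', TensorProduct.smul_tmul', algebraMap_smul]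
    | add u v hu hv => rw [smul_add, smul_add, hu, hv]
  haveI : IsLocalizedModule (Submonoid.powers h) (l.restrictScalars SA₀) :=
    IsLocalizedModule.restrictScalars_powers h l
  let e₀ : (SA₀ ⊗[S₀] N) ≃ₗ[SA₀] NA := hf₀.equiv
  let e := IsLocalizedModule.iso (Submonoid.powers h) ((l.restrictScalars SA₀) ∘ₗ (e₀ : (SA₀ ⊗[S₀] N) →ₗ[SA₀] NA))
  haveI : IsScalarTower A SA₀ (C ⊗[SA] NA) := IsScalarTower.of_algebraMap_smul (R := A) (A := SA₀) (M := C ⊗[SA] NA) fun a z => by
    rw [← algebraMap_smul SA (algebraMap A SA₀ a) z, ← IsScalarTower.algebraMap_apply A SA₀ SA]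
    induction z using TensorProduct.induction_on with
    | zero => rw [smul_zero, smul_zero]
    | tmul c n => rw [TensorProduct.smul_tmul', TensorProduct.smul_tmul', algebraMap_smul]
    | add u v hu hv => rw [smul_add, smul_add, hu, hv]
  haveI : Module.Free A (C ⊗[SA] NA) := Module.Free.of_equiv (e.restrictScalars A)
  let e₂ : (C ⊗[SA] NA) ≃ₗ[A] RestrictScalars A C (C ⊗[SA] NA) :=
    { (RestrictScalars.addEquiv A C (C ⊗[SA] NA)).symm with
      map_smul' := fun r z => by
        show (RestrictScalars.addEquiv A C (C ⊗[SA] NA)).symm (r • z) =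
          r • (RestrictScalars.addEquiv A C (C ⊗[SA] NA)).symm z
        rw [← algebraMap_smul C r z]
        exact RestrictScalars.addEquiv_symm_map_algebraMap_smul _ _ _ r z }
  exact Module.Free.of_equiv e₂

end Groth.Agent.RG
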