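import Groth.Agent.RG.Model
import Groth.Agent.S0389
import Groth.Agent.S0585
import Groth.Agent.S1203
import Groth.Agent.FormalFib6.Cplt
import Mathlib.RingTheory.AdicCompletion.AsTensorProduct
import Mathlib.RingTheory.AdicCompletion.LocalRing
import Mathlib.LinearAlgebra.TensorProduct.Prod

/-!
# Flat algebras with domain fibres are projective over the base
-/

set_option autoImplicit false
set_option linter.style.haveILetI false
set_option linter.unusedSectionVars false
set_option backward.isDefEq.respectTransparency false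
set_option maxHeartbeats 1000000
set_option synthInstance.maxHeartbeats 60000

universe u

open TensorProduct

namespace Groth.Agent.RG

/-- A projective module over a projective algebra is projective. -/
theorem projective_trans (A : Type u) {B Q : Type u} [CommRing A] [CommRing B] [Algebra A B] [Module.Projective A B]
    [AddCommGroup Q] [Module B Q] [Module A Q] [IsScalarTower A B Q] [Module.Projective B Q] : Module.Projective A Q := by
  classical
  obtain ⟨s, hs⟩ := Module.projective_def'.1 (inferInstance : Module.Projective B Q)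
  haveI : Module.Projective A (Q →₀ B) := Module.Projective.of_equiv (finsuppLEquivDirectSum A B Q).symm
  exact Module.Projective.of_split (s.restrictScalars A) ((Finsupp.linearCombination B id).restrictScalars A)
    (LinearMap.ext fun x => LinearMap.congr_fun hs x)

/-- Projective modules over the factors give a projective module over a product. -/
theorem projective_prod_ring {A₁ A₂ M₁ M₂ : Type u} [CommRing A₁] [CommRing A₂] [AddCommGroup M₁] [Module A₁ M₁]
    [AddCommGroup M₂] [Module A₂ M₂] [Module.Projective A₁ M₁] [Module.Projective A₂ M₂]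
    [Module (A₁ × A₂) M₁] [Module (A₁ × A₂) M₂] (h₁ : ∀ (a : A₁ × A₂) (x : M₁), a • x = a.1 • x)
    (h₂ : ∀ (a : A₁ × A₂) (x : M₂), a • x = a.2 • x) : Module.Projective (A₁ × A₂) (M₁ × M₂) := by
  letI : Algebra (A₁ × A₂) A₁ := (RingHom.fst A₁ A₂).toAlgebra
  letI : Algebra (A₁ × A₂) A₂ := (RingHom.snd A₁ A₂).toAlgebra
  let i₁ : A₁ →ₗ[A₁ × A₂] A₁ × A₂ :=
    { toFun := fun x => (x, 0)
      map_add' := fun x y => Prod.ext rfl (add_zero _).symm
      map_smul' := fun a x => Prod.ext rfl (mul_zero _).symm }
  let p₁ : A₁ × A₂ →ₗ[A₁ × A₂] A₁ :=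
    { toFun := Prod.fst
      map_add' := fun _ _ => rfl
      map_smul' := fun _ _ => rfl }
  let i₂ : A₂ →ₗ[A₁ × A₂] A₁ × A₂ :=
    { toFun := fun x => (0, x)
      map_add' := fun x y => Prod.ext (add_zero _).symm rfl
      map_smul' := fun a x => Prod.ext (mul_zero _).symm rfl }
  let p₂ : A₁ × A₂ →ₗ[A₁ × A₂] A₂ :=
    { toFun := Prod.snd
      map_add' := fun _ _ => rfl
      map_smul' := fun _ _ => rfl }
  haveI : Module.Projective (A₁ × A₂) A₁ := Module.Projective.of_split i₁ p₁ (LinearMap.ext fun _ => rfl)
  haveI : Module.Projective (A₁ × A₂) A₂ := Module.Projective.of_split i₂ p₂ (LinearMap.ext fun _ => rfl)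
  haveI : IsScalarTower (A₁ × A₂) A₁ M₁ := IsScalarTower.of_algebraMap_smul fun a x => (h₁ a x).symm
  haveI : IsScalarTower (A₁ × A₂) A₂ M₂ := IsScalarTower.of_algebraMap_smul fun a x => (h₂ a x).symm
  haveI : Module.Projective (A₁ × A₂) M₁ := projective_trans (A₁ × A₂) (B := A₁)
  haveI : Module.Projective (A₁ × A₂) M₂ := projective_trans (A₁ × A₂) (B := A₂)
  infer_instance

/-- A tensor product over a product ring. -/
theorem projective_prod_tensor {R A₁ A₂ S : Type u} [CommRing R] [CommRing A₁] [CommRing A₂] [Algebra R A₁] [Algebra R A₂]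
    [AddCommGroup S] [Module R S] [Module.Projective A₁ (A₁ ⊗[R] S)] [Module.Projective A₂ (A₂ ⊗[R] S)] :
    Module.Projective (A₁ × A₂) ((A₁ × A₂) ⊗[R] S) := by
  letI : Module (A₁ × A₂) (A₁ ⊗[R] S) := Module.compHom _ (RingHom.fst A₁ A₂)
  letI : Module (A₁ × A₂) (A₂ ⊗[R] S) := Module.compHom _ (RingHom.snd A₁ A₂)
  haveI := projective_prod_ring (A₁ := A₁) (A₂ := A₂) (M₁ := A₁ ⊗[R] S) (M₂ := A₂ ⊗[R] S) (fun _ _ => rfl) fun _ _ => rfl
  let e : (A₁ × A₂) ⊗[R] S ≃ₗ[A₁ × A₂] (A₁ ⊗[R] S) × (A₂ ⊗[R] S) :=
    { TensorProduct.prodLeft R R A₁ A₂ S with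
      map_smul' := fun a z => by
        induction z using TensorProduct.induction_on with
        | zero =>
          simp only [AddHom.toFun_eq_coe, LinearMap.coe_toAddHom, LinearEquiv.coe_coe, RingHom.id_apply, smul_zero, map_zero]
        | add x y hx hy =>
          simp only [AddHom.toFun_eq_coe, LinearMap.coe_toAddHom, LinearEquiv.coe_coe, RingHom.id_apply] at hx hy ⊢
          rw [smul_add, map_add, hx, hy, map_add, smul_add]
        | tmul x y =>
          obtain ⟨x₁, x₂⟩ := x
          simp only [AddHom.toFun_eq_coe, LinearMap.coe_toAddHom, LinearEquiv.coe_coe, RingHom.id_apply, smul_tmul',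
            TensorProduct.prodLeft_tmul]
          rfl }
  exact Module.Projective.of_equiv e.symm

variable {R S : Type u} [CommRing R] [CommRing S] [Algebra R S]

/-- An associated prime of a fibre is the smallest prime over its base point. -/
theorem DomFib.le_of_assoc (hd : DomFib R S) (p : Ideal R) [p.IsPrime] (q : Ideal S)
    (hass : FlatCA.fiberIdeal p q ∈ associatedPrimes (p.Fiber S) (FlatCA.fiberMod p S S))
    (Q : Ideal S) [Q.IsPrime] [Q.LiesOver p] : q ≤ Q := by
  letI := Algebra.TensorProduct.rightAlgebra (R := R) (A := p.ResidueField) (B := S)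
  haveI : IsDomain (p.Fiber S) := hd p.ResidueField
  let e : FlatCA.fiberMod p S S ≃ₗ[p.Fiber S] p.Fiber S :=
    TensorProduct.AlgebraTensorModule.rid S (p.Fiber S) (p.Fiber S)
  rw [LinearEquiv.AssociatedPrimes.eq e] at hass
  have h0 : FlatCA.fiberIdeal p q = ⊥ := by
    obtain ⟨hp', x, hx⟩ := hass
    have hx0 : x ≠ 0 := by
      rintro rfl
      exact hp'.ne_top (by rw [hx]; simp)
    rw [hx, show Submodule.colon (⊥ : Submodule (p.Fiber S) (p.Fiber S)) {x} = ⊥ from ?_]
    · exact (Ideal.isPrime_bot : (⊥ : Ideal (p.Fiber S)).IsPrime).isRadical.radical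
    · ext r
      simp [Submodule.mem_colon_singleton, hx0]
  obtain ⟨⟨Q₁, hQ₁⟩, hQ₁c⟩ := Groth.Agent.ZClosLib.NzdUnivInj.exists_prime_fiber p Q
  refine le_trans ?_ hQ₁c.le
  intro b hb
  have h1 := Ideal.mem_map_of_mem (Algebra.TensorProduct.includeRight (R := R) (A := p.ResidueField) (B := S)).toRingHom hb
  change _ ∈ FlatCA.fiberIdeal p q at h1
  rw [h0, Ideal.mem_bot] at h1
  rw [Ideal.mem_comap, h1]
  exact zero_mem _

/-- The fibre ideal over a maximal ideal is prime. -/
theorem DomFib.isPrime_map_maximal (hd : DomFib R S) (m : Ideal R) [m.IsMaximal] : (m.map (algebraMap R S)).IsPrime := by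
  letI : Field (R ⧸ m) := Ideal.Quotient.field _
  haveI := hd (R ⧸ m)
  refine (Ideal.Quotient.isDomain_iff_prime _).1 ?_
  haveI : IsDomain (S ⊗[R] (R ⧸ m)) := (Algebra.TensorProduct.comm R S (R ⧸ m)).toMulEquiv.isDomain ((R ⧸ m) ⊗[R] S)
  exact (Algebra.TensorProduct.quotIdealMapEquivTensorQuot S m).toMulEquiv.isDomain (S ⊗[R] (R ⧸ m))

/-- Over a complete base, projective modulo the ideal gives projective. -/
theorem projective_of_isAdicComplete [IsNoetherianRing R] [Algebra.FiniteType R S] [Module.Flat R S] (hd : DomFib R S)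
    (I : Ideal R) [IsAdicComplete I R] (h : Module.Projective (R ⧸ I) ((R ⧸ I) ⊗[R] S)) : Module.Projective R S := by
  let e : ((R ⧸ I) ⊗[R] S) ≃ₗ[R ⧸ I] S ⧸ (I • ⊤ : Submodule R S) :=
    (TensorProduct.quotTensorEquivQuotSMul S I).extendScalarsOfSurjective Ideal.Quotient.mk_surjective
  haveI : Module.Projective (R ⧸ I) (S ⧸ (I • ⊤ : Submodule R S)) := Module.Projective.of_equiv e
  refine Groth.Agent.S1203.result (R := R) (S := S) I S fun p q _ _ _ hass => ?_
  obtain ⟨m, hm, hpm⟩ := p.exists_le_maximal (Ideal.IsPrime.ne_top ‹_›)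
  haveI := hd.isPrime_map_maximal m
  haveI hPm : (m.map (algebraMap R S)).LiesOver m := ⟨(hm.eq_of_le (Ideal.comap_ne_top _ (Ideal.IsPrime.ne_top ‹(m.map (algebraMap R S)).IsPrime›))
    fun a ha => Ideal.mem_map_of_mem _ ha)⟩
  obtain ⟨Q, hQle, hQ, hQp⟩ := Ideal.exists_ideal_le_liesOver_of_le (p := p) (q := m) (m.map (algebraMap R S)) hpm
  refine ne_top_of_le_ne_top (Ideal.IsPrime.ne_top ‹(m.map (algebraMap R S)).IsPrime›)
    (sup_le (Ideal.map_mono ?_) ((hd.le_of_assoc p q hass Q).trans hQle))
  exact (IsAdicComplete.le_jacobson_bot I).trans (sInf_le ⟨bot_le, hm⟩)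

/-- The inductive step. -/
theorem projective_step [IsNoetherianRing R] [Algebra.FiniteType R S] [Module.Flat R S] (hd : DomFib R S)
    (hind : ∀ (R' : Type u) [CommRing R'] [Algebra R R'], Function.Surjective (algebraMap R R') →
      RingHom.ker (algebraMap R R') ≠ ⊥ → Module.Projective R' (R' ⊗[R] S)) : Module.Projective R S := by
  cases subsingleton_or_nontrivial R with
  | inl _ =>
    haveI : Subsingleton S := Module.subsingleton R S
    infer_instance
  | inr _ =>
    obtain ⟨f, hf0, hf⟩ : ∃ f : R, f ≠ 0 ∧ Module.Projective (Localization.Away f) (Localization.Away f ⊗[R] S) := by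
      by_cases hdom : IsDomain R
      · obtain ⟨f, hf, -, hS, -⟩ := Groth.Agent.S0389.result (R := R) (S := S) (M := S)
        haveI := hS
        exact ⟨f, hf, inferInstance⟩
      · obtain ⟨a, b, hab, ha, hb⟩ : ∃ a b : R, a * b = 0 ∧ a ≠ 0 ∧ b ≠ 0 := by
          by_contra hne
          push Not at hne
          haveI : NoZeroDivisors R := ⟨fun {a b} h => or_iff_not_imp_left.2 fun ha => hne a b h ha⟩
          exact hdom (NoZeroDivisors.to_isDomain R)
        refine ⟨a, ha, ?_⟩
        have hb0 : ∀ x ∈ Ideal.span {b}, algebraMap R (Localization.Away a) x = 0 := by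
          intro x hx
          obtain ⟨y, rfl⟩ := Ideal.mem_span_singleton'.1 hx
          rw [map_mul, show algebraMap R (Localization.Away a) b = 0 from
            (IsLocalization.map_eq_zero_iff (Submonoid.powers a) _ b).2 ⟨⟨a, Submonoid.mem_powers a⟩, hab⟩, mul_zero]
        letI : Algebra (R ⧸ Ideal.span {b}) (Localization.Away a) :=
          (Ideal.Quotient.lift _ (algebraMap R (Localization.Away a)) hb0).toAlgebra
        haveI : IsScalarTower R (R ⧸ Ideal.span {b}) (Localization.Away a) := IsScalarTower.of_algebraMap_eq fun _ => rfl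
        haveI := hind (R ⧸ Ideal.span {b}) Ideal.Quotient.mk_surjective
          (by rw [Ideal.Quotient.algebraMap_eq, Ideal.mk_ker]; simpa using hb)
        exact Module.Projective.of_equiv
          (AlgebraTensorModule.cancelBaseChange R (R ⧸ Ideal.span {b}) (Localization.Away a) (Localization.Away a) S)
    let I : Ideal R := Ideal.span {f}
    let Rc := AdicCompletion I R
    haveI : IsNoetherianRing Rc := Groth.Agent.FormalFib6.isNoetherianRing_adicCompletion R I
    haveI : Module.Flat R Rc := AdicCompletion.flat_of_isNoetherian I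
    haveI : IsAdicComplete (I.map (algebraMap R Rc)) Rc := AdicCompletion.isAdicComplete_self I (IsNoetherian.noetherian I)
    haveI : Module.Projective Rc (Rc ⊗[R] S) := by
      refine projective_of_isAdicComplete (hd.baseChange Rc) (I.map (algebraMap R Rc)) ?_
      have hI0 : ∀ x ∈ I, (Ideal.Quotient.mk (I.map (algebraMap R Rc))) (algebraMap R Rc x) = 0 := fun x hx =>
        Ideal.Quotient.eq_zero_iff_mem.2 (Ideal.mem_map_of_mem _ hx)
      letI : Algebra (R ⧸ I) (Rc ⧸ I.map (algebraMap R Rc)) :=
        (Ideal.Quotient.lift I ((Ideal.Quotient.mk (I.map (algebraMap R Rc))).comp (algebraMap R Rc)) hI0).toAlgebra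
      haveI : IsScalarTower R (R ⧸ I) (Rc ⧸ I.map (algebraMap R Rc)) := IsScalarTower.of_algebraMap_eq fun _ => rfl
      haveI := hind (R ⧸ I) Ideal.Quotient.mk_surjective
        (by rw [Ideal.Quotient.algebraMap_eq, Ideal.mk_ker]; simpa [I] using hf0)
      exact Module.Projective.of_equiv
        ((AlgebraTensorModule.cancelBaseChange R (R ⧸ I) (Rc ⧸ I.map (algebraMap R Rc)) (Rc ⧸ I.map (algebraMap R Rc)) S).trans
          (AlgebraTensorModule.cancelBaseChange R Rc (Rc ⧸ I.map (algebraMap R Rc)) (Rc ⧸ I.map (algebraMap R Rc)) S).symm)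
    haveI : Module.Projective (Localization.Away f) (Localization.Away f ⊗[R] S) := hf
    haveI : Module.Flat R (Localization.Away f) := IsLocalization.flat _ (Submonoid.powers f)
    haveI : Module.Flat R (Localization.Away f × Rc) := by
      rw [Module.Flat.iff_lTensor_preserves_injective_linearMap]
      intro N N' _ _ _ _ g hg
      have h1 := Module.Flat.lTensor_preserves_injective_linearMap (M := Localization.Away f) g hg
      have h2 := Module.Flat.lTensor_preserves_injective_linearMap (M := Rc) g hg
      intro x y hxy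
      apply (TensorProduct.prodLeft R R (Localization.Away f) Rc N).injective
      have hnat : ∀ z, TensorProduct.prodLeft R R (Localization.Away f) Rc N' (g.lTensor _ z) =
          Prod.map (g.lTensor _) (g.lTensor _) (TensorProduct.prodLeft R R (Localization.Away f) Rc N z) := by
        intro z
        induction z using TensorProduct.induction_on with
        | zero => simp only [map_zero]; exact Prod.ext (map_zero _).symm (map_zero _).symm
        | add a b ha hb => simp only [map_add, ha, hb, Prod.map, Prod.mk_add_mk, Prod.fst_add, Prod.snd_add]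
        | tmul a b => obtain ⟨a₁, a₂⟩ := a; simp
      have h3 := congrArg (TensorProduct.prodLeft R R (Localization.Away f) Rc N') hxy
      rw [hnat, hnat] at h3
      exact (h1.prodMap h2) h3
    haveI : Module.FaithfullyFlat R (Localization.Away f × Rc) := by
      refine ⟨fun m hm htop => ?_⟩
      haveI := hm
      by_cases hfm : f ∈ m
      · obtain ⟨y, hy⟩ : ∃ y, y = ((0 : Localization.Away f), (1 : Rc)) := ⟨_, rfl⟩
        have h1 : y ∈ m • (⊤ : Submodule R (Localization.Away f × Rc)) := htop.ge Submodule.mem_top
        have h2 : (1 : Rc) ∈ m.map (algebraMap R Rc) := by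
          have h3 := Submodule.mem_map_of_mem (f := LinearMap.snd R (Localization.Away f) Rc) h1
          rw [Submodule.map_smul'', Submodule.map_top, LinearMap.range_eq_top.2 LinearMap.snd_surjective, hy] at h3
          rwa [Ideal.smul_top_eq_map, Submodule.restrictScalars_mem] at h3
        have hIm : I ≤ m := by rwa [Ideal.span_singleton_le_iff_mem]
        have hI1 : I ^ 1 ≤ m := by rwa [pow_one]
        let π : Rc →+* R ⧸ m := (Ideal.Quotient.factor hI1).comp (AdicCompletion.evalₐ I 1).toRingHom
        have hπ : ∀ r : R, π (algebraMap R Rc r) = Ideal.Quotient.mk m r := fun r => by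
          show Ideal.Quotient.factor hI1 (AdicCompletion.evalₐ I 1 (algebraMap R Rc r)) = _
          rw [AlgHom.commutes]
          rfl
        have h4 := Ideal.mem_map_of_mem π h2
        rw [Ideal.map_map, map_one] at h4
        have h5 : m.map (π.comp (algebraMap R Rc)) = ⊥ := by
          rw [eq_bot_iff, Ideal.map_le_iff_le_comap]
          intro r hr
          rw [Ideal.mem_comap, RingHom.comp_apply, hπ, Ideal.mem_bot, Ideal.Quotient.eq_zero_iff_mem]
          exact hr
        rw [h5, Ideal.mem_bot] at h4
        exact one_ne_zero h4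
      · have hdisj : Disjoint (Submonoid.powers f : Set R) (m : Set R) :=
          (Ideal.disjoint_powers_iff_notMem f hm.isPrime.isRadical).2 hfm
        have h1 : ((1 : Localization.Away f), (0 : Rc)) ∈ m • (⊤ : Submodule R (Localization.Away f × Rc)) :=
          htop.ge Submodule.mem_top
        have h3 := Submodule.mem_map_of_mem (f := LinearMap.fst R (Localization.Away f) Rc) h1
        rw [Submodule.map_smul'', Submodule.map_top, LinearMap.range_eq_top.2 LinearMap.fst_surjective,
          Ideal.smul_top_eq_map, Submodule.restrictScalars_mem] at h3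
        exact (IsLocalization.isPrime_of_isPrime_disjoint (Submonoid.powers f) (Localization.Away f) m hm.isPrime hdisj).ne_top
          ((Ideal.eq_top_iff_one _).2 h3)
    haveI : Module.Projective (Localization.Away f × Rc) ((Localization.Away f × Rc) ⊗[R] S) := projective_prod_tensor
    exact Groth.Agent.S0585.result R (Localization.Away f × Rc) S

/-- Noetherian base. -/
theorem projective_of_noetherian [IsNoetherianRing R] [Algebra.FiniteType R S] [Module.Flat R S] (hd : DomFib R S) :
    Module.Projective R S := by
  suffices h : ∀ (J : Ideal R) (R' : Type u) [CommRing R'] [Algebra R R'], Function.Surjective (algebraMap R R') →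
      RingHom.ker (algebraMap R R') = J → Module.Projective R' (R' ⊗[R] S) by
    haveI := h ⊥ R Function.surjective_id (RingHom.ker_coe_equiv (RingEquiv.refl R))
    exact Module.Projective.of_equiv (TensorProduct.lid R S)
  intro J
  induction J using WellFoundedGT.induction with
  | ind J ih =>
    intro R' _ _ hsurj hker
    haveI : IsNoetherianRing R' := isNoetherianRing_of_surjective R R' (algebraMap R R') hsurj
    refine projective_step (hd.baseChange R') fun R'' _ _ hsurj' hne => ?_
    letI : Algebra R R'' := ((algebraMap R' R'').comp (algebraMap R R')).toAlgebra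
    haveI : IsScalarTower R R' R'' := IsScalarTower.of_algebraMap_eq fun _ => rfl
    have hlt : J < RingHom.ker (algebraMap R R'') := by
      subst hker
      refine lt_of_le_of_ne (fun x hx => ?_) fun heq => hne ?_
      · rw [RingHom.mem_ker] at hx ⊢
        show algebraMap R' R'' (algebraMap R R' x) = 0
        rw [hx, map_zero]
      · rw [eq_bot_iff]
        intro y hy
        obtain ⟨x, rfl⟩ := hsurj y
        exact RingHom.mem_ker.1 (heq.ge (RingHom.mem_ker.2 hy))
    haveI := ih _ hlt R'' (hsurj'.comp hsurj) rfl
    exact Module.Projective.of_equiv (AlgebraTensorModule.cancelBaseChange R R' R'' R'' S).symm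

/-- A finitely presented flat algebra with domain fibres is a projective module. -/
theorem DomFib.projective [Algebra.FinitePresentation R S] [Module.Flat R S] (hd : DomFib R S) :
    Module.Projective R S := by
  obtain ⟨R₁, B₁, _, _, _, _, _, _, _, hd₁, ⟨e⟩⟩ := exists_domFib_model R S hd
  haveI := projective_of_noetherian hd₁
  exact Module.Projective.of_equiv e.symm.toLinearEquiv

end Groth.Agent.RG
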