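import Groth.Agent.S9457
import Groth.Agent.RG.StepShrink
import Groth.Agent.ZClosLib.FibAssIdeal
import Groth.Agent.QCoh.AnnIdeal
import Mathlib.RingTheory.QuasiFinite.Basic
import Mathlib.RingTheory.Finiteness.Descent
import Mathlib.RingTheory.Ideal.AssociatedPrime.Localization
import Groth.Prelude.Def_FlatCA

/-!
# Quasi-finite algebras with pure fibres are finite
-/

set_option autoImplicit false
set_option linter.style.haveILetI false
set_option linter.unusedSectionVars false
set_option backward.isDefEq.respectTransparency false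
set_option backward.isDefEq.respectTransparency.types false
set_option maxHeartbeats 1000000

universe u

open TensorProduct

namespace Groth.Agent.RG

/-- If the image of the base generates the residue field, the residue map is bijective. -/
theorem isEtaleNhd_of_closure_eq_top {R R' : Type u} [CommRing R] [CommRing R'] [Algebra R R'] [Algebra.Etale R R']
    (p : Ideal R) [p.IsPrime] (p' : Ideal R') [p'.IsPrime] [hl : p'.LiesOver p]
    (h : Subfield.closure (Set.range (algebraMap R p'.ResidueField)) = ⊤) : FlatCA.IsEtaleNhd R R' p p' := by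
  refine ⟨inferInstance, hl, ?_⟩
  let φ := Ideal.ResidueField.mapₐ p p' (Algebra.ofId R R') hl.over
  refine ⟨φ.toRingHom.injective, fun y => ?_⟩
  have hle : Subfield.closure (Set.range (algebraMap R p'.ResidueField)) ≤ φ.toRingHom.fieldRange :=
    Subfield.closure_le.2 fun z hz => by
      obtain ⟨a, rfl⟩ := hz
      exact ⟨algebraMap R p.ResidueField a, φ.commutes a⟩
  rw [h] at hle
  exact hle (Subfield.mem_top y)

/-- A quasi-finite algebra whose points over generisations of the chosen point specialise into the fibre is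
finite after an étale neighbourhood. -/
theorem exists_finite_etale {A C : Type u} [CommRing A] [CommRing C] [Algebra A C] [Algebra.FiniteType A C]
    [Algebra.QuasiFinite A C] (p : Ideal A) [p.IsPrime]
    (H : ∀ (R' : Type u) [CommRing R'] [Algebra A R'] (p' : Ideal R') [p'.IsPrime], FlatCA.IsEtaleNhd A R' p p' →
      ∀ (P : Ideal (R' ⊗[A] C)) [P.IsPrime], P.comap (algebraMap R' (R' ⊗[A] C)) ≤ p' →
        ∃ Q : Ideal (R' ⊗[A] C), Q.IsPrime ∧ P ≤ Q ∧ Q.comap (algebraMap R' (R' ⊗[A] C)) = p') :
    ∃ (L : Type u) (_ : CommRing L) (_ : Algebra A L) (_ : Algebra.Etale A L),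
      (∃ P : Ideal L, P.IsPrime ∧ P.comap (algebraMap A L) = p) ∧ Module.Finite L (L ⊗[A] C) := by
  classical
  obtain ⟨R', _, _, _, p', _, hl, n, Ai, _, _, D, _, _, hgen, ⟨e⟩, hA, hD⟩ := S9457.result A C p
  haveI := hl
  have hnhd : FlatCA.IsEtaleNhd A R' p p' := isEtaleNhd_of_closure_eq_top p p' hgen
  haveI : ∀ i, Module.Finite R' (Ai i) := fun i => (hA i).1
  let φ : (R' ⊗[A] C) →ₐ[R'] D := (AlgHom.snd R' (∀ i, Ai i) D).comp e.toAlgHom
  have hφ : Function.Surjective φ := fun d => ⟨e.symm (0, d), by simp [φ]⟩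
  haveI : Algebra.QuasiFinite R' D := Algebra.QuasiFinite.of_surjective_algHom φ hφ
  have hnoD : ∀ (q : Ideal D) [q.IsPrime], q.comap (algebraMap R' D) ≠ p' := fun q _ hq => hD q hq inferInstance
  have hfar : ∀ (q : Ideal D) [q.IsPrime], ¬ q.comap (algebraMap R' D) ≤ p' := by
    intro q _ hq
    obtain ⟨Q, hQ, hle, hQp⟩ := H R' p' hnhd (q.comap φ.toRingHom) (by
      rw [Ideal.comap_comap, show φ.toRingHom.comp (algebraMap R' (R' ⊗[A] C)) = algebraMap R' D from RingHom.ext φ.commutes]
      exact hq)
    let Q' := Q.comap e.symm.toAlgHom.toRingHom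
    haveI : Q'.IsPrime := Ideal.comap_isPrime _ _
    have h10 : ((1, 0) : (∀ i, Ai i) × D) ∈ Q' := hle (show φ (e.symm (1, 0)) ∈ q by simp [φ])
    have hker : ∀ a : ∀ i, Ai i, ((a, 0) : (∀ i, Ai i) × D) ∈ Q' := fun a => by
      have := Q'.mul_mem_left (a, 0) h10
      rwa [Prod.mk_mul_mk, mul_one, mul_zero] at this
    let q'' : Ideal D := Q'.map (RingHom.snd (∀ i, Ai i) D)
    have hsurj : Function.Surjective (RingHom.snd (∀ i, Ai i) D) := fun d => ⟨(0, d), rfl⟩
    have hkle : RingHom.ker (RingHom.snd (∀ i, Ai i) D) ≤ Q' := by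
      rintro ⟨a, d⟩ (hd : d = 0)
      subst hd
      exact hker a
    haveI : q''.IsPrime := Ideal.map_isPrime_of_surjective hsurj hkle
    refine hnoD q'' ?_
    have hc : q''.comap (RingHom.snd (∀ i, Ai i) D) = Q' := by
      rw [Ideal.comap_map_of_surjective _ hsurj, sup_eq_left]
      exact hkle
    rw [show algebraMap R' D = (RingHom.snd (∀ i, Ai i) D).comp (algebraMap R' ((∀ i, Ai i) × D)) from rfl,
      ← Ideal.comap_comap, hc, Ideal.comap_comap,
      show e.symm.toAlgHom.toRingHom.comp (algebraMap R' ((∀ i, Ai i) × D)) = algebraMap R' (R' ⊗[A] C) from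
        RingHom.ext e.symm.commutes, hQp]
  obtain ⟨r, hr, hr0⟩ : ∃ r : R', r ∉ p' ∧ algebraMap R' D r = 0 := by
    by_contra hne
    push Not at hne
    obtain ⟨q, _, -, hq⟩ := Ideal.exists_le_prime_disjoint (⊥ : Ideal D)
      (Algebra.algebraMapSubmonoid D p'.primeCompl) (Set.disjoint_left.2 fun x hx hx' => by
        obtain ⟨y, hy, rfl⟩ := hx'
        exact hne y hy (by simpa using hx))
    refine hfar q fun y hy => ?_
    by_contra hy'
    exact Set.disjoint_left.1 hq (show algebraMap R' D y ∈ (q : Set D) from hy) ⟨y, hy', rfl⟩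
  let L := Localization.Away r
  haveI : Algebra.Etale R' L := Algebra.Etale.of_isLocalizationAway r
  haveI : Algebra.Etale A L := Algebra.Etale.comp A R' L
  obtain ⟨hP1, hP2⟩ := map_away_isPrime (A₁ := L) r p' hr
  refine ⟨L, inferInstance, inferInstance, inferInstance, ⟨p'.map (algebraMap R' L), hP1, ?_⟩, ?_⟩
  · rw [IsScalarTower.algebraMap_eq A R' L, ← Ideal.comap_comap, hP2]
    exact hl.over.symm
  let j : (∀ i, Ai i) →ₗ[R'] R' ⊗[A] C := e.symm.toLinearEquiv.toLinearMap ∘ₗ LinearMap.inl R' (∀ i, Ai i) D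
  have hj : ∀ m : R' ⊗[A] C, r • m = j (r • (e m).1) := fun m => by
    apply e.injective
    show e (r • m) = e (e.symm (r • (e m).1, 0))
    rw [AlgEquiv.apply_symm_apply, map_smul]
    refine Prod.ext rfl ?_
    show r • (e m).2 = 0
    rw [Algebra.smul_def, hr0, zero_mul]
  have hsur : Function.Surjective (j.baseChange L) := by
    intro z
    induction z using TensorProduct.induction_on with
    | zero => exact ⟨0, map_zero _⟩
    | add a b ha hb =>
      obtain ⟨a', ha'⟩ := ha
      obtain ⟨b', hb'⟩ := hb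
      exact ⟨a' + b', by rw [map_add, ha', hb']⟩
    | tmul l m =>
      obtain ⟨c, hc⟩ := (IsLocalization.Away.algebraMap_isUnit r : IsUnit (algebraMap R' L r))
      refine ⟨(l * ↑c⁻¹) ⊗ₜ[R'] (r • (e m).1), ?_⟩
      rw [LinearMap.baseChange_tmul, ← hj, ← TensorProduct.smul_tmul, Algebra.smul_def, ← hc, mul_comm,
        mul_assoc, Units.inv_mul, mul_one]
  haveI : Module.Finite L (L ⊗[R'] (R' ⊗[A] C)) := Module.Finite.of_surjective (j.baseChange L) hsur
  exact Module.Finite.equiv (AlgebraTensorModule.cancelBaseChange A R' L L C)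

/-- Finiteness is local for étale neighbourhoods. -/
theorem finite_of_forall_etale {A M : Type u} [CommRing A] [AddCommGroup M] [Module A M]
    (H : ∀ (p : Ideal A) [p.IsPrime], ∃ (L : Type u) (_ : CommRing L) (_ : Algebra A L) (_ : Algebra.Etale A L),
      (∃ P : Ideal L, P.IsPrime ∧ P.comap (algebraMap A L) = p) ∧ Module.Finite L (L ⊗[A] M)) :
    Module.Finite A M := by
  classical
  choose L iC iA iE hP hfin using fun x : PrimeSpectrum A => H x.asIdeal
  have hopen : ∀ x, IsOpen (Set.range (PrimeSpectrum.comap (algebraMap A (L x)))) := fun x =>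
    PrimeSpectrum.isOpenMap_comap_of_hasGoingDown_of_finitePresentation.isOpen_range
  obtain ⟨s, hs⟩ := (isCompact_univ (X := PrimeSpectrum A)).elim_finite_subcover _ hopen (fun x _ => by
    obtain ⟨P, hP, hPx⟩ := hP x
    exact Set.mem_iUnion.2 ⟨x, ⟨P, hP⟩, PrimeSpectrum.ext hPx⟩)
  let T := ∀ x : s, L x
  haveI : Module.FaithfullyFlat A T := Module.FaithfullyFlat.of_comap_surjective fun x => by
    obtain ⟨i, hi, y, hy⟩ := Set.mem_iUnion₂.1 (hs (Set.mem_univ x))
    refine ⟨PrimeSpectrum.comap (Pi.evalRingHom (fun x : s => L x) ⟨i, hi⟩) y, ?_⟩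
    rw [← hy]
    exact (PrimeSpectrum.comap_comp_apply (algebraMap A T) (Pi.evalRingHom (fun x : s => L x) ⟨i, hi⟩) y).symm
  choose G hG using fun x : s => (hfin x.1).fg_top
  let π : ∀ x : s, T ⊗[A] M →ₗ[A] L x ⊗[A] M := fun x => LinearMap.rTensor M (Pi.evalAlgHom A (fun x : s => L x) x).toLinearMap
  let ι : ∀ x : s, L x ⊗[A] M →ₗ[A] T ⊗[A] M := fun x => LinearMap.rTensor M (LinearMap.single A (fun x : s => L x) x)
  have hι : ∀ (x : s) (l : L x) (z : L x ⊗[A] M), ι x (l • z) = (Pi.single x l : T) • ι x z := fun x l z => by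
    induction z using TensorProduct.induction_on with
    | zero => simp
    | add a b ha hb => simp only [smul_add, map_add, ha, hb]
    | tmul a m =>
      show LinearMap.single A (fun x : s => L x) x (l * a) ⊗ₜ[A] m = ((Pi.single x l : T) * Pi.single x a) ⊗ₜ[A] m
      rw [← Pi.single_mul]
      rfl
  have hsum : ∀ z : T ⊗[A] M, z = ∑ x, ι x (π x z) := fun z => by
    induction z using TensorProduct.induction_on with
    | zero => simp
    | add a b ha hb =>
      conv_lhs => rw [ha, hb]
      simp only [map_add, Finset.sum_add_distrib]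
    | tmul t m =>
      show t ⊗ₜ[A] m = ∑ x, (LinearMap.single A (fun x : s => L x) x (t x)) ⊗ₜ[A] m
      rw [← TensorProduct.sum_tmul]
      congr 1
      exact (Finset.univ_sum_single t).symm
  haveI : Module.Finite T (T ⊗[A] M) := ⟨⟨Finset.univ.biUnion fun x => (G x).image (ι x), by
    refine Submodule.eq_top_iff'.2 fun z => ?_
    rw [hsum z]
    refine Submodule.sum_mem _ fun x _ => ?_
    have hx : π x z ∈ Submodule.span (L x) (G x : Set (L x ⊗[A] M)) := by rw [hG x]; trivial
    generalize π x z = w at hx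
    induction hx using Submodule.span_induction with
    | mem g hg => exact Submodule.subset_span (Finset.mem_biUnion.2 ⟨x, Finset.mem_univ x, Finset.mem_image_of_mem _ hg⟩)
    | zero => rw [map_zero]; exact zero_mem _
    | add a b _ _ ha hb => rw [map_add]; exact add_mem ha hb
    | smul l a _ ha => rw [hι]; exact Submodule.smul_mem _ _ ha⟩⟩
  exact Module.Finite.of_finite_tensorProduct_of_faithfullyFlat T

attribute [local instance] Algebra.TensorProduct.rightAlgebra

/-- Points of a quasi-finite support are associated points of the fibres. -/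
theorem assoc_of_quasiFinite_support {R Y Z : Type u} [CommRing R] [CommRing Y] [CommRing Z] [Algebra R Y] [Algebra R Z]
    [Algebra.FiniteType R Y] [Algebra.QuasiFinite R Z] (π : Y →ₐ[R] Z) (hπ : Function.Surjective π)
    (M : Type u) [AddCommGroup M] [Module Y M] [Module R M] [IsScalarTower R Y M] [Module.Finite Y M]
    (hsupp : ∀ y : PrimeSpectrum Y, y ∈ Module.support Y M ↔ RingHom.ker π.toRingHom ≤ y.asIdeal)
    (t : Ideal R) [t.IsPrime] (P : Ideal Z) [P.IsPrime] [hPt : P.LiesOver t] :
    FlatCA.fiberIdeal t (P.comap π.toRingHom) ∈ associatedPrimes (t.Fiber Y) (FlatCA.fiberMod t Y M) := by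
  let P₀ := P.comap π.toRingHom
  haveI : P₀.IsPrime := Ideal.comap_isPrime _ _
  have hπR : π.toRingHom.comp (algebraMap R Y) = algebraMap R Z := RingHom.ext π.commutes
  haveI hP₀t : P₀.LiesOver t := ⟨by rw [Ideal.under_def, Ideal.comap_comap, hπR]; exact hPt.over⟩
  haveI : IsNoetherianRing (t.Fiber Y) := Algebra.FiniteType.isNoetherianRing t.ResidueField _
  haveI : Module.Finite (t.Fiber Y) (FlatCA.fiberMod t Y M) :=
    inferInstanceAs (Module.Finite (t.Fiber Y) ((t.Fiber Y) ⊗[Y] M))
  let ι := (Algebra.TensorProduct.includeRight (R := R) (A := t.ResidueField) (B := Y)).toRingHom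
  let x := PrimeSpectrum.primesOverOrderIsoFiber R Y t ⟨P₀, inferInstance, hP₀t⟩
  have hx : x.asIdeal.comap ι = P₀ :=
    congr($((PrimeSpectrum.primesOverOrderIsoFiber R Y t).symm_apply_apply ⟨P₀, inferInstance, hP₀t⟩).1)
  rw [← ZClosLib.FibAssIdeal.eq_fiberIdeal t hx]
  have hfs : ∀ y : PrimeSpectrum (t.Fiber Y), y ∈ Module.support (t.Fiber Y) (FlatCA.fiberMod t Y M) ↔
      RingHom.ker π.toRingHom ≤ y.asIdeal.comap ι := fun y => by
    show y ∈ Module.support (t.Fiber Y) ((t.Fiber Y) ⊗[Y] M) ↔ _
    rw [QCoh.mem_support_baseChange (TensorProduct.isBaseChange Y M (t.Fiber Y)) y, hsupp]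
    exact Iff.rfl
  refine Module.associatedPrimes.minimalPrimes_annihilator_subset_associatedPrimes _ _ ⟨⟨inferInstance, ?_⟩, ?_⟩
  · have := (hfs x).2 (by rw [hx]; exact Ideal.comap_mono bot_le)
    rwa [Module.support_eq_zeroLocus, PrimeSpectrum.mem_zeroLocus, SetLike.coe_subset_coe] at this
  · rintro η ⟨hη, hann⟩ hle
    haveI := hη
    have h1 : RingHom.ker π.toRingHom ≤ η.comap ι := (hfs ⟨η, hη⟩).1 (by
      rw [Module.support_eq_zeroLocus, PrimeSpectrum.mem_zeroLocus, SetLike.coe_subset_coe]; exact hann)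
    haveI : ((η.comap ι).map π.toRingHom).IsPrime := Ideal.map_isPrime_of_surjective hπ h1
    have hc : ((η.comap ι).map π.toRingHom).comap π.toRingHom = η.comap ι := by
      rw [Ideal.comap_map_of_surjective π.toRingHom hπ, sup_eq_left]; exact h1
    have hηt : (η.comap ι).comap (algebraMap R Y) = t := by
      have e : ι.comp (algebraMap R Y) = (algebraMap t.ResidueField (t.Fiber Y)).comp (algebraMap R t.ResidueField) := by
        ext a
        show (Algebra.TensorProduct.includeRight (R := R) (A := t.ResidueField) (B := Y)) (algebraMap R Y a) = _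
        rw [AlgHom.commutes]
        rfl
      rw [Ideal.comap_comap, e, ← Ideal.comap_comap,
        show η.comap (algebraMap t.ResidueField (t.Fiber Y)) = ⊥ from
          (Ideal.eq_bot_or_top _).resolve_right (Ideal.comap_ne_top _ hη.ne_top)]
      exact Ideal.ker_algebraMap_residueField t
    have heq : (η.comap ι).map π.toRingHom = P := by
      refine Algebra.QuasiFinite.eq_of_le_of_under_eq (R := R) _ _ ?_ ?_
      · rw [← Ideal.map_comap_of_surjective π.toRingHom hπ P]
        exact Ideal.map_mono ((Ideal.comap_mono hle).trans hx.le)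
      · show ((η.comap ι).map π.toRingHom).comap (algebraMap R Z) = P.comap (algebraMap R Z)
        rw [← hπR, ← Ideal.comap_comap, hc, hηt, hπR]
        exact hPt.over
    have hη₀ : η.comap ι = P₀ := by
      show η.comap ι = P.comap π.toRingHom
      rw [← hc, heq]
    rw [ZClosLib.FibAssIdeal.eq_fiberIdeal t hη₀, ← ZClosLib.FibAssIdeal.eq_fiberIdeal t hx]

/-- Base change of a quotient map. -/
theorem baseChange_mk_spec {A B : Type u} [CommRing A] [CommRing B] [Algebra A B] (R : Type u) [CommRing R] [Algebra A R]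
    (I : Ideal B) :
    Function.Surjective (Algebra.TensorProduct.map (AlgHom.id R R) (Ideal.Quotient.mkₐ A I)) ∧
      RingHom.ker (Algebra.TensorProduct.map (AlgHom.id R R) (Ideal.Quotient.mkₐ A I)).toRingHom =
        I.map (algebraMap B (R ⊗[A] B)) := by
  have e : ∀ z, Algebra.TensorProduct.map (AlgHom.id R R) (Ideal.Quotient.mkₐ A I) z =
      Algebra.TensorProduct.map (AlgHom.id A R) (Ideal.Quotient.mkₐ A I) z := fun z => by
    induction z using TensorProduct.induction_on with
    | zero => rw [map_zero, map_zero]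
    | tmul a b => rw [Algebra.TensorProduct.map_tmul, Algebra.TensorProduct.map_tmul]; rfl
    | add a b ha hb => rw [map_add, map_add, ha, hb]
  constructor
  · intro z
    induction z using TensorProduct.induction_on with
    | zero => exact ⟨0, map_zero _⟩
    | tmul a c =>
      obtain ⟨b, rfl⟩ := Ideal.Quotient.mk_surjective c
      exact ⟨a ⊗ₜ b, by rw [Algebra.TensorProduct.map_tmul]; rfl⟩
    | add x y hx hy =>
      obtain ⟨x', hx'⟩ := hx
      obtain ⟨y', hy'⟩ := hy
      exact ⟨x' + y', by rw [map_add, hx', hy']⟩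
  · have h := Algebra.TensorProduct.lTensor_ker (R := A) (A := R) (Ideal.Quotient.mkₐ A I) Ideal.Quotient.mk_surjective
    rw [show RingHom.ker (Ideal.Quotient.mkₐ A I) = I from Ideal.mk_ker] at h
    refine Eq.trans ?_ h
    ext z
    rw [RingHom.mem_ker, RingHom.mem_ker, ← e]
    rfl

/-- A pure module with finite fibre supports has finite support. -/
theorem finite_support_of_pure {A B : Type u} [CommRing A] [CommRing B] [Algebra A B] [Algebra.FiniteType A B]
    (N : Type u) [AddCommGroup N] [Module B N] [Module A N] [IsScalarTower A B N] [Module.Finite B N]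
    (hfin : ∀ (p : Ideal A) [p.IsPrime], (Module.support (p.Fiber B) (FlatCA.fiberMod p B N)).Finite)
    (hpure : FlatCA.IsPure A B N) : Module.Finite A (B ⧸ Module.annihilator B N) := by
  let I := Module.annihilator B N
  let C := B ⧸ I
  have hmemS : ∀ q : PrimeSpectrum B, q ∈ Module.support B N ↔ I ≤ q.asIdeal := fun q => by
    rw [Module.support_eq_zeroLocus, PrimeSpectrum.mem_zeroLocus, SetLike.coe_subset_coe]
  haveI : Algebra.QuasiFinite A C := Algebra.QuasiFinite.iff_finite_primesOver.2 fun p hp => by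
    haveI := hp
    refine Set.Finite.of_finite_image (f := fun Q : Ideal C => Q.comap (Ideal.Quotient.mk I)) ?_
      ((Ideal.comap_injective_of_surjective _ Ideal.Quotient.mk_surjective).injOn)
    refine ((hfin p).image fun ξ => ξ.asIdeal.comap
      (Algebra.TensorProduct.includeRight (R := A) (A := p.ResidueField) (B := B)).toRingHom).subset ?_
    rintro _ ⟨Q, ⟨hQ, hQp⟩, rfl⟩
    haveI := hQ
    haveI : (Q.comap (Ideal.Quotient.mk I)).LiesOver p := ⟨by
      rw [Ideal.under_def, Ideal.comap_comap]; exact hQp.over⟩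
    let x := PrimeSpectrum.primesOverOrderIsoFiber A B p ⟨Q.comap (Ideal.Quotient.mk I), inferInstance, inferInstance⟩
    have hx : x.asIdeal.comap (Algebra.TensorProduct.includeRight (R := A) (A := p.ResidueField) (B := B)) =
        Q.comap (Ideal.Quotient.mk I) :=
      congr($((PrimeSpectrum.primesOverOrderIsoFiber A B p).symm_apply_apply
        ⟨Q.comap (Ideal.Quotient.mk I), inferInstance, inferInstance⟩).1)
    refine ⟨x, ?_, hx⟩
    show x ∈ Module.support (p.Fiber B) ((p.Fiber B) ⊗[B] N)
    rw [QCoh.mem_support_baseChange (TensorProduct.isBaseChange B N (p.Fiber B)) x, hmemS]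
    intro b hb
    show b ∈ x.asIdeal.comap _
    rw [show x.asIdeal.comap (algebraMap B (p.Fiber B)) = Q.comap (Ideal.Quotient.mk I) from hx, Ideal.mem_comap,
      Ideal.Quotient.eq_zero_iff_mem.2 hb]
    exact zero_mem _
  refine finite_of_forall_etale fun p _ => exists_finite_etale p ?_
  intro R' _ _ p' _ hR P _ hPp
  let BA := R' ⊗[A] B
  let π : BA →ₐ[R'] R' ⊗[A] C := Algebra.TensorProduct.map (AlgHom.id R' R') (Ideal.Quotient.mkₐ A I)
  obtain ⟨hπs, hker⟩ : Function.Surjective π ∧ RingHom.ker π.toRingHom = I.map (algebraMap B BA) :=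
    baseChange_mk_spec R' I
  let NA := BA ⊗[B] N
  haveI : IsScalarTower R' BA NA := inferInstance
  have hsupp : ∀ y : PrimeSpectrum BA, y ∈ Module.support BA NA ↔ RingHom.ker π.toRingHom ≤ y.asIdeal := fun y => by
    rw [QCoh.mem_support_baseChange (TensorProduct.isBaseChange B N BA), hmemS, hker, Ideal.map_le_iff_le_comap]
    exact Iff.rfl
  let t := P.comap (algebraMap R' (R' ⊗[A] C))
  haveI : t.IsPrime := Ideal.comap_isPrime _ _
  haveI : P.LiesOver t := ⟨rfl⟩
  have hass := assoc_of_quasiFinite_support π hπs NA hsupp t P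
  have hπR : π.toRingHom.comp (algebraMap R' BA) = algebraMap R' (R' ⊗[A] C) := RingHom.ext π.commutes
  let P₀ := P.comap π.toRingHom
  haveI : P₀.IsPrime := Ideal.comap_isPrime _ _
  haveI hP₀t : P₀.LiesOver t := ⟨by rw [Ideal.under_def, Ideal.comap_comap, hπR]⟩
  by_contra hne
  push Not at hne
  refine hpure p R' BA NA (TensorProduct.mk B BA N 1) t p' P₀ hR
    ⟨inferInstance, TensorProduct.isBaseChange B N BA, hPp, hR.2.1, hP₀t, hass, fun Q hQ hPQ hQp => ?_⟩
  have hkQ : RingHom.ker π.toRingHom ≤ Q := le_trans (Ideal.comap_mono bot_le) hPQ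
  haveI : (Q.map π.toRingHom).IsPrime := Ideal.map_isPrime_of_surjective hπs hkQ
  refine hne (Q.map π.toRingHom) inferInstance ?_ ?_
  · rw [← Ideal.map_comap_of_surjective π.toRingHom hπs P]
    exact Ideal.map_mono hPQ
  · rw [← hπR, ← Ideal.comap_comap, Ideal.comap_map_of_surjective π.toRingHom hπs, ← RingHom.ker, sup_eq_left.2 hkQ]
    exact hQp.over.symm

end Groth.Agent.RG
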