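import Groth.Agent.RG.Shrink

/-!
# Geometrically integral neighbourhoods inside the base change
-/

set_option autoImplicit false
set_option linter.style.haveILetI false
set_option backward.isDefEq.respectTransparency false
set_option backward.isDefEq.respectTransparency.types false

open AlgebraicGeometry CategoryTheory CategoryTheory.Limits TopologicalSpace

namespace Groth.Agent.RG

universe u

attribute [local instance] Curv2.resAlgebra

/-- After étale localisation at a point with separably closed residue extension the fibres become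
geometrically integral. -/
theorem exists_geomIntegral_nbhd_open {Y S : Scheme.{u}} [IsAffine S] [IsAffine Y] (h : Y ⟶ S) (n : ℕ)
    [SmoothOfRelativeDimension n h] (y₀ : Y) (hsep : SepPt h y₀) :
    ∃ (S' Y' : Scheme.{u}) (e : S' ⟶ S) (q : Y' ⟶ Y) (h' : Y' ⟶ S') (y' : Y'),
      IsAffine S' ∧ IsAffine Y' ∧ Hens2.IsEtaleNbhd e (h' y') (h y₀) ∧ Hens2.IsEtaleNbhd q y' y₀ ∧
      h' ≫ e = q ≫ h ∧ SmoothOfRelativeDimension n h' ∧
      (∀ hc : q ≫ h = h' ≫ e, IsOpenImmersion (pullback.lift q h' hc)) ∧ GeometricallyIntegral h' := by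
  haveI : Smooth h := SmoothOfRelativeDimension.smooth n h
  haveI : GeometricallyReduced h := H23.RigidGamma.geometricallyReduced_of_smooth h
  obtain ⟨T, hzT, hT⟩ := geometricallyConnected_component h (h y₀) y₀ (h.asFiber y₀) (h.fiberι_asFiber y₀) hsep rfl
  obtain ⟨S', g, s', hS', hg, V, -, hVconn, hVs⟩ := GC.spread h (h y₀) T hT
  haveI := hS'
  haveI := hg.etale
  obtain ⟨y₁, hy₁, hy₁s, hy₁b, -⟩ := MorLib.EEF.exists_unique_point (IsPullback.of_hasPullback h g) y₀ s'
    hg.base_eq.symm hg.residue_bijective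
  let h₁ := pullback.snd h g
  have hy₁V : y₁ ∈ V := (hVs y₁ hy₁s).2 ⟨h.asFiber y₀, hzT, (h.fiberι_asFiber y₀).trans hy₁.symm⟩
  obtain ⟨A, hA, hyA, hAV⟩ := exists_isAffineOpen_mem_and_subset (x := y₁) (U := V) hy₁V
  haveI : Smooth h₁ := inferInstanceAs (Smooth (pullback.snd h g))
  haveI : SmoothOfRelativeDimension n h₁ :=
    (smoothOfRelativeDimension_isStableUnderBaseChange n).of_isPullback (IsPullback.of_hasPullback h g) ‹_›
  obtain ⟨S'', hS'', hsS'', hS''sub⟩ := exists_isAffineOpen_mem_and_subset (x := s')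
    (U := ⟨h₁ '' A, h₁.isOpenMap _ A.2⟩) ⟨y₁, hyA, hy₁s⟩
  have hB : IsAffineOpen (h₁ ⁻¹ᵁ S'') := hS''.preimage h₁
  let A' := A ⊓ h₁ ⁻¹ᵁ S''
  have hA' : IsAffineOpen A' := hA.inf hB
  haveI : IsAffine (S'' : Scheme.{u}) := hS''
  haveI : IsAffine (A' : Scheme.{u}) := hA'
  have hyA' : y₁ ∈ A' := ⟨hyA, show h₁ y₁ ∈ S'' by rw [show h₁ y₁ = s' from hy₁s]; exact hsS''⟩
  let h' := h₁.resLE S'' A' inf_le_right
  refine ⟨S'', A', S''.ι ≫ g, A'.ι ≫ pullback.fst h g, h', ⟨y₁, hyA'⟩, inferInstance, inferInstance, ?_, ?_, ?_,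
    IsZariskiLocalAtSource.resLE _ inferInstance, ?_, ?_⟩
  · refine GC.isEtaleNbhd_comp hg (GC.isEtaleNbhd_openImmersion _ _ _ ?_)
    rw [← Scheme.Hom.comp_apply, Scheme.Hom.resLE_comp_ι]
    exact hy₁s
  · exact GC.isEtaleNbhd_comp ⟨inferInstance, hy₁, hy₁b⟩ (GC.isEtaleNbhd_openImmersion _ _ _ rfl)
  · rw [← Category.assoc, Scheme.Hom.resLE_comp_ι, Category.assoc, Category.assoc, pullback.condition]
  · intro hc
    let m : pullback h (S''.ι ≫ g) ⟶ pullback h g :=
      pullback.map h (S''.ι ≫ g) h g (𝟙 _) S''.ι (𝟙 _) (by simp) (by simp)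
    haveI : Mono m := inferInstanceAs (Mono (pullback.map _ _ _ _ _ _ _ _ _))
    haveI : IsOpenImmersion m := inferInstanceAs (IsOpenImmersion (pullback.map _ _ _ _ _ _ _ _ _))
    have hm : pullback.lift (A'.ι ≫ pullback.fst h g) h' hc ≫ m = A'.ι := by
      apply pullback.hom_ext
      · simp [m]
      · simp only [m, Category.assoc, pullback.lift_snd, pullback.lift_snd_assoc]
        exact Scheme.Hom.resLE_comp_ι h₁ _
    haveI : IsOpenImmersion (pullback.lift (A'.ι ≫ pullback.fst h g) h' hc ≫ m) := by rw [hm]; infer_instance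
    exact IsOpenImmersion.of_comp _ m
  refine ⟨fun K _ x Z fst snd hsq => ?_⟩
  let x' := x ≫ S''.ι
  let P := pullback h₁ x'
  let pf := pullback.fst h₁ x'
  let ps := pullback.snd h₁ x'
  haveI : Smooth ps := inferInstanceAs (Smooth (pullback.snd h₁ x'))
  haveI : IsReduced P := GrpSchLib.isReduced_of_smooth_field ps
  have hVc : _root_.IsConnected (pf ⁻¹' (V : Set ↥(pullback h g))) :=
    (GC.geometricallyConnected_opens_iff h₁ V).1 hVconn K x'
  haveI : ConnectedSpace ↥(pf ⁻¹ᵁ V : Scheme.{u}) := isConnected_iff_connectedSpace.mp hVc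
  haveI := SecComp5.irreducibleSpace_of_smooth ((pf ⁻¹ᵁ V).ι ≫ ps)
  have hVirr : IsPreirreducible (pf ⁻¹' (V : Set ↥(pullback h g))) := by
    have := (PreirreducibleSpace.isPreirreducible_univ (X := ↥(pf ⁻¹ᵁ V : Scheme.{u}))).image (pf ⁻¹ᵁ V).ι
      (pf ⁻¹ᵁ V).ι.continuous.continuousOn
    rw [Set.image_univ, Scheme.Opens.range_ι] at this
    exact this
  have hA'irr : IsIrreducible (pf ⁻¹' (A' : Set ↥(pullback h g))) := by
    refine ⟨?_, hVirr.open_subset (A'.2.preimage pf.continuous) fun t ht => hAV ht.1⟩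
    obtain ⟨a, haA, ha⟩ := hS''sub (x (IsLocalRing.closedPoint K)).2
    obtain ⟨t, ht, -⟩ := Scheme.Pullback.exists_preimage_pullback (f := h₁) (g := x') a (IsLocalRing.closedPoint K)
      (ha.trans (Scheme.Hom.comp_apply x S''.ι _).symm)
    refine ⟨t, show pf t ∈ A' from ?_⟩
    rw [show pf t = a from ht]
    exact ⟨haA, show h₁ a ∈ S'' by rw [ha]; exact (x (IsLocalRing.closedPoint K)).2⟩
  haveI : IrreducibleSpace ↥(pf ⁻¹ᵁ A' : Scheme.{u}) := Subtype.irreducibleSpace hA'irr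
  haveI : IsReduced (pf ⁻¹ᵁ A' : Scheme.{u}) := isReduced_of_isOpenImmersion (pf ⁻¹ᵁ A').ι
  haveI : IsIntegral (pf ⁻¹ᵁ A' : Scheme.{u}) := isIntegral_of_irreducibleSpace_of_isReduced _
  have sq : IsPullback (pullback.fst h' x) (pullback.snd h' x) (A'.ι ≫ h₁) x' := by
    rw [← Scheme.Hom.resLE_comp_ι h₁ (U := S'') (V := A') inf_le_right]
    exact GC.isPullback_comp_mono (IsPullback.of_hasPullback h' x) S''.ι
  let θ : Z ≅ (pf ⁻¹ᵁ A' : Scheme.{u}) := hsq.isoPullback ≪≫ sq.isoPullback ≪≫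
    (pullbackRightPullbackFstIso h₁ x' A'.ι).symm ≪≫ pullbackSymmetry _ _ ≪≫ pullbackRestrictIsoRestrict pf A'
  haveI : Nonempty Z := θ.hom.homeomorph.surjective.nonempty
  exact isIntegral_of_isOpenImmersion θ.hom

end Groth.Agent.RG
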