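import Groth.Prelude.Def_FlatCA
import Groth.Agent.MorLib.RingUnivHomeo
import Mathlib.AlgebraicGeometry.Morphisms.Etale
import Mathlib.AlgebraicGeometry.AffineScheme

/-! Affine étale neighbourhoods as morphisms of schemes. -/

set_option autoImplicit false
universe u

open AlgebraicGeometry CategoryTheory FlatMor

namespace Groth.Agent.RG

set_option backward.isDefEq.respectTransparency false in
theorem residueFieldMap_surjective_of_isEtaleNhd {R R' : Type u} [CommRing R] [CommRing R'] [Algebra R R']
    (p : Ideal R) [p.IsPrime] (p' : Ideal R') [hp' : p'.IsPrime] (h : FlatCA.IsEtaleNhd R R' p p') :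
    Function.Surjective ((Spec.map (CommRingCat.ofHom (algebraMap R R'))).residueFieldMap
      (⟨p', hp'⟩ : Spec (CommRingCat.of R'))) := by
  rw [MorLib.RUH.residueFieldMap_surjective_iff]
  obtain ⟨-, ho, hbij⟩ := h
  intro b
  obtain ⟨y, hy⟩ := hbij.2 (algebraMap R' p'.ResidueField b)
  obtain ⟨a, s, hs, rfl⟩ := IsFractionRing.div_surjective (A := R ⧸ p) y
  obtain ⟨a, rfl⟩ := Ideal.Quotient.mk_surjective a
  obtain ⟨s, rfl⟩ := Ideal.Quotient.mk_surjective s
  have hsp : s ∉ p := fun h => nonZeroDivisors.ne_zero hs (Ideal.Quotient.eq_zero_iff_mem.mpr h)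
  have hsq : algebraMap R R' s ∉ p' := fun h => hsp ((SetLike.ext_iff.1 ho.over s).2 h)
  refine ⟨a, s, hsq, ?_⟩
  have key : ∀ x : R, Ideal.ResidueField.mapₐ p p' (Algebra.ofId R R') ho.over (algebraMap R p.ResidueField x) =
      algebraMap R' p'.ResidueField (algebraMap R R' x) := fun x => by
    rw [AlgHom.commutes, IsScalarTower.algebraMap_apply R R' p'.ResidueField]
  have hy' : algebraMap R' p'.ResidueField (algebraMap R R' a) / algebraMap R' p'.ResidueField (algebraMap R R' s)
      = algebraMap R' p'.ResidueField b := by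
    rw [← key, ← key, ← map_div₀]
    exact hy
  rw [← Ideal.algebraMap_residueField_eq_zero (I := p'), map_sub, map_mul, ← hy',
    mul_div_cancel₀ _ (by rwa [ne_eq, Ideal.algebraMap_residueField_eq_zero]), sub_self]

theorem etale_specMap {R R' : Type u} [CommRing R] [CommRing R'] [Algebra R R'] [Algebra.Etale R R'] :
    Etale (Spec.map (CommRingCat.ofHom (algebraMap R R'))) :=
  (HasRingHomProperty.Spec_iff (P := @Etale)).2 (RingHom.etale_algebraMap.2 inferInstance)

theorem flatAt_self_of_localRingHom {R T : Type u} [CommRing R] [CommRing T] [Algebra R T]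
    (p : Ideal R) [p.IsPrime] (q : Ideal T) [q.IsPrime] (ho : p = q.comap (algebraMap R T))
    (h : (Localization.localRingHom p q (algebraMap R T) ho).Flat) : FlatCA.FlatAt R q T := by
  have h2 : (algebraMap R (Localization.AtPrime q)).Flat := by
    have := RingHom.Flat.comp (RingHom.flat_algebraMap_iff.2 (IsLocalization.flat (Localization.AtPrime p) p.primeCompl)) h
    convert this using 1
    ext x
    rw [RingHom.comp_apply, Localization.localRingHom_to_map, ← IsScalarTower.algebraMap_apply]
  exact RingHom.flat_algebraMap_iff.1 h2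

set_option backward.isDefEq.respectTransparency false in
theorem flatAt_appLE {X Y : Scheme.{u}} (f : X ⟶ Y) (V : Y.Opens) (hV : IsAffineOpen V)
    (U : X.Opens) (hU : IsAffineOpen U) (e : U ≤ f ⁻¹ᵁ V) (x : X) (hx : x ∈ U)
    (h : (f.stalkMap x).hom.Flat) :
    letI := (f.appLE V U e).hom.toAlgebra
    FlatCA.FlatAt Γ(Y, V) (hU.primeIdealOf ⟨x, hx⟩).asIdeal Γ(X, U) := by
  letI := (f.appLE V U e).hom.toAlgebra
  refine flatAt_self_of_localRingHom (hV.primeIdealOf ⟨f x, e hx⟩).asIdeal _
    congr($(IsAffineOpen.comap_primeIdealOf_appLE V hV U hU e hx).1).symm ?_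
  haveI : MorphismProperty.RespectsIso (RingHom.toMorphismProperty RingHom.Flat) :=
    RingHom.toMorphismProperty_respectsIso_iff.1 RingHom.Flat.respectsIso
  exact (MorphismProperty.arrow_mk_iso_iff (RingHom.toMorphismProperty RingHom.Flat)
    (IsAffineOpen.arrowStalkMapIso f V hV U hU e hx)).1 h

end Groth.Agent.RG
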