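import Groth.Agent.RG.StepBC
import Groth.Agent.RG.PureTrans
import Groth.Agent.ZClosLib.FibAssIdeal
import Groth.Agent.FibDim.Top
import Mathlib.RingTheory.AlgebraicIndependent.Adjoin

/-!
# Base changes with trivial residue extension
-/

set_option autoImplicit false
set_option linter.style.haveILetI false
set_option linter.unusedSectionVars false
set_option backward.isDefEq.respectTransparency false
set_option backward.isDefEq.respectTransparency.types false
set_option maxHeartbeats 1000000

universe u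

open TensorProduct

namespace Groth.Agent.RG

attribute [local instance] Algebra.TensorProduct.rightAlgebra

theorem PT.of_generators {k K : Type u} [Field k] [Field K] [Algebra k K] {σ : Type u} (x : σ → K)
    (hx : AlgebraicIndependent k x) (htop : IntermediateField.adjoin k (Set.range x) = ⊤) :
    PT (algebraMap k K) := by
  let e := hx.aevalEquivField.trans ((IntermediateField.equivOfEq htop).trans IntermediateField.topEquiv)
  refine ⟨σ, e.toRingEquiv, fun a => ?_⟩
  show ((hx.aevalEquivField (algebraMap (MvPolynomial σ k) _ (MvPolynomial.C a))) : K) = _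
  rw [AlgebraicIndependent.aevalEquivField_algebraMap_apply_coe, MvPolynomial.aeval_C]

/-- A purely transcendental residue extension is a rational function field. -/
theorem PT.of_purelyTranscendental {R S : Type u} [CommRing R] [CommRing S] [Algebra R S] (p : Ideal R) (q : Ideal S)
    [p.IsPrime] [q.IsPrime] [hq : q.LiesOver p] (h : FlatCA.PurelyTranscendental p q) :
    PT (Ideal.ResidueField.mapₐ p q (Algebra.ofId R S) hq.over).toRingHom := by
  letI : Algebra p.ResidueField q.ResidueField :=
    (Ideal.ResidueField.mapₐ p q (Algebra.ofId R S) hq.over).toRingHom.toAlgebra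
  obtain ⟨σ, x, hx, htop⟩ := h
  exact PT.of_generators x hx.1 htop

variable {R S R' S' : Type u} [CommRing R] [CommRing S] [CommRing R'] [CommRing S'] [Algebra R S] [Algebra R R']
  [Algebra R' S'] [Algebra R S'] [Algebra S S'] [IsScalarTower R R' S'] [IsScalarTower R S S']
  [Algebra.IsPushout R R' S S'] (p : Ideal R) [p.IsPrime] (p' : Ideal R') [p'.IsPrime] [hp' : p'.LiesOver p]
  (hκ : Function.Bijective (Ideal.ResidueField.mapₐ p p' (Algebra.ofId R R') hp'.over))

variable (S S') in
/-- The fibre rings agree when the residue extension is trivial. -/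
noncomputable def fiberEquiv : p.Fiber S ≃+* p'.Fiber S' :=
  let σ : (p'.ResidueField ⊗[R'] S') ≃ₐ[p'.ResidueField] (p'.ResidueField ⊗[R] S) :=
    (Algebra.TensorProduct.congr AlgEquiv.refl (Algebra.IsPushout.equiv R R' S S').symm).trans
      (Algebra.TensorProduct.cancelBaseChange R R' p'.ResidueField p'.ResidueField S)
  (Algebra.TensorProduct.congr (AlgEquiv.ofBijective _ hκ) (AlgEquiv.refl (R := R) (A₁ := S))).toRingEquiv.trans
    σ.symm.toRingEquiv

include hκ in
theorem fiberEquiv_includeRight (s : S) :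
    fiberEquiv S S' p p' hκ ((1 : p.ResidueField) ⊗ₜ[R] s) = (1 : p'.ResidueField) ⊗ₜ[R'] algebraMap S S' s := by
  apply (fiberEquiv S S' p p' hκ).symm.injective
  rw [RingEquiv.symm_apply_apply]
  apply (Algebra.TensorProduct.congr (AlgEquiv.ofBijective _ hκ) (AlgEquiv.refl (R := R) (A₁ := S))).injective
  simp [fiberEquiv, Algebra.IsPushout.equiv_symm_algebraMap_right]

variable (S S') in
/-- The fibres agree when the residue extension is trivial. -/
noncomputable def fiberHomeo : PrimeSpectrum (p'.Fiber S') ≃ₜ PrimeSpectrum (p.Fiber S) :=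
  (PrimeSpectrum.homeomorphOfRingEquiv (fiberEquiv S S' p p' hκ)).symm

theorem fiberHomeo_apply (x : PrimeSpectrum (p'.Fiber S')) :
    fiberHomeo S S' p p' hκ x = PrimeSpectrum.comap (fiberEquiv S S' p p' hκ).toRingHom x := rfl

theorem fiberHomeo_comap (x : PrimeSpectrum (p'.Fiber S')) :
    (fiberHomeo S S' p p' hκ x).asIdeal.comap (Algebra.TensorProduct.includeRight : S →ₐ[R] p.Fiber S) =
      (x.asIdeal.comap (Algebra.TensorProduct.includeRight : S' →ₐ[R'] p'.Fiber S')).comap (algebraMap S S') := by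
  ext s
  simp only [fiberHomeo_apply, PrimeSpectrum.comap_asIdeal, Ideal.mem_comap]
  show fiberEquiv S S' p p' hκ ((1 : p.ResidueField) ⊗ₜ[R] s) ∈ x.asIdeal ↔ _
  rw [fiberEquiv_includeRight]
  rfl

include hκ in
/-- Primes over the point of the base are determined by their contraction. -/
theorem eq_of_liesOver (q : Ideal S) [q.IsPrime] (Q₁ Q₂ : Ideal S') [Q₁.IsPrime] [Q₂.IsPrime] [Q₁.LiesOver q]
    [Q₂.LiesOver q] [Q₁.LiesOver p'] [Q₂.LiesOver p'] [q.LiesOver p] : Q₁ = Q₂ := by
  let x (Q : Ideal S') [Q.IsPrime] [Q.LiesOver p'] := PrimeSpectrum.primesOverOrderIsoFiber R' S' p' ⟨Q, ‹_›, ‹_›⟩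
  have hx : ∀ (Q : Ideal S') [Q.IsPrime] [Q.LiesOver p'],
      (x Q).asIdeal.comap (Algebra.TensorProduct.includeRight : S' →ₐ[R'] p'.Fiber S') = Q := fun Q _ _ =>
    congr($((PrimeSpectrum.primesOverOrderIsoFiber R' S' p').symm_apply_apply ⟨Q, ‹_›, ‹_›⟩).1)
  have h : ∀ (Q : Ideal S') [Q.IsPrime] [Q.LiesOver p'] [Q.LiesOver q],
      (fiberHomeo S S' p p' hκ (x Q)).asIdeal = FlatCA.fiberIdeal p q := fun Q _ _ _ =>
    ZClosLib.FibAssIdeal.eq_fiberIdeal p (by
      show Ideal.comap (Algebra.TensorProduct.includeRight : S →ₐ[R] p.Fiber S) _ = q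
      rw [fiberHomeo_comap, hx Q]
      exact (Ideal.LiesOver.over (P := Q) (p := q)).symm)
  have := (fiberHomeo S S' p p' hκ).injective (PrimeSpectrum.ext ((h Q₁).trans (h Q₂).symm))
  rw [← hx Q₁, ← hx Q₂, this]

variable (N : Type u) [AddCommGroup N] [Module S N] [Module R N] [IsScalarTower R S N] [Module.Finite S N]
  (N' : Type u) [AddCommGroup N'] [Module S' N'] [Module R' N'] [IsScalarTower R' S' N'] [Module S N']
  [IsScalarTower S S' N'] (f : N →ₗ[S] N')

theorem fiberHomeo_mem_support_iff (hf : IsBaseChange S' f) (x : PrimeSpectrum (p'.Fiber S')) :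
    x ∈ Module.support (p'.Fiber S') (FlatCA.fiberMod p' S' N') ↔
      fiberHomeo S S' p p' hκ x ∈ Module.support (p.Fiber S) (FlatCA.fiberMod p S N) := by
  haveI : Module.Finite S' N' := Module.Finite.equiv hf.equiv
  show x ∈ Module.support (p'.Fiber S') ((p'.Fiber S') ⊗[S'] N') ↔
    _ ∈ Module.support (p.Fiber S) ((p.Fiber S) ⊗[S] N)
  rw [QCoh.mem_support_baseChange (TensorProduct.isBaseChange S' N' (p'.Fiber S')) x,
    QCoh.mem_support_baseChange hf, QCoh.mem_support_baseChange (TensorProduct.isBaseChange S N (p.Fiber S))]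
  refine iff_of_eq (congrArg (· ∈ Module.support S N) (PrimeSpectrum.ext ?_))
  exact (fiberHomeo_comap p p' hκ x).symm

include hκ in
/-- The local dimension of the support of the fibre at the point is unchanged. -/
theorem exists_fibre_point_baseChange (hf : IsBaseChange S' f) (q : Ideal S) [q.IsPrime] [q.LiesOver p] {n : WithBot ℕ∞}
    (h : ∃ (ξ : PrimeSpectrum (p.Fiber S)) (hξ : ξ ∈ Module.support (p.Fiber S) (FlatCA.fiberMod p S N)),
      ξ.asIdeal = FlatCA.fiberIdeal p q ∧
      FlatMor.localDim (Module.support (p.Fiber S) (FlatCA.fiberMod p S N)) ⟨ξ, hξ⟩ = n)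
    (q' : Ideal S') [q'.IsPrime] [q'.LiesOver q] [q'.LiesOver p'] :
    ∃ (ξ' : PrimeSpectrum (p'.Fiber S')) (hξ' : ξ' ∈ Module.support (p'.Fiber S') (FlatCA.fiberMod p' S' N')),
      ξ'.asIdeal = FlatCA.fiberIdeal p' q' ∧
      FlatMor.localDim (Module.support (p'.Fiber S') (FlatCA.fiberMod p' S' N')) ⟨ξ', hξ'⟩ = n := by
  obtain ⟨ξ, hξ, hξq, hdim⟩ := h
  let x := PrimeSpectrum.primesOverOrderIsoFiber R' S' p' ⟨q', ‹_›, ‹_›⟩
  have hx : x.asIdeal.comap (Algebra.TensorProduct.includeRight : S' →ₐ[R'] p'.Fiber S') = q' :=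
    congr($((PrimeSpectrum.primesOverOrderIsoFiber R' S' p').symm_apply_apply ⟨q', ‹_›, ‹_›⟩).1)
  have hxξ : fiberHomeo S S' p p' hκ x = ξ := PrimeSpectrum.ext (by
    rw [hξq]
    exact ZClosLib.FibAssIdeal.eq_fiberIdeal p (by
      show Ideal.comap (Algebra.TensorProduct.includeRight : S →ₐ[R] p.Fiber S) _ = q
      rw [fiberHomeo_comap, hx]
      exact (Ideal.LiesOver.over (P := q') (p := q)).symm))
  have hxs := (fiberHomeo_mem_support_iff p p' hκ N N' f hf x).2 (hxξ ▸ hξ)
  refine ⟨x, hxs, ZClosLib.FibAssIdeal.eq_fiberIdeal p' hx, ?_⟩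
  let E : Module.support (p'.Fiber S') (FlatCA.fiberMod p' S' N') ≃ₜ
      Module.support (p.Fiber S) (FlatCA.fiberMod p S N) :=
    (fiberHomeo S S' p p' hκ).subtype fun x => fiberHomeo_mem_support_iff p p' hκ N N' f hf x
  rw [← FibDim.localDim_homeomorph E ⟨x, hxs⟩, ← hdim]
  exact congrArg _ (Subtype.ext hxξ)

include hκ in
/-- The residue fields of the points upstairs agree. -/
theorem residueField_bijective_baseChange (y : Ideal S) [y.IsPrime] (y' : Ideal S') [y'.IsPrime] [hy : y'.LiesOver y]
    [y'.LiesOver p'] [y.LiesOver p] :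
    Function.Bijective (Ideal.ResidueField.mapₐ y y' (Algebra.ofId S S') hy.over) := by
  let ψ : y.ResidueField →+* y'.ResidueField := (Ideal.ResidueField.mapₐ y y' (Algebra.ofId S S') hy.over).toRingHom
  refine ⟨ψ.injective, ?_⟩
  have hS : ∀ s, ψ (algebraMap S y.ResidueField s) = algebraMap S' y'.ResidueField (algebraMap S S' s) := fun s =>
    Ideal.ResidueField.map_algebraMap y y' _ _ s
  let χ : p'.ResidueField →+* y'.ResidueField :=
    (Ideal.ResidueField.mapₐ p' y' (Algebra.ofId R' S') (Ideal.LiesOver.over (P := y') (p := p'))).toRingHom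
  have hχ : ∀ a, χ a ∈ ψ.range := by
    intro a
    obtain ⟨b, rfl⟩ := hκ.2 a
    refine ⟨Ideal.ResidueField.mapₐ p y (Algebra.ofId R S) (Ideal.LiesOver.over (P := y) (p := p)) b, ?_⟩
    refine RingHom.congr_fun (f := ψ.comp (Ideal.ResidueField.mapₐ p y (Algebra.ofId R S) _).toRingHom)
      (g := χ.comp (Ideal.ResidueField.mapₐ p p' (Algebra.ofId R R') hp'.over).toRingHom) ?_ b
    refine Ideal.ResidueField.ringHom_ext (RingHom.ext fun r => ?_)
    show Ideal.ResidueField.map y y' _ _ (Ideal.ResidueField.map p y _ _ (algebraMap R p.ResidueField r)) =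
      Ideal.ResidueField.map p' y' _ _ (Ideal.ResidueField.map p p' _ _ (algebraMap R p.ResidueField r))
    rw [Ideal.ResidueField.map_algebraMap, Ideal.ResidueField.map_algebraMap, Ideal.ResidueField.map_algebraMap,
      Ideal.ResidueField.map_algebraMap]
    exact congrArg (algebraMap S' y'.ResidueField)
      ((IsScalarTower.algebraMap_apply R S S' r).symm.trans (IsScalarTower.algebraMap_apply R R' S' r))
  have hall : ∀ t : S', algebraMap S' y'.ResidueField t ∈ ψ.range := by
    intro t
    obtain ⟨t, rfl⟩ := (Algebra.IsPushout.equiv R R' S S').surjective t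
    induction t using TensorProduct.induction_on with
    | zero => rw [map_zero, map_zero]; exact zero_mem _
    | add a b ha hb => rw [map_add, map_add]; exact add_mem ha hb
    | tmul r s =>
      rw [Algebra.IsPushout.equiv_tmul, map_mul]
      refine mul_mem ?_ ⟨_, hS s⟩
      exact Ideal.ResidueField.map_algebraMap p' y' (Algebra.ofId R' S').toRingHom _ r ▸ hχ (algebraMap R' p'.ResidueField r)
  intro a
  obtain ⟨u, v, -, rfl⟩ := IsFractionRing.div_surjective (A := S' ⧸ y') a
  obtain ⟨u, rfl⟩ := Ideal.Quotient.mk_surjective u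
  obtain ⟨v, rfl⟩ := Ideal.Quotient.mk_surjective v
  rw [Ideal.algebraMap_quotient_residueField_mk, Ideal.algebraMap_quotient_residueField_mk]
  obtain ⟨a, ha⟩ := hall u
  obtain ⟨b, hb⟩ := hall v
  exact ⟨a / b, by show ψ (a / b) = _; rw [map_div₀, ha, hb]⟩

include hκ in
theorem purelyTranscendental_baseChange (y : Ideal S) [y.IsPrime] (y' : Ideal S') [y'.IsPrime] [hy : y'.LiesOver y]
    [y'.LiesOver p'] [y.LiesOver p] (h : FlatCA.PurelyTranscendental p y) : FlatCA.PurelyTranscendental p' y' := by
  refine PT.purelyTranscendental p' y' ((PT.of_purelyTranscendental p y h).congr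
    (RingEquiv.ofBijective (Ideal.ResidueField.mapₐ p p' (Algebra.ofId R R') hp'.over).toRingHom hκ)
    (RingEquiv.ofBijective (Ideal.ResidueField.mapₐ y y' (Algebra.ofId S S') hy.over).toRingHom
      (residueField_bijective_baseChange p p' hκ y y')) fun x => ?_)
  refine RingHom.congr_fun (f := (Ideal.ResidueField.mapₐ y y' (Algebra.ofId S S') hy.over).toRingHom.comp
      (Ideal.ResidueField.mapₐ p y (Algebra.ofId R S) _).toRingHom)
    (g := (Ideal.ResidueField.mapₐ p' y' (Algebra.ofId R' S') _).toRingHom.comp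
      (Ideal.ResidueField.mapₐ p p' (Algebra.ofId R R') hp'.over).toRingHom) ?_ x
  refine Ideal.ResidueField.ringHom_ext (RingHom.ext fun r => ?_)
  show Ideal.ResidueField.map y y' _ _ (Ideal.ResidueField.map p y _ _ (algebraMap R p.ResidueField r)) =
    Ideal.ResidueField.map p' y' _ _ (Ideal.ResidueField.map p p' _ _ (algebraMap R p.ResidueField r))
  rw [Ideal.ResidueField.map_algebraMap, Ideal.ResidueField.map_algebraMap, Ideal.ResidueField.map_algebraMap,
    Ideal.ResidueField.map_algebraMap]
  exact congrArg (algebraMap S' y'.ResidueField)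
    ((IsScalarTower.algebraMap_apply R S S' r).symm.trans (IsScalarTower.algebraMap_apply R R' S' r))

end Groth.Agent.RG
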