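import Groth.Agent.RG.ShrinkOpen
import Groth.Agent.RG.LocStrRing
import Groth.Agent.RG.StepFibre
import Groth.Agent.RG.EtaleBC

/-!
# Geometrically integral étale localisations in ring terms
-/

set_option autoImplicit false
set_option linter.style.haveILetI false
set_option linter.unusedSectionVars false
set_option backward.isDefEq.respectTransparency false
set_option backward.isDefEq.respectTransparency.types false
set_option maxHeartbeats 1000000

universe u

open TensorProduct AlgebraicGeometry CategoryTheory CategoryTheory.Limits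

namespace Groth.Agent.RG

/-- An algebra étale over a smooth one, over an étale base, is smooth of the same relative dimension. -/
theorem smoothRelDim_etale {R D R' D' : Type u} [CommRing R] [CommRing D] [CommRing R'] [CommRing D'] [Algebra R D]
    [Algebra R R'] [Algebra D D'] [Algebra R' D'] [Algebra R D'] [IsScalarTower R R' D'] [IsScalarTower R D D']
    [Algebra.Etale R R'] [Algebra.Etale D D'] {n : ℕ} (h : FlatCA.SmoothRelDim n R D) :
    FlatCA.SmoothRelDim n R' D' := by
  let T := R' ⊗[R] D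
  letI : Algebra D T := Algebra.TensorProduct.rightAlgebra
  haveI : IsScalarTower R D T := IsScalarTower.of_algebraMap_eq fun r => by
    show (algebraMap R R' r) ⊗ₜ[R] (1 : D) = (1 : R') ⊗ₜ[R] algebraMap R D r
    rw [Algebra.algebraMap_eq_smul_one, TensorProduct.smul_tmul, ← Algebra.algebraMap_eq_smul_one]
  haveI : Algebra.IsPushout R R' D T := inferInstance
  haveI : Algebra.IsPushout R D R' T := Algebra.IsPushout.symm inferInstance
  haveI : Algebra.Etale D T := Algebra.Etale.of_equiv (Algebra.IsPushout.equiv R D R' T)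
  let φ : T →ₐ[R] D' := Algebra.TensorProduct.lift (IsScalarTower.toAlgHom R R' D') (IsScalarTower.toAlgHom R D D')
    fun _ _ => Commute.all _ _
  letI : Algebra T D' := φ.toRingHom.toAlgebra
  haveI : IsScalarTower D T D' := IsScalarTower.of_algebraMap_eq fun d => by
    refine Eq.trans ?_ (Algebra.TensorProduct.lift_tmul _ _ _ (1 : R') d).symm
    simp
  haveI : IsScalarTower R' T D' := IsScalarTower.of_algebraMap_eq fun r => by
    refine Eq.trans ?_ (Algebra.TensorProduct.lift_tmul _ _ _ r (1 : D)).symm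
    simp
  haveI : Algebra.Etale T D' := Algebra.Etale.of_restrictScalars D T D'
  have h1 : FlatCA.SmoothRelDim n R' T := smoothRelDim_baseChange R R' D T h
  haveI := h1
  haveI : Etale (Spec.map (CommRingCat.ofHom (algebraMap T D'))) := by
    rw [HasRingHomProperty.Spec_iff (P := @Etale)]
    exact RingHom.etale_algebraMap.2 inferInstance
  haveI : SmoothOfRelativeDimension 0 (Spec.map (CommRingCat.ofHom (algebraMap T D'))) := inferInstance
  have h2 := smoothOfRelativeDimension_comp (n := 0) (m := n) (Spec.map (CommRingCat.ofHom (algebraMap T D')))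
    (Spec.map (CommRingCat.ofHom (algebraMap R' T)))
  rw [zero_add, ← Spec.map_comp, ← CommRingCat.ofHom_comp, ← IsScalarTower.algebraMap_eq] at h2
  exact h2

/-- Étale localisation making the fibres geometrically integral, inside the base change. -/
theorem exists_geomIntegral_ring {R' D' : Type u} [CommRing R'] [CommRing D'] [Algebra R' D'] {n : ℕ}
    (hsm : FlatCA.SmoothRelDim n R' D') (p' : Ideal R') [p'.IsPrime] (y' : Ideal D') [y'.IsPrime] [y'.LiesOver p']
    (hpt : FlatCA.PurelyTranscendental p' y') :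
    ∃ (R'' : Type u) (_ : CommRing R'') (_ : Algebra R' R'') (D'' : Type u) (_ : CommRing D'') (_ : Algebra D' D'')
      (_ : Algebra R'' D'') (p'' : Ideal R'') (y'' : Ideal D'') (_ : p''.IsPrime) (_ : y''.IsPrime),
      FlatCA.IsEtaleNhd R' R'' p' p'' ∧ FlatCA.IsEtaleNhd D' D'' y' y'' ∧
      y''.comap (algebraMap R'' D'') = p'' ∧
      (∀ r : R', algebraMap R'' D'' (algebraMap R' R'' r) = algebraMap D' D'' (algebraMap R' D' r)) ∧
      FlatCA.SmoothRelDim n R'' D'' ∧ FlatCA.GeomIrredFibres R'' D'' ∧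
      ∀ φ : R'' ⊗[R'] D' →+* D'', (∀ a b, φ (a ⊗ₜ b) = algebraMap R'' D'' a * algebraMap D' D'' b) →
        IsOpenImmersion (Spec.map (CommRingCat.ofHom φ)) := by
  let h := Spec.map (CommRingCat.ofHom (algebraMap R' D'))
  haveI : SmoothOfRelativeDimension n h := hsm
  have hy : p' = y'.comap (algebraMap R' D') := Ideal.LiesOver.over
  have hpp : PTPt h (⟨y', inferInstance⟩ : PrimeSpectrum D') :=
    ptPt_SpecMap (CommRingCat.ofHom (algebraMap R' D')) ⟨y', inferInstance⟩ p' hy (PT.of_purelyTranscendental p' y' hpt)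
  obtain ⟨S', Y', e, q, h', y₁, hS, hY, he, hq, hcomm, hsm', hopen, hgi⟩ :=
    exists_geomIntegral_nbhd_open h n _ hpp.sepPt
  haveI := hS
  haveI := hY
  have hh : h (⟨y', inferInstance⟩ : PrimeSpectrum D') = (⟨p', inferInstance⟩ : PrimeSpectrum R') :=
    PrimeSpectrum.ext hy.symm
  rw [hh] at he
  let εS := S'.isoSpec
  let εY := Y'.isoSpec
  obtain ⟨α, hα⟩ := Spec.map_surjective (εS.inv ≫ e)
  obtain ⟨β, hβ⟩ := Spec.map_surjective (εY.inv ≫ q)
  obtain ⟨γ, hγ⟩ := Spec.map_surjective (εY.inv ≫ h' ≫ εS.hom)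
  have he' := isEtaleNbhd_iso_right he εS.symm
  have hq' := isEtaleNbhd_iso_right hq εY.symm
  simp only [Iso.symm_hom, Iso.symm_inv] at he' hq'
  rw [← hα] at he'
  rw [← hβ] at hq'
  let yp : PrimeSpectrum Γ(Y', ⊤) := εY.hom y₁
  let sp : PrimeSpectrum Γ(S', ⊤) := εS.hom (h' y₁)
  letI := α.hom.toAlgebra
  letI := β.hom.toAlgebra
  letI := γ.hom.toAlgebra
  have hαγ : α ≫ γ = CommRingCat.ofHom (algebraMap R' D') ≫ β := by
    apply Spec.map_injective
    simp only [Spec.map_comp, hα, hβ, hγ, Category.assoc, hcomm, Iso.hom_inv_id_assoc]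
    rfl
  refine ⟨Γ(S', ⊤), inferInstance, α.hom.toAlgebra, Γ(Y', ⊤), inferInstance, β.hom.toAlgebra, γ.hom.toAlgebra,
    sp.asIdeal, yp.asIdeal, sp.2, yp.2, isEtaleNhd_of_scheme p' sp.asIdeal he',
    isEtaleNhd_of_scheme y' yp.asIdeal hq', ?_, fun r => congr($(hαγ).hom r), ?_, ?_, ?_⟩
  · refine congrArg PrimeSpectrum.asIdeal (a₁ := Spec.map γ yp) (a₂ := sp) ?_
    rw [hγ]
    show εS.hom (h' (εY.inv (εY.hom y₁))) = εS.hom (h' y₁)
    rw [← Scheme.Hom.comp_apply εY.hom εY.inv, εY.hom_inv_id]
    rfl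
  · show SmoothOfRelativeDimension n (Spec.map γ)
    rw [hγ]
    haveI := hsm'
    have h1 := smoothOfRelativeDimension_comp (n := n) (m := 0) h' εS.hom
    rw [add_zero] at h1
    have h2 := smoothOfRelativeDimension_comp (n := 0) (m := n) εY.inv (h' ≫ εS.hom)
    rwa [zero_add] at h2
  · show GeometricallyIrreducible (Spec.map γ)
    haveI : GeometricallyIntegral (Spec.map γ) := by
      rw [hγ, GeometricallyIntegral.eq_geometrically]
      rw [GeometricallyIntegral.eq_geometrically] at hgi
      exact MorphismProperty.of_isPullback (P := geometrically IsIntegral)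
        (IsPullback.of_horiz_isIso ⟨by simp⟩ : IsPullback εY.inv (εY.inv ≫ h' ≫ εS.hom) h' εS.inv) hgi
    infer_instance
  intro φ hφ
  have hα' : e = εS.hom ≫ Spec.map α := by rw [hα, Iso.hom_inv_id_assoc]
  have hT : IsPullback (Spec.map (CommRingCat.ofHom
      (Algebra.TensorProduct.includeRight : D' →ₐ[R'] Γ(S', ⊤) ⊗[R'] D').toRingHom))
      (Spec.map (CommRingCat.ofHom (algebraMap Γ(S', ⊤) (Γ(S', ⊤) ⊗[R'] D')))) h (Spec.map α) :=
    (isPullback_SpecMap_of_isPushout _ _ _ _ (CommRingCat.isPushout_tensorProduct R' Γ(S', ⊤) D')).flip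
  have hT' : IsPullback (Spec.map (CommRingCat.ofHom
      (Algebra.TensorProduct.includeRight : D' →ₐ[R'] Γ(S', ⊤) ⊗[R'] D').toRingHom))
      (Spec.map (CommRingCat.ofHom (algebraMap Γ(S', ⊤) (Γ(S', ⊤) ⊗[R'] D'))) ≫ εS.inv) h e :=
    hT.of_iso (Iso.refl _) (Iso.refl _) εS.symm (Iso.refl _) (by simp) (by simp) (by simp) (by simp [hα'])
  have hc : q ≫ h = h' ≫ e := hcomm.symm
  haveI := hopen hc
  have key : Spec.map (CommRingCat.ofHom φ) = εY.inv ≫ pullback.lift q h' hc ≫ hT'.isoPullback.inv := by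
    refine hT'.hom_ext ?_ ?_
    · simp only [Category.assoc, IsPullback.isoPullback_inv_fst, pullback.lift_fst]
      rw [← hβ, ← Spec.map_comp]
      refine congrArg Spec.map (CommRingCat.hom_ext (RingHom.ext fun d => ?_))
      show φ ((1 : Γ(S', ⊤)) ⊗ₜ[R'] d) = β.hom d
      rw [hφ, map_one, one_mul]
      rfl
    · simp only [Category.assoc, IsPullback.isoPullback_inv_snd, pullback.lift_snd]
      rw [← cancel_mono εS.hom]
      simp only [Category.assoc, Iso.inv_hom_id, Category.comp_id]
      rw [← hγ, ← Spec.map_comp]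
      refine congrArg Spec.map (CommRingCat.hom_ext (RingHom.ext fun d => ?_))
      show φ (d ⊗ₜ[R'] (1 : D')) = γ.hom d
      rw [hφ, map_one, mul_one]
      rfl
  rw [key]
  infer_instance

end Groth.Agent.RG
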