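import Groth.Agent.RG.FPInduction
import Groth.Agent.RG.NearFT
import Groth.Agent.WeakAss.Basic
import Groth.Agent.S1192

/-!
# Finitely many weakly associated points
-/

set_option autoImplicit false
set_option linter.style.haveILetI false
set_option linter.unusedSectionVars false
set_option backward.isDefEq.respectTransparency false
set_option maxHeartbeats 1600000

universe u

open TensorProduct

namespace Groth.Agent.RG

theorem fp_tensor_untrans {A M : Type u} [CommRing A] [AddCommGroup M] [Module A M] (T U : Type u) [CommRing T] [CommRing U]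
    [Algebra A T] [Algebra A U] [Algebra T U] [IsScalarTower A T U] [Module.FinitePresentation U (U ⊗[A] M)] :
    Module.FinitePresentation U (U ⊗[T] (T ⊗[A] M)) :=
  Module.FinitePresentation.of_equiv (AlgebraTensorModule.cancelBaseChange A T U U M).symm

/-- Weakly associated primes only see the localisation. -/
theorem mem_weakAss_iff_of_locally_bijective {A X Y : Type u} [CommRing A] [AddCommGroup X] [Module A X]
    [AddCommGroup Y] [Module A Y] (f : X →ₗ[A] Y) (q : Ideal A) [q.IsPrime]
    (hk : ∀ x, f x = 0 → ∃ s ∉ q, s • x = 0) (hc : ∀ y, ∃ s ∉ q, s • y ∈ LinearMap.range f) :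
    q ∈ FlatCA.weakAss A X ↔ q ∈ FlatCA.weakAss A Y := by
  have hd : Disjoint (q.primeCompl : Set A) (q : Set A) := Set.disjoint_left.2 fun a ha => ha
  rw [WeakAss.mem_weakAss_iff_map q.primeCompl (R' := Localization.AtPrime q) (LocalizedModule.mkLinearMap q.primeCompl X) hd,
    WeakAss.mem_weakAss_iff_map q.primeCompl (R' := Localization.AtPrime q) (LocalizedModule.mkLinearMap q.primeCompl Y) hd]
  have hb : Function.Bijective (LocalizedModule.map q.primeCompl f) := by
    refine ⟨(injective_localizedMap_iff _ f).2 fun x hx => ?_, fun y => ?_⟩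
    · obtain ⟨s, hs, h⟩ := hk x hx
      exact ⟨s, hs, h⟩
    · induction y using LocalizedModule.induction_on with
      | h y t =>
        obtain ⟨s, hs, x, hx⟩ := hc y
        refine ⟨LocalizedModule.mk x ((⟨s, hs⟩ : q.primeCompl) * t), ?_⟩
        rw [LocalizedModule.map_mk, hx]
        exact LocalizedModule.mk_cancel_common_left (⟨s, hs⟩ : q.primeCompl) t y
  let e := LinearEquiv.ofBijective _ hb
  exact ⟨fun h => WeakAss.weakAss_subset_of_injective e.toLinearMap e.injective h,
    fun h => WeakAss.weakAss_subset_of_injective e.symm.toLinearMap e.symm.injective h⟩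

/-- A finitely presented module mapping onto a given one, isomorphically at a point of finite presentation. -/
theorem exists_fp_model_at {S : Type u} [CommRing S] (N : Type u) [AddCommGroup N] [Module S N] [Module.Finite S N]
    (W : Submonoid S) (h : FPAt W N) :
    ∃ (N₀ : Type u) (_ : AddCommGroup N₀) (_ : Module S N₀) (_ : Module.FinitePresentation S N₀) (π : N₀ →ₗ[S] N),
      Function.Surjective π ∧ ∀ x, π x = 0 → ∃ s ∈ W, s • x = 0 := by
  classical
  rw [← fpAt_iff_localizedModule] at h
  obtain ⟨n, π₀, hπ₀⟩ := Module.Finite.exists_fin' S N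
  let g := LocalizedModule.map W π₀
  have hker : (LinearMap.ker g).FG :=
    haveI := h
    haveI : Module.Finite (Localization W) (LocalizedModule W (Fin n → S)) :=
      Module.Finite.of_isLocalizedModule W (LocalizedModule.mkLinearMap W (Fin n → S))
    Module.FinitePresentation.fg_ker g (LocalizedModule.map_surjective W _ hπ₀)
  obtain ⟨T, hT⟩ := hker
  have hT' : ∀ k ∈ T, ∃ a : Fin n → S, ∃ s : W, k = LocalizedModule.mk a s ∧ π₀ a = 0 := by
    intro k hk
    have h0 : g k = 0 := LinearMap.mem_ker.1 (hT ▸ Submodule.subset_span hk)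
    induction k using LocalizedModule.induction_on with
    | h a s =>
      rw [LocalizedModule.map_mk, ← LocalizedModule.zero_mk (1 : W), LocalizedModule.mk_eq] at h0
      obtain ⟨t, ht⟩ := h0
      simp only [one_smul, smul_zero] at ht
      exact ⟨t • a, t * s, (LocalizedModule.mk_cancel_common_left t s a).symm, by rw [Submonoid.smul_def, map_smul]; exact ht⟩
  choose a s has ha using hT'
  let L₀ : Submodule S (Fin n → S) := Submodule.span S (Set.range fun k : T => a k.1 k.2)
  have hfg : L₀.FG := Submodule.fg_span (Set.finite_range _)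
  have hle : L₀ ≤ LinearMap.ker π₀ := Submodule.span_le.2 (by rintro _ ⟨k, rfl⟩; exact ha k.1 k.2)
  refine ⟨(Fin n → S) ⧸ L₀, inferInstance, inferInstance,
    Module.finitePresentation_of_surjective L₀.mkQ (Submodule.mkQ_surjective _) (by rw [Submodule.ker_mkQ]; exact hfg),
    Submodule.liftQ L₀ π₀ hle, fun y => ?_, fun x hx => ?_⟩
  · obtain ⟨b, rfl⟩ := hπ₀ y
    exact ⟨Submodule.Quotient.mk b, rfl⟩
  · obtain ⟨b, rfl⟩ := Submodule.mkQ_surjective L₀ x
    have hle' : LinearMap.ker g ≤ Submodule.localized W L₀ := by
      rw [← hT, Submodule.span_le]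
      intro k hk
      refine ⟨a k hk, Submodule.subset_span ⟨⟨k, hk⟩, rfl⟩, s k hk, ?_⟩
      rw [← IsLocalizedModule.mk_eq_mk', ← has k hk]
    have hb : LocalizedModule.mk b (1 : W) ∈ LinearMap.ker g := by
      rw [LinearMap.mem_ker, LocalizedModule.map_mk, show π₀ b = 0 from hx, LocalizedModule.zero_mk]
    obtain ⟨m, hm, t, hmt⟩ := hle' hb
    rw [← IsLocalizedModule.mk_eq_mk', LocalizedModule.mk_eq] at hmt
    obtain ⟨v, hv⟩ := hmt
    refine ⟨(v : S) * t, (v * t).2, ?_⟩
    rw [Submodule.mkQ_apply, ← Submodule.Quotient.mk_smul, Submodule.Quotient.mk_eq_zero, mul_smul]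
    simp only [one_smul, Submonoid.smul_def] at hv
    rw [← hv]
    exact L₀.smul_mem _ hm

variable {R S : Type u} [CommRing R] [CommRing S] [Algebra R S] [Algebra.FinitePresentation R S]

attribute [local instance] Algebra.TensorProduct.rightAlgebra in
/-- A flat finitely presented module has finitely many weakly associated primes when the base has. -/
theorem weakAss_finite_of_flat (hR : (FlatCA.weakAss R R).Finite) (M : Type u) [AddCommGroup M] [Module S M]
    [Module R M] [IsScalarTower R S M] [Module.FinitePresentation S M] [Module.Flat R M] :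
    (FlatCA.weakAss S M).Finite := by
  let e : (M ⊗[R] R) ≃ₗ[S] M := AlgebraTensorModule.rid R S M
  refine Set.Finite.subset (Set.Finite.biUnion hR fun (p : Ideal R) _ =>
    Set.Finite.image (fun x : Ideal (S) => x)
      (s := {q : Ideal S | ∃ (_ : p.IsPrime), q.IsPrime ∧ q.comap (algebraMap R S) = p ∧ q ∈ FlatCA.weakAss S M}) ?_) ?_
  · by_cases hp : p.IsPrime
    swap
    · exact Set.Finite.subset Set.finite_empty fun q hq => (hp hq.1).elim
    haveI := hp
    haveI : IsNoetherianRing (p.Fiber S) := Algebra.FiniteType.isNoetherianRing p.ResidueField _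
    haveI : Module.Finite (p.Fiber S) (FlatCA.fiberMod p S M) :=
      inferInstanceAs (Module.Finite (p.Fiber S) ((p.Fiber S) ⊗[S] M))
    refine Set.Finite.of_finite_image (f := fun q : Ideal S => FlatCA.fiberIdeal p q)
      ((associatedPrimes.finite (p.Fiber S) (FlatCA.fiberMod p S M)).subset ?_) ?_
    · rintro _ ⟨q, ⟨_, hq, hqp, hqw⟩, rfl⟩
      haveI := hq
      haveI : q.LiesOver p := ⟨hqp.symm⟩
      exact ((Groth.Agent.S1192.result M R p q).1
        (WeakAss.weakAss_subset_of_injective e.symm.toLinearMap e.symm.injective hqw)).2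
    · rintro q₁ ⟨_, h₁, h₁p, -⟩ q₂ ⟨_, h₂, h₂p, -⟩ heq
      haveI := h₁; haveI := h₂
      haveI : q₁.LiesOver p := ⟨h₁p.symm⟩
      haveI : q₂.LiesOver p := ⟨h₂p.symm⟩
      have key : ∀ (q : Ideal S) [q.IsPrime] [q.LiesOver p], (FlatCA.fiberIdeal p q).comap
          (Algebra.TensorProduct.includeRight : S →ₐ[R] p.Fiber S) = q := by
        intro q _ _
        let x := PrimeSpectrum.primesOverOrderIsoFiber R S p ⟨q, ‹_›, ‹_›⟩
        have hx : x.asIdeal.comap (Algebra.TensorProduct.includeRight : S →ₐ[R] p.Fiber S) = q :=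
          congr($((PrimeSpectrum.primesOverOrderIsoFiber R S p).symm_apply_apply ⟨q, ‹_›, ‹_›⟩).1)
        rw [← ZClosLib.FibAssIdeal.eq_fiberIdeal p (Q := x.asIdeal) hx]
        exact hx
      rw [← key q₁, ← key q₂, show FlatCA.fiberIdeal p q₁ = FlatCA.fiberIdeal p q₂ from heq]
  · intro q hq
    haveI : q.IsPrime := by obtain ⟨m, hm⟩ := hq; exact hm.1.1
    simp only [Set.mem_iUnion, Set.mem_image]
    haveI : q.LiesOver (q.comap (algebraMap R S)) := ⟨rfl⟩
    refine ⟨q.comap (algebraMap R S), ?_, q, ⟨inferInstance, inferInstance, rfl, hq⟩, rfl⟩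
    exact ((Groth.Agent.S1192.result M R (q.comap (algebraMap R S)) q).1
      (WeakAss.weakAss_subset_of_injective e.symm.toLinearMap e.symm.injective hq)).1

/-- Weakly associated primes on a basic open on which the module is flat. -/
theorem weakAss_finite_off (hR : (FlatCA.weakAss R R).Finite) (N : Type u) [AddCommGroup N] [Module S N]
    [Module R N] [IsScalarTower R S N] [Module.FinitePresentation S N] (g : S)
    (hflat : Module.Flat R (LocalizedModule (Submonoid.powers g) N)) :
    {Q ∈ FlatCA.weakAss S N | g ∉ Q}.Finite := by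
  let S' := Localization.Away g
  let M := LocalizedModule (Submonoid.powers g) N
  haveI : Algebra.FinitePresentation S S' := IsLocalization.Away.finitePresentation g
  haveI : Algebra.FinitePresentation R S' := Algebra.FinitePresentation.trans R S S'
  haveI : Module.FinitePresentation S' M :=
    Module.FinitePresentation.of_equiv (LocalizedModule.equivTensorProduct (Submonoid.powers g) N).symm
  haveI : IsScalarTower R S' M := IsScalarTower.of_algebraMap_smul fun r x => by
    rw [IsScalarTower.algebraMap_apply R S S', algebraMap_smul, algebraMap_smul]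
  haveI := hflat
  refine Set.Finite.of_finite_image (f := fun Q : Ideal S => Q.map (algebraMap S S'))
    ((weakAss_finite_of_flat (R := R) (S := S') hR M).subset ?_) ?_
  · rintro _ ⟨Q, ⟨hQ, hg⟩, rfl⟩
    haveI : Q.IsPrime := by obtain ⟨m, hm⟩ := hQ; exact hm.1.1
    exact (WeakAss.mem_weakAss_iff_map (Submonoid.powers g) (LocalizedModule.mkLinearMap (Submonoid.powers g) N)
      ((Ideal.disjoint_powers_iff_notMem g ‹Q.IsPrime›.isRadical).2 hg)).1 hQ
  · rintro Q₁ ⟨hQ₁, hg₁⟩ Q₂ ⟨hQ₂, hg₂⟩ h
    haveI : Q₁.IsPrime := by obtain ⟨m, hm⟩ := hQ₁; exact hm.1.1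
    haveI : Q₂.IsPrime := by obtain ⟨m, hm⟩ := hQ₂; exact hm.1.1
    rw [← IsLocalization.comap_map_of_isPrime_disjoint (Submonoid.powers g) S' ‹Q₁.IsPrime›
        ((Ideal.disjoint_powers_iff_notMem g ‹Q₁.IsPrime›.isRadical).2 hg₁),
      ← IsLocalization.comap_map_of_isPrime_disjoint (Submonoid.powers g) S' ‹Q₂.IsPrime›
        ((Ideal.disjoint_powers_iff_notMem g ‹Q₂.IsPrime›.isRadical).2 hg₂), show Q₁.map (algebraMap S S') = Q₂.map (algebraMap S S') from h]

/-- Over a base with finitely many weakly associated primes, a flat point has a neighbourhood of flatness and finite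
presentation. -/
theorem exists_nhd_of_weakAss_finite (hR : (FlatCA.weakAss R R).Finite)
    (N : Type u) [AddCommGroup N] [Module S N] [Module R N] [IsScalarTower R S N] [Module.Finite S N]
    (q : Ideal S) [q.IsPrime] (h : FlatCA.FlatAt R q N) :
    ∃ g : S, g ∉ q ∧ FPAt (Submonoid.powers g) N ∧ Module.Flat R (LocalizedModule (Submonoid.powers g) N) := by
  classical
  obtain ⟨N₀, _, _, _, π, hπ, hker⟩ := exists_fp_model_at N q.primeCompl (fpAt_of_flatAt N q h)
  letI : Module R N₀ := Module.compHom N₀ (algebraMap R S)
  haveI : IsScalarTower R S N₀ := IsScalarTower.of_algebraMap_smul fun _ _ => rfl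
  have hN₀ : FlatCA.FlatAt R q N₀ := by
    have hb : Function.Bijective (LocalizedModule.map q.primeCompl π) :=
      ⟨(injective_localizedMap_iff _ π).2 hker, LocalizedModule.map_surjective _ _ hπ⟩
    haveI : IsScalarTower R (Localization.AtPrime q) (LocalizedModule q.primeCompl N) :=
      IsScalarTower.of_algebraMap_smul fun r x => by
        rw [IsScalarTower.algebraMap_apply R S (Localization.AtPrime q), algebraMap_smul, algebraMap_smul]
    haveI : IsScalarTower R (Localization.AtPrime q) (LocalizedModule q.primeCompl N₀) :=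
      IsScalarTower.of_algebraMap_smul fun r x => by
        rw [IsScalarTower.algebraMap_apply R S (Localization.AtPrime q), algebraMap_smul, algebraMap_smul]
    haveI : Module.Flat R (LocalizedModule q.primeCompl N) := h
    exact Module.Flat.of_linearEquiv ((LinearEquiv.ofBijective _ hb).restrictScalars R)
  obtain ⟨g₀, hg₀, hflat₀⟩ := FlatModel.exists_flat_nhd N₀ q hN₀
  have hfl := hflat₀ _ (Submonoid.mem_powers g₀)
  have hfin := weakAss_finite_off hR N₀ g₀ hfl
  let bad : Finset (Ideal S) := hfin.toFinset.filter fun Q => ¬ Q ≤ q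
  have hbad : ∀ Q ∈ bad, ∃ t, t ∈ Q ∧ t ∉ q := fun Q hQ => SetLike.not_le_iff_exists.1 (Finset.mem_filter.1 hQ).2
  choose t htQ htq using hbad
  let g := g₀ * ∏ Q ∈ bad.attach, t Q.1 Q.2
  have hgq : g ∉ q := fun hh => by
    rcases (inferInstance : q.IsPrime).mem_or_mem hh with h1 | h1
    · exact hg₀ h1
    · obtain ⟨Q, -, hQ⟩ := (Ideal.IsPrime.prod_mem_iff).1 h1
      exact htq Q.1 Q.2 hQ
  have hinj : ∀ x, π x = 0 → ∃ w ∈ Submonoid.powers g, w • x = 0 := by
    intro x hx
    by_contra hne
    push Not at hne
    obtain ⟨Q₀, hQ₀, hle, hd⟩ := Ideal.exists_le_prime_disjoint (I := WeakAss.annEl S x) (Submonoid.powers g)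
      (Set.disjoint_left.2 fun a ha ha' => hne a ha' (WeakAss.mem_annEl.1 ha))
    haveI := hQ₀
    obtain ⟨Q, hQ, hQle⟩ := Ideal.exists_minimalPrimes_le hle
    haveI := hQ.1.1
    have hgQ : g ∉ Q := fun hh => Set.disjoint_left.1 hd (hQle hh) (Submonoid.mem_powers g)
    have hQw : Q ∈ FlatCA.weakAss S N₀ := ⟨x, hQ⟩
    obtain ⟨s, hs, hsx⟩ := hker x hx
    have hQq : ¬ Q ≤ q := fun hh => hs (hh (hQ.1.2 (WeakAss.mem_annEl.2 hsx)))
    have hQbad : Q ∈ bad := Finset.mem_filter.2
      ⟨hfin.mem_toFinset.2 ⟨hQw, fun hh => hgQ (Q.mul_mem_right _ hh)⟩, hQq⟩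
    exact hgQ (Q.mul_mem_left _ (Ideal.prod_mem Q (Finset.mem_attach bad ⟨Q, hQbad⟩) (htQ Q hQbad)))
  have hb : Function.Bijective (LocalizedModule.map (Submonoid.powers g) π) :=
    ⟨(injective_localizedMap_iff _ π).2 hinj, LocalizedModule.map_surjective _ _ hπ⟩
  refine ⟨g, hgq, ?_, ?_⟩
  · rw [← fpAt_iff_localizedModule]
    haveI : Module.FinitePresentation (Localization (Submonoid.powers g)) (LocalizedModule (Submonoid.powers g) N₀) :=
      Module.FinitePresentation.of_equiv (LocalizedModule.equivTensorProduct (Submonoid.powers g) N₀).symm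
    exact Module.FinitePresentation.of_equiv (LinearEquiv.ofBijective _ hb)
  · haveI : Module.Flat R (LocalizedModule (Submonoid.powers g) N₀) :=
      flat_localized_of_dvd
        (fun w hw => by obtain ⟨k, rfl⟩ := hw; exact ⟨g ^ k, ⟨k, rfl⟩, pow_dvd_pow_of_dvd (dvd_mul_right _ _) k⟩) hfl
    haveI : IsScalarTower R (Localization (Submonoid.powers g)) (LocalizedModule (Submonoid.powers g) N) :=
      IsScalarTower.of_algebraMap_smul fun r x => by
        rw [IsScalarTower.algebraMap_apply R S (Localization (Submonoid.powers g)), algebraMap_smul, algebraMap_smul]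
    haveI : IsScalarTower R (Localization (Submonoid.powers g)) (LocalizedModule (Submonoid.powers g) N₀) :=
      IsScalarTower.of_algebraMap_smul fun r x => by
        rw [IsScalarTower.algebraMap_apply R S (Localization (Submonoid.powers g)), algebraMap_smul, algebraMap_smul]
    exact Module.Flat.of_linearEquiv ((LinearEquiv.ofBijective _ hb).symm.restrictScalars R)

/-- The flat locus is open. -/
theorem isOpen_flatAt_of_weakAss_finite (hR : (FlatCA.weakAss R R).Finite)
    (N : Type u) [AddCommGroup N] [Module S N] [Module R N] [IsScalarTower R S N] [Module.Finite S N] :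
    IsOpen {q : PrimeSpectrum S | FlatCA.FlatAt R q.asIdeal N} := by
  rw [isOpen_iff_forall_mem_open]
  intro q hq
  obtain ⟨g, hg, -, hfl⟩ := exists_nhd_of_weakAss_finite hR N q.asIdeal hq
  exact ⟨PrimeSpectrum.basicOpen g, fun Q hQ => flatAt_of_powers hfl Q.asIdeal hQ, PrimeSpectrum.isOpen_basicOpen, hg⟩

/-- Finite presentation on a basic open can be checked near each of its points. -/
theorem fpAt_powers_of_forall {A : Type u} [CommRing A] (M : Type u) [AddCommGroup M] [Module A M] (g : A)
    (h : ∀ (Q : Ideal A) [Q.IsPrime], g ∉ Q → ∃ t, t ∉ Q ∧ FPAt (Submonoid.powers t) M) :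
    FPAt (Submonoid.powers g) M := by
  classical
  let W := Submonoid.powers g
  have hP : ∀ P : PrimeSpectrum (Localization W), ∃ t, algebraMap A (Localization W) t ∉ P.asIdeal ∧
      FPAt (Submonoid.powers t) M := fun P => by
    obtain ⟨hPp, hPd⟩ := (IsLocalization.isPrime_iff_isPrime_disjoint W (Localization W) P.asIdeal).1 P.isPrime
    haveI := hPp
    obtain ⟨t, ht, hfp⟩ := h (P.asIdeal.under A) fun hh => Set.disjoint_left.1 hPd (Submonoid.mem_powers g) hh
    exact ⟨t, ht, hfp⟩
  choose t ht hfp using hP
  let U : PrimeSpectrum (Localization W) → Set (PrimeSpectrum (Localization W)) := fun P =>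
    PrimeSpectrum.basicOpen (algebraMap A (Localization W) (t P))
  obtain ⟨T, hT⟩ := (CompactSpace.isCompact_univ (X := PrimeSpectrum (Localization W))).elim_finite_subcover
    U (fun _ => PrimeSpectrum.isOpen_basicOpen) fun P _ => Set.mem_iUnion.2 (show ∃ i, P ∈ U i from ⟨P, ht P⟩)
  let B : T → Type u := fun P => Localization.Away (algebraMap A (Localization W) (t P.1))
  haveI : ∀ P : T, Module.Flat (Localization W) (B P) := fun P =>
    IsLocalization.flat _ (Submonoid.powers (algebraMap A (Localization W) (t P.1)))
  refine FTDescent.finitePresentation_of_forall_baseChange (A := Localization W) B (fun P => ?_) fun P => ?_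
  · obtain ⟨P₀, hP₀, hmem⟩ := Set.mem_iUnion₂.1 (hT (Set.mem_univ P))
    refine ⟨⟨P₀, hP₀⟩, ?_⟩
    have : P ∈ Set.range (PrimeSpectrum.comap (algebraMap (Localization W) (B ⟨P₀, hP₀⟩))) := by
      rw [PrimeSpectrum.localization_away_comap_range (B ⟨P₀, hP₀⟩) (algebraMap A (Localization W) (t P₀))]
      exact hmem
    obtain ⟨P', hP'⟩ := this
    exact ⟨P', hP'⟩
  · show Module.FinitePresentation (Localization.Away (algebraMap A (Localization W) (t P.1)))
      (Localization.Away (algebraMap A (Localization W) (t P.1)) ⊗[Localization W] (Localization W ⊗[A] M))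
    haveI : IsScalarTower A (Localization W) (Localization.Away (algebraMap A (Localization W) (t P.1))) := inferInstance
    letI : Algebra (Localization.Away (t P.1)) (Localization.Away (algebraMap A (Localization W) (t P.1))) :=
      (IsLocalization.lift (M := Submonoid.powers (t P.1)) (g := algebraMap A (Localization.Away (algebraMap A (Localization W) (t P.1)))) fun w => by
        obtain ⟨k, hk⟩ := w.2
        rw [IsScalarTower.algebraMap_apply A (Localization W) (Localization.Away (algebraMap A (Localization W) (t P.1))), ← hk, map_pow, map_pow]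
        exact (IsLocalization.Away.algebraMap_isUnit _).pow k).toAlgebra
    haveI : IsScalarTower A (Localization.Away (t P.1)) (Localization.Away (algebraMap A (Localization W) (t P.1))) :=
      IsScalarTower.of_algebraMap_eq fun s => (IsLocalization.lift_eq _ s).symm
    haveI : Module.FinitePresentation (Localization.Away (t P.1)) (Localization.Away (t P.1) ⊗[A] M) := hfp P.1
    haveI := fp_tensor_trans (A := A) (M := M) (Localization.Away (t P.1)) (Localization.Away (algebraMap A (Localization W) (t P.1)))
    exact fp_tensor_untrans (Localization W) (Localization.Away (algebraMap A (Localization W) (t P.1)))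

end Groth.Agent.RG

namespace Groth.Agent.RG

/-- Finite presentation over a polynomial ring gives finite presentation relative to the base. -/
theorem relFP_away {R P S : Type u} [CommRing R] [CommRing P] [Algebra R P] [Algebra.FinitePresentation R P]
    [CommRing S] [Algebra R S] [Algebra P S] [IsScalarTower R P S] (hsurj : Function.Surjective (algebraMap P S))
    (N : Type u) [AddCommGroup N] [Module S N] [Module P N] [IsScalarTower P S N] (g : P)
    (h : FPAt (Submonoid.powers g) N) :
    FlatCA.RelFinitePresentation R (Localization.Away (algebraMap P S g))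
      (LocalizedModule (Submonoid.powers (algebraMap P S g)) N) := by
  let TP := Localization.Away g
  let TS := Localization.Away (algebraMap P S g)
  let M := LocalizedModule (Submonoid.powers (algebraMap P S g)) N
  letI : Algebra TP TS := (IsLocalization.lift (M := Submonoid.powers g) (g := algebraMap P TS) fun w => by
    obtain ⟨k, hk⟩ := w.2
    rw [IsScalarTower.algebraMap_apply P S TS, ← hk, map_pow, map_pow]
    exact (IsLocalization.map_units TS (⟨algebraMap P S g, Submonoid.mem_powers _⟩ : Submonoid.powers (algebraMap P S g))).pow k).toAlgebra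
  haveI : IsScalarTower P TP TS := IsScalarTower.of_algebraMap_eq fun s => (IsLocalization.lift_eq _ s).symm
  have hTS : Function.Surjective (algebraMap TP TS) := by
    intro x
    obtain ⟨⟨b, ⟨_, k, rfl⟩⟩, hx⟩ := IsLocalization.surj (Submonoid.powers (algebraMap P S g)) x
    obtain ⟨b', rfl⟩ := hsurj b
    refine ⟨IsLocalization.mk' TP b' (⟨g ^ k, k, rfl⟩ : Submonoid.powers g), ?_⟩
    have hu : IsUnit (algebraMap S TS (algebraMap P S g ^ k)) :=
      IsLocalization.map_units TS (⟨_, k, rfl⟩ : Submonoid.powers (algebraMap P S g))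
    apply hu.mul_left_inj.1
    refine Eq.trans ?_ hx.symm
    rw [← map_pow, ← IsScalarTower.algebraMap_apply P S TS, IsScalarTower.algebraMap_apply P TP TS, ← map_mul,
      IsLocalization.mk'_spec, ← IsScalarTower.algebraMap_apply P TP TS, IsScalarTower.algebraMap_apply P S TS]
  haveI : IsScalarTower P S M := inferInstance
  haveI : IsLocalizedModule (Submonoid.powers g)
      ((LocalizedModule.mkLinearMap (Submonoid.powers (algebraMap P S g)) N).restrictScalars P) :=
    FlatModel.isLocalizedModule_restrict (Submonoid.powers g) (Submonoid.powers (algebraMap P S g))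
      (Submonoid.map_powers _ _) _
  letI : Module TP M := Module.compHom M (algebraMap TP TS)
  haveI : IsScalarTower TP TS M := IsScalarTower.of_algebraMap_smul fun _ _ => rfl
  haveI : IsScalarTower P TP M := IsScalarTower.of_algebraMap_smul fun b x => by
    show algebraMap TP TS (algebraMap P TP b) • x = b • x
    rw [← IsScalarTower.algebraMap_apply, IsScalarTower.algebraMap_apply P S TS, algebraMap_smul, algebraMap_smul]
  haveI : Module.FinitePresentation TP (TP ⊗[P] N) := h
  haveI : IsLocalizedModule (Submonoid.powers g) (TensorProduct.mk P TP N 1) := inferInstance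
  haveI : Module.FinitePresentation TP M :=
    Module.FinitePresentation.of_equiv ((IsLocalizedModule.linearEquiv (Submonoid.powers g) (TensorProduct.mk P TP N 1)
      ((LocalizedModule.mkLinearMap (Submonoid.powers (algebraMap P S g)) N).restrictScalars P)).extendScalarsOfIsLocalization
        (Submonoid.powers g) TP)
  haveI : Algebra.FinitePresentation P TP := IsLocalization.Away.finitePresentation g
  haveI : Algebra.FinitePresentation R TP := Algebra.FinitePresentation.trans R P TP
  obtain ⟨m, ψ, hψ, hker⟩ := Algebra.FinitePresentation.out (R := R) (A := TP)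
  haveI : IsScalarTower R TP TS := IsScalarTower.of_algebraMap_eq fun a => by
    rw [IsScalarTower.algebraMap_apply R P TP, ← IsScalarTower.algebraMap_apply P TP TS,
      IsScalarTower.algebraMap_apply P S TS, ← IsScalarTower.algebraMap_apply R P S, ← IsScalarTower.algebraMap_apply R S TS]
  let φ : MvPolynomial (Fin m) R →ₐ[R] TS := (IsScalarTower.toAlgHom R TP TS).comp ψ
  refine ⟨m, φ, hTS.comp hψ, ?_⟩
  letI : Algebra (MvPolynomial (Fin m) R) TP := ψ.toRingHom.toAlgebra
  letI : Module (MvPolynomial (Fin m) R) M := Module.compHom M φ.toRingHom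
  haveI : IsScalarTower (MvPolynomial (Fin m) R) TP M := IsScalarTower.of_algebraMap_smul fun _ _ => rfl
  haveI : Module.FinitePresentation (MvPolynomial (Fin m) R) TP :=
    Module.finitePresentation_of_surjective (Algebra.linearMap (MvPolynomial (Fin m) R) TP) hψ hker
  exact Module.FinitePresentation.trans (MvPolynomial (Fin m) R) M TP

end Groth.Agent.RG
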